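import Mathlib

universe u
open AlgebraicGeometry CategoryTheory Opposite TopologicalSpace

namespace H9ThickAff


section Ring

variable {B₂ B₁₂ : Type*} [CommRing B₂] [CommRing B₁₂]

/-- binomial extension lemma -/
theorem ring_ext (ρ : B₂ →+* B₁₂) (β : B₂)
    (hloc : ∀ z : B₁₂, ∃ (M : ℕ) (y : B₂), ρ y = ρ β ^ M * z)
    (c w : B₁₂) (hc : IsNilpotent c) :
    ∃ N₀ : ℕ, ∀ N, N₀ ≤ N → ∃ y : B₂, ρ (β * y) = (ρ β + c) ^ N * w := by
  obtain ⟨e, he⟩ := hc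
  choose M y hy using fun i : ℕ => hloc (c ^ i * w)
  refine ⟨(Finset.range e).sup M + e + 1, fun N hN => ?_⟩
  refine ⟨∑ m ∈ Finset.range (N + 1),
    (if m < e then β ^ (N - m - M m - 1) * y m * (N.choose m : B₂) else 0), ?_⟩
  rw [add_comm (ρ β) c, add_pow, Finset.sum_mul, Finset.mul_sum, map_sum]
  refine Finset.sum_congr rfl fun m hm => ?_
  by_cases hme : m < e
  · rw [if_pos hme]
    have hMm : M m ≤ (Finset.range e).sup M := Finset.le_sup (Finset.mem_range.2 hme)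
    obtain ⟨k, hk1, hk2⟩ : ∃ k, N - m = k + 1 + M m ∧ N - m - M m - 1 = k :=
      ⟨N - m - M m - 1, by omega, rfl⟩
    rw [hk2, hk1, map_mul, map_mul, map_mul, map_pow, map_natCast, hy m]
    ring
  · rw [if_neg hme]
    have : c ^ m = 0 := by
      rw [← Nat.sub_add_cancel (not_lt.1 hme), pow_add, he, mul_zero]
    rw [this]
    simp

end Ring

section Ring2

variable {A' A : Type*} [CommRing A'] [CommRing A]

/-- surjectivity from eventual membership of multiples by powers of two comaximal elements -/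
theorem surj_of_pow (φ : A' →+* A) (g₁ g₂ : A) (h : g₁ + g₂ = 1)
    (h₁ : ∀ a : A, ∃ N₀ : ℕ, ∀ N, N₀ ≤ N → g₁ ^ N * a ∈ φ.range)
    (h₂ : ∀ a : A, ∃ N₀ : ℕ, ∀ N, N₀ ≤ N → g₂ ^ N * a ∈ φ.range) :
    Function.Surjective φ := by
  intro a
  obtain ⟨N₁, hN₁⟩ := h₁ a
  obtain ⟨N₂, hN₂⟩ := h₂ a
  set P := max N₁ N₂ with hP
  have key₁ : ∀ j N : ℕ, P ≤ N → g₁ ^ N * g₂ ^ j * a ∈ φ.range := by
    intro j
    induction j with
    | zero => intro N hN; simpa using hN₁ N (le_trans (le_max_left _ _) hN)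
    | succ j ih =>
      intro N hN
      have e : g₁ ^ N * g₂ ^ (j + 1) * a = g₁ ^ N * g₂ ^ j * a - g₁ ^ (N + 1) * g₂ ^ j * a := by
        have : g₂ = 1 - g₁ := by rw [← h]; ring
        rw [pow_succ g₂ j]
        nth_rewrite 2 [this]
        ring
      rw [e]
      exact Subring.sub_mem _ (ih N hN) (ih (N + 1) (by omega))
  have key₂ : ∀ j N : ℕ, P ≤ N → g₂ ^ N * g₁ ^ j * a ∈ φ.range := by
    intro j
    induction j with
    | zero => intro N hN; simpa using hN₂ N (le_trans (le_max_right _ _) hN)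
    | succ j ih =>
      intro N hN
      have e : g₂ ^ N * g₁ ^ (j + 1) * a = g₂ ^ N * g₁ ^ j * a - g₂ ^ (N + 1) * g₁ ^ j * a := by
        have : g₁ = 1 - g₂ := by rw [← h]; ring
        rw [pow_succ g₁ j]
        nth_rewrite 2 [this]
        ring
      rw [e]
      exact Subring.sub_mem _ (ih N hN) (ih (N + 1) (by omega))
  have ha : a = ∑ m ∈ Finset.range (2 * P + 1),
      g₁ ^ m * g₂ ^ (2 * P - m) * ((2 * P).choose m : A) * a := by
    rw [← Finset.sum_mul, ← add_pow, h, one_pow, one_mul]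
  have hmem : a ∈ φ.range := by
    rw [ha]
    refine Subring.sum_mem _ fun m hm => ?_
    have hm' : m ≤ 2 * P := Nat.lt_succ_iff.1 (Finset.mem_range.1 hm)
    have hc : ((2 * P).choose m : A) ∈ φ.range := by
      exact ⟨((2 * P).choose m : A'), map_natCast φ _⟩
    by_cases hmP : P ≤ m
    · have := Subring.mul_mem _ hc (key₁ (2 * P - m) m hmP)
      convert this using 1
      ring
    · have := Subring.mul_mem _ hc (key₂ m (2 * P - m) (by omega))
      convert this using 1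
      ring
  exact hmem

end Ring2



section Res

variable {X Y : Scheme.{u}}

/-- restriction of sections -/
noncomputable def res {U V : X.Opens} (h : U ≤ V) : Γ(X, V) →+* Γ(X, U) :=
  (X.presheaf.map (homOfLE h).op).hom

lemma res_res {U V W : X.Opens} (h₁ : U ≤ V) (h₂ : V ≤ W) (s : Γ(X, W)) :
    res h₁ (res h₂ s) = res (h₁.trans h₂) s := by
  change (X.presheaf.map (homOfLE h₂).op ≫ X.presheaf.map (homOfLE h₁).op) s = _
  rw [← Functor.map_comp, ← op_comp, homOfLE_comp]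
  rfl

lemma res_self {U : X.Opens} (s : Γ(X, U)) : res (le_refl U) s = s := by
  change (X.presheaf.map (homOfLE (le_refl U)).op) s = s
  have : (homOfLE (le_refl U)).op = 𝟙 (op U) := rfl
  rw [this, X.presheaf.map_id]
  rfl

lemma basicOpen_res' {U V : X.Opens} (h : U ≤ V) (s : Γ(X, V)) :
    X.basicOpen (res h s) = U ⊓ X.basicOpen s :=
  X.basicOpen_res s (homOfLE h).op

lemma app_res (t : X ⟶ Y) {U V : Y.Opens} (h : U ≤ V) (s : Γ(Y, V)) :
    t.app U (res h s) = res (t.preimage_mono h) (t.app V s) := by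
  have := t.naturality (homOfLE h).op
  exact congrArg (fun φ => φ.hom s) this

/-- glue two sections -/
lemma glue_two (W₁ W₂ W₁₂ U : X.Opens) (h₁ : W₁ ≤ U) (h₂ : W₂ ≤ U) (hcov : U ≤ W₁ ⊔ W₂)
    (h₁₂₁ : W₁₂ ≤ W₁) (h₁₂₂ : W₁₂ ≤ W₂) (hinf : W₁ ⊓ W₂ ≤ W₁₂)
    (s₁ : Γ(X, W₁)) (s₂ : Γ(X, W₂)) (hs : res h₁₂₁ s₁ = res h₁₂₂ s₂) :
    ∃ s : Γ(X, U), res h₁ s = s₁ ∧ res h₂ s = s₂ := by
  have hs' : res (inf_le_left : W₁ ⊓ W₂ ≤ W₁) s₁ = res (inf_le_right : W₁ ⊓ W₂ ≤ W₂) s₂ := by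
    rw [← res_res hinf h₁₂₁, ← res_res hinf h₁₂₂, hs]
  let x : (RingHom.eqLocus
      (RingHom.comp (X.sheaf.obj.map (homOfLE inf_le_left : W₁ ⊓ W₂ ⟶ W₁).op).hom
        (RingHom.fst (X.sheaf.obj.obj <| op W₁) (X.sheaf.obj.obj <| op W₂)))
      (RingHom.comp (X.sheaf.obj.map (homOfLE inf_le_right : W₁ ⊓ W₂ ⟶ W₂).op).hom
        (RingHom.snd (X.sheaf.obj.obj <| op W₁) (X.sheaf.obj.obj <| op W₂)))) :=
    ⟨(s₁, s₂), hs'⟩
  let s0 : Γ(X, W₁ ⊔ W₂) := (X.sheaf.objSupIsoProdEqLocus W₁ W₂).inv x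
  refine ⟨res hcov s0, ?_, ?_⟩
  · rw [res_res]
    exact X.sheaf.objSupIsoProdEqLocus_inv_fst W₁ W₂ x
  · rw [res_res]
    exact X.sheaf.objSupIsoProdEqLocus_inv_snd W₁ W₂ x

/-- sections agreeing on a cover by two opens agree -/
lemma eq_of_res_eq (W₁ W₂ U : X.Opens) (h₁ : W₁ ≤ U) (h₂ : W₂ ≤ U) (hcov : U ≤ W₁ ⊔ W₂)
    (s s' : Γ(X, U)) (e₁ : res h₁ s = res h₁ s') (e₂ : res h₂ s = res h₂ s') : s = s' :=
  X.sheaf.eq_of_locally_eq₂ (homOfLE h₁) (homOfLE h₂) hcov s s' e₁ e₂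

end Res

section Thick

variable {X X' : Scheme.{u}} (t : X ⟶ X') (ht : Function.Surjective t)

include ht in
/-- K1: preimage of opens is injective -/
lemma preimage_le_iff {U V : X'.Opens} : t ⁻¹ᵁ U ≤ t ⁻¹ᵁ V ↔ U ≤ V := by
  refine ⟨fun h x hx => ?_, fun h => t.preimage_mono h⟩
  obtain ⟨x₀, rfl⟩ := ht x
  exact h hx

include ht in
lemma preimage_injective {U V : X'.Opens} (h : t ⁻¹ᵁ U = t ⁻¹ᵁ V) : U = V :=
  le_antisymm ((preimage_le_iff t ht).1 h.le) ((preimage_le_iff t ht).1 h.ge)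

include ht in
/-- K3: sections in the kernel over a compact open are nilpotent -/
lemma isNilpotent_of_app_eq_zero {W : X'.Opens} (hW : IsCompact (W : Set X')) (s : Γ(X', W))
    (hs : t.app W s = 0) : IsNilpotent s := by
  rw [Scheme.isNilpotent_iff_basicOpen_eq_bot_of_isCompact hW]
  apply preimage_injective t ht
  rw [Scheme.preimage_basicOpen, hs, Scheme.basicOpen_zero]
  rfl

variable [IsClosedImmersion t] [IsReduced X]

include ht in
theorem ext_pow (W₁ W₂ U : X'.Opens) (hW₁ : IsAffineOpen W₁) (hW₂ : IsAffineOpen W₂)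
    (h₁ : W₁ ≤ U) (h₂ : W₂ ≤ U) (hcov : U ≤ W₁ ⊔ W₂)
    (γ : Γ(X, t ⁻¹ᵁ U)) (e₁ : t ⁻¹ᵁ W₁ = X.basicOpen γ) (a : Γ(X, t ⁻¹ᵁ U)) :
    ∃ N₀ : ℕ, ∀ N, N₀ ≤ N → ∃ F : Γ(X', U), t.app U F = γ ^ N * a := by
  obtain ⟨w, hw⟩ := t.app_surjective W₁ hW₁ (res (t.preimage_mono h₁) a)
  obtain ⟨b₁, hb₁⟩ := t.app_surjective W₁ hW₁ (res (t.preimage_mono h₁) γ)
  obtain ⟨β, hβ⟩ := t.app_surjective W₂ hW₂ (res (t.preimage_mono h₂) γ)
  have h₁₂₂ : X'.basicOpen β ≤ W₂ := X'.basicOpen_le β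
  have hpre : t ⁻¹ᵁ (X'.basicOpen β) = t ⁻¹ᵁ W₂ ⊓ t ⁻¹ᵁ W₁ := by
    rw [Scheme.preimage_basicOpen, hβ, basicOpen_res', e₁]
  have h₁₂₁ : X'.basicOpen β ≤ W₁ := (preimage_le_iff t ht).1 (hpre.le.trans inf_le_right)
  have hinf : W₁ ⊓ W₂ ≤ X'.basicOpen β := (preimage_le_iff t ht).1 (by
    change t ⁻¹ᵁ W₁ ⊓ t ⁻¹ᵁ W₂ ≤ _
    rw [hpre, inf_comm])
  have hW₁₂ : IsAffineOpen (X'.basicOpen β) := hW₂.basicOpen β
  have hc : IsNilpotent (res h₁₂₁ b₁ - res h₁₂₂ β) :=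
    isNilpotent_of_app_eq_zero t ht hW₁₂.isCompact _ (by
      rw [map_sub, app_res, app_res, hb₁, hβ, res_res, res_res, sub_self])
  have hloc : ∀ z : Γ(X', X'.basicOpen β),
      ∃ (M : ℕ) (y : Γ(X', W₂)), res h₁₂₂ y = res h₁₂₂ β ^ M * z := by
    intro z
    obtain ⟨n, y, hy⟩ := exists_eq_pow_mul_of_isAffineOpen X' W₂ hW₂ β z
    exact ⟨n, y, hy⟩
  obtain ⟨N₀, hN₀⟩ := ring_ext (res h₁₂₂) β hloc _ (res h₁₂₁ w) hc
  refine ⟨N₀ + 1, fun N hN => ?_⟩
  obtain ⟨y, hy⟩ := hN₀ N (by omega)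
  rw [add_sub_cancel] at hy
  obtain ⟨F, hF₁, hF₂⟩ := glue_two W₁ W₂ (X'.basicOpen β) U h₁ h₂ hcov h₁₂₁ h₁₂₂ hinf
    (b₁ ^ N * w) (β * y) (by rw [hy, map_mul, map_pow])
  refine ⟨F, ?_⟩
  rw [← sub_eq_zero, ← basicOpen_eq_bot_iff]
  set δ := t.app U F - γ ^ N * a with hδ
  -- restriction to the first open vanishes
  have hδ₁ : res (t.preimage_mono h₁) δ = 0 := by
    rw [hδ, map_sub, ← app_res t h₁, hF₁, map_mul, map_pow, map_mul, map_pow, hb₁, hw, sub_self]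
  -- restriction to the second open is a multiple of γ
  obtain ⟨N', rfl⟩ : ∃ N', N = N' + 1 := ⟨N - 1, by omega⟩
  have hδ₂ : res (t.preimage_mono h₂) δ = res (t.preimage_mono h₂) γ *
      (t.app W₂ y - res (t.preimage_mono h₂) γ ^ N' * res (t.preimage_mono h₂) a) := by
    rw [hδ, map_sub, ← app_res t h₂, hF₂, map_mul, map_mul, map_pow, hβ]
    ring
  have hb₁' : t ⁻¹ᵁ W₁ ⊓ X.basicOpen δ = ⊥ := by
    rw [← basicOpen_res' (t.preimage_mono h₁), hδ₁, Scheme.basicOpen_zero]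
  have hb₂' : t ⁻¹ᵁ W₂ ⊓ X.basicOpen δ ≤ t ⁻¹ᵁ W₁ := by
    rw [← basicOpen_res' (t.preimage_mono h₂), hδ₂, Scheme.basicOpen_mul, basicOpen_res', ← e₁]
    exact inf_le_left.trans inf_le_right
  rw [eq_bot_iff]
  intro x hx
  have hxU : x ∈ t ⁻¹ᵁ U := X.basicOpen_le δ hx
  have hxc : x ∈ t ⁻¹ᵁ W₁ ⊔ t ⁻¹ᵁ W₂ := t.preimage_mono hcov hxU
  have hx₁ : x ∈ t ⁻¹ᵁ W₁ := by
    rcases hxc with h | h
    · exact h
    · exact hb₂' ⟨h, hx⟩
  have : x ∈ t ⁻¹ᵁ W₁ ⊓ X.basicOpen δ := ⟨hx₁, hx⟩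
  rw [hb₁'] at this
  exact this

include ht in
/-- the two-open lemma -/
theorem affine_sup (W₁ W₂ : X'.Opens) (hW₁ : IsAffineOpen W₁) (hW₂ : IsAffineOpen W₂)
    (γ₁ γ₂ : Γ(X, t ⁻¹ᵁ (W₁ ⊔ W₂))) (hγ : γ₁ + γ₂ = 1)
    (e₁ : t ⁻¹ᵁ W₁ = X.basicOpen γ₁) (e₂ : t ⁻¹ᵁ W₂ = X.basicOpen γ₂) :
    IsAffineOpen (W₁ ⊔ W₂) := by
  have hsurj : Function.Surjective (t.app (W₁ ⊔ W₂)).hom := by
    refine surj_of_pow _ γ₁ γ₂ hγ (fun a => ?_) (fun a => ?_)
    · obtain ⟨N₀, hN₀⟩ := ext_pow t ht W₁ W₂ (W₁ ⊔ W₂) hW₁ hW₂ le_sup_left le_sup_right le_rfl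
        γ₁ e₁ a
      exact ⟨N₀, fun N hN => by obtain ⟨F, hF⟩ := hN₀ N hN; exact ⟨F, hF⟩⟩
    · obtain ⟨N₀, hN₀⟩ := ext_pow t ht W₂ W₁ (W₁ ⊔ W₂) hW₂ hW₁ le_sup_right le_sup_left
        (le_of_eq (sup_comm _ _)) γ₂ e₂ a
      exact ⟨N₀, fun N hN => by obtain ⟨F, hF⟩ := hN₀ N hN; exact ⟨F, hF⟩⟩
  obtain ⟨f₁, hf₁⟩ := hsurj γ₁
  obtain ⟨f₂, hf₂⟩ := hsurj γ₂
  have hb₁ : X'.basicOpen f₁ = W₁ := by
    apply preimage_injective t ht
    rw [Scheme.preimage_basicOpen, e₁]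
    exact congrArg _ hf₁
  have hb₂ : X'.basicOpen f₂ = W₂ := by
    apply preimage_injective t ht
    rw [Scheme.preimage_basicOpen, e₂]
    exact congrArg _ hf₂
  have hcomp : IsCompact ((W₁ ⊔ W₂ : X'.Opens) : Set X') := by
    rw [Opens.coe_sup]
    exact hW₁.isCompact.union hW₂.isCompact
  have hnil : IsNilpotent (f₁ + f₂ - 1) := by
    apply isNilpotent_of_app_eq_zero t ht hcomp
    rw [map_sub, map_add, map_one]
    change (t.app (W₁ ⊔ W₂)).hom f₁ + (t.app (W₁ ⊔ W₂)).hom f₂ - 1 = 0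
    rw [hf₁, hf₂, hγ, sub_self]
  have hunit : IsUnit (f₁ + f₂) := by
    have := hnil.isUnit_add_one
    rwa [sub_add_cancel] at this
  refine isAffineOpen_of_isAffineOpen_basicOpen (W₁ ⊔ W₂) {f₁, f₂} ?_ ?_
  · apply Ideal.eq_top_of_isUnit_mem _ _ hunit
    exact Ideal.add_mem _ (Ideal.subset_span (by simp)) (Ideal.subset_span (by simp))
  · rintro i hi
    rcases hi with rfl | rfl
    · rw [hb₁]; exact hW₁
    · rw [hb₂]; exact hW₂

end Thick

section Main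

variable {X X' : Scheme.{u}} (t : X ⟶ X') (ht : Function.Surjective t) [IsClosedImmersion t]

include ht in
lemma isOpenMap_base : IsOpenMap t :=
  (t.isClosedEmbedding.isEmbedding.toHomeomorphOfSurjective ht).isOpenMap

/-- the open of the thickening corresponding to an open of the source -/
noncomputable def img (U : X.Opens) : X'.Opens := ⟨t '' U, isOpenMap_base t ht _ U.2⟩

lemma preimage_img (U : X.Opens) : t ⁻¹ᵁ (img t ht U) = U :=
  Opens.ext (Set.preimage_image_eq _ t.isClosedEmbedding.injective)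

lemma img_preimage (U : X'.Opens) : img t ht (t ⁻¹ᵁ U) = U :=
  preimage_injective t ht (preimage_img t ht _)

variable [IsReduced X] [IsAffine X]

/-- the set of functions whose nonvanishing locus is affine in the thickening -/
def G : Set Γ(X, ⊤) := {g | IsAffineOpen (img t ht (X.basicOpen g))}

lemma G_of_le {W : X'.Opens} (hW : IsAffineOpen W) (f : Γ(X, ⊤)) (hf : X.basicOpen f ≤ t ⁻¹ᵁ W) :
    f ∈ G t ht := by
  obtain ⟨b, hb⟩ := t.app_surjective W hW (res le_top f)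
  have : X'.basicOpen b = img t ht (X.basicOpen f) := by
    apply preimage_injective t ht
    rw [Scheme.preimage_basicOpen, hb, basicOpen_res', preimage_img]
    exact inf_eq_right.2 hf
  change IsAffineOpen _
  rw [← this]
  exact hW.basicOpen b

lemma G_mul (g h : Γ(X, ⊤)) (hg : g ∈ G t ht) : h * g ∈ G t ht := by
  refine G_of_le t ht hg (h * g) ?_
  rw [preimage_img, Scheme.basicOpen_mul]
  exact inf_le_right

lemma G_zero : (0 : Γ(X, ⊤)) ∈ G t ht := by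
  change IsAffineOpen _
  have : img t ht (X.basicOpen (0 : Γ(X, ⊤))) = ⊥ := by
    apply preimage_injective t ht
    rw [preimage_img, Scheme.basicOpen_zero]
    rfl
  rw [this]
  exact isAffineOpen_bot X'

lemma G_cover (x : X) : ∃ g ∈ G t ht, x ∈ X.basicOpen g := by
  obtain ⟨W, hW, hxW, -⟩ := exists_isAffineOpen_mem_and_subset (x := t x) (U := ⊤) trivial
  obtain ⟨f, hf₁, hf₂⟩ := (isAffineOpen_top X).exists_basicOpen_le (V := t ⁻¹ᵁ W) ⟨x, hxW⟩ trivial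
  exact ⟨f, G_of_le t ht hW f hf₁, hf₂⟩

lemma G_add (g₁ g₂ : Γ(X, ⊤)) (h₁ : g₁ ∈ G t ht) (h₂ : g₂ ∈ G t ht) : g₁ + g₂ ∈ G t ht := by
  set g := g₁ + g₂ with hg
  have hW₁ : IsAffineOpen (img t ht (X.basicOpen (g * g₁))) := G_mul t ht g₁ g h₁
  have hW₂ : IsAffineOpen (img t ht (X.basicOpen (g * g₂))) := G_mul t ht g₂ g h₂
  have hU : t ⁻¹ᵁ (img t ht (X.basicOpen (g * g₁)) ⊔ img t ht (X.basicOpen (g * g₂))) =
      X.basicOpen g := by
    rw [Scheme.Hom.preimage_sup, preimage_img, preimage_img, Scheme.basicOpen_mul, Scheme.basicOpen_mul, ← inf_sup_left]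
    exact inf_eq_left.2 (X.basicOpen_add_le g₁ g₂)
  -- the restriction of g is a unit
  have hunit : IsUnit (res (le_top : t ⁻¹ᵁ (img t ht (X.basicOpen (g * g₁)) ⊔
      img t ht (X.basicOpen (g * g₂))) ≤ ⊤) g) := by
    have h0 : IsUnit (res (X.basicOpen_le g) g) := RingedSpace.isUnit_res_basicOpen _ g
    have := h0.map (res (hU.le))
    rwa [res_res] at this
  obtain ⟨u, hu⟩ := hunit
  have hu' : res le_top g * (u⁻¹).val = 1 := by rw [← hu]; exact u.mul_inv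
  have hgen : ∀ s : Γ(X, ⊤), X.basicOpen (res le_top s * (u⁻¹).val) =
      X.basicOpen g ⊓ X.basicOpen s := by
    intro s
    rw [Scheme.basicOpen_mul, basicOpen_res', X.basicOpen_of_isUnit u⁻¹.isUnit, hU]
    rw [inf_assoc, inf_comm (X.basicOpen s), ← inf_assoc, inf_idem]
  refine (?_ : IsAffineOpen (img t ht (X.basicOpen g)))
  have key := affine_sup t ht _ _ hW₁ hW₂ (res le_top g₁ * (u⁻¹).val) (res le_top g₂ * (u⁻¹).val)
    (by rw [← add_mul, ← map_add, ← hg, hu']) ?_ ?_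
  · have e : img t ht (X.basicOpen (g * g₁)) ⊔ img t ht (X.basicOpen (g * g₂)) =
        img t ht (X.basicOpen g) := by
      apply preimage_injective t ht
      rw [hU, preimage_img]
    rwa [e] at key
  · refine (preimage_img t ht _).trans ?_
    refine Eq.trans ?_ (hgen g₁).symm
    rw [Scheme.basicOpen_mul]
  · refine (preimage_img t ht _).trans ?_
    refine Eq.trans ?_ (hgen g₂).symm
    rw [Scheme.basicOpen_mul]

include ht in
/-- a thickening of a reduced affine scheme is affine -/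
theorem isAffine_of_reduced : IsAffine X' := by
  let I : Ideal Γ(X, ⊤) :=
    { carrier := G t ht
      add_mem' := fun {a b} ha hb => G_add t ht a b ha hb
      zero_mem' := G_zero t ht
      smul_mem' := fun c {x} hx => G_mul t ht x c hx }
  have hspan : Ideal.span (G t ht) = ⊤ := by
    rw [← (isAffineOpen_top X).iSup_basicOpen_eq_self_iff, eq_top_iff]
    intro x _
    obtain ⟨g, hg, hx⟩ := G_cover t ht x
    exact Opens.mem_iSup.2 ⟨⟨g, hg⟩, hx⟩
  have hI : I = ⊤ := by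
    rw [← hspan]
    exact (Ideal.span_eq I).symm
  have h1 : (1 : Γ(X, ⊤)) ∈ G t ht := by
    change (1 : Γ(X, ⊤)) ∈ I
    rw [hI]
    trivial
  have h2 : IsAffineOpen (⊤ : X'.Opens) := by
    have : img t ht (X.basicOpen (1 : Γ(X, ⊤))) = ⊤ := by
      apply preimage_injective t ht
      rw [preimage_img, Scheme.basicOpen_one]
      rfl
    rw [← this]
    exact h1
  haveI : IsAffine (⊤ : X'.Opens).toScheme := h2
  exact IsAffine.of_isIso X'.topIso.inv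

end Main

section Final

variable {X X' : Scheme.{u}} (t : X ⟶ X') [IsClosedImmersion t]

/-- a scheme receiving a surjective closed immersion from an affine scheme is affine -/
theorem isAffine_of_thickening (ht : Function.Surjective t) [IsAffine X] : IsAffine X' := by
  let A : CommRingCat.{u} := Γ(X, ⊤)
  haveI : IsReduced (A ⧸ nilradical A) :=
    (Ideal.isRadical_iff_quotient_reduced _).1 (Ideal.radical_isRadical _)
  let r : Spec (CommRingCat.of (A ⧸ nilradical A)) ⟶ Spec A :=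
    Spec.map (CommRingCat.ofHom (Ideal.Quotient.mk (nilradical A)))
  have hr : Function.Surjective r := by
    intro p
    have hp : ∀ p : PrimeSpectrum A,
        p ∈ Set.range (PrimeSpectrum.comap (Ideal.Quotient.mk (nilradical A))) := by
      intro p
      rw [range_comap_of_surjective _ _ Ideal.Quotient.mk_surjective,
        Ideal.mk_ker, PrimeSpectrum.mem_zeroLocus]
      exact nilradical_le_prime p.asIdeal
    obtain ⟨q, hq⟩ := hp p
    exact ⟨q, hq⟩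
  let t' : Spec (CommRingCat.of (A ⧸ nilradical A)) ⟶ X' := r ≫ X.isoSpec.inv ≫ t
  have ht' : Function.Surjective t' := by
    intro x
    obtain ⟨x₁, rfl⟩ := ht x
    obtain ⟨x₂, rfl⟩ : ∃ x₂, X.isoSpec.inv x₂ = x₁ :=
      ⟨X.isoSpec.hom x₁, by
        rw [← Scheme.Hom.comp_apply, Iso.hom_inv_id]; rfl⟩
    obtain ⟨x₃, rfl⟩ := hr x₂
    exact ⟨x₃, rfl⟩
  exact isAffine_of_reduced t' ht'

end Final

end H9ThickAff
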