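import Mathlib

set_option autoImplicit false
universe u v

namespace Groth.Agent.Helper9.AdicLim9

section core
variable {A : Type u} [CommRing A] (I : Ideal A) [IsAdicComplete I A]
variable {L : Type v} [AddCommGroup L] [Module A L] {r : ℕ} (x : Fin r → L)
variable (Lk : ℕ → Submodule A L)

/-- states of the approximation process -/
structure St (n : ℕ) (z : L) where
  k : ℕ
  rem : L
  s : Fin r → A
  hrem : rem ∈ Lk (n + k)
  hz : z = ∑ i, s i • x i + rem
  hs : ∀ i, s i ∈ I ^ (n + 1)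

variable {I x Lk}

omit [IsAdicComplete I A] in
lemma exists_next
    (ha : ∀ n, ∀ z ∈ Lk n, ∃ c : Fin r → A, (∀ i, c i ∈ I ^ (n + 1)) ∧
      z - ∑ i, c i • x i ∈ Lk (n + 1))
    {n : ℕ} {z : L} (σ : St I x Lk n z) :
    ∃ τ : St I x Lk n z, τ.k = σ.k + 1 ∧ ∀ i, τ.s i - σ.s i ∈ I ^ (n + σ.k + 1) := by
  obtain ⟨c, hc, hc'⟩ := ha (n + σ.k) σ.rem σ.hrem
  refine ⟨⟨σ.k + 1, σ.rem - ∑ i, c i • x i, fun i => σ.s i + c i, ?_, ?_, ?_⟩, rfl, ?_⟩
  · rw [← add_assoc]; exact hc'
  · refine σ.hz.trans ?_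
    simp only [add_smul, Finset.sum_add_distrib]
    abel
  · intro i
    refine add_mem (σ.hs i) (Ideal.pow_le_pow_right (by omega) (hc i))
  · intro i
    simp only [add_sub_cancel_left]
    exact hc i

section seq
variable (ha : ∀ n, ∀ z ∈ Lk n, ∃ c : Fin r → A, (∀ i, c i ∈ I ^ (n + 1)) ∧
      z - ∑ i, c i • x i ∈ Lk (n + 1))
variable {n : ℕ} {z : L} (σ₀ : St I x Lk n z)

/-- the sequence of states -/
noncomputable def seq : ℕ → St I x Lk n z
  | 0 => σ₀
  | m + 1 => Classical.choose (exists_next ha (seq m))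

omit [IsAdicComplete I A] in
lemma seq_succ_spec (m : ℕ) :
    (seq ha σ₀ (m + 1)).k = (seq ha σ₀ m).k + 1 ∧
      ∀ i, (seq ha σ₀ (m + 1)).s i - (seq ha σ₀ m).s i ∈ I ^ (n + (seq ha σ₀ m).k + 1) :=
  Classical.choose_spec (exists_next ha (seq ha σ₀ m))

omit [IsAdicComplete I A] in
lemma seq_k (m : ℕ) : (seq ha σ₀ m).k = σ₀.k + m := by
  induction m with
  | zero => rfl
  | succ m ih => rw [(seq_succ_spec ha σ₀ m).1, ih]; ring

omit [IsAdicComplete I A] in
lemma seq_s_sub (m d : ℕ) (i : Fin r) :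
    (seq ha σ₀ (m + d)).s i - (seq ha σ₀ m).s i ∈ I ^ (n + σ₀.k + m + 1) := by
  induction d with
  | zero => simp
  | succ d ih =>
    have h1 := (seq_succ_spec ha σ₀ (m + d)).2 i
    rw [seq_k] at h1
    have h2 : (seq ha σ₀ (m + (d + 1))).s i - (seq ha σ₀ m).s i =
        ((seq ha σ₀ (m + d + 1)).s i - (seq ha σ₀ (m + d)).s i) +
          ((seq ha σ₀ (m + d)).s i - (seq ha σ₀ m).s i) := by
      rw [← add_assoc]; ring
    rw [h2]
    exact add_mem (Ideal.pow_le_pow_right (by omega) h1) ih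

end seq

theorem core
    (ha : ∀ n, ∀ z ∈ Lk n, ∃ c : Fin r → A, (∀ i, c i ∈ I ^ (n + 1)) ∧
      z - ∑ i, c i • x i ∈ Lk (n + 1))
    (hb : ∀ n, I ^ (n + 1) • (⊤ : Submodule A L) ≤ Lk n)
    (hc : ∀ z, (∀ n, z ∈ Lk n) → z = 0)
    (hd : ∀ n, Lk (n + 1) ≤ Lk n) :
    ∀ n, ∀ z ∈ Lk n, ∃ a : Fin r → A, (∀ i, a i ∈ I ^ (n + 1)) ∧ z = ∑ i, a i • x i := by
  intro n z hz
  have hanti : ∀ m d, Lk (m + d) ≤ Lk m := by
    intro m d
    induction d with
    | zero => exact le_rfl
    | succ d ih => exact (hd (m + d)).trans ih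
  let σ₀ : St I x Lk n z := ⟨0, z, fun _ => 0, hz, by simp, fun _ => zero_mem _⟩
  have hk0 : σ₀.k = 0 := rfl
  let t : Fin r → ℕ → A := fun i m => (seq ha σ₀ m).s i
  have hcauchy : ∀ i, ∀ {m m' : ℕ}, m ≤ m' → t i m ≡ t i m' [SMOD (I ^ m • ⊤ : Submodule A A)] := by
    intro i m m' hmm'
    obtain ⟨d, rfl⟩ := Nat.exists_eq_add_of_le hmm'
    refine SModEq.symm ?_
    rw [SModEq.sub_mem, smul_eq_mul, Ideal.mul_top]
    have := seq_s_sub ha σ₀ m d i
    exact Ideal.pow_le_pow_right (by omega) this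
  choose a hlim using fun i => IsPrecomplete.prec (I := I) (M := A) inferInstance (hcauchy i)
  have hlim' : ∀ i m, t i m - a i ∈ I ^ m := by
    intro i m
    have := hlim i m
    rw [SModEq.sub_mem, smul_eq_mul, Ideal.mul_top] at this
    exact this
  have ht : ∀ i m, t i m ∈ I ^ (n + 1) := fun i m => (seq ha σ₀ m).hs i
  refine ⟨a, fun i => ?_, ?_⟩
  · have h1 := hlim' i (n + 1)
    have h2 : a i = t i (n + 1) - (t i (n + 1) - a i) := by ring
    rw [h2]
    exact sub_mem (ht i (n + 1)) h1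
  · have h0 : z - ∑ i, a i • x i = 0 := by
      apply hc
      intro m
      have h3 : z - ∑ i, a i • x i =
          (seq ha σ₀ (m + 1)).rem + ∑ i, (t i (m + 1) - a i) • x i := by
        have := (seq ha σ₀ (m + 1)).hz
        simp only [sub_smul, Finset.sum_sub_distrib]
        rw [sub_eq_iff_eq_add]
        calc z = ∑ i, (seq ha σ₀ (m + 1)).s i • x i + (seq ha σ₀ (m + 1)).rem := this
          _ = _ := by abel
      rw [h3]
      refine add_mem ?_ (Submodule.sum_mem _ fun i _ => ?_)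
      · have h4 := (seq ha σ₀ (m + 1)).hrem
        rw [seq_k, hk0] at h4
        have h5 : n + (0 + (m + 1)) = m + (n + 1) := by ring
        rw [h5] at h4
        exact hanti m (n + 1) h4
      · exact hb m (Submodule.smul_mem_smul (hlim' i (m + 1)) Submodule.mem_top)
    exact sub_eq_zero.1 h0

end core

/-- In a surjective inverse system of types indexed by `ℕ`, every element at level `n` extends
to a compatible family. -/
theorem exists_family : ∀ (n : ℕ) (B : ℕ → Type v) (u : ∀ n, B (n + 1) → B n)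
    (_ : ∀ n, Function.Surjective (u n)) (b : B n),
    ∃ y : ∀ m, B m, (∀ m, u m (y (m + 1)) = y m) ∧ y n = b := by
  intro n
  induction n with
  | zero =>
    intro B u hu b
    refine ⟨fun m => Nat.rec (motive := fun m => B m) b
      (fun m ym => Classical.choose (hu m ym)) m, fun m => ?_, rfl⟩
    exact Classical.choose_spec (hu m _)
  | succ n ih =>
    intro B u hu b
    obtain ⟨y', hy', hb⟩ := ih (fun m => B (m + 1)) (fun m => u (m + 1)) (fun m => hu (m + 1)) b
    refine ⟨fun m => Nat.casesOn (motive := fun m => B m) m (u 0 (y' 0)) y', fun m => ?_, hb⟩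
    cases m with
    | zero => rfl
    | succ m => exact hy' m

lemma nilp_nakayama {A : Type u} [CommRing A] (I : Ideal A) {M : Type v} [AddCommGroup M]
    [Module A M] (N : Submodule A M) (h : ⊤ ≤ N ⊔ I • (⊤ : Submodule A M)) (k : ℕ) :
    ⊤ ≤ N ⊔ I ^ k • (⊤ : Submodule A M) := by
  induction k with
  | zero => simp
  | succ k ih =>
    calc (⊤ : Submodule A M) ≤ N ⊔ I ^ k • (⊤ : Submodule A M) := ih
      _ ≤ N ⊔ I ^ k • (N ⊔ I • (⊤ : Submodule A M)) :=
        sup_le_sup le_rfl (Submodule.smul_mono le_rfl h)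
      _ = N ⊔ (I ^ k • N ⊔ I ^ k • (I • (⊤ : Submodule A M))) := by rw [Submodule.smul_sup]
      _ ≤ N ⊔ I ^ (k + 1) • (⊤ : Submodule A M) := by
        rw [← Submodule.mul_smul, ← pow_succ]
        exact sup_le le_sup_left (sup_le (Submodule.smul_le_right.trans le_sup_left) le_sup_right)

section system
variable {A : Type u} [CommRing A] (I : Ideal A)
    (M : ℕ → Type v) [∀ n, AddCommGroup (M n)] [∀ n, Module A (M n)]
    (f : ∀ n, M (n + 1) →ₗ[A] M n) (hf : ∀ n, Function.Surjective (f n))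
    (hk : ∀ n, I ^ (n + 1) • (⊤ : Submodule A (M n)) = ⊥)
    (hker : ∀ n, LinearMap.ker (f n) = I ^ (n + 1) • (⊤ : Submodule A (M (n + 1))))
    (L : Type v) [AddCommGroup L] [Module A L] (π : ∀ n, L →ₗ[A] M n)
    (hπ : ∀ n, f n ∘ₗ π (n + 1) = π n)
    (hinj : ∀ x : L, (∀ n, π n x = 0) → x = 0)
    (hlift : ∀ y : (∀ n, M n), (∀ n, f n (y (n + 1)) = y n) → ∃ x : L, ∀ n, π n x = y n)

include hf hlift in
lemma pi_surjective (n : ℕ) : Function.Surjective (π n) := by
  intro b
  obtain ⟨y, hy, hb⟩ := exists_family n M (fun n => f n) hf b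
  obtain ⟨x, hx⟩ := hlift y hy
  exact ⟨x, by rw [hx, hb]⟩

include hπ in
lemma f_pi (n : ℕ) (z : L) : f n (π (n + 1) z) = π n z := by
  rw [← hπ n]; rfl

include hk hker hπ in
lemma span_top {r : ℕ} (x : Fin r → L)
    (h0 : Submodule.span A (Set.range fun i => π 0 (x i)) = ⊤) (n : ℕ) :
    Submodule.span A (Set.range fun i => π n (x i)) = ⊤ := by
  induction n with
  | zero => exact h0
  | succ n ih =>
    set N := Submodule.span A (Set.range fun i => π (n + 1) (x i)) with hN
    have h1 : ⊤ ≤ N ⊔ I • (⊤ : Submodule A (M (n + 1))) := by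
      intro y _
      have hy : f n y ∈ Submodule.span A (Set.range fun i => π n (x i)) := by rw [ih]; trivial
      have hmap : Submodule.span A (Set.range fun i => π n (x i)) = N.map (f n) := by
        rw [hN, Submodule.map_span]
        congr 1
        ext w
        simp only [Set.mem_range, Set.mem_image]
        constructor
        · rintro ⟨i, rfl⟩
          exact ⟨π (n + 1) (x i), ⟨i, rfl⟩, f_pi M f L π hπ n (x i)⟩
        · rintro ⟨_, ⟨i, rfl⟩, rfl⟩
          exact ⟨i, (f_pi M f L π hπ n (x i)).symm⟩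
      rw [hmap] at hy
      obtain ⟨y', hy', hyy'⟩ := hy
      have h2 : y - y' ∈ LinearMap.ker (f n) := by
        rw [LinearMap.mem_ker, map_sub, hyy', sub_self]
      rw [hker n] at h2
      have h3 : y = y' + (y - y') := by abel
      rw [h3]
      refine Submodule.add_mem_sup hy' ?_
      exact Submodule.smul_mono (Ideal.pow_le_self (Nat.succ_ne_zero n)) le_rfl h2
    have h4 := nilp_nakayama I N h1 (n + 1 + 1)
    rw [hk (n + 1), sup_bot_eq] at h4
    exact top_le_iff.1 h4

include hk in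
lemma smul_top_le_ker (n : ℕ) : I ^ (n + 1) • (⊤ : Submodule A L) ≤ LinearMap.ker (π n) := by
  intro y hy
  rw [LinearMap.mem_ker]
  have h1 : π n y ∈ (I ^ (n + 1) • (⊤ : Submodule A L)).map (π n) := Submodule.mem_map_of_mem hy
  rw [Submodule.map_smul''] at h1
  have h2 : π n y ∈ I ^ (n + 1) • (⊤ : Submodule A (M n)) :=
    Submodule.smul_mono le_rfl le_top h1
  rw [hk n] at h2
  exact (Submodule.mem_bot A).1 h2

include hπ in
lemma ker_anti (n : ℕ) : LinearMap.ker (π (n + 1)) ≤ LinearMap.ker (π n) := by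
  intro z hz
  rw [LinearMap.mem_ker] at hz ⊢
  rw [← f_pi M f L π hπ n z, hz, map_zero]

include hk hker hπ in
lemma step {r : ℕ} (x : Fin r → L)
    (h0 : Submodule.span A (Set.range fun i => π 0 (x i)) = ⊤) :
    ∀ n, ∀ z ∈ LinearMap.ker (π n), ∃ c : Fin r → A, (∀ i, c i ∈ I ^ (n + 1)) ∧
      z - ∑ i, c i • x i ∈ LinearMap.ker (π (n + 1)) := by
  intro n z hz
  have h1 : π (n + 1) z ∈ LinearMap.ker (f n) := by
    rw [LinearMap.mem_ker, f_pi M f L π hπ n z]; exact hz
  rw [hker n, ← span_top I M f hk hker L π hπ x h0 (n + 1),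
    Submodule.mem_ideal_smul_span_iff_exists_sum] at h1
  obtain ⟨a, ha, hsum⟩ := h1
  refine ⟨fun i => a i, ha, ?_⟩
  have hsum' : ∑ i, a i • π (n + 1) (x i) = π (n + 1) z := by
    rw [← hsum]
    exact (Finsupp.sum_fintype a (fun i c => c • π (n + 1) (x i))
      (fun i => zero_smul A (π (n + 1) (x i)))).symm
  rw [LinearMap.mem_ker, map_sub, map_sum, ← hsum']
  simp only [map_smul, sub_self]

variable [IsAdicComplete I A]

include hf hk hker hπ hinj hlift in
theorem main (h0 : Module.Finite A (M 0)) :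
    Module.Finite A L ∧ IsAdicComplete I L ∧
      ∀ n, Function.Surjective (π n) ∧
        LinearMap.ker (π n) = I ^ (n + 1) • (⊤ : Submodule A L) := by
  obtain ⟨r, s, hs⟩ := Module.Finite.exists_fin (R := A) (M := M 0)
  have hsurj := pi_surjective M f hf L π hlift
  choose x hx using fun i => hsurj 0 (s i)
  have hx0 : Submodule.span A (Set.range fun i => π 0 (x i)) = ⊤ := by
    rw [← hs]; congr 2; funext i; exact hx i
  have hcore := core (I := I) (x := x) (Lk := fun n => LinearMap.ker (π n))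
    (step I M f hk hker L π hπ x hx0) (smul_top_le_ker I M hk L π) hinj
    (ker_anti M f L π hπ)
  have hkereq : ∀ n, LinearMap.ker (π n) = I ^ (n + 1) • (⊤ : Submodule A L) := by
    intro n
    apply le_antisymm _ (smul_top_le_ker I M hk L π n)
    intro z hz
    obtain ⟨a, ha, rfl⟩ := hcore n z hz
    exact Submodule.sum_mem _ fun i _ => Submodule.smul_mem_smul (ha i) Submodule.mem_top
  have hspan : Submodule.span A (Set.range x) = ⊤ := by
    rw [eq_top_iff]
    intro z _
    have h1 : π 0 z ∈ Submodule.span A (Set.range fun i => π 0 (x i)) := by rw [hx0]; trivial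
    obtain ⟨c, hc⟩ := (Submodule.mem_span_range_iff_exists_fun A).1 h1
    have h2 : z - ∑ i, c i • x i ∈ LinearMap.ker (π 0) := by
      rw [LinearMap.mem_ker, map_sub, map_sum, ← hc]
      simp only [map_smul, sub_self]
    obtain ⟨a, -, ha⟩ := hcore 0 _ h2
    have h3 : z = ∑ i, c i • x i + ∑ i, a i • x i := by rw [← ha]; abel
    rw [h3]
    refine add_mem (Submodule.sum_mem _ fun i _ => ?_) (Submodule.sum_mem _ fun i _ => ?_)
    · exact Submodule.smul_mem _ _ (Submodule.subset_span ⟨i, rfl⟩)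
    · exact Submodule.smul_mem _ _ (Submodule.subset_span ⟨i, rfl⟩)
  refine ⟨Module.finite_def.2 (Submodule.fg_iff_exists_fin_generating_family.2 ⟨r, x, hspan⟩),
    ?_, fun n => ⟨hsurj n, hkereq n⟩⟩
  refine { toIsHausdorff := ⟨?_⟩, toIsPrecomplete := ⟨?_⟩ }
  · intro z hz
    apply hinj
    intro n
    have := hz (n + 1)
    rw [SModEq.zero] at this
    exact LinearMap.mem_ker.1 (smul_top_le_ker I M hk L π n this)
  · intro g hg
    have hcompat : ∀ n, f n (π (n + 1) (g (n + 1 + 1))) = π n (g (n + 1)) := by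
      intro n
      rw [f_pi M f L π hπ n]
      have h1 := hg (Nat.le_succ (n + 1))
      rw [SModEq.sub_mem] at h1
      have h2 := smul_top_le_ker I M hk L π n h1
      rw [LinearMap.mem_ker, map_sub, sub_eq_zero] at h2
      exact h2.symm
    obtain ⟨l, hl⟩ := hlift (fun n => π n (g (n + 1))) hcompat
    refine ⟨l, fun n => ?_⟩
    cases n with
    | zero =>
      rw [SModEq.sub_mem, pow_zero, Ideal.one_eq_top, Submodule.top_smul]
      trivial
    | succ m =>
      rw [SModEq.sub_mem, ← hkereq m, LinearMap.mem_ker, map_sub, hl m, sub_self]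

end system

end Groth.Agent.Helper9.AdicLim9
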