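import Mathlib

set_option autoImplicit false
universe u

namespace Groth.Agent.Helper9.Reg5807

open IsLocalRing

lemma isRegularRing_localization {R : Type u} [CommRing R] [IsRegularRing R] (T : Submonoid R)
    (L : Type u) [CommRing L] [Algebra R L] [IsLocalization T L] : IsRegularRing L := by
  have : IsNoetherianRing L := IsLocalization.isNoetherianRing T L inferInstance
  apply isRegularRing_iff.mpr (fun q hq ↦ ?_)
  let p := q.comap (algebraMap R L)
  have hp : p.IsPrime := Ideal.comap_isPrime _ _
  have : IsLocalization.AtPrime (Localization.AtPrime q) p :=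
    IsLocalization.isLocalization_isLocalization_atPrime_isLocalization T
      (Localization.AtPrime q) q
  have := isRegularRing_iff.mp ‹IsRegularRing R› p
  exact IsRegularLocalRing.of_ringEquiv (IsLocalization.algEquiv p.primeCompl
    (Localization.AtPrime p) (Localization.AtPrime q)).toRingEquiv

theorem main (B A C : Type u) [CommRing B]
    [IsRegularRing B] [CommRing A] (π : B →+* A) (hπ : Function.Surjective π) [CommRing C] [Algebra A C]
    [Algebra.FiniteType A C] (S : Submonoid C) :
    ∃ (R : Type u) (_ : CommRing R) (_ : IsRegularRing R) (f : R →+* Localization S),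
      Function.Surjective f := by
  obtain ⟨n, φ, hφ⟩ := Algebra.FiniteType.iff_quotient_mvPolynomial''.mp
    (inferInstance : Algebra.FiniteType A C)
  let g : MvPolynomial (Fin n) B →+* C := φ.toRingHom.comp (MvPolynomial.map π)
  have hg : Function.Surjective g := hφ.comp (MvPolynomial.map_surjective π hπ)
  let T : Submonoid (MvPolynomial (Fin n) B) := S.comap g
  refine ⟨Localization T, inferInstance, isRegularRing_localization T _,
    IsLocalization.map (Localization S) g (show T ≤ S.comap g from le_rfl), ?_⟩
  intro y
  obtain ⟨⟨c, s⟩, rfl⟩ := IsLocalization.mk'_surjective S y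
  obtain ⟨b, rfl⟩ := hg c
  obtain ⟨t, ht⟩ := hg s
  have htT : t ∈ T := by
    show g t ∈ S
    rw [ht]; exact s.2
  refine ⟨IsLocalization.mk' (Localization T) b ⟨t, htT⟩, ?_⟩
  rw [IsLocalization.map_mk']
  congr 1
  exact Subtype.ext ht

end Groth.Agent.Helper9.Reg5807
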