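import Mathlib

set_option autoImplicit false
universe u

open CategoryTheory Abelian Limits

namespace Groth.Agent.Helper9.GlDim

variable {A : Type u} [CommRing A]

/-- the short exact sequence `0 → I → A → A/I → 0` -/
noncomputable def idealSC (I : Ideal A) : ShortComplex (ModuleCat.{u} A) :=
  ModuleCat.shortComplexOfCompEqZero I.subtype I.mkQ (by
    ext x
    exact Ideal.Quotient.eq_zero_iff_mem.mpr x.2)

lemma idealSC_shortExact (I : Ideal A) : (idealSC I).ShortExact :=
  ModuleCat.shortComplex_shortExact (idealSC I) (LinearMap.exact_subtype_mkQ I)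
    I.injective_subtype I.mkQ_surjective

/-- Baer's criterion in terms of `Ext¹(A/I, N)` -/
lemma injective_of_ext_one (N : ModuleCat.{u} A)
    (h : ∀ I : Ideal A, Subsingleton (Ext (ModuleCat.of A (A ⧸ I)) N 1)) : Injective N := by
  rw [← Module.injective_iff_injective_object, ← Module.Baer.iff_injective]
  intro I g
  have hS := idealSC_shortExact I
  let x₁ : Ext (idealSC I).X₁ N 0 := Ext.mk₀ (ModuleCat.ofHom g)
  have hx₁ : hS.extClass.comp x₁ (show 1 + 0 = 1 by rfl) = 0 := by
    have := h I
    exact Subsingleton.elim (α := Ext (ModuleCat.of A (A ⧸ I)) N 1) _ _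
  obtain ⟨x₂, hx₂⟩ := Ext.contravariant_sequence_exact₁ hS N x₁ rfl hx₁
  obtain ⟨ψ, rfl⟩ := (Ext.mk₀_bijective _ _).2 x₂
  rw [Ext.mk₀_comp_mk₀] at hx₂
  have h3 := (Ext.mk₀_bijective _ _).1 hx₂
  refine ⟨ψ.hom, fun x mem => ?_⟩
  have h4 := congrArg (fun φ => φ.hom ⟨x, mem⟩) h3
  exact h4

lemma hasInjDimLT_of_ext (n : ℕ) : ∀ (N : ModuleCat.{u} A),
    (∀ I : Ideal A, Subsingleton (Ext (ModuleCat.of A (A ⧸ I)) N (n + 1))) →
    HasInjectiveDimensionLT N (n + 1) := by
  induction n with
  | zero =>
    intro N h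
    have := injective_of_ext_one N h
    infer_instance
  | succ n ih =>
    intro N h
    let ⟨J, _, f, _⟩ := EnoughInjectives.presentation N
    have hS : (ShortComplex.mk _ _ (cokernel.condition f)).ShortExact :=
      { exact := ShortComplex.exact_cokernel f }
    have hC : HasInjectiveDimensionLT (cokernel f) (n + 1) := by
      apply ih
      intro I
      refine subsingleton_of_forall_eq 0 fun x₃ => ?_
      have h0 : x₃.comp hS.extClass (show (n + 1) + 1 = n + 1 + 1 by rfl) = 0 := by
        have := h I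
        exact Subsingleton.elim (α := Ext (ModuleCat.of A (A ⧸ I)) N (n + 1 + 1)) _ _
      obtain ⟨x₂, rfl⟩ := Ext.covariant_sequence_exact₃ _ hS x₃ rfl h0
      rw [Ext.eq_zero_of_injective x₂, Ext.zero_comp]
    exact (hS.hasInjectiveDimensionLT_X₃_iff n inferInstance).1 hC

theorem main5804 (n : ℕ)
    (h : ∀ I : Ideal A, HasProjectiveDimensionLT (ModuleCat.of A (A ⧸ I)) (n + 1))
    (M : ModuleCat.{u} A) : HasProjectiveDimensionLT M (n + 1) := by
  apply hasProjectiveDimensionLT_of_enoughInjectives
  intro N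
  have hN : HasInjectiveDimensionLT N (n + 1) := by
    apply hasInjDimLT_of_ext
    intro I
    have := h I
    exact HasProjectiveDimensionLT.subsingleton _ (n + 1) (n + 1) le_rfl N
  exact HasInjectiveDimensionLT.subsingleton N (n + 1) (n + 1) le_rfl M

end Groth.Agent.Helper9.GlDim
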