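import Mathlib
import Groth.Prelude.Def_HTop2
open AlgebraicGeometry CategoryTheory MorphismProperty
universe u
namespace Groth.Agent.Helper9.UH

/-- universally closed + universally injective + surjective ⇒ universal homeomorphism -/
theorem isUnivHomeo_of {X Y : Scheme.{u}} (f : X ⟶ Y) [UniversallyClosed f]
    [UniversallyInjective f] [Surjective f] : FlatMor.IsUnivHomeo f := by
  intro X' Y' i₁ i₂ f' h
  have h1 : UniversallyClosed f' := MorphismProperty.of_isPullback h.flip inferInstance
  have h2 : UniversallyInjective f' := MorphismProperty.of_isPullback h.flip inferInstance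
  have h3 : Surjective f' := MorphismProperty.of_isPullback h.flip inferInstance
  show IsHomeomorph f'
  rw [isHomeomorph_iff_continuous_isClosedMap_bijective]
  exact ⟨f'.continuous, f'.isClosedMap, f'.injective, f'.surjective⟩

/-- a universal homeomorphism is a homeomorphism -/
theorem isHomeomorph_of_isUnivHomeo {X Y : Scheme.{u}} (f : X ⟶ Y) (h : FlatMor.IsUnivHomeo f) :
    IsHomeomorph f :=
  h _ _ _ IsPullback.of_id_snd

theorem universallyClosed_of_isUnivHomeo {X Y : Scheme.{u}} (f : X ⟶ Y) (h : FlatMor.IsUnivHomeo f) :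
    UniversallyClosed f := by
  rw [universallyClosed_eq]
  refine universally_mono ?_ _ h
  intro X Y f hf
  exact (show IsHomeomorph f from hf).isClosedMap

variable {R S : CommRingCat.{u}} (f : R ⟶ S)

set_option backward.isDefEq.respectTransparency.types false in
/-- the residue field map of `Spec.map f` corresponds to `Ideal.ResidueField.map`. -/
theorem residueFieldMap_square (y : Spec S) :
    (Scheme.Spec.residueFieldIso R ((Spec.map f) y)).inv ≫
      (Spec.map f).residueFieldMap y ≫
      (Scheme.Spec.residueFieldIso S y).hom =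
    CommRingCat.ofHom (Ideal.ResidueField.map ((Spec.map f) y).asIdeal y.asIdeal f.hom rfl) := by
  apply CommRingCat.hom_ext
  apply Ideal.ResidueField.ringHom_ext
  have key : CommRingCat.ofHom (algebraMap R ((Spec.map f) y).asIdeal.ResidueField) ≫
      ((Scheme.Spec.residueFieldIso R ((Spec.map f) y)).inv ≫ (Spec.map f).residueFieldMap y ≫
      (Scheme.Spec.residueFieldIso S y).hom) =
      CommRingCat.ofHom (algebraMap R ((Spec.map f) y).asIdeal.ResidueField) ≫
      CommRingCat.ofHom (Ideal.ResidueField.map ((Spec.map f) y).asIdeal y.asIdeal f.hom rfl) := by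
    rw [Scheme.Spec.algebraMap_residueFieldIso_inv_assoc]
    have e1 : (Spec R).presheaf.germ ⊤ ((Spec.map f) y) trivial ≫
        (Spec R).residue ((Spec.map f) y) ≫
          Scheme.Hom.residueFieldMap (Spec.map f) y =
        (Spec.map f).appTop ≫ (Spec S).Γevaluation y := by
      rw [← Category.assoc]
      exact Scheme.Γevaluation_naturality (Spec.map f) y
    rw [reassoc_of% e1]
    erw [← Scheme.ΓSpecIso_inv_naturality_assoc]
    have e2 : (Scheme.ΓSpecIso S).inv ≫ (Spec S).Γevaluation y =
        CommRingCat.ofHom (algebraMap S y.asIdeal.ResidueField) ≫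
          (Scheme.Spec.residueFieldIso S y).inv :=
      (Scheme.Spec.algebraMap_residueFieldIso_inv S y).symm
    rw [reassoc_of% e2, Iso.inv_hom_id, Category.comp_id]
    apply CommRingCat.hom_ext
    refine RingHom.ext fun a => ?_
    exact (Ideal.ResidueField.map_algebraMap _ _ _ _ a).symm
  exact congrArg CommRingCat.Hom.hom key


section Ring
variable {A B : Type u} [CommRing A] [CommRing B] (φ : A →+* B)

set_option backward.isDefEq.respectTransparency.types false in
theorem isIso_residueFieldMap_iff (y : PrimeSpectrum B) :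
    IsIso ((Spec.map (CommRingCat.ofHom φ)).residueFieldMap y) ↔
      Function.Bijective (Ideal.ResidueField.map (PrimeSpectrum.comap φ y).asIdeal y.asIdeal φ rfl) := by
  have hsq := residueFieldMap_square (CommRingCat.ofHom φ) y
  have hb : IsIso (CommRingCat.ofHom
      (Ideal.ResidueField.map (PrimeSpectrum.comap φ y).asIdeal y.asIdeal φ rfl)) ↔
      Function.Bijective (Ideal.ResidueField.map (PrimeSpectrum.comap φ y).asIdeal y.asIdeal φ rfl) :=
    ConcreteCategory.isIso_iff_bijective (CommRingCat.ofHom
      (Ideal.ResidueField.map (PrimeSpectrum.comap φ y).asIdeal y.asIdeal φ rfl))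
  rw [← hb]
  constructor
  · intro h
    have : IsIso ((Scheme.Spec.residueFieldIso (CommRingCat.of A) ((Spec.map (CommRingCat.ofHom φ)) y)).inv ≫
      (Spec.map (CommRingCat.ofHom φ)).residueFieldMap y ≫
      (Scheme.Spec.residueFieldIso (CommRingCat.of B) y).hom) := inferInstance
    rw [hsq] at this
    exact this
  · intro h
    have h' : IsIso ((Scheme.Spec.residueFieldIso (CommRingCat.of A) ((Spec.map (CommRingCat.ofHom φ)) y)).inv ≫
      (Spec.map (CommRingCat.ofHom φ)).residueFieldMap y ≫
      (Scheme.Spec.residueFieldIso (CommRingCat.of B) y).hom) := by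
      rw [hsq]; exact h
    have h2 : IsIso ((Spec.map (CommRingCat.ofHom φ)).residueFieldMap y ≫
      (Scheme.Spec.residueFieldIso (CommRingCat.of B) y).hom) :=
      IsIso.of_isIso_comp_left (Scheme.Spec.residueFieldIso (CommRingCat.of A)
        ((Spec.map (CommRingCat.ofHom φ)) y)).inv _
    exact IsIso.of_isIso_comp_right _ (Scheme.Spec.residueFieldIso (CommRingCat.of B) y).hom

theorem residueFieldsIso_iff :
    HTop.ResidueFieldsIso (Spec.map (CommRingCat.ofHom φ)) ↔
      ∀ y : PrimeSpectrum B, Function.Bijective
        (Ideal.ResidueField.map (PrimeSpectrum.comap φ y).asIdeal y.asIdeal φ rfl) :=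
  ⟨fun h y => (isIso_residueFieldMap_iff φ y).mp (h y),
    fun h y => (isIso_residueFieldMap_iff φ y).mpr (h y)⟩

theorem isPurelyInseparable_of_bijective {K L : Type*} [Field K] [Field L] (g : K →+* L)
    (hg : Function.Bijective g) : g.IsPurelyInseparable := by
  let _ : Algebra K L := g.toAlgebra
  show IsPurelyInseparable K L
  rw [isPurelyInseparable_iff]
  intro x
  obtain ⟨z, rfl⟩ := hg.2 x
  have h1 : IsIntegral K (algebraMap K L z) := isIntegral_algebraMap
  exact ⟨h1, fun _ => ⟨z, rfl⟩⟩

theorem isUnivHomeo_specMap_of (hint : φ.IsIntegral)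
    (hbij : Function.Bijective (PrimeSpectrum.comap φ))
    (hres : ∀ y : PrimeSpectrum B, Function.Bijective
      (Ideal.ResidueField.map (PrimeSpectrum.comap φ y).asIdeal y.asIdeal φ rfl)) :
    FlatMor.IsUnivHomeo (Spec.map (CommRingCat.ofHom φ)) := by
  have h1 : IsIntegralHom (Spec.map (CommRingCat.ofHom φ)) := IsIntegralHom.SpecMap_iff.mpr hint
  have h2 : Surjective (Spec.map (CommRingCat.ofHom φ)) := (surjective_iff _).mpr hbij.2
  have h3 : UniversallyInjective (Spec.map (CommRingCat.ofHom φ)) := by
    have htf := (tfae_universallyInjective (Spec.map (CommRingCat.ofHom φ))).out 0 2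
    refine htf.mpr ⟨hbij.1, fun y => ?_⟩
    have hiso := (isIso_residueFieldMap_iff φ y).mpr (hres y)
    exact isPurelyInseparable_of_bijective _ ((ConcreteCategory.isIso_iff_bijective _).mp hiso)
  exact isUnivHomeo_of _

theorem of_isUnivHomeo_specMap (h : FlatMor.IsUnivHomeo (Spec.map (CommRingCat.ofHom φ))) :
    φ.IsIntegral ∧ Function.Bijective (PrimeSpectrum.comap φ) := by
  constructor
  · have h1 := universallyClosed_of_isUnivHomeo _ h
    have h2 : IsIntegralHom (Spec.map (CommRingCat.ofHom φ)) :=
      IsIntegralHom.iff_universallyClosed_and_isAffineHom.mpr ⟨h1, inferInstance⟩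
    exact IsIntegralHom.SpecMap_iff.mp h2
  · exact (isHomeomorph_of_isUnivHomeo _ h).bijective

end Ring

end Groth.Agent.Helper9.UH
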