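import Mathlib

set_option autoImplicit false

namespace Groth.Agent.Lib.Helper9.LenRes

open IsLocalRing

section
variable {R A M : Type*} [CommRing R] [CommRing A] [Algebra R A] [IsLocalRing A]
  [AddCommGroup M] [Module A M] [Module R M] [IsScalarTower R A M]

/-- if `N ⋖ N'` then the maximal ideal sends `N'` into `N` -/
lemma smul_mem_of_covBy {N N' : Submodule A M} (h : N ⋖ N') (t : A) (ht : t ∈ maximalIdeal A)
    (x : M) (hx : x ∈ N') : t • x ∈ N := by
  by_contra hcon
  -- N ⊔ span {t • x} = N'
  have h1 : N < N ⊔ Submodule.span A {t • x} := by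
    refine lt_of_le_of_ne le_sup_left ?_
    intro heq
    apply hcon
    rw [heq]
    exact Submodule.mem_sup_right (Submodule.mem_span_singleton_self _)
  have h2 : N ⊔ Submodule.span A {t • x} ≤ N' := by
    refine sup_le h.le ?_
    rw [Submodule.span_singleton_le_iff_mem]
    exact Submodule.smul_mem _ _ hx
  have h3 : N ⊔ Submodule.span A {t • x} = N' := by
    rcases eq_or_lt_of_le h2 with h4 | h4
    · exact h4
    · exact absurd h4 (h.2 h1)
  have h5 : x ∈ N ⊔ Submodule.span A {t • x} := by rw [h3]; exact hx
  rw [Submodule.mem_sup] at h5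
  obtain ⟨y, hy, z, hz, hyz⟩ := h5
  rw [Submodule.mem_span_singleton] at hz
  obtain ⟨c, rfl⟩ := hz
  -- x = y + c t x, so (1 - c t) x = y ∈ N, 1 - c t unit
  have h6 : (1 - c * t) • x = y := by
    rw [sub_smul, one_smul, mul_smul, sub_eq_iff_eq_add]
    exact hyz.symm
  have h7 : IsUnit (1 - c * t) := by
    have h8 : c * t ∈ maximalIdeal A := Ideal.mul_mem_left _ _ ht
    by_contra h9
    have h10 : (1 - c * t) ∈ maximalIdeal A := (mem_maximalIdeal _).mpr h9
    have h11 := Ideal.add_mem _ h10 h8
    rw [sub_add_cancel] at h11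
    exact (Ideal.ne_top_iff_one _).mp (maximalIdeal.isMaximal A).ne_top h11
  obtain ⟨v, hv⟩ := h7
  have h12 : x ∈ N := by
    have : x = (↑v⁻¹ : A) • y := by
      rw [← h6, ← hv, smul_smul, Units.inv_mul, one_smul]
    rw [this]
    exact Submodule.smul_mem _ _ hy
  exact hcon (Submodule.smul_mem _ _ h12)

variable (hres : ∀ b : A, ∃ r : R, b - algebraMap R A r ∈ maximalIdeal A)

include hres in
lemma covBy_restrictScalars {N N' : Submodule A M} (h : N ⋖ N') :
    N.restrictScalars R ⋖ N'.restrictScalars R := by
  refine ⟨?_, ?_⟩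
  · exact (Submodule.restrictScalars_lt R).mpr h.lt
  · intro P hNP hPN'
    -- P is an A-submodule
    have hP : ∀ (b : A) (x : M), x ∈ P → b • x ∈ P := by
      intro b x hx
      obtain ⟨r, hr⟩ := hres b
      have h1 : b • x = (b - algebraMap R A r) • x + r • x := by
        rw [sub_smul, algebraMap_smul]
        abel
      rw [h1]
      refine P.add_mem ?_ (P.smul_mem r hx)
      apply hNP.le
      exact smul_mem_of_covBy h _ hr x (hPN'.le hx)
    let P' : Submodule A M :=
      { carrier := P
        add_mem' := fun ha hb => P.add_mem ha hb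
        zero_mem' := P.zero_mem
        smul_mem' := fun b x hx => hP b x hx }
    have h2 : N < P' := by
      refine lt_of_le_of_ne (fun x hx => hNP.le hx) ?_
      intro heq
      apply hNP.ne
      ext x
      rw [heq]
      rfl
    have h3 : P' < N' := by
      refine lt_of_le_of_ne (fun x hx => hPN'.le hx) ?_
      intro heq
      apply hPN'.ne
      ext x
      rw [← heq]
      rfl
    exact h.2 h2 h3

include hres in
theorem length_eq : Module.length A M = Module.length R M := by
  apply le_antisymm
  · have h1 := Submodule.length_le_length_restrictScalars R (⊤ : Submodule A M)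
    rw [Module.length_top, Submodule.restrictScalars_top, Module.length_top] at h1
    exact h1
  · by_cases hfin : Module.length A M = ⊤
    · rw [hfin]
      exact le_top
    · rw [← ne_eq, Module.length_ne_top_iff, isFiniteLength_iff_exists_compositionSeries] at hfin
      obtain ⟨s, hs1, hs2⟩ := hfin
      let f : SetRel.Hom {(x, y) : Submodule A M × Submodule A M | JordanHolderLattice.IsMaximal x y}
          {(x, y) : Submodule R M × Submodule R M | JordanHolderLattice.IsMaximal x y} :=
        ⟨fun N => N.restrictScalars R, fun {N N'} h => covBy_restrictScalars hres h⟩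
      have h1 := Module.length_compositionSeries s hs1 hs2
      have h2 := Module.length_compositionSeries (s.map f)
        (by rw [RelSeries.head_map, hs1]; rfl) (by rw [RelSeries.last_map, hs2]; rfl)
      rw [← h1, ← h2]
      rfl

end

section free
open TensorProduct

theorem length_quot_smul_top {R A : Type*} [CommRing R] [AddCommGroup A] [Module R A]
    [Module.Free R A] [Module.Finite R A] (𝔞 : Ideal R) (h𝔞 : 𝔞 ≠ ⊤) :
    Module.length R (A ⧸ (𝔞 • ⊤ : Submodule R A)) =
      (Module.finrank R A : ℕ∞) * Module.length R (R ⧸ 𝔞) := by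
  haveI : Nontrivial (R ⧸ 𝔞) := Ideal.Quotient.nontrivial_iff.mpr h𝔞
  haveI : Nontrivial R := (Ideal.Quotient.mk 𝔞).domain_nontrivial
  rw [← (TensorProduct.quotTensorEquivQuotSMul A 𝔞).length_eq]
  rw [Module.length_eq_of_surjective (S := R) (R := R ⧸ 𝔞) (M := (R ⧸ 𝔞) ⊗[R] A)
    Ideal.Quotient.mk_surjective]
  rw [Module.length_of_free_of_finite (R ⧸ 𝔞) ((R ⧸ 𝔞) ⊗[R] A), Module.finrank_baseChange]
  rw [← Module.length_eq_of_surjective (S := R) (R := R ⧸ 𝔞) (M := R ⧸ 𝔞)
    Ideal.Quotient.mk_surjective]

/-- version for an algebra: quotient by the extended ideal, length over `R` -/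
theorem length_quot_map {R A : Type*} [CommRing R] [CommRing A] [Algebra R A]
    [Module.Free R A] [Module.Finite R A] (𝔞 : Ideal R) (h𝔞 : 𝔞 ≠ ⊤) :
    Module.length R (A ⧸ Ideal.map (algebraMap R A) 𝔞) =
      (Module.finrank R A : ℕ∞) * Module.length R (R ⧸ 𝔞) := by
  rw [← length_quot_smul_top (A := A) 𝔞 h𝔞]
  have e := Submodule.Quotient.restrictScalarsEquiv R (Ideal.map (algebraMap R A) 𝔞)
  rw [← e.length_eq]
  rw [Ideal.smul_top_eq_map]

end free

end Groth.Agent.Lib.Helper9.LenRes
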