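import Mathlib

set_option autoImplicit false
universe u

namespace Groth.Agent.Lib.Helper9.AdicSum

section lim
variable {R : Type u} [CommRing R] (I : Ideal R)

lemma eq_of_forall_sub_mem [IsHausdorff I R] {x y : R} (h : ∀ k, x - y ∈ I ^ k) : x = y := by
  rw [← sub_eq_zero]
  apply IsHausdorff.haus ‹IsHausdorff I R›
  intro n
  rw [SModEq.sub_mem, sub_zero, smul_eq_mul, Ideal.mul_top]
  exact h n

lemma exists_lim [IsPrecomplete I R] (s : ℕ → R) (hs : ∀ k, s (k + 1) - s k ∈ I ^ k) :
    ∃ L, ∀ k, L - s k ∈ I ^ k := by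
  have hmono : ∀ {m n : ℕ}, m ≤ n → s m ≡ s n [SMOD (I ^ m • ⊤ : Submodule R R)] := by
    intro m n hmn
    rw [SModEq.sub_mem, smul_eq_mul, Ideal.mul_top]
    induction n, hmn using Nat.le_induction with
    | base => rw [sub_self]; exact Submodule.zero_mem _
    | succ n hmn ih =>
      have e : s m - s (n + 1) = (s m - s n) - (s (n + 1) - s n) := by ring
      rw [e]
      exact Submodule.sub_mem _ ih (Ideal.pow_le_pow_right hmn (hs n))
  obtain ⟨L, hL⟩ := IsPrecomplete.prec ‹IsPrecomplete I R› hmono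
  refine ⟨L, fun k => ?_⟩
  have := hL k
  rw [SModEq.sub_mem, smul_eq_mul, Ideal.mul_top] at this
  have e : L - s k = - (s k - L) := by ring
  rw [e]
  exact Submodule.neg_mem _ this

end lim

section powsum
variable {R : Type u} [CommRing R] (I : Ideal R) [IsAdicComplete I R] (t : R) (ht : t ∈ I)

/-- partial sums of `∑ c_j t^j` -/
def partialSum (c : ℕ → R) (k : ℕ) : R := ∑ j ∈ Finset.range k, c j * t ^ j

lemma partialSum_succ_sub (c : ℕ → R) (k : ℕ) :
    partialSum t c (k + 1) - partialSum t c k = c k * t ^ k := by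
  unfold partialSum
  rw [Finset.sum_range_succ]; ring

lemma partialSum_succ' (c : ℕ → R) (k : ℕ) :
    partialSum t c (k + 1) = c 0 + t * partialSum t (fun j => c (j + 1)) k := by
  unfold partialSum
  rw [Finset.sum_range_succ', Finset.mul_sum, pow_zero, mul_one, add_comm]
  congr 1
  apply Finset.sum_congr rfl
  intro j _
  ring

include ht in
lemma exists_powSum (c : ℕ → R) : ∃ L, ∀ k, L - partialSum t c k ∈ I ^ k := by
  apply exists_lim
  intro k
  rw [partialSum_succ_sub]
  exact Ideal.mul_mem_left _ _ (Ideal.pow_mem_pow ht k)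

/-- the sum `∑ c_j t^j` -/
noncomputable def powSum (c : ℕ → R) : R := (exists_powSum I t ht c).choose

lemma powSum_spec (c : ℕ → R) (k : ℕ) : powSum I t ht c - partialSum t c k ∈ I ^ k :=
  (exists_powSum I t ht c).choose_spec k

lemma powSum_eq (c : ℕ → R) :
    powSum I t ht c = c 0 + t * powSum I t ht (fun j => c (j + 1)) := by
  apply eq_of_forall_sub_mem I
  intro k
  have h1 := powSum_spec I t ht c (k + 1)
  have h2 := powSum_spec I t ht (fun j => c (j + 1)) k
  rw [partialSum_succ'] at h1
  have e : powSum I t ht c - (c 0 + t * powSum I t ht (fun j => c (j + 1))) =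
      (powSum I t ht c - (c 0 + t * partialSum t (fun j => c (j + 1)) k)) -
        t * (powSum I t ht (fun j => c (j + 1)) - partialSum t (fun j => c (j + 1)) k) := by ring
  rw [e]
  exact Submodule.sub_mem _ (Ideal.pow_le_pow_right (Nat.le_succ k) h1) (Ideal.mul_mem_left _ _ h2)

end powsum

end Groth.Agent.Lib.Helper9.AdicSum
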