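import Mathlib
import Groth.Agent.Lib.Helper9.AdicSum

set_option autoImplicit false
universe u

namespace Groth.Agent.Lib.Helper9.NodeNF

open MvPowerSeries

section idx

/-- the exponent `(i, j)` -/
noncomputable def idx (i j : ℕ) : Fin 2 →₀ ℕ := Finsupp.single 0 i + Finsupp.single 1 j

@[simp] lemma idx_zero (i j : ℕ) : idx i j 0 = i := by simp [idx]
@[simp] lemma idx_one (i j : ℕ) : idx i j 1 = j := by simp [idx]

lemma fin2_ext {d e : Fin 2 →₀ ℕ} (h0 : d 0 = e 0) (h1 : d 1 = e 1) : d = e := by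
  ext i
  revert i
  rw [Fin.forall_fin_two]
  exact ⟨h0, h1⟩

lemma eq_idx (d : Fin 2 →₀ ℕ) : d = idx (d 0) (d 1) := fin2_ext (by simp) (by simp)

lemma idx_inj {i j i' j' : ℕ} : idx i j = idx i' j' ↔ i = i' ∧ j = j' := by
  constructor
  · intro h
    have h0 := DFunLike.congr_fun h 0
    have h1 := DFunLike.congr_fun h 1
    simp only [idx_zero, idx_one] at h0 h1
    exact ⟨h0, h1⟩
  · rintro ⟨rfl, rfl⟩; rfl

lemma idx_le {i j i' j' : ℕ} : idx i j ≤ idx i' j' ↔ i ≤ i' ∧ j ≤ j' := by
  rw [Finsupp.le_def, Fin.forall_fin_two]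
  simp

lemma idx_sub (i j i' j' : ℕ) : idx i j - idx i' j' = idx (i - i') (j - j') :=
  fin2_ext (by simp [Finsupp.tsub_apply]) (by simp [Finsupp.tsub_apply])

lemma idx_zero_zero : idx 0 0 = 0 := fin2_ext (by simp) (by simp)

end idx

section coeffs
variable {R : Type u} [CommRing R]

lemma X0X1_eq : (X 0 * X 1 : MvPowerSeries (Fin 2) R) = monomial (idx 1 1) 1 := by
  rw [X, X, monomial_mul_monomial, one_mul]
  rfl

lemma coeff_mul_gen (h : MvPowerSeries (Fin 2) R) (t : R) (i j : ℕ) :
    coeff (idx i j) (h * (X 0 * X 1 - C t)) =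
      (if 1 ≤ i ∧ 1 ≤ j then coeff (idx (i - 1) (j - 1)) h else 0) - coeff (idx i j) h * t := by
  rw [mul_sub, map_sub, X0X1_eq, coeff_mul_monomial, mul_one, coeff_mul_C, idx_sub]
  simp only [idx_le]

lemma coeff_toMv0 (f : PowerSeries R) (i j : ℕ) :
    coeff (idx i j) (PowerSeries.toMvPowerSeries (σ := Fin 2) 0 f) =
      if j = 0 then PowerSeries.coeff i f else 0 := by
  rw [PowerSeries.toMvPowerSeries_apply]
  by_cases hj : j = 0
  · subst hj
    rw [if_pos rfl]
    have e : idx i 0 = Finsupp.embDomain (Function.Embedding.punit (0 : Fin 2))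
        (Finsupp.single () i) := by
      rw [Finsupp.embDomain_single]
      show idx i 0 = Finsupp.single (0 : Fin 2) i
      exact fin2_ext (by simp) (by simp)
    rw [e]
    exact coeff_embDomain_rename (Function.Embedding.punit (0 : Fin 2)) f (Finsupp.single () i)
  · rw [if_neg hj]
    apply coeff_rename_eq_zero
    rintro ⟨y, hy⟩
    have h1 := DFunLike.congr_fun hy 1
    rw [idx_one, Finsupp.mapDomain_of_notMem_range] at h1
    · exact hj h1.symm
    · rintro ⟨_, h⟩
      simp at h

lemma coeff_toMv1 (f : PowerSeries R) (i j : ℕ) :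
    coeff (idx i j) (PowerSeries.toMvPowerSeries (σ := Fin 2) 1 f) =
      if i = 0 then PowerSeries.coeff j f else 0 := by
  rw [PowerSeries.toMvPowerSeries_apply]
  by_cases hi : i = 0
  · subst hi
    rw [if_pos rfl]
    have e : idx 0 j = Finsupp.embDomain (Function.Embedding.punit (1 : Fin 2))
        (Finsupp.single () j) := by
      rw [Finsupp.embDomain_single]
      show idx 0 j = Finsupp.single (1 : Fin 2) j
      exact fin2_ext (by simp) (by simp)
    rw [e]
    exact coeff_embDomain_rename (Function.Embedding.punit (1 : Fin 2)) f (Finsupp.single () j)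
  · rw [if_neg hi]
    apply coeff_rename_eq_zero
    rintro ⟨y, hy⟩
    have h1 := DFunLike.congr_fun hy 0
    rw [idx_zero, Finsupp.mapDomain_of_notMem_range] at h1
    · exact hi h1.symm
    · rintro ⟨_, h⟩
      simp at h

end coeffs


section nf
variable {R : Type u} [CommRing R]

lemma coeff_X1_mul (φ : MvPowerSeries (Fin 2) R) (i j : ℕ) :
    coeff (idx i j) (X 1 * φ) = if 1 ≤ j then coeff (idx i (j - 1)) φ else 0 := by
  have e : (X 1 : MvPowerSeries (Fin 2) R) = monomial (idx 0 1) 1 := by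
    have e' : Finsupp.single (1 : Fin 2) 1 = idx 0 1 := fin2_ext (by simp) (by simp)
    rw [X, e']
  rw [e, coeff_monomial_mul, one_mul, idx_sub]
  simp only [idx_le, Nat.zero_le, true_and, Nat.sub_zero]

lemma coeff_X0_mul (φ : MvPowerSeries (Fin 2) R) (i j : ℕ) :
    coeff (idx i j) (X 0 * φ) = if 1 ≤ i then coeff (idx (i - 1) j) φ else 0 := by
  have e : (X 0 : MvPowerSeries (Fin 2) R) = monomial (idx 1 0) 1 := by
    have e' : Finsupp.single (0 : Fin 2) 1 = idx 1 0 := fin2_ext (by simp) (by simp)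
    rw [X, e']
  rw [e, coeff_monomial_mul, one_mul, idx_sub]
  simp only [idx_le, Nat.zero_le, and_true, Nat.sub_zero]

/-- uniqueness of the normal form -/
theorem nf_unique (I : Ideal R) [IsHausdorff I R] (t : R) (ht : t ∈ I)
    (f g : PowerSeries R) (h : MvPowerSeries (Fin 2) R)
    (heq : PowerSeries.toMvPowerSeries (σ := Fin 2) 0 f +
      X 1 * PowerSeries.toMvPowerSeries (σ := Fin 2) 1 g = h * (X 0 * X 1 - C t)) :
    f = 0 ∧ g = 0 := by
  have step : ∀ i j, coeff (idx i j) h = coeff (idx (i + 1) (j + 1)) h * t := by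
    intro i j
    have := congrArg (coeff (idx (i + 1) (j + 1))) heq
    rw [map_add, coeff_toMv0, if_neg (Nat.succ_ne_zero j), coeff_X1_mul, if_pos (by omega),
      coeff_toMv1, if_neg (Nat.succ_ne_zero i), add_zero, coeff_mul_gen,
      if_pos ⟨by omega, by omega⟩] at this
    simp only [Nat.add_sub_cancel] at this
    exact (sub_eq_zero.mp this.symm)
  have stepk : ∀ k i j, coeff (idx i j) h = coeff (idx (i + k) (j + k)) h * t ^ k := by
    intro k
    induction k with
    | zero => intro i j; simp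
    | succ k ih =>
      intro i j
      rw [ih, step (i + k) (j + k), pow_succ]
      ring_nf
  have hzero : h = 0 := by
    ext d
    obtain ⟨i, j, rfl⟩ : ∃ i j, d = idx i j := ⟨d 0, d 1, eq_idx d⟩
    rw [map_zero]
    have : ∀ k, coeff (idx i j) h - 0 ∈ I ^ k := by
      intro k
      rw [sub_zero, stepk k]
      exact Ideal.mul_mem_left _ _ (Ideal.pow_mem_pow ht k)
    exact Groth.Agent.Lib.Helper9.AdicSum.eq_of_forall_sub_mem I this
  rw [hzero, zero_mul] at heq
  constructor
  · ext i
    have := congrArg (coeff (idx i 0)) heq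
    rw [map_add, coeff_toMv0, if_pos rfl, coeff_X1_mul, if_neg (by omega), add_zero,
      map_zero] at this
    rw [this, map_zero]
  · ext j
    have := congrArg (coeff (idx 0 (j + 1))) heq
    rw [map_add, coeff_toMv0, if_neg (Nat.succ_ne_zero j), coeff_X1_mul, if_pos (by omega),
      coeff_toMv1, if_pos rfl, zero_add, map_zero, Nat.add_sub_cancel] at this
    rw [this, map_zero]

open Groth.Agent.Lib.Helper9.AdicSum in
/-- existence of the normal form -/
theorem nf_exists (I : Ideal R) [IsAdicComplete I R] (t : R) (ht : t ∈ I)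
    (h : MvPowerSeries (Fin 2) R) :
    ∃ (f g : PowerSeries R) (h' : MvPowerSeries (Fin 2) R),
      h = PowerSeries.toMvPowerSeries (σ := Fin 2) 0 f +
        PowerSeries.toMvPowerSeries (σ := Fin 2) 1 g + h' * (X 0 * X 1 - C t) := by
  let S : (ℕ → R) → R := powSum I t ht
  have hS : ∀ c : ℕ → R, S c = c 0 + t * S (fun j => c (j + 1)) := powSum_eq I t ht
  let h' : MvPowerSeries (Fin 2) R :=
    fun d => S (fun k => coeff (idx (d 0 + 1 + k) (d 1 + 1 + k)) h)
  refine ⟨PowerSeries.mk (fun i => S (fun k => coeff (idx (i + k) k) h)),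
    PowerSeries.mk (fun j => if j = 0 then 0 else S (fun k => coeff (idx k (j + k)) h)),
    h', ?_⟩
  have hcoeff : ∀ i j, coeff (idx i j) h' = S (fun k => coeff (idx (i + 1 + k) (j + 1 + k)) h) := by
    intro i j
    show S (fun k => coeff (idx (idx i j 0 + 1 + k) (idx i j 1 + 1 + k)) h) = _
    rw [idx_zero, idx_one]
  ext d
  obtain ⟨i, j, rfl⟩ : ∃ i j, d = idx i j := ⟨d 0, d 1, eq_idx d⟩
  rw [map_add, map_add, coeff_toMv0, coeff_toMv1, coeff_mul_gen, PowerSeries.coeff_mk,
    PowerSeries.coeff_mk]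
  simp only [hcoeff]
  rcases Nat.eq_zero_or_pos j with hj | hj
  · subst hj
    have e0 : (if i = 0 then (if (0 : ℕ) = 0 then (0 : R) else S fun k => coeff (idx k (0 + k)) h)
        else 0) = 0 := by
      split_ifs <;> first | rfl | (exfalso; omega)
    rw [if_pos rfl, if_neg (by omega : ¬ (1 ≤ i ∧ 1 ≤ 0)), zero_sub, e0, add_zero,
      hS (fun k => coeff (idx (i + k) k) h)]
    have e1 : (fun j => coeff (idx (i + (j + 1)) (j + 1)) h) =
        (fun k => coeff (idx (i + 1 + k) (0 + 1 + k)) h) := by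
      funext k
      have a1 : i + (k + 1) = i + 1 + k := by omega
      have a2 : k + 1 = 0 + 1 + k := by omega
      rw [a1, ← a2]
    rw [e1, Nat.add_zero]
    ring
  · rw [if_neg (by omega : ¬ j = 0), zero_add]
    rcases Nat.eq_zero_or_pos i with hi | hi
    · subst hi
      rw [if_pos rfl, if_neg (by omega : ¬ j = 0), if_neg (by omega : ¬ ((1:ℕ) ≤ 0 ∧ 1 ≤ j)),
        zero_sub, hS (fun k => coeff (idx k (j + k)) h)]
      have e1 : (fun j_1 => coeff (idx (j_1 + 1) (j + (j_1 + 1))) h) =
          (fun k => coeff (idx (0 + 1 + k) (j + 1 + k)) h) := by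
        funext k
        have a1 : k + 1 = 0 + 1 + k := by omega
        have a2 : j + (k + 1) = j + 1 + k := by omega
        rw [a2, ← a1]
      rw [e1, Nat.add_zero]
      ring
    · rw [if_neg (by omega : ¬ i = 0), if_pos ⟨hi, hj⟩, zero_add,
        hS (fun k => coeff (idx (i - 1 + 1 + k) (j - 1 + 1 + k)) h)]
      have e1 : (fun j_1 => coeff (idx (i - 1 + 1 + (j_1 + 1)) (j - 1 + 1 + (j_1 + 1))) h) =
          (fun k => coeff (idx (i + 1 + k) (j + 1 + k)) h) := by
        funext k
        have a1 : i - 1 + 1 + (k + 1) = i + 1 + k := by omega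
        have a2 : j - 1 + 1 + (k + 1) = j + 1 + k := by omega
        rw [a1, a2]
      have a3 : i - 1 + 1 + 0 = i := by omega
      have a4 : j - 1 + 1 + 0 = j := by omega
      rw [e1, a3, a4]
      ring

end nf

end Groth.Agent.Lib.Helper9.NodeNF
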