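import Mathlib
import Groth.Prelude.Def_W4c1arstab1appArSing
import Groth.Agent.Lib.Helper9.NodeNF
import Groth.Agent.Lib.Helper9.LenRes

set_option autoImplicit false
universe u

namespace Groth.Agent.Lib.Helper9.ArNF

open MvPowerSeries
open Groth.Agent.Lib.Helper9.NodeNF

section series
variable {k : Type u} [CommRing k]

/-- the reduction recursion: `T(u,v) = h_{u,v} + [r+1 ≤ u] T(u-(r+1), v+2)` -/
noncomputable def T (r : ℕ) (h : MvPowerSeries (Fin 2) k) : ℕ → ℕ → k
  | u, v => coeff (idx u v) h + if _hsu : r + 1 ≤ u then T r h (u - (r + 1)) (v + 2) else 0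
termination_by u => u
decreasing_by omega

lemma T_eq (r : ℕ) (h : MvPowerSeries (Fin 2) k) (u v : ℕ) :
    T r h u v = coeff (idx u v) h + if r + 1 ≤ u then T r h (u - (r + 1)) (v + 2) else 0 := by
  rw [T]
  split_ifs <;> rfl

lemma coeff_X1_sq_mul (φ : MvPowerSeries (Fin 2) k) (i j : ℕ) :
    coeff (idx i j) (X 1 ^ 2 * φ) = if 2 ≤ j then coeff (idx i (j - 2)) φ else 0 := by
  have e : (X 1 ^ 2 : MvPowerSeries (Fin 2) k) = monomial (idx 0 2) 1 := by
    have e' : Finsupp.single (1 : Fin 2) 2 = idx 0 2 := fin2_ext (by simp) (by simp)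
    rw [X_pow_eq, e']
  rw [e, coeff_monomial_mul, one_mul, idx_sub]
  simp only [idx_le, Nat.zero_le, true_and, Nat.sub_zero]

lemma coeff_X0_pow_mul (n : ℕ) (φ : MvPowerSeries (Fin 2) k) (i j : ℕ) :
    coeff (idx i j) (X 0 ^ n * φ) = if n ≤ i then coeff (idx (i - n) j) φ else 0 := by
  have e : (X 0 ^ n : MvPowerSeries (Fin 2) k) = monomial (idx n 0) 1 := by
    have e' : Finsupp.single (0 : Fin 2) n = idx n 0 := fin2_ext (by simp) (by simp)
    rw [X_pow_eq, e']
  rw [e, coeff_monomial_mul, one_mul, idx_sub]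
  simp only [idx_le, Nat.zero_le, and_true, Nat.sub_zero]

lemma coeff_nfform (a b : PowerSeries k) (u v : ℕ) :
    coeff (idx u v) (PowerSeries.toMvPowerSeries (σ := Fin 2) 0 a +
      PowerSeries.toMvPowerSeries (σ := Fin 2) 0 b * X 1) =
      if v = 0 then PowerSeries.coeff u a else if v = 1 then PowerSeries.coeff u b else 0 := by
  rw [map_add, mul_comm, coeff_X1_mul, coeff_toMv0, coeff_toMv0]
  rcases v with _ | _ | v
  · simp
  · simp
  · have h1 : ¬ (v + 1 + 1 = 0) := by omega
    have h2 : ¬ (v + 1 + 1 = 1) := by omega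
    have h3 : ¬ (v + 1 + 1 - 1 = 0) := by omega
    rw [if_neg h1, if_neg h2, if_neg h3]
    simp

lemma coeff_mul_eqn (r : ℕ) (q : MvPowerSeries (Fin 2) k) (u v : ℕ) :
    coeff (idx u v) (q * (X 1 ^ 2 - X 0 ^ (r + 1))) =
      (if 2 ≤ v then coeff (idx u (v - 2)) q else 0) -
        (if r + 1 ≤ u then coeff (idx (u - (r + 1)) v) q else 0) := by
  rw [mul_sub, map_sub, mul_comm q, mul_comm q, coeff_X1_sq_mul, coeff_X0_pow_mul]

/-- existence of the normal form -/
theorem nf_exists (r : ℕ) (h : MvPowerSeries (Fin 2) k) :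
    ∃ (a b : PowerSeries k) (q : MvPowerSeries (Fin 2) k),
      h = PowerSeries.toMvPowerSeries (σ := Fin 2) 0 a +
        PowerSeries.toMvPowerSeries (σ := Fin 2) 0 b * X 1 + q * (X 1 ^ 2 - X 0 ^ (r + 1)) := by
  let q : MvPowerSeries (Fin 2) k := fun d => T r h (d 0) (d 1 + 2)
  have hq : ∀ u v, coeff (idx u v) q = T r h u (v + 2) := by
    intro u v
    show q (idx u v) = _
    show T r h (idx u v 0) (idx u v 1 + 2) = _
    rw [idx_zero, idx_one]
  refine ⟨PowerSeries.mk fun u => T r h u 0, PowerSeries.mk fun u => T r h u 1, q, ?_⟩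
  ext d
  obtain ⟨u, v, rfl⟩ : ∃ u v, d = idx u v := ⟨d 0, d 1, eq_idx d⟩
  rw [map_add, coeff_nfform, coeff_mul_eqn, PowerSeries.coeff_mk, PowerSeries.coeff_mk]
  simp only [hq]
  rcases v with _ | _ | v
  · rw [if_pos rfl, if_neg (by omega)]
    rw [T_eq r h u 0]
    ring
  · rw [if_neg (by omega), if_pos rfl, if_neg (by omega)]
    rw [T_eq r h u 1]
    ring
  · rw [if_neg (by omega), if_neg (by omega), if_pos (by omega)]
    have e : v + 1 + 1 - 2 + 2 = v + 1 + 1 := by omega
    rw [e, T_eq r h u (v + 1 + 1)]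
    ring

/-- uniqueness of the normal form -/
theorem nf_unique (r : ℕ) (a b : PowerSeries k) (q : MvPowerSeries (Fin 2) k)
    (h : PowerSeries.toMvPowerSeries (σ := Fin 2) 0 a +
        PowerSeries.toMvPowerSeries (σ := Fin 2) 0 b * X 1 = q * (X 1 ^ 2 - X 0 ^ (r + 1))) :
    a = 0 ∧ b = 0 := by
  have hc : ∀ u v, (if v = 0 then PowerSeries.coeff u a else
      if v = 1 then PowerSeries.coeff u b else 0) =
      (if 2 ≤ v then coeff (idx u (v - 2)) q else 0) -
        (if r + 1 ≤ u then coeff (idx (u - (r + 1)) v) q else 0) := by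
    intro u v
    rw [← coeff_nfform, ← coeff_mul_eqn, h]
  have hq : ∀ u w, coeff (idx u w) q = 0 := by
    intro u
    induction u using Nat.strong_induction_on with
    | _ u ih =>
      intro w
      have h1 := hc u (w + 2)
      rw [if_neg (by omega), if_neg (by omega), if_pos (by omega)] at h1
      have e : w + 2 - 2 = w := by omega
      rw [e] at h1
      by_cases hu : r + 1 ≤ u
      · rw [if_pos hu, ih (u - (r + 1)) (by omega), sub_zero] at h1
        exact h1.symm
      · rw [if_neg hu, sub_zero] at h1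
        exact h1.symm
  constructor
  · ext u
    have h1 := hc u 0
    rw [if_pos rfl, if_neg (by omega)] at h1
    rw [h1, map_zero]
    split_ifs
    · rw [hq]; ring
    · ring
  · ext u
    have h1 := hc u 1
    rw [if_neg (by omega), if_pos rfl, if_neg (by omega)] at h1
    rw [h1, map_zero]
    split_ifs
    · rw [hq]; ring
    · ring

end series

section ring
variable (k : Type u) [Field k] (r : ℕ)

lemma eqn_eq : ArSing.eqn k r = X 1 ^ 2 - X 0 ^ (r + 1) := rfl

lemma xMap_apply (p : PowerSeries k) :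
    ArSing.xMap k r p = Ideal.Quotient.mk (Ideal.span {ArSing.eqn k r})
      (PowerSeries.toMvPowerSeries (σ := Fin 2) 0 p) := by
  unfold ArSing.xMap
  rw [AlgHom.comp_apply, Ideal.Quotient.mkₐ_eq_mk, PowerSeries.coe_substAlgHom,
    PowerSeries.toMvPowerSeries_eq_subst]

lemma xMap_X : ArSing.xMap k r PowerSeries.X = ArSing.x k r := by
  rw [xMap_apply, PowerSeries.toMvPowerSeries_X]

lemma xMap_C (c : k) : ArSing.xMap k r (PowerSeries.C c) = algebraMap k (ArSing.ring k r) c :=
  (ArSing.xMap k r).commutes c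

lemma y_sq : ArSing.y k r ^ 2 = ArSing.x k r ^ (r + 1) := by
  rw [← sub_eq_zero]
  show Ideal.Quotient.mk (Ideal.span {ArSing.eqn k r}) (X 1) ^ 2 -
    Ideal.Quotient.mk (Ideal.span {ArSing.eqn k r}) (X 0) ^ (r + 1) = 0
  rw [← map_pow, ← map_pow, ← map_sub, Ideal.Quotient.eq_zero_iff_mem]
  exact Ideal.subset_span rfl

theorem exists_nf (z : ArSing.ring k r) :
    ∃ a b : PowerSeries k, z = ArSing.xMap k r a + ArSing.xMap k r b * ArSing.y k r := by
  obtain ⟨h, rfl⟩ := Ideal.Quotient.mk_surjective z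
  obtain ⟨a, b, q, hq⟩ := nf_exists r h
  refine ⟨a, b, ?_⟩
  rw [xMap_apply, xMap_apply]
  show _ = Ideal.Quotient.mk (Ideal.span {ArSing.eqn k r}) _ +
    Ideal.Quotient.mk (Ideal.span {ArSing.eqn k r}) _ *
      Ideal.Quotient.mk (Ideal.span {ArSing.eqn k r}) (X 1)
  rw [← map_mul, ← map_add, ← sub_eq_zero, ← map_sub, Ideal.Quotient.eq_zero_iff_mem,
    Ideal.mem_span_singleton']
  refine ⟨q, ?_⟩
  rw [eqn_eq, hq]
  ring

theorem nf_zero (a b : PowerSeries k)
    (h : ArSing.xMap k r a + ArSing.xMap k r b * ArSing.y k r = 0) : a = 0 ∧ b = 0 := by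
  rw [xMap_apply, xMap_apply] at h
  change Ideal.Quotient.mk (Ideal.span {ArSing.eqn k r}) _ +
    Ideal.Quotient.mk (Ideal.span {ArSing.eqn k r}) _ *
      Ideal.Quotient.mk (Ideal.span {ArSing.eqn k r}) (X 1) = 0 at h
  rw [← map_mul, ← map_add, Ideal.Quotient.eq_zero_iff_mem, Ideal.mem_span_singleton'] at h
  obtain ⟨q, hq⟩ := h
  exact nf_unique r a b q hq.symm

/-- the normal form map `(a, b) ↦ a(x) + b(x) y` -/
noncomputable def nfMap : (PowerSeries k × PowerSeries k) →ₗ[k] ArSing.ring k r where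
  toFun p := ArSing.xMap k r p.1 + ArSing.xMap k r p.2 * ArSing.y k r
  map_add' := by
    intro p q
    simp only [Prod.fst_add, Prod.snd_add, map_add]
    ring
  map_smul' := by
    intro c p
    simp only [Prod.smul_fst, Prod.smul_snd, map_smul, RingHom.id_apply, smul_add,
      smul_mul_assoc]

lemma nfMap_apply (p : PowerSeries k × PowerSeries k) :
    nfMap k r p = ArSing.xMap k r p.1 + ArSing.xMap k r p.2 * ArSing.y k r := rfl

lemma nfMap_bijective : Function.Bijective (nfMap k r) := by
  constructor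
  · rw [injective_iff_map_eq_zero]
    rintro ⟨a, b⟩ h
    obtain ⟨rfl, rfl⟩ := nf_zero k r a b h
    rfl
  · intro z
    obtain ⟨a, b, rfl⟩ := exists_nf k r z
    exact ⟨(a, b), rfl⟩

noncomputable def nfEquiv : (PowerSeries k × PowerSeries k) ≃ₗ[k] ArSing.ring k r :=
  LinearEquiv.ofBijective (nfMap k r) (nfMap_bijective k r)

/-- the `1`-coordinate of the normal form -/
noncomputable def cA : ArSing.ring k r →ₗ[k] PowerSeries k :=
  (LinearMap.fst k _ _).comp (nfEquiv k r).symm.toLinearMap

/-- the `y`-coordinate of the normal form -/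
noncomputable def cB : ArSing.ring k r →ₗ[k] PowerSeries k :=
  (LinearMap.snd k _ _).comp (nfEquiv k r).symm.toLinearMap

lemma eq_nf (z : ArSing.ring k r) :
    z = ArSing.xMap k r (cA k r z) + ArSing.xMap k r (cB k r z) * ArSing.y k r := by
  have h := (nfEquiv k r).apply_symm_apply z
  conv_lhs => rw [← h]
  rfl

lemma cA_nf (a b : PowerSeries k) :
    cA k r (ArSing.xMap k r a + ArSing.xMap k r b * ArSing.y k r) = a := by
  have h : (nfEquiv k r).symm (nfEquiv k r (a, b)) = (a, b) := (nfEquiv k r).symm_apply_apply _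
  exact congrArg Prod.fst h

lemma cB_nf (a b : PowerSeries k) :
    cB k r (ArSing.xMap k r a + ArSing.xMap k r b * ArSing.y k r) = b := by
  have h : (nfEquiv k r).symm (nfEquiv k r (a, b)) = (a, b) := (nfEquiv k r).symm_apply_apply _
  exact congrArg Prod.snd h

lemma ext_nf {z w : ArSing.ring k r} (hA : cA k r z = cA k r w) (hB : cB k r z = cB k r w) :
    z = w := by
  rw [eq_nf k r z, eq_nf k r w, hA, hB]

lemma cA_xMap (a : PowerSeries k) : cA k r (ArSing.xMap k r a) = a := by
  have h := cA_nf k r a 0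
  rwa [map_zero, zero_mul, add_zero] at h

lemma cB_xMap (a : PowerSeries k) : cB k r (ArSing.xMap k r a) = 0 := by
  have h := cB_nf k r a 0
  rwa [map_zero, zero_mul, add_zero] at h

lemma xMap_injective : Function.Injective (ArSing.xMap k r) := by
  intro a b h
  rw [← cA_xMap k r a, h, cA_xMap]

lemma cA_xMap_mul (p : PowerSeries k) (z : ArSing.ring k r) :
    cA k r (ArSing.xMap k r p * z) = p * cA k r z := by
  conv_lhs => rw [eq_nf k r z]
  rw [mul_add, ← mul_assoc, ← map_mul, ← map_mul, cA_nf]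

lemma cB_xMap_mul (p : PowerSeries k) (z : ArSing.ring k r) :
    cB k r (ArSing.xMap k r p * z) = p * cB k r z := by
  conv_lhs => rw [eq_nf k r z]
  rw [mul_add, ← mul_assoc, ← map_mul, ← map_mul, cB_nf]

lemma cA_x_mul (z : ArSing.ring k r) :
    cA k r (ArSing.x k r * z) = PowerSeries.X * cA k r z := by
  rw [← xMap_X, cA_xMap_mul]

lemma cB_x_mul (z : ArSing.ring k r) :
    cB k r (ArSing.x k r * z) = PowerSeries.X * cB k r z := by
  rw [← xMap_X, cB_xMap_mul]

lemma y_mul_nf (a b : PowerSeries k) :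
    ArSing.y k r * (ArSing.xMap k r a + ArSing.xMap k r b * ArSing.y k r) =
      ArSing.xMap k r (PowerSeries.X ^ (r + 1) * b) + ArSing.xMap k r a * ArSing.y k r := by
  rw [map_mul, map_pow, xMap_X, ← y_sq]
  ring

lemma cA_y_mul (z : ArSing.ring k r) :
    cA k r (ArSing.y k r * z) = PowerSeries.X ^ (r + 1) * cB k r z := by
  conv_lhs => rw [eq_nf k r z]
  rw [y_mul_nf, cA_nf]

lemma cB_y_mul (z : ArSing.ring k r) :
    cB k r (ArSing.y k r * z) = cA k r z := by
  conv_lhs => rw [eq_nf k r z]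
  rw [y_mul_nf, cB_nf]

lemma cA_x : cA k r (ArSing.x k r) = PowerSeries.X := by
  rw [← xMap_X, cA_xMap]

lemma cB_x : cB k r (ArSing.x k r) = 0 := by
  rw [← xMap_X, cB_xMap]

lemma cA_y : cA k r (ArSing.y k r) = 0 := by
  have h := cA_nf k r 0 1
  rwa [map_zero, zero_add, map_one, one_mul] at h

lemma cB_y : cB k r (ArSing.y k r) = 1 := by
  have h := cB_nf k r 0 1
  rwa [map_zero, zero_add, map_one, one_mul] at h

/-- the augmentation -/
noncomputable def eps : ArSing.ring k r →+* k :=
  Ideal.Quotient.lift _ (constantCoeff (σ := Fin 2) (R := k)) (by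
    intro a ha
    rw [Ideal.mem_span_singleton'] at ha
    obtain ⟨c, rfl⟩ := ha
    rw [map_mul, eqn_eq, map_sub, map_pow, map_pow, constantCoeff_X, constantCoeff_X]
    simp)

lemma eps_mk (h : MvPowerSeries (Fin 2) k) :
    eps k r (Ideal.Quotient.mk _ h) = constantCoeff h := rfl

lemma eps_xMap (a : PowerSeries k) : eps k r (ArSing.xMap k r a) = PowerSeries.constantCoeff a := by
  rw [xMap_apply, eps_mk, ← coeff_zero_eq_constantCoeff_apply, ← idx_zero_zero, coeff_toMv0,
    if_pos rfl, PowerSeries.coeff_zero_eq_constantCoeff_apply]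

lemma eps_x : eps k r (ArSing.x k r) = 0 := by
  show eps k r (Ideal.Quotient.mk _ (X 0)) = 0
  rw [eps_mk, constantCoeff_X]

lemma eps_y : eps k r (ArSing.y k r) = 0 := by
  show eps k r (Ideal.Quotient.mk _ (X 1)) = 0
  rw [eps_mk, constantCoeff_X]

lemma eps_eq (z : ArSing.ring k r) : eps k r z = PowerSeries.constantCoeff (cA k r z) := by
  conv_lhs => rw [eq_nf k r z]
  rw [map_add, map_mul, eps_y, mul_zero, add_zero, eps_xMap]

lemma eps_algebraMap (c : k) : eps k r (algebraMap k (ArSing.ring k r) c) = c := by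
  rw [← xMap_C, eps_xMap, PowerSeries.constantCoeff_C]

lemma eps_surjective : Function.Surjective (eps k r) := fun c => ⟨_, eps_algebraMap k r c⟩

instance : Nontrivial (ArSing.ring k r) := (eps k r).domain_nontrivial

instance : IsLocalRing (ArSing.ring k r) :=
  IsLocalRing.of_surjective' (Ideal.Quotient.mk (Ideal.span {ArSing.eqn k r}))
    Ideal.Quotient.mk_surjective

lemma mem_maximalIdeal_iff (z : ArSing.ring k r) :
    z ∈ IsLocalRing.maximalIdeal (ArSing.ring k r) ↔ eps k r z = 0 := by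
  have h1 : IsLocalRing.maximalIdeal (ArSing.ring k r) = RingHom.ker (eps k r) := by
    symm
    apply IsLocalRing.eq_maximalIdeal
    exact RingHom.ker_isMaximal_of_surjective _ (eps_surjective k r)
  rw [h1, RingHom.mem_ker]

lemma hres (b : ArSing.ring k r) :
    ∃ c : k, b - algebraMap k (ArSing.ring k r) c ∈ IsLocalRing.maximalIdeal (ArSing.ring k r) := by
  refine ⟨eps k r b, ?_⟩
  rw [mem_maximalIdeal_iff, map_sub, eps_algebraMap, sub_self]

end ring

section sep
variable (k : Type u) [Field k] (r : ℕ)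

lemma cA_x_pow_mul (N : ℕ) (z : ArSing.ring k r) :
    cA k r (ArSing.x k r ^ N * z) = PowerSeries.X ^ N * cA k r z := by
  rw [← xMap_X, ← map_pow, cA_xMap_mul]

lemma cB_x_pow_mul (N : ℕ) (z : ArSing.ring k r) :
    cB k r (ArSing.x k r ^ N * z) = PowerSeries.X ^ N * cB k r z := by
  rw [← xMap_X, ← map_pow, cB_xMap_mul]

/-- `x`-adic separatedness -/
lemma inter_x_pow (z : ArSing.ring k r) (h : ∀ N, z ∈ Ideal.span {ArSing.x k r ^ N}) : z = 0 := by
  have hA : cA k r z = 0 := by
    ext n
    obtain ⟨w, hw⟩ := Ideal.mem_span_singleton'.mp (h (n + 1))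
    rw [← hw, mul_comm, cA_x_pow_mul, PowerSeries.coeff_X_pow_mul', if_neg (by omega), map_zero]
  have hB : cB k r z = 0 := by
    ext n
    obtain ⟨w, hw⟩ := Ideal.mem_span_singleton'.mp (h (n + 1))
    rw [← hw, mul_comm, cB_x_pow_mul, PowerSeries.coeff_X_pow_mul', if_neg (by omega), map_zero]
  apply ext_nf k r
  · rw [hA, map_zero]
  · rw [hB, map_zero]

/-- two `k`-algebra maps `k[[t]] → A_r` agreeing at `t` with value in `(x)` are equal -/
theorem algHom_ext_X (F G : PowerSeries k →ₐ[k] ArSing.ring k r)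
    (hX : F PowerSeries.X = G PowerSeries.X)
    (hF : F PowerSeries.X ∈ Ideal.span {ArSing.x k r}) : F = G := by
  have key : ∀ N : ℕ, ∀ p : PowerSeries k, F p - G p ∈ Ideal.span {ArSing.x k r ^ N} := by
    intro N
    induction N with
    | zero =>
      intro p
      rw [pow_zero, Ideal.span_singleton_one]
      trivial
    | succ N ih =>
      intro p
      have hp := PowerSeries.eq_X_mul_shift_add_const p
      set p' := PowerSeries.mk fun i => PowerSeries.coeff (i + 1) p with hp'
      have e : F p - G p = F PowerSeries.X * (F p' - G p') := by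
        rw [hp, map_add, map_add, map_mul, map_mul, hX]
        have hc : F (PowerSeries.C (PowerSeries.constantCoeff p)) =
            G (PowerSeries.C (PowerSeries.constantCoeff p)) := by
          rw [show PowerSeries.C (PowerSeries.constantCoeff p) =
            algebraMap k (PowerSeries k) (PowerSeries.constantCoeff p) from rfl,
            F.commutes, G.commutes]
        rw [hc]
        ring
      rw [e]
      obtain ⟨w, hw⟩ := Ideal.mem_span_singleton'.mp hF
      obtain ⟨w', hw'⟩ := Ideal.mem_span_singleton'.mp (ih p')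
      rw [Ideal.mem_span_singleton']
      refine ⟨w * w', ?_⟩
      rw [← hw, ← hw']
      ring
  apply AlgHom.ext
  intro p
  rw [← sub_eq_zero]
  exact inter_x_pow k r _ fun N => key N p

/-- length of a quotient computed through a surjective `k`-linear functional presentation -/
theorem length_quot_eq (J : Ideal (ArSing.ring k r)) (n : ℕ)
    (f : ArSing.ring k r →ₗ[k] (Fin n → k)) (hf : Function.Surjective f)
    (hker : ∀ z, f z = 0 ↔ z ∈ J) :
    Module.length (ArSing.ring k r) (ArSing.ring k r ⧸ J) = n := by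
  rw [Groth.Agent.Lib.Helper9.LenRes.length_eq (R := k) (A := ArSing.ring k r)
    (M := ArSing.ring k r ⧸ J) (hres k r)]
  have e1 := Submodule.Quotient.restrictScalarsEquiv k J
  have hJ : J.restrictScalars k = LinearMap.ker f := by
    ext z
    rw [LinearMap.mem_ker, hker]
    rfl
  have e2 := Submodule.quotEquivOfEq _ _ hJ
  have e3 := f.quotKerEquivOfSurjective hf
  rw [← e1.length_eq, e2.length_eq, e3.length_eq, Module.length_eq_finrank, Module.finrank_fin_fun]

end sep

end Groth.Agent.Lib.Helper9.ArNF
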