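import Mathlib
import Groth.Prelude.Def_W4c1arstab1appArSing
import Groth.Agent.Lib.Helper9.ArNF

set_option autoImplicit false
universe u

namespace Groth.Agent.Lib.Helper9.ArNF2

open Groth.Agent.Lib.Helper9.ArNF

section ps
variable {k : Type u} [Field k]

/-- `a(t) ↦ a(-t)` as an algebra map -/
noncomputable def negHom (k : Type u) [Field k] : PowerSeries k →ₐ[k] PowerSeries k :=
  { PowerSeries.rescale (-1 : k) with
    commutes' := fun c => by
      show PowerSeries.rescale (-1 : k) (PowerSeries.C c) = PowerSeries.C c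
      ext n
      rw [PowerSeries.coeff_rescale, PowerSeries.coeff_C]
      split_ifs with h
      · subst h; simp
      · simp }

lemma coeff_negHom (a : PowerSeries k) (n : ℕ) :
    PowerSeries.coeff n (negHom k a) = (-1) ^ n * PowerSeries.coeff n a :=
  PowerSeries.coeff_rescale a (-1) n

lemma negHom_X : negHom k (PowerSeries.X : PowerSeries k) = -PowerSeries.X :=
  PowerSeries.rescale_neg_one_X

lemma constantCoeff_negHom (a : PowerSeries k) :
    PowerSeries.constantCoeff (negHom k a) = PowerSeries.constantCoeff a := by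
  rw [← PowerSeries.coeff_zero_eq_constantCoeff_apply, coeff_negHom, pow_zero, one_mul,
    PowerSeries.coeff_zero_eq_constantCoeff_apply]

/-- `a(t) ↦ a(t^2)` -/
noncomputable def sqHom (k : Type u) [Field k] : PowerSeries k →ₐ[k] PowerSeries k :=
  PowerSeries.expand 2 two_ne_zero

lemma coeff_sqHom (a : PowerSeries k) (n : ℕ) :
    PowerSeries.coeff n (sqHom k a) = if 2 ∣ n then PowerSeries.coeff (n / 2) a else 0 :=
  PowerSeries.coeff_expand 2 two_ne_zero a

lemma coeff_sqHom_even (a : PowerSeries k) (n : ℕ) :
    PowerSeries.coeff (2 * n) (sqHom k a) = PowerSeries.coeff n a := by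
  rw [coeff_sqHom, if_pos (dvd_mul_right 2 n), Nat.mul_div_cancel_left n (by norm_num)]

lemma coeff_sqHom_odd (a : PowerSeries k) (n : ℕ) :
    PowerSeries.coeff (2 * n + 1) (sqHom k a) = 0 := by
  rw [coeff_sqHom, if_neg (by omega)]

lemma sqHom_X : sqHom k (PowerSeries.X : PowerSeries k) = PowerSeries.X ^ 2 :=
  PowerSeries.expand_X 2 two_ne_zero

lemma constantCoeff_sqHom (a : PowerSeries k) :
    PowerSeries.constantCoeff (sqHom k a) = PowerSeries.constantCoeff a :=
  PowerSeries.constantCoeff_expand 2 two_ne_zero a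

lemma sqHom_injective : Function.Injective (sqHom k) := by
  intro a b h
  ext n
  rw [← coeff_sqHom_even a n, h, coeff_sqHom_even]

/-- even part -/
noncomputable def ev (a : PowerSeries k) : PowerSeries k :=
  PowerSeries.mk fun n => PowerSeries.coeff (2 * n) a

/-- odd part -/
noncomputable def od (a : PowerSeries k) : PowerSeries k :=
  PowerSeries.mk fun n => PowerSeries.coeff (2 * n + 1) a

lemma coeff_comb (p q : PowerSeries k) (n : ℕ) :
    PowerSeries.coeff n (sqHom k p + PowerSeries.X * sqHom k q) =
      if 2 ∣ n then PowerSeries.coeff (n / 2) p else PowerSeries.coeff (n / 2) q := by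
  rw [map_add]
  rcases Nat.even_or_odd' n with ⟨j, rfl | rfl⟩
  · rw [coeff_sqHom_even, if_pos (dvd_mul_right 2 j), Nat.mul_div_cancel_left j (by norm_num)]
    rcases j with _ | j
    · rw [mul_zero, PowerSeries.coeff_zero_X_mul, add_zero]
    · rw [show 2 * (j + 1) = (2 * j + 1) + 1 by ring, PowerSeries.coeff_succ_X_mul,
        coeff_sqHom_odd, add_zero]
  · rw [coeff_sqHom_odd, zero_add, PowerSeries.coeff_succ_X_mul, coeff_sqHom_even,
      if_neg (by omega)]
    congr 2
    omega

lemma decomp (a : PowerSeries k) : a = sqHom k (ev a) + PowerSeries.X * sqHom k (od a) := by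
  ext n
  rw [coeff_comb]
  rcases Nat.even_or_odd' n with ⟨j, rfl | rfl⟩
  · rw [if_pos (dvd_mul_right 2 j), Nat.mul_div_cancel_left j (by norm_num), ev,
      PowerSeries.coeff_mk]
  · rw [if_neg (by omega), od, PowerSeries.coeff_mk]
    congr 2
    omega

lemma ev_comb (p q : PowerSeries k) : ev (sqHom k p + PowerSeries.X * sqHom k q) = p := by
  ext n
  rw [ev, PowerSeries.coeff_mk, coeff_comb, if_pos (dvd_mul_right 2 n),
    Nat.mul_div_cancel_left n (by norm_num)]

lemma od_comb (p q : PowerSeries k) : od (sqHom k p + PowerSeries.X * sqHom k q) = q := by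
  ext n
  rw [od, PowerSeries.coeff_mk, coeff_comb, if_neg (by omega)]
  congr 2
  omega

lemma comb_eq_zero {p q : PowerSeries k} (h : sqHom k p + PowerSeries.X * sqHom k q = 0) :
    p = 0 ∧ q = 0 := by
  constructor
  · rw [← ev_comb p q, h]
    ext n
    simp [ev]
  · rw [← od_comb p q, h]
    ext n
    simp [od]

/-- `a(-t) = a(t)` iff `a` is even -/
lemma negHom_eq_self_iff (h2 : (2 : k) ≠ 0) (a : PowerSeries k) :
    negHom k a = a ↔ a = sqHom k (ev a) := by
  constructor
  · intro h
    have hod : od a = 0 := by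
      ext n
      rw [od, PowerSeries.coeff_mk, map_zero]
      have h1 := congrArg (PowerSeries.coeff (2 * n + 1)) h
      rw [coeff_negHom, pow_succ, pow_mul] at h1
      simp only [neg_one_sq, one_pow, one_mul, neg_mul] at h1
      have h3 : (2 : k) * PowerSeries.coeff (2 * n + 1) a = 0 := by
        rw [two_mul]
        nth_rewrite 1 [← h1]
        exact neg_add_cancel _
      rcases mul_eq_zero.mp h3 with h | h
      · exact absurd h h2
      · exact h
    conv_lhs => rw [decomp a, hod, map_zero, mul_zero, add_zero]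
  · intro h
    rw [h]
    ext n
    rw [coeff_negHom, coeff_sqHom]
    split_ifs with hn
    · obtain ⟨j, rfl⟩ := hn
      rw [pow_mul]
      simp
    · simp

/-- `-a(-t) = a(t)` iff `a` is odd -/
lemma neg_negHom_eq_self_iff (h2 : (2 : k) ≠ 0) (a : PowerSeries k) :
    -negHom k a = a ↔ a = PowerSeries.X * sqHom k (od a) := by
  constructor
  · intro h
    have hev : ev a = 0 := by
      ext n
      rw [ev, PowerSeries.coeff_mk, map_zero]
      have h1 := congrArg (PowerSeries.coeff (2 * n)) h
      rw [map_neg, coeff_negHom, pow_mul] at h1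
      simp only [neg_one_sq, one_pow, one_mul] at h1
      have h3 : (2 : k) * PowerSeries.coeff (2 * n) a = 0 := by
        rw [two_mul]
        nth_rewrite 1 [← h1]
        exact neg_add_cancel _
      rcases mul_eq_zero.mp h3 with h | h
      · exact absurd h h2
      · exact h
    conv_lhs => rw [decomp a, hev, map_zero, zero_add]
  · intro h
    rw [h]
    ext n
    rw [map_neg, coeff_negHom]
    rcases n with _ | n
    · simp
    · rw [PowerSeries.coeff_succ_X_mul, coeff_sqHom]
      split_ifs with hn
      · obtain ⟨j, rfl⟩ := hn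
        rw [pow_succ, pow_mul]
        simp
      · simp

end ps

section ring
variable (k : Type u) [Field k] (r : ℕ)

lemma xMap_mem_span_x {a : PowerSeries k} (ha : PowerSeries.constantCoeff a = 0) :
    ArSing.xMap k r a ∈ Ideal.span {ArSing.x k r} := by
  obtain ⟨q, rfl⟩ := PowerSeries.X_dvd_iff.mpr ha
  rw [map_mul, xMap_X]
  exact Ideal.mul_mem_right _ _ (Ideal.subset_span rfl)

/-- a `k`-algebra map between `A_r`'s acts on `k[[x]]` through a substitution -/
theorem algHom_xMap {r' : ℕ} (f : ArSing.ring k r →ₐ[k] ArSing.ring k r')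
    (S : PowerSeries k →ₐ[k] PowerSeries k)
    (h : f (ArSing.x k r) = ArSing.xMap k r' (S PowerSeries.X))
    (hS : PowerSeries.constantCoeff (S PowerSeries.X) = 0) (a : PowerSeries k) :
    f (ArSing.xMap k r a) = ArSing.xMap k r' (S a) := by
  have h1 := algHom_ext_X k r' (f.comp (ArSing.xMap k r)) ((ArSing.xMap k r').comp S)
    (by rw [AlgHom.comp_apply, AlgHom.comp_apply, xMap_X, h])
    (by
      rw [AlgHom.comp_apply, xMap_X, h]
      exact xMap_mem_span_x k r' hS)
  exact DFunLike.congr_fun h1 a

/-- product formula in normal form -/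
lemma cA_mul (z w : ArSing.ring k r) :
    cA k r (z * w) = cA k r z * cA k r w + PowerSeries.X ^ (r + 1) * (cB k r z * cB k r w) := by
  have e : z * w = ArSing.xMap k r (cA k r z * cA k r w +
      PowerSeries.X ^ (r + 1) * (cB k r z * cB k r w)) +
      ArSing.xMap k r (cA k r z * cB k r w + cB k r z * cA k r w) * ArSing.y k r := by
    have e1 := eq_nf k r z
    have e2 := eq_nf k r w
    generalize cA k r z = a at e1
    generalize cB k r z = b at e1
    generalize cA k r w = c at e2
    generalize cB k r w = d at e2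
    rw [e1, e2]
    simp only [map_add, map_mul, map_pow, xMap_X, ← y_sq]
    ring
  rw [e, cA_nf]

lemma cB_mul (z w : ArSing.ring k r) :
    cB k r (z * w) = cA k r z * cB k r w + cB k r z * cA k r w := by
  have e : z * w = ArSing.xMap k r (cA k r z * cA k r w +
      PowerSeries.X ^ (r + 1) * (cB k r z * cB k r w)) +
      ArSing.xMap k r (cA k r z * cB k r w + cB k r z * cA k r w) * ArSing.y k r := by
    have e1 := eq_nf k r z
    have e2 := eq_nf k r w
    generalize cA k r z = a at e1
    generalize cB k r z = b at e1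
    generalize cA k r w = c at e2
    generalize cB k r w = d at e2
    rw [e1, e2]
    simp only [map_add, map_mul, map_pow, xMap_X, ← y_sq]
    ring
  rw [e, cB_nf]

lemma x_mem_nzd : ArSing.x k r ∈ nonZeroDivisors (ArSing.ring k r) := by
  rw [mem_nonZeroDivisors_iff_left]
  intro z hz
  have hA : cA k r (ArSing.x k r * z) = 0 := by rw [hz, map_zero]
  have hB : cB k r (ArSing.x k r * z) = 0 := by rw [hz, map_zero]
  rw [cA_x_mul] at hA
  rw [cB_x_mul] at hB
  have hA' : cA k r z = 0 := by
    rcases mul_eq_zero.mp hA with h | h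
    · exact absurd h PowerSeries.X_ne_zero
    · exact h
  have hB' : cB k r z = 0 := by
    rcases mul_eq_zero.mp hB with h | h
    · exact absurd h PowerSeries.X_ne_zero
    · exact h
  apply ext_nf k r
  · rw [hA', map_zero]
  · rw [hB', map_zero]

lemma y_mem_nzd : ArSing.y k r ∈ nonZeroDivisors (ArSing.ring k r) := by
  rw [mem_nonZeroDivisors_iff_left]
  intro z hz
  have hA : cA k r (ArSing.y k r * z) = 0 := by rw [hz, map_zero]
  have hB : cB k r (ArSing.y k r * z) = 0 := by rw [hz, map_zero]
  rw [cA_y_mul] at hA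
  rw [cB_y_mul] at hB
  have hB' : cB k r z = 0 := by
    rcases mul_eq_zero.mp hA with h | h
    · exact absurd h (pow_ne_zero _ PowerSeries.X_ne_zero)
    · exact h
  apply ext_nf k r
  · rw [hB, map_zero]
  · rw [hB', map_zero]

/-- elements of the augmentation ideal lie in `(x, y)` -/
lemma exists_of_eps_eq_zero (z : ArSing.ring k r) (hz : eps k r z = 0) :
    ∃ p : PowerSeries k, z = ArSing.x k r * ArSing.xMap k r p +
      ArSing.xMap k r (cB k r z) * ArSing.y k r := by
  rw [eps_eq] at hz
  obtain ⟨p, hp⟩ := PowerSeries.X_dvd_iff.mpr hz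
  refine ⟨p, ?_⟩
  conv_lhs => rw [eq_nf k r z, hp, map_mul, xMap_X]

end ring

end Groth.Agent.Lib.Helper9.ArNF2
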