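import Mathlib
import Groth.Prelude.Def_HopfRep
import Groth.Prelude.Def_Hoch

/-!
Helper library on comodules (`HopfRep.Comod`): slice maps `id ⊗ f`, the criterion
"`x ∈ W ⊗ C` iff all slices of `x` lie in `W`" (for `C` free), the finiteness theorem for
comodules over a field, and kernels of comodule maps.
-/

set_option autoImplicit false

namespace Groth.Agent.Helper9

open TensorProduct

universe u v w w'

section Slice

variable {k : Type u} [CommRing k] {C : Type v} [AddCommGroup C] [Module k C]
variable {V : Type w} [AddCommGroup V] [Module k V]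

/-- `(id ⊗ f) : V ⊗ C → V`. -/
noncomputable def slice (f : C →ₗ[k] k) : V ⊗[k] C →ₗ[k] V :=
  (TensorProduct.rid k V).toLinearMap ∘ₗ LinearMap.lTensor V f

@[simp] lemma slice_tmul (f : C →ₗ[k] k) (v : V) (c : C) :
    slice f (v ⊗ₜ[k] c) = f c • v := by
  simp [slice]

lemma slice_add (f g : C →ₗ[k] k) (x : V ⊗[k] C) :
    slice (f + g) x = slice f x + slice g x := by
  simp [slice, LinearMap.lTensor_add]

lemma slice_smul (a : k) (f : C →ₗ[k] k) (x : V ⊗[k] C) :
    slice (a • f) x = a • slice f x := by
  simp [slice, LinearMap.lTensor_smul]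

/-- `f ↦ (id ⊗ f) x` as a linear map on the dual of `C`. -/
noncomputable def sliceMap (x : V ⊗[k] C) : (C →ₗ[k] k) →ₗ[k] V where
  toFun f := slice f x
  map_add' f g := slice_add f g x
  map_smul' a f := slice_smul a f x

@[simp] lemma sliceMap_apply (x : V ⊗[k] C) (f : C →ₗ[k] k) : sliceMap x f = slice f x := rfl

lemma slice_rTensor {V' : Type w'} [AddCommGroup V'] [Module k V'] (g : V →ₗ[k] V')
    (f : C →ₗ[k] k) (x : V ⊗[k] C) :
    slice f (g.rTensor C x) = g (slice f x) := by
  induction x using TensorProduct.induction_on with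
  | zero => simp
  | tmul v c => simp
  | add x y hx hy => simp [hx, hy]

lemma eq_zero_of_slice_eq_zero [Module.Free k C] (x : V ⊗[k] C)
    (h : ∀ f : C →ₗ[k] k, slice f x = 0) : x = 0 := by
  classical
  let b := Module.Free.chooseBasis k C
  apply (TensorProduct.equivFinsuppOfBasisRight b).injective
  ext i
  rw [TensorProduct.equivFinsuppOfBasisRight_apply]
  simpa [slice] using h (b.coord i)

/-- If `C` is free and every slice `(id ⊗ f) x` lies in `W`, then `x ∈ W ⊗ C`. -/
lemma mem_range_rTensor_subtype_of_slice_mem [Module.Free k C] (W : Submodule k V)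
    (x : V ⊗[k] C) (h : ∀ f : C →ₗ[k] k, slice f x ∈ W) :
    x ∈ LinearMap.range (W.subtype.rTensor C) := by
  rw [← rTensor_mkQ, LinearMap.mem_ker]
  apply eq_zero_of_slice_eq_zero
  intro f
  rw [slice_rTensor]
  simpa using h f

lemma slice_mem_of_mem_range_rTensor_subtype (W : Submodule k V)
    (x : V ⊗[k] C) (hx : x ∈ LinearMap.range (W.subtype.rTensor C)) (f : C →ₗ[k] k) :
    slice f x ∈ W := by
  obtain ⟨y, rfl⟩ := hx
  rw [slice_rTensor]
  exact (slice f y).2

/-- The range of `sliceMap x` is contained in a finitely generated submodule. -/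
lemma exists_fg_range_sliceMap_le (x : V ⊗[k] C) :
    ∃ N : Submodule k V, N.FG ∧ LinearMap.range (sliceMap x) ≤ N := by
  induction x using TensorProduct.induction_on with
  | zero =>
    refine ⟨⊥, Submodule.fg_bot, ?_⟩
    rintro _ ⟨f, rfl⟩
    simp
  | tmul v c =>
    refine ⟨Submodule.span k {v}, Submodule.fg_span_singleton v, ?_⟩
    rintro _ ⟨f, rfl⟩
    simp only [sliceMap_apply, slice_tmul]
    exact Submodule.smul_mem _ _ (Submodule.mem_span_singleton_self v)
  | add x y hx hy =>
    obtain ⟨N₁, h₁, h₁'⟩ := hx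
    obtain ⟨N₂, h₂, h₂'⟩ := hy
    refine ⟨N₁ ⊔ N₂, h₁.sup h₂, ?_⟩
    rintro _ ⟨f, rfl⟩
    simp only [sliceMap_apply, map_add]
    exact Submodule.add_mem_sup (h₁' ⟨f, rfl⟩) (h₂' ⟨f, rfl⟩)

lemma slice_assoc_tmul (g f : C →ₗ[k] k) (a : C) (y : V ⊗[k] C) :
    f a • slice g y =
      slice (LinearMap.mul' k k ∘ₗ TensorProduct.map g f)
        ((TensorProduct.assoc k V C C) (y ⊗ₜ[k] a)) := by
  induction y using TensorProduct.induction_on with
  | zero => simp
  | tmul u a' =>
    simp only [slice_tmul, TensorProduct.assoc_tmul, LinearMap.comp_apply,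
      TensorProduct.map_tmul, LinearMap.mul'_apply]
    rw [smul_smul, mul_comm]
  | add x y hx hy =>
    simp only [map_add, smul_add, TensorProduct.add_tmul, hx, hy]

end Slice

section Comod

variable {k : Type u} [CommRing k] {C : Type v} [AddCommGroup C] [Module k C] [Coalgebra k C]
variable {V : Type w} [AddCommGroup V] [Module k V] [HopfRep.Comod k C V]

/-- `(g ⊗ f) ∘ Δ`, the convolution of two functionals. -/
noncomputable def conv (g f : C →ₗ[k] k) : C →ₗ[k] k :=
  LinearMap.mul' k k ∘ₗ TensorProduct.map g f ∘ₗ Coalgebra.comul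

lemma slice_coact_slice_aux (g f : C →ₗ[k] k) (z : V ⊗[k] C) :
    slice g (HopfRep.Comod.coact (k := k) (A := C) (slice f z)) =
      slice (LinearMap.mul' k k ∘ₗ TensorProduct.map g f)
        ((TensorProduct.assoc k V C C)
          ((HopfRep.Comod.coact (k := k) (A := C) (V := V)).rTensor C z)) := by
  induction z using TensorProduct.induction_on with
  | zero => simp
  | tmul u a =>
    simp only [slice_tmul, LinearMap.rTensor_tmul, map_smul]
    rw [← slice_assoc_tmul]
  | add x y hx hy =>
    simp only [map_add, hx, hy]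

/-- `ρ(g) ∘ ρ(f) = ρ(g ⋆ f)` on vectors. -/
lemma slice_coact_slice (g f : C →ₗ[k] k) (v : V) :
    slice g (HopfRep.Comod.coact (k := k) (A := C)
      (slice f (HopfRep.Comod.coact (k := k) (A := C) v))) =
      slice (conv g f) (HopfRep.Comod.coact (k := k) (A := C) v) := by
  have hco := LinearMap.congr_fun (HopfRep.Comod.coassoc (k := k) (A := C) (V := V)) v
  simp only [LinearMap.comp_apply, LinearEquiv.coe_coe] at hco
  rw [slice_coact_slice_aux, hco]
  simp only [slice, conv, LinearMap.comp_apply, LinearEquiv.coe_coe]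
  rw [← LinearMap.comp_apply (LinearMap.lTensor V _) (LinearMap.lTensor V _),
    ← LinearMap.lTensor_comp]
  rfl

lemma slice_counit_coact (v : V) :
    slice (Coalgebra.counit (R := k) (A := C)) (HopfRep.Comod.coact (k := k) (A := C) v) = v := by
  have h := LinearMap.congr_fun (HopfRep.Comod.counit_comp (k := k) (A := C) (V := V)) v
  simp only [LinearMap.comp_apply, LinearMap.flip_apply, TensorProduct.mk_apply] at h
  simp only [slice, LinearMap.comp_apply, LinearEquiv.coe_coe]
  rw [h]
  simp

/-- The range of `f ↦ (id ⊗ f)(ρ v)` is a subcomodule when `C` is free. -/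
lemma isSubcomod_range_sliceMap_coact [Module.Free k C] (v : V) :
    HopfRep.IsSubcomod (k := k) (A := C)
      (LinearMap.range (sliceMap (HopfRep.Comod.coact (k := k) (A := C) v))) := by
  rintro _ ⟨f, rfl⟩
  apply mem_range_rTensor_subtype_of_slice_mem
  intro g
  simp only [sliceMap_apply]
  rw [slice_coact_slice]
  exact ⟨conv g f, rfl⟩

lemma mem_range_sliceMap_coact (v : V) :
    v ∈ LinearMap.range (sliceMap (HopfRep.Comod.coact (k := k) (A := C) v)) :=
  ⟨Coalgebra.counit, slice_counit_coact v⟩

/-- Kernel of a comodule map is a subcomodule (for `C` free). -/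
lemma isSubcomod_ker_of_isComodHom [Module.Free k C]
    {W : Type w'} [AddCommGroup W] [Module k W] [HopfRep.Comod k C W]
    (α : V →ₗ[k] W) (hα : Hoch.IsComodHom C α) :
    HopfRep.IsSubcomod (k := k) (A := C) (LinearMap.ker α) := by
  intro x hx
  apply mem_range_rTensor_subtype_of_slice_mem
  intro f
  rw [LinearMap.mem_ker, ← slice_rTensor]
  have h := LinearMap.congr_fun hα x
  simp only [LinearMap.comp_apply] at h
  rw [← h, LinearMap.mem_ker.mp hx]
  simp

end Comod

section Field

variable {k : Type u} [Field k] {C : Type v} [AddCommGroup C] [Module k C] [Coalgebra k C]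
variable {V : Type w} [AddCommGroup V] [Module k V] [HopfRep.Comod k C V]

/-- Finiteness theorem: every vector of a comodule over a field lies in a finite-dimensional
subcomodule. -/
theorem exists_finite_subcomod_mem (v : V) :
    ∃ W : Submodule k V, Module.Finite k W ∧ v ∈ W ∧ HopfRep.IsSubcomod (k := k) (A := C) W := by
  refine ⟨LinearMap.range (sliceMap (HopfRep.Comod.coact (k := k) (A := C) v)), ?_,
    mem_range_sliceMap_coact v, isSubcomod_range_sliceMap_coact v⟩
  obtain ⟨N, hN, hle⟩ := exists_fg_range_sliceMap_le (HopfRep.Comod.coact (k := k) (A := C) v)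
  have : Module.Finite k N := Module.Finite.iff_fg.mpr hN
  exact Submodule.finiteDimensional_of_le hle

end Field

end Groth.Agent.Helper9
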