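import Mathlib
import Groth.Agent.Lib.Helper9.Comod

/-!
More comodule constructions: comodule structures on surjective images (in particular
quotients by subcomodules), preimages of subcomodules, fixed points.
-/

set_option autoImplicit false

namespace Groth.Agent.Helper9

open TensorProduct

universe u v w w'

section Surj

variable {k : Type u} [CommRing k] {C : Type v} [AddCommGroup C] [Module k C] [Coalgebra k C]
variable {V : Type w} [AddCommGroup V] [Module k V] [HopfRep.Comod k C V]
variable {V' : Type w'} [AddCommGroup V'] [Module k V']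

/-- A comodule structure on the target of a surjection `π` compatible with a candidate coaction. -/
@[reducible] noncomputable def comodOfSurjective (π : V →ₗ[k] V') (hπ : Function.Surjective π)
    (ρ' : V' →ₗ[k] V' ⊗[k] C)
    (h : ρ' ∘ₗ π = π.rTensor C ∘ₗ HopfRep.Comod.coact (k := k) (A := C)) :
    HopfRep.Comod k C V' where
  coact := ρ'
  coassoc := by
    rw [← LinearMap.cancel_right hπ]
    apply LinearMap.ext
    intro v
    have hv : ρ' (π v) = π.rTensor C (HopfRep.Comod.coact (k := k) (A := C) v) :=
      LinearMap.congr_fun h v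
    have hco := LinearMap.congr_fun (HopfRep.Comod.coassoc (k := k) (A := C) (V := V)) v
    simp only [LinearMap.comp_apply, LinearEquiv.coe_coe] at hco ⊢
    rw [hv]
    set y := HopfRep.Comod.coact (k := k) (A := C) v with hy
    have e1 : ρ'.rTensor C (π.rTensor C y) =
        (π.rTensor C).rTensor C ((HopfRep.Comod.coact (k := k) (A := C) (V := V)).rTensor C y) := by
      rw [← LinearMap.comp_apply, ← LinearMap.rTensor_comp, h, LinearMap.rTensor_comp,
        LinearMap.comp_apply]
    have e2 : ∀ z : (V ⊗[k] C) ⊗[k] C, TensorProduct.assoc k V' C C ((π.rTensor C).rTensor C z) =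
        π.rTensor (C ⊗[k] C) (TensorProduct.assoc k V C C z) := by
      intro z
      have := LinearMap.congr_fun (LinearMap.rTensor_tensor (M := C) (N := C) π)
        (TensorProduct.assoc k V C C z)
      simp only [LinearMap.comp_apply, LinearEquiv.coe_coe, LinearEquiv.symm_apply_apply] at this
      exact this.symm
    rw [e1, e2, hco]
    rw [← LinearMap.comp_apply, ← LinearMap.comp_apply (LinearMap.lTensor V' _),
      LinearMap.rTensor_comp_lTensor, LinearMap.lTensor_comp_rTensor]
  counit_comp := by
    rw [← LinearMap.cancel_right hπ]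
    apply LinearMap.ext
    intro v
    have hv : ρ' (π v) = π.rTensor C (HopfRep.Comod.coact (k := k) (A := C) v) :=
      LinearMap.congr_fun h v
    have hcu := LinearMap.congr_fun (HopfRep.Comod.counit_comp (k := k) (A := C) (V := V)) v
    simp only [LinearMap.comp_apply, LinearMap.flip_apply, TensorProduct.mk_apply] at hcu ⊢
    rw [hv, ← LinearMap.comp_apply, LinearMap.lTensor_comp_rTensor,
      ← LinearMap.rTensor_comp_lTensor, LinearMap.comp_apply, hcu]
    simp

end Surj

section Quot

variable {k : Type u} [CommRing k] {C : Type v} [AddCommGroup C] [Module k C] [Coalgebra k C]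
variable {V : Type w} [AddCommGroup V] [Module k V] [HopfRep.Comod k C V]

lemma mkQ_rTensor_coact_mem_ker (W : Submodule k V) (hW : HopfRep.IsSubcomod (k := k) (A := C) W) :
    W ≤ LinearMap.ker (W.mkQ.rTensor C ∘ₗ HopfRep.Comod.coact (k := k) (A := C)) := by
  intro w hw
  rw [LinearMap.mem_ker, LinearMap.comp_apply]
  obtain ⟨y, hy⟩ := hW w hw
  rw [← hy, ← LinearMap.comp_apply, ← LinearMap.rTensor_comp]
  have : W.mkQ ∘ₗ W.subtype = 0 := by
    apply LinearMap.ext
    intro x
    simp
  rw [this]
  simp

/-- The coaction on the quotient by a subcomodule. -/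
noncomputable def quotCoact (W : Submodule k V) (hW : HopfRep.IsSubcomod (k := k) (A := C) W) :
    V ⧸ W →ₗ[k] (V ⧸ W) ⊗[k] C :=
  W.liftQ (W.mkQ.rTensor C ∘ₗ HopfRep.Comod.coact (k := k) (A := C))
    (mkQ_rTensor_coact_mem_ker W hW)

lemma quotCoact_comp_mkQ (W : Submodule k V) (hW : HopfRep.IsSubcomod (k := k) (A := C) W) :
    quotCoact W hW ∘ₗ W.mkQ = W.mkQ.rTensor C ∘ₗ HopfRep.Comod.coact (k := k) (A := C) := by
  apply LinearMap.ext
  intro v
  simp [quotCoact]

/-- The quotient comodule `V ⧸ W` for a subcomodule `W`. -/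
@[reducible] noncomputable def quotComod (W : Submodule k V)
    (hW : HopfRep.IsSubcomod (k := k) (A := C) W) : HopfRep.Comod k C (V ⧸ W) :=
  comodOfSurjective W.mkQ W.mkQ_surjective (quotCoact W hW) (quotCoact_comp_mkQ W hW)

lemma quotComod_coact_mk (W : Submodule k V) (hW : HopfRep.IsSubcomod (k := k) (A := C) W)
    (v : V) :
    (quotComod W hW).coact (W.mkQ v) =
      W.mkQ.rTensor C (HopfRep.Comod.coact (k := k) (A := C) v) :=
  LinearMap.congr_fun (quotCoact_comp_mkQ W hW) v

end Quot

section Pre

variable {k : Type u} [CommRing k] {C : Type v} [AddCommGroup C] [Module k C]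
variable {V : Type w} [AddCommGroup V] [Module k V]
variable {V' : Type w'} [AddCommGroup V'] [Module k V']

/-- If `(π ⊗ id) x ∈ N ⊗ C` then `x ∈ π⁻¹(N) ⊗ C` (for `C` free). -/
lemma mem_range_rTensor_comap [Module.Free k C] (π : V →ₗ[k] V') (N : Submodule k V')
    (x : V ⊗[k] C) (hx : π.rTensor C x ∈ LinearMap.range (N.subtype.rTensor C)) :
    x ∈ LinearMap.range ((N.comap π).subtype.rTensor C) := by
  apply mem_range_rTensor_subtype_of_slice_mem
  intro f
  rw [Submodule.mem_comap, ← slice_rTensor]
  exact slice_mem_of_mem_range_rTensor_subtype N _ hx f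

lemma eq_zero_of_mem_range_rTensor_bot [Module.Free k C] (x : V ⊗[k] C)
    (hx : x ∈ LinearMap.range ((⊥ : Submodule k V).subtype.rTensor C)) : x = 0 := by
  apply eq_zero_of_slice_eq_zero
  intro f
  have := slice_mem_of_mem_range_rTensor_subtype ⊥ x hx f
  simpa using this

lemma mem_range_rTensor_top (x : V ⊗[k] C) :
    x ∈ LinearMap.range ((⊤ : Submodule k V).subtype.rTensor C) := by
  have hs : Function.Surjective ((⊤ : Submodule k V).subtype.rTensor C) := by
    apply LinearMap.rTensor_surjective
    intro v
    exact ⟨⟨v, trivial⟩, rfl⟩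
  exact hs x

end Pre

section Sub

variable {k : Type u} [CommRing k] {C : Type v} [AddCommGroup C] [Module k C] [Coalgebra k C]
variable {V : Type w} [AddCommGroup V] [Module k V] [HopfRep.Comod k C V]

lemma isSubcomod_bot : HopfRep.IsSubcomod (k := k) (A := C) (⊥ : Submodule k V) := by
  intro w hw
  rw [(Submodule.mem_bot k).mp hw, map_zero]
  exact Submodule.zero_mem _

lemma isSubcomod_top : HopfRep.IsSubcomod (k := k) (A := C) (⊤ : Submodule k V) :=
  fun _ _ => mem_range_rTensor_top _

/-- Preimage of a subcomodule under a comodule map is a subcomodule (`C` free). -/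
lemma isSubcomod_comap [Module.Free k C]
    {V' : Type w'} [AddCommGroup V'] [Module k V'] [HopfRep.Comod k C V']
    (π : V →ₗ[k] V') (hπ : Hoch.IsComodHom C π) (N : Submodule k V')
    (hN : HopfRep.IsSubcomod (k := k) (A := C) N) :
    HopfRep.IsSubcomod (k := k) (A := C) (N.comap π) := by
  intro v hv
  apply mem_range_rTensor_comap
  have h := LinearMap.congr_fun hπ v
  simp only [LinearMap.comp_apply] at h
  rw [← h]
  exact hN _ hv

end Sub

section Fixed

variable {k : Type u} [CommRing k] {A : Type v} [Ring A] [Bialgebra k A]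
variable {V : Type w} [AddCommGroup V] [Module k V] [HopfRep.Comod k A V]

lemma mem_fixedPts_iff (v : V) :
    v ∈ HopfRep.fixedPts k A V ↔ HopfRep.Comod.coact (k := k) (A := A) v = v ⊗ₜ[k] (1 : A) :=
  Iff.rfl

lemma isSubcomod_fixedPts :
    HopfRep.IsSubcomod (k := k) (A := A) (HopfRep.fixedPts k A V) := by
  intro v hv
  rw [(mem_fixedPts_iff v).mp hv]
  exact ⟨(⟨v, hv⟩ : HopfRep.fixedPts k A V) ⊗ₜ[k] (1 : A), by simp⟩

end Fixed

section Restrict

variable {k : Type u} [CommRing k] {C : Type v} [AddCommGroup C] [Module k C]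
variable {D : Type w'} [AddCommGroup D] [Module k D]
variable {V : Type w} [AddCommGroup V] [Module k V]

lemma slice_comp_eq (φ : C →ₗ[k] D) (h : D →ₗ[k] k) (y : V ⊗[k] C) :
    slice (h ∘ₗ φ) y = slice h (φ.lTensor V y) := by
  simp only [slice, LinearMap.comp_apply, LinearMap.lTensor_comp]

variable [Coalgebra k C] [Coalgebra k D]

/-- Corestriction of a comodule along a coalgebra map `φ : C → D`: coaction `(id ⊗ φ) ∘ ρ`. -/
@[reducible] noncomputable def comodOfCoalgHom [HopfRep.Comod k C V] (φ : C →ₗc[k] D) :
    HopfRep.Comod k D V where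
  coact := φ.toLinearMap.lTensor V ∘ₗ HopfRep.Comod.coact (k := k) (A := C)
  coassoc := by
    apply LinearMap.ext
    intro v
    have hco := LinearMap.congr_fun (HopfRep.Comod.coassoc (k := k) (A := C) (V := V)) v
    simp only [LinearMap.comp_apply, LinearEquiv.coe_coe] at hco ⊢
    set y := HopfRep.Comod.coact (k := k) (A := C) v with hy
    have e1 : (φ.toLinearMap.lTensor V ∘ₗ HopfRep.Comod.coact (k := k) (A := C)).rTensor D
        (φ.toLinearMap.lTensor V y) =
        TensorProduct.map (TensorProduct.map LinearMap.id φ.toLinearMap) φ.toLinearMap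
          ((HopfRep.Comod.coact (k := k) (A := C) (V := V)).rTensor C y) := by
      simp only [LinearMap.rTensor, LinearMap.lTensor, ← LinearMap.comp_apply,
        ← TensorProduct.map_comp]
      simp
    rw [e1, ← TensorProduct.map_map_assoc, hco]
    simp only [LinearMap.lTensor, ← LinearMap.comp_apply, ← TensorProduct.map_comp]
    rw [φ.map_comp_comul]
  counit_comp := by
    apply LinearMap.ext
    intro v
    have hcu := LinearMap.congr_fun (HopfRep.Comod.counit_comp (k := k) (A := C) (V := V)) v
    simp only [LinearMap.comp_apply, LinearMap.flip_apply, TensorProduct.mk_apply] at hcu ⊢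
    rw [← hcu, ← LinearMap.comp_apply (LinearMap.lTensor V _) (LinearMap.lTensor V _),
      ← LinearMap.lTensor_comp, φ.counit_comp]

/-- For an injective coalgebra map over a field, subcomodules for the corestricted structure
are subcomodules for the original one. -/
lemma isSubcomod_of_isSubcomod_comodOfCoalgHom {K : Type u} [Field K]
    {C : Type v} [AddCommGroup C] [Module K C] [Coalgebra K C]
    {D : Type w'} [AddCommGroup D] [Module K D] [Coalgebra K D]
    {V : Type w} [AddCommGroup V] [Module K V] [HopfRep.Comod K C V]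
    (φ : C →ₗc[K] D) (hφ : Function.Injective φ) (W : Submodule K V)
    (hW : @HopfRep.IsSubcomod K D _ _ _ _ V _ _ (comodOfCoalgHom φ) W) :
    HopfRep.IsSubcomod (k := K) (A := C) W := by
  intro w hw
  apply mem_range_rTensor_subtype_of_slice_mem
  intro h
  obtain ⟨g, hg⟩ := LinearMap.exists_leftInverse_of_injective φ.toLinearMap
    (LinearMap.ker_eq_bot.mpr hφ)
  have h1 : h = (h ∘ₗ g) ∘ₗ φ.toLinearMap := by
    rw [LinearMap.comp_assoc, hg, LinearMap.comp_id]
  rw [h1, slice_comp_eq]
  exact slice_mem_of_mem_range_rTensor_subtype W _ (hW w hw) _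

end Restrict

end Groth.Agent.Helper9
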