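import Mathlib

/-!
A relative version of `exists_sSupIndep_isCompl_sSup_atoms`: complements built from a
prescribed generating family of "simple" elements relative to a predicate `P` which is
closed under `⊓`, `⊔` and `sSup`.
-/

set_option autoImplicit false

namespace Groth.Agent.Helper9

open Set

theorem exists_subset_sSupIndep_isCompl {α : Type*} [CompleteLattice α] [IsModularLattice α]
    [IsCompactlyGenerated α]
    (P : α → Prop) (hPinf : ∀ a b, P a → P b → P (a ⊓ b))
    (hPsup : ∀ a b, P a → P b → P (a ⊔ b))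
    (hPsSup : ∀ s : Set α, (∀ a ∈ s, P a) → P (sSup s))
    (T : Set α) (hT : ∀ a ∈ T, P a ∧ a ≠ ⊥ ∧ ∀ w, P w → w ≤ a → w = ⊥ ∨ w = a)
    (hTtop : sSup T = ⊤) (b : α) (hb : P b) :
    ∃ s ⊆ T, sSupIndep s ∧ IsCompl b (sSup s) := by
  have zorn := zorn_subset
    (S := {s : Set α | sSupIndep s ∧ Disjoint b (sSup s) ∧ s ⊆ T})
    fun c hc1 hc2 =>
      ⟨⋃₀ c,
        ⟨iSupIndep_sUnion_of_directed hc2.directedOn fun s hs => (hc1 hs).1, ?_,
          fun a ⟨s, sc, as⟩ => (hc1 sc).2.2 as⟩,
        fun _ => Set.subset_sUnion_of_mem⟩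
  swap
  · rw [sSup_sUnion, ← sSup_image, DirectedOn.disjoint_sSup_right]
    · rintro _ ⟨s, hs, rfl⟩
      exact (hc1 hs).2.1
    · rw [directedOn_image]
      exact hc2.directedOn.mono @fun s t => sSup_le_sSup
  simp_rw [maximal_subset_iff] at zorn
  obtain ⟨s, ⟨s_ind, b_inf_Sup_s, s_sub⟩, s_max⟩ := zorn
  refine ⟨s, s_sub, s_ind, b_inf_Sup_s, ?_⟩
  rw [codisjoint_iff, eq_top_iff, ← hTtop, sSup_le_iff]
  intro a ha
  obtain ⟨hPa, ha0, hsimple⟩ := hT a ha
  rw [← inf_eq_left]
  have hPs : P (sSup s) := hPsSup s (fun x hx => (hT x (s_sub hx)).1)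
  refine (hsimple _ (hPinf _ _ hPa (hPsup _ _ hb hPs)) inf_le_left).resolve_left
    fun con => ha0 ?_
  rw [← con, eq_comm, inf_eq_left]
  refine (le_sSup ?_).trans le_sup_right
  rw [← disjoint_iff] at con
  have a_dis_Sup_s : Disjoint a (sSup s) := con.mono_right le_sup_right
  rw [s_max ⟨fun x hx => ?_, ?_, fun x hx => ?_⟩ Set.subset_union_left]
  · exact Set.mem_union_right _ (Set.mem_singleton _)
  · rw [sSup_union, sSup_singleton]
    exact b_inf_Sup_s.disjoint_sup_right_of_disjoint_sup_left con.symm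
  · rw [Set.mem_union, Set.mem_singleton_iff] at hx
    obtain rfl | xa := eq_or_ne x a
    · simp only [Set.mem_singleton, Set.insert_sdiff_of_mem, Set.union_singleton]
      exact con.mono_right ((sSup_le_sSup Set.sdiff_subset).trans le_sup_right)
    · have h : (s ∪ {a}) \ {x} = s \ {x} ∪ {a} := by
        simp only [Set.union_singleton]
        rw [Set.insert_sdiff_of_notMem]
        rw [Set.mem_singleton_iff]
        exact Ne.symm xa
      rw [h, sSup_union, sSup_singleton]
      apply
        (s_ind (hx.resolve_right xa)).disjoint_sup_right_of_disjoint_sup_left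
          (a_dis_Sup_s.mono_right _).symm
      rw [← sSup_insert, Set.insert_sdiff_singleton, Set.insert_eq_of_mem (hx.resolve_right xa)]
  · rw [Set.mem_union, Set.mem_singleton_iff] at hx
    obtain hx | rfl := hx
    · exact s_sub hx
    · exact ha

/-- Indexed version: the complement is a sup over a subset of the index type. -/
theorem exists_subset_iSupIndep_isCompl {α : Type*} [CompleteLattice α] [IsModularLattice α]
    [IsCompactlyGenerated α] {ι : Type*}
    (P : α → Prop) (hPinf : ∀ a b, P a → P b → P (a ⊓ b))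
    (hPsup : ∀ a b, P a → P b → P (a ⊔ b))
    (hPsSup : ∀ s : Set α, (∀ a ∈ s, P a) → P (sSup s))
    (S : ι → α) (hS : ∀ i, P (S i) ∧ S i ≠ ⊥ ∧ ∀ w, P w → w ≤ S i → w = ⊥ ∨ w = S i)
    (hStop : ⨆ i, S i = ⊤) (b : α) (hb : P b) :
    ∃ J : Set ι, iSupIndep (fun j : J => S j) ∧ IsCompl b (⨆ j : J, S j) := by
  classical
  obtain ⟨s, hsT, hind, hcompl⟩ := exists_subset_sSupIndep_isCompl P hPinf hPsup hPsSup
    (Set.range S) (by rintro _ ⟨i, rfl⟩; exact hS i) (by rw [sSup_range]; exact hStop) b hb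
  have hch : ∀ a : s, ∃ i, S i = a := fun a => hsT a.2
  choose g hg using hch
  let J : Set ι := Set.range g
  let e : s → J := fun a => ⟨g a, a, rfl⟩
  have he : Function.Surjective e := by
    rintro ⟨_, a, rfl⟩
    exact ⟨a, rfl⟩
  have hcomp : (fun j : J => S j) ∘ e = fun a : s => (a : α) := by
    funext a
    exact hg a
  refine ⟨J, ?_, ?_⟩
  · apply iSupIndep.comp' (f := e) _ he
    rw [hcomp]
    exact (sSupIndep_iff s).mp hind
  · have : ⨆ j : J, S j = sSup s := by
      rw [← he.iSup_comp, sSup_eq_iSup']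
      exact iSup_congr (fun a => hg a)
    rw [this]
    exact hcompl

end Groth.Agent.Helper9
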