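import Mathlib
import Groth.Agent.Lib.Helper9.Comod2
import Groth.Agent.Lib.Helper9.SemisimpleLattice

/-!
Lattice closure properties of subcomodules and the semisimplicity decomposition theorem.
-/

set_option autoImplicit false

namespace Groth.Agent.Helper9

open TensorProduct

universe u v w w'

section

variable {k : Type u} [CommRing k] {C : Type v} [AddCommGroup C] [Module k C]
variable {V : Type w} [AddCommGroup V] [Module k V]

lemma range_rTensor_subtype_mono {a b : Submodule k V} (h : a ≤ b) :
    LinearMap.range (a.subtype.rTensor C) ≤ LinearMap.range (b.subtype.rTensor C) := by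
  have : a.subtype = b.subtype ∘ₗ Submodule.inclusion h := by
    apply LinearMap.ext
    intro x
    rfl
  rw [this, LinearMap.rTensor_comp]
  exact LinearMap.range_comp_le_range _ _

variable [Coalgebra k C] [HopfRep.Comod k C V]

lemma isSubcomod_inf [Module.Free k C] (a b : Submodule k V)
    (ha : HopfRep.IsSubcomod (k := k) (A := C) a) (hb : HopfRep.IsSubcomod (k := k) (A := C) b) :
    HopfRep.IsSubcomod (k := k) (A := C) (a ⊓ b) := by
  intro w hw
  apply mem_range_rTensor_subtype_of_slice_mem
  intro f
  exact ⟨slice_mem_of_mem_range_rTensor_subtype a _ (ha w hw.1) f,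
    slice_mem_of_mem_range_rTensor_subtype b _ (hb w hw.2) f⟩

lemma isSubcomod_sSup (s : Set (Submodule k V))
    (hs : ∀ a ∈ s, HopfRep.IsSubcomod (k := k) (A := C) a) :
    HopfRep.IsSubcomod (k := k) (A := C) (sSup s) := by
  have hle : sSup s ≤ (LinearMap.range ((sSup s).subtype.rTensor C)).comap
      (HopfRep.Comod.coact (k := k) (A := C)) := by
    apply sSup_le
    intro a ha w hw
    exact range_rTensor_subtype_mono (le_sSup ha) (hs a ha w hw)
  intro w hw
  exact hle hw

lemma isSubcomod_sup (a b : Submodule k V)
    (ha : HopfRep.IsSubcomod (k := k) (A := C) a) (hb : HopfRep.IsSubcomod (k := k) (A := C) b) :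
    HopfRep.IsSubcomod (k := k) (A := C) (a ⊔ b) := by
  rw [← sSup_pair]
  apply isSubcomod_sSup
  intro x hx
  rcases hx with rfl | rfl
  · exact ha
  · exact hb

lemma isSubcomod_iSup {ι : Sort*} (S : ι → Submodule k V)
    (hS : ∀ i, HopfRep.IsSubcomod (k := k) (A := C) (S i)) :
    HopfRep.IsSubcomod (k := k) (A := C) (⨆ i, S i) := by
  apply isSubcomod_sSup
  rintro _ ⟨i, rfl⟩
  exact hS i

end

end Groth.Agent.Helper9
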