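import Mathlib
import Groth.Agent.Lib.Helper9.Comod3

/-!
Comodule homomorphisms, images, sub-comodules as comodules, products of comodules.
-/

set_option autoImplicit false

namespace Groth.Agent.Helper9

open TensorProduct

universe u v w w' w''

section Hom

variable {k : Type u} [CommRing k] {C : Type v} [AddCommGroup C] [Module k C] [Coalgebra k C]
variable {V : Type w} [AddCommGroup V] [Module k V] [HopfRep.Comod k C V]
variable {V' : Type w'} [AddCommGroup V'] [Module k V'] [HopfRep.Comod k C V']
variable {V'' : Type w''} [AddCommGroup V''] [Module k V''] [HopfRep.Comod k C V'']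

lemma isComodHom_iff (f : V →ₗ[k] V') :
    Hoch.IsComodHom C f ↔ ∀ v, HopfRep.Comod.coact (k := k) (A := C) (f v) =
      f.rTensor C (HopfRep.Comod.coact (k := k) (A := C) v) := by
  constructor
  · intro h v
    exact LinearMap.congr_fun h v
  · intro h
    apply LinearMap.ext
    intro v
    exact h v

lemma isComodHom_id : Hoch.IsComodHom C (LinearMap.id : V →ₗ[k] V) := by
  rw [isComodHom_iff]
  intro v
  simp

lemma isComodHom_zero : Hoch.IsComodHom C (0 : V →ₗ[k] V') := by
  rw [isComodHom_iff]
  intro v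
  simp

lemma isComodHom_comp {g : V' →ₗ[k] V''} {f : V →ₗ[k] V'} (hg : Hoch.IsComodHom C g)
    (hf : Hoch.IsComodHom C f) : Hoch.IsComodHom C (g ∘ₗ f) := by
  rw [isComodHom_iff] at *
  intro v
  rw [LinearMap.comp_apply, hg, hf, LinearMap.rTensor_comp, LinearMap.comp_apply]

lemma isComodHom_add {f g : V →ₗ[k] V'} (hf : Hoch.IsComodHom C f)
    (hg : Hoch.IsComodHom C g) : Hoch.IsComodHom C (f + g) := by
  rw [isComodHom_iff] at *
  intro v
  rw [LinearMap.add_apply, map_add, hf, hg, LinearMap.rTensor_add, LinearMap.add_apply]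

lemma isComodHom_smul (a : k) {f : V →ₗ[k] V'} (hf : Hoch.IsComodHom C f) :
    Hoch.IsComodHom C (a • f) := by
  rw [isComodHom_iff] at *
  intro v
  rw [LinearMap.smul_apply, map_smul, hf, LinearMap.rTensor_smul, LinearMap.smul_apply]

/-- The image of a subcomodule under a comodule map is a subcomodule. -/
lemma isSubcomod_map (f : V →ₗ[k] V') (hf : Hoch.IsComodHom C f) (W : Submodule k V)
    (hW : HopfRep.IsSubcomod (k := k) (A := C) W) :
    HopfRep.IsSubcomod (k := k) (A := C) (W.map f) := by
  rintro _ ⟨w, hw, rfl⟩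
  rw [(isComodHom_iff f).mp hf]
  obtain ⟨y, hy⟩ := hW w hw
  rw [← hy, ← LinearMap.comp_apply, ← LinearMap.rTensor_comp]
  have : f ∘ₗ W.subtype = (W.map f).subtype ∘ₗ f.submoduleMap W := by
    apply LinearMap.ext
    intro x
    rfl
  rw [this, LinearMap.rTensor_comp, LinearMap.comp_apply]
  exact LinearMap.mem_range_self _ _

lemma isSubcomod_range (f : V →ₗ[k] V') (hf : Hoch.IsComodHom C f) :
    HopfRep.IsSubcomod (k := k) (A := C) (LinearMap.range f) := by
  rw [← Submodule.map_top]
  exact isSubcomod_map f hf ⊤ isSubcomod_top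

omit [HopfRep.Comod k C V'] in
/-- Pointwise coassociativity for a candidate coaction along a compatible map. -/
lemma coassoc_apply_of_comp (c : V' →ₗ[k] V' ⊗[k] C) (ι : V →ₗ[k] V')
    (h : c ∘ₗ ι = ι.rTensor C ∘ₗ HopfRep.Comod.coact (k := k) (A := C)) (v : V) :
    TensorProduct.assoc k V' C C (c.rTensor C (c (ι v))) =
      (CoalgebraStruct.comul (R := k) (A := C)).lTensor V' (c (ι v)) := by
  have hv : c (ι v) = ι.rTensor C (HopfRep.Comod.coact (k := k) (A := C) v) :=
    LinearMap.congr_fun h v
  have hco := LinearMap.congr_fun (HopfRep.Comod.coassoc (k := k) (A := C) (V := V)) v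
  simp only [LinearMap.comp_apply, LinearEquiv.coe_coe] at hco
  rw [hv]
  set y := HopfRep.Comod.coact (k := k) (A := C) v with hy
  have e1 : c.rTensor C (ι.rTensor C y) =
      (ι.rTensor C).rTensor C ((HopfRep.Comod.coact (k := k) (A := C) (V := V)).rTensor C y) := by
    rw [← LinearMap.comp_apply, ← LinearMap.rTensor_comp, h, LinearMap.rTensor_comp,
      LinearMap.comp_apply]
  have e2 : ∀ z : (V ⊗[k] C) ⊗[k] C, TensorProduct.assoc k V' C C ((ι.rTensor C).rTensor C z) =
      ι.rTensor (C ⊗[k] C) (TensorProduct.assoc k V C C z) := by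
    intro z
    have := LinearMap.congr_fun (LinearMap.rTensor_tensor (M := C) (N := C) ι)
      (TensorProduct.assoc k V C C z)
    simp only [LinearMap.comp_apply, LinearEquiv.coe_coe, LinearEquiv.symm_apply_apply] at this
    exact this.symm
  rw [e1, e2, hco]
  rw [← LinearMap.comp_apply, ← LinearMap.comp_apply (LinearMap.lTensor V' _),
    LinearMap.rTensor_comp_lTensor, LinearMap.lTensor_comp_rTensor]

omit [HopfRep.Comod k C V'] in
/-- Pointwise counitality for a candidate coaction along a compatible map. -/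
lemma counit_apply_of_comp (c : V' →ₗ[k] V' ⊗[k] C) (ι : V →ₗ[k] V')
    (h : c ∘ₗ ι = ι.rTensor C ∘ₗ HopfRep.Comod.coact (k := k) (A := C)) (v : V) :
    (CoalgebraStruct.counit (R := k) (A := C)).lTensor V' (c (ι v)) = ι v ⊗ₜ[k] (1 : k) := by
  have hv : c (ι v) = ι.rTensor C (HopfRep.Comod.coact (k := k) (A := C) v) :=
    LinearMap.congr_fun h v
  have hcu := LinearMap.congr_fun (HopfRep.Comod.counit_comp (k := k) (A := C) (V := V)) v
  simp only [LinearMap.comp_apply, LinearMap.flip_apply, TensorProduct.mk_apply] at hcu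
  rw [hv, ← LinearMap.comp_apply, LinearMap.lTensor_comp_rTensor,
    ← LinearMap.rTensor_comp_lTensor, LinearMap.comp_apply, hcu]
  simp

end Hom

section Sub

variable {k : Type u} [Field k] {C : Type v} [AddCommGroup C] [Module k C] [Coalgebra k C]
variable {V : Type w} [AddCommGroup V] [Module k V] [HopfRep.Comod k C V]
variable {V' : Type w'} [AddCommGroup V'] [Module k V']

lemma rTensor_injective_of_injective (M : Type*) [AddCommGroup M] [Module k M]
    (ι : V' →ₗ[k] V) (hι : Function.Injective ι) : Function.Injective (ι.rTensor M) :=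
  Module.Flat.rTensor_preserves_injective_linearMap ι hι

/-- A comodule structure on the source of an injection compatible with a candidate coaction. -/
@[reducible] noncomputable def comodOfInjective (ι : V' →ₗ[k] V) (hι : Function.Injective ι)
    (c : V' →ₗ[k] V' ⊗[k] C)
    (h : ι.rTensor C ∘ₗ c = HopfRep.Comod.coact (k := k) (A := C) ∘ₗ ι) :
    HopfRep.Comod k C V' where
  coact := c
  coassoc := by
    apply LinearMap.ext
    intro v
    apply rTensor_injective_of_injective (C ⊗[k] C) ι hι
    have hv : ∀ x, ι.rTensor C (c x) = HopfRep.Comod.coact (k := k) (A := C) (ι x) :=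
      fun x => LinearMap.congr_fun h x
    have hco := LinearMap.congr_fun (HopfRep.Comod.coassoc (k := k) (A := C) (V := V)) (ι v)
    simp only [LinearMap.comp_apply, LinearEquiv.coe_coe] at hco ⊢
    have e2 : ∀ z : (V' ⊗[k] C) ⊗[k] C, ι.rTensor (C ⊗[k] C) (TensorProduct.assoc k V' C C z) =
        TensorProduct.assoc k V C C ((ι.rTensor C).rTensor C z) := by
      intro z
      have := LinearMap.congr_fun (LinearMap.rTensor_tensor (M := C) (N := C) ι)
        (TensorProduct.assoc k V' C C z)
      simp only [LinearMap.comp_apply, LinearEquiv.coe_coe, LinearEquiv.symm_apply_apply] at this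
      exact this
    have e1 : (ι.rTensor C).rTensor C (c.rTensor C (c v)) =
        (HopfRep.Comod.coact (k := k) (A := C) (V := V)).rTensor C (ι.rTensor C (c v)) := by
      rw [← LinearMap.comp_apply, ← LinearMap.rTensor_comp, h, LinearMap.rTensor_comp,
        LinearMap.comp_apply]
    rw [e2, e1, hv, hco, ← hv]
    rw [← LinearMap.comp_apply, ← LinearMap.comp_apply (LinearMap.rTensor (C ⊗[k] C) ι),
      LinearMap.rTensor_comp_lTensor, LinearMap.lTensor_comp_rTensor]
  counit_comp := by
    apply LinearMap.ext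
    intro v
    apply rTensor_injective_of_injective k ι hι
    have hv : ∀ x, ι.rTensor C (c x) = HopfRep.Comod.coact (k := k) (A := C) (ι x) :=
      fun x => LinearMap.congr_fun h x
    have hcu := LinearMap.congr_fun (HopfRep.Comod.counit_comp (k := k) (A := C) (V := V)) (ι v)
    simp only [LinearMap.comp_apply, LinearMap.flip_apply, TensorProduct.mk_apply] at hcu ⊢
    rw [← LinearMap.comp_apply, LinearMap.rTensor_comp_lTensor, ← LinearMap.lTensor_comp_rTensor,
      LinearMap.comp_apply, hv, hcu]
    simp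

/-- The restricted coaction on a subcomodule. -/
noncomputable def subCoact (W : Submodule k V) (hW : HopfRep.IsSubcomod (k := k) (A := C) W) :
    W →ₗ[k] W ⊗[k] C :=
  (LinearEquiv.ofInjective (W.subtype.rTensor C)
      (rTensor_injective_of_injective C W.subtype W.injective_subtype)).symm.toLinearMap ∘ₗ
    LinearMap.codRestrict (LinearMap.range (W.subtype.rTensor C))
      (HopfRep.Comod.coact (k := k) (A := C) ∘ₗ W.subtype) (fun w => hW w w.2)

lemma subtype_rTensor_subCoact (W : Submodule k V)
    (hW : HopfRep.IsSubcomod (k := k) (A := C) W) (w : W) :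
    W.subtype.rTensor C (subCoact W hW w) = HopfRep.Comod.coact (k := k) (A := C) (w : V) := by
  simp only [subCoact, LinearMap.comp_apply, LinearEquiv.coe_coe]
  have := LinearEquiv.apply_symm_apply (LinearEquiv.ofInjective (W.subtype.rTensor C)
      (rTensor_injective_of_injective C W.subtype W.injective_subtype))
    (LinearMap.codRestrict (LinearMap.range (W.subtype.rTensor C))
      (HopfRep.Comod.coact (k := k) (A := C) ∘ₗ W.subtype) (fun w => hW w w.2) w)
  have h2 := congrArg Subtype.val this
  simpa using h2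

/-- A subcomodule as a comodule. -/
@[reducible] noncomputable def subComod (W : Submodule k V)
    (hW : HopfRep.IsSubcomod (k := k) (A := C) W) : HopfRep.Comod k C W :=
  comodOfInjective W.subtype W.injective_subtype (subCoact W hW) (by
    apply LinearMap.ext
    intro w
    exact subtype_rTensor_subCoact W hW w)

lemma isComodHom_subtype (W : Submodule k V) (hW : HopfRep.IsSubcomod (k := k) (A := C) W) :
    @Hoch.IsComodHom k _ C _ _ _ W _ _ (subComod W hW) V _ _ _ W.subtype := by
  letI := subComod W hW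
  apply LinearMap.ext
  intro w
  exact (subtype_rTensor_subCoact W hW w).symm

end Sub

section Prod

variable {k : Type u} [CommRing k] {C : Type v} [AddCommGroup C] [Module k C] [Coalgebra k C]
variable {V₁ : Type w} [AddCommGroup V₁] [Module k V₁] [HopfRep.Comod k C V₁]
variable {V₂ : Type w'} [AddCommGroup V₂] [Module k V₂] [HopfRep.Comod k C V₂]

/-- The coaction of the product comodule. -/
noncomputable def prodCoact : V₁ × V₂ →ₗ[k] (V₁ × V₂) ⊗[k] C :=
  LinearMap.coprod
    ((LinearMap.inl k V₁ V₂).rTensor C ∘ₗ HopfRep.Comod.coact (k := k) (A := C))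
    ((LinearMap.inr k V₁ V₂).rTensor C ∘ₗ HopfRep.Comod.coact (k := k) (A := C))

lemma prodCoact_comp_inl :
    (prodCoact : V₁ × V₂ →ₗ[k] (V₁ × V₂) ⊗[k] C) ∘ₗ LinearMap.inl k V₁ V₂ =
      (LinearMap.inl k V₁ V₂).rTensor C ∘ₗ HopfRep.Comod.coact (k := k) (A := C) := by
  apply LinearMap.ext
  intro v
  simp [prodCoact]

lemma prodCoact_comp_inr :
    (prodCoact : V₁ × V₂ →ₗ[k] (V₁ × V₂) ⊗[k] C) ∘ₗ LinearMap.inr k V₁ V₂ =
      (LinearMap.inr k V₁ V₂).rTensor C ∘ₗ HopfRep.Comod.coact (k := k) (A := C) := by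
  apply LinearMap.ext
  intro v
  simp [prodCoact]

/-- The product of two comodules. -/
@[reducible] noncomputable def prodComod : HopfRep.Comod k C (V₁ × V₂) where
  coact := prodCoact
  coassoc := by
    apply LinearMap.ext
    rintro ⟨v₁, v₂⟩
    have h : ((v₁, v₂) : V₁ × V₂) = LinearMap.inl k V₁ V₂ v₁ + LinearMap.inr k V₁ V₂ v₂ := by
      simp
    simp only [LinearMap.comp_apply, LinearEquiv.coe_coe]
    rw [h, map_add, map_add, map_add, map_add,
      coassoc_apply_of_comp prodCoact (LinearMap.inl k V₁ V₂) prodCoact_comp_inl v₁,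
      coassoc_apply_of_comp prodCoact (LinearMap.inr k V₁ V₂) prodCoact_comp_inr v₂]
  counit_comp := by
    apply LinearMap.ext
    rintro ⟨v₁, v₂⟩
    have h : ((v₁, v₂) : V₁ × V₂) = LinearMap.inl k V₁ V₂ v₁ + LinearMap.inr k V₁ V₂ v₂ := by
      simp
    simp only [LinearMap.comp_apply, LinearMap.flip_apply, TensorProduct.mk_apply]
    rw [h, map_add, map_add,
      counit_apply_of_comp prodCoact (LinearMap.inl k V₁ V₂) prodCoact_comp_inl v₁,
      counit_apply_of_comp prodCoact (LinearMap.inr k V₁ V₂) prodCoact_comp_inr v₂,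
      TensorProduct.add_tmul]

lemma isComodHom_inl :
    @Hoch.IsComodHom k _ C _ _ _ V₁ _ _ _ (V₁ × V₂) _ _ prodComod (LinearMap.inl k V₁ V₂) :=
  prodCoact_comp_inl

lemma isComodHom_inr :
    @Hoch.IsComodHom k _ C _ _ _ V₂ _ _ _ (V₁ × V₂) _ _ prodComod (LinearMap.inr k V₁ V₂) :=
  prodCoact_comp_inr

lemma isComodHom_fst :
    @Hoch.IsComodHom k _ C _ _ _ (V₁ × V₂) _ _ prodComod V₁ _ _ _ (LinearMap.fst k V₁ V₂) := by
  apply LinearMap.ext
  rintro ⟨v₁, v₂⟩
  simp only [LinearMap.comp_apply]
  change HopfRep.Comod.coact (k := k) (A := C) v₁ = (LinearMap.fst k V₁ V₂).rTensor C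
    (prodCoact (v₁, v₂))
  have e1 : ∀ y : V₁ ⊗[k] C, (LinearMap.fst k V₁ V₂).rTensor C
      ((LinearMap.inl k V₁ V₂).rTensor C y) = y := by
    intro y
    rw [← LinearMap.comp_apply, ← LinearMap.rTensor_comp, LinearMap.fst_comp_inl,
      LinearMap.rTensor_id, LinearMap.id_apply]
  have e2 : ∀ y : V₂ ⊗[k] C, (LinearMap.fst k V₁ V₂).rTensor C
      ((LinearMap.inr k V₁ V₂).rTensor C y) = 0 := by
    intro y
    rw [← LinearMap.comp_apply, ← LinearMap.rTensor_comp, LinearMap.fst_comp_inr,
      LinearMap.rTensor_zero, LinearMap.zero_apply]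
  simp only [prodCoact, LinearMap.coprod_apply, LinearMap.comp_apply, map_add, e1, e2, add_zero]

lemma isComodHom_snd :
    @Hoch.IsComodHom k _ C _ _ _ (V₁ × V₂) _ _ prodComod V₂ _ _ _ (LinearMap.snd k V₁ V₂) := by
  apply LinearMap.ext
  rintro ⟨v₁, v₂⟩
  simp only [LinearMap.comp_apply]
  change HopfRep.Comod.coact (k := k) (A := C) v₂ = (LinearMap.snd k V₁ V₂).rTensor C
    (prodCoact (v₁, v₂))
  have e1 : ∀ y : V₁ ⊗[k] C, (LinearMap.snd k V₁ V₂).rTensor C
      ((LinearMap.inl k V₁ V₂).rTensor C y) = 0 := by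
    intro y
    rw [← LinearMap.comp_apply, ← LinearMap.rTensor_comp, LinearMap.snd_comp_inl,
      LinearMap.rTensor_zero, LinearMap.zero_apply]
  have e2 : ∀ y : V₂ ⊗[k] C, (LinearMap.snd k V₁ V₂).rTensor C
      ((LinearMap.inr k V₁ V₂).rTensor C y) = y := by
    intro y
    rw [← LinearMap.comp_apply, ← LinearMap.rTensor_comp, LinearMap.snd_comp_inr,
      LinearMap.rTensor_id, LinearMap.id_apply]
  simp only [prodCoact, LinearMap.coprod_apply, LinearMap.comp_apply, map_add, e1, e2, zero_add]

end Prod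

end Groth.Agent.Helper9
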