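import Mathlib
import Groth.Agent.Lib.Helper9.Comod4

/-!
Over a linearly reductive group every comodule (of any dimension) is semisimple.
-/

set_option autoImplicit false

namespace Groth.Agent.Helper9

open TensorProduct

universe u v

section

variable {k : Type u} [Field k] {C : Type v} [AddCommGroup C] [Module k C] [Coalgebra k C]
variable {V : Type v} [AddCommGroup V] [Module k V] [HopfRep.Comod k C V]

/-- Simple subcomodules. -/
def IsSimpleSub (S : Submodule k V) : Prop :=
  HopfRep.IsSubcomod (k := k) (A := C) S ∧ S ≠ ⊥ ∧
    ∀ w : Submodule k V, HopfRep.IsSubcomod (k := k) (A := C) w → w ≤ S → w = ⊥ ∨ w = S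

/-- Every nonzero finite-dimensional subcomodule contains a simple subcomodule. -/
lemma exists_isSimpleSub_le (W : Submodule k V) (hW : HopfRep.IsSubcomod (k := k) (A := C) W)
    [Module.Finite k W] (hne : W ≠ ⊥) :
    ∃ S : Submodule k V, IsSimpleSub (C := C) S ∧ S ≤ W := by
  classical
  let P : ℕ → Prop := fun n => ∃ S : Submodule k V, HopfRep.IsSubcomod (k := k) (A := C) S ∧
    S ≤ W ∧ S ≠ ⊥ ∧ Module.finrank k S = n
  have hP : ∃ n, P n := ⟨_, W, hW, le_rfl, hne, rfl⟩
  obtain ⟨S, hS, hSW, hSne, hSn⟩ := Nat.find_spec hP
  refine ⟨S, ⟨hS, hSne, ?_⟩, hSW⟩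
  intro w hw hwS
  by_cases hw0 : w = ⊥
  · exact Or.inl hw0
  · right
    have hfinS : Module.Finite k S := Module.Finite.of_injective (Submodule.inclusion hSW)
      (Submodule.inclusion_injective hSW)
    have hmin : Nat.find hP ≤ Module.finrank k w :=
      Nat.find_min' hP ⟨w, hw, hwS.trans hSW, hw0, rfl⟩
    rw [← hSn] at hmin
    exact Submodule.eq_of_le_of_finrank_le hwS hmin

end

section Reductive

variable {k : Type u} [Field k] {A : Type v} [CommRing A] [Bialgebra k A]
variable {V : Type v} [AddCommGroup V] [Module k V] [HopfRep.Comod k A V]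

/-- Inside a finite-dimensional subcomodule of a comodule over a linearly reductive group,
every subcomodule has a complementary subcomodule. -/
lemma exists_isCompl_in_of_isLinearlyReductive (hG : HopfRep.IsLinearlyReductive k A)
    (W : Submodule k V) (hW : HopfRep.IsSubcomod (k := k) (A := A) W) [Module.Finite k W]
    (S : Submodule k V) (hS : HopfRep.IsSubcomod (k := k) (A := A) S) (hSW : S ≤ W) :
    ∃ T : Submodule k V, HopfRep.IsSubcomod (k := k) (A := A) T ∧ T ≤ W ∧ S ⊔ T = W ∧
      S ⊓ T = ⊥ := by
  letI instW : HopfRep.Comod k A W := subComod W hW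
  have hsub := isComodHom_subtype W hW
  have hS' : HopfRep.IsSubcomod (k := k) (A := A) (S.comap W.subtype) :=
    isSubcomod_comap W.subtype hsub S hS
  obtain ⟨T', hT', hc⟩ := hG W inferInstance (S.comap W.subtype) hS'
  refine ⟨T'.map W.subtype, isSubcomod_map W.subtype hsub T' hT', ?_, ?_, ?_⟩
  · rintro _ ⟨t, _, rfl⟩
    exact t.2
  · have h1 : (S.comap W.subtype).map W.subtype = S := by
      rw [Submodule.map_comap_subtype]
      exact inf_eq_right.mpr hSW
    rw [← h1, ← Submodule.map_sup, hc.sup_eq_top, Submodule.map_top, Submodule.range_subtype]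
  · have h1 : (S.comap W.subtype).map W.subtype = S := by
      rw [Submodule.map_comap_subtype]
      exact inf_eq_right.mpr hSW
    rw [← h1, ← Submodule.map_inf _ W.injective_subtype, hc.inf_eq_bot, Submodule.map_bot]

/-- Finite-dimensional subcomodules are sums of simple subcomodules (linearly reductive case). -/
lemma le_sSup_isSimpleSub_of_isLinearlyReductive (hG : HopfRep.IsLinearlyReductive k A) :
    ∀ (n : ℕ) (W : Submodule k V), HopfRep.IsSubcomod (k := k) (A := A) W → Module.Finite k W →
      Module.finrank k W = n → W ≤ sSup {S : Submodule k V | IsSimpleSub (C := A) S} := by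
  intro n
  induction n using Nat.strong_induction_on with
  | _ n ih =>
    intro W hW hfin hn
    by_cases hne : W = ⊥
    · rw [hne]; exact bot_le
    · obtain ⟨S, hS, hSW⟩ := exists_isSimpleSub_le W hW hne
      obtain ⟨T, hT, hTW, hsup, hinf⟩ :=
        exists_isCompl_in_of_isLinearlyReductive hG W hW S hS.1 hSW
      have hfinT : Module.Finite k T := Module.Finite.of_injective (Submodule.inclusion hTW)
        (Submodule.inclusion_injective hTW)
      have hfinS : Module.Finite k S := Module.Finite.of_injective (Submodule.inclusion hSW)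
        (Submodule.inclusion_injective hSW)
      have hdim : Module.finrank k T < n := by
        have h1 := Submodule.finrank_sup_add_finrank_inf_eq S T
        rw [hsup, hinf, finrank_bot, add_zero, hn] at h1
        have hSpos : 0 < Module.finrank k S := by
          rw [Module.finrank_pos_iff]
          exact (Submodule.nontrivial_iff_ne_bot).mpr hS.2.1
        omega
      have hTle := ih _ hdim T hT hfinT rfl
      rw [← hsup]
      exact sup_le (le_sSup hS) hTle

/-- Over a linearly reductive group every comodule is semisimple. -/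
theorem isSemisimpleComod_of_isLinearlyReductive (hG : HopfRep.IsLinearlyReductive k A) :
    HopfRep.IsSemisimpleComod k A V := by
  intro W hW
  have htop : sSup {S : Submodule k V | IsSimpleSub (C := A) S} = ⊤ := by
    rw [eq_top_iff]
    intro v _
    obtain ⟨F, hFfin, hvF, hF⟩ := exists_finite_subcomod_mem (k := k) (C := A) v
    exact le_sSup_isSimpleSub_of_isLinearlyReductive hG _ F hF hFfin rfl hvF
  obtain ⟨s, hsT, _, hcompl⟩ := exists_subset_sSupIndep_isCompl
    (fun W : Submodule k V => HopfRep.IsSubcomod (k := k) (A := A) W)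
    (fun a b ha hb => isSubcomod_inf a b ha hb)
    (fun a b ha hb => isSubcomod_sup a b ha hb)
    (fun s hs => isSubcomod_sSup s hs)
    {S : Submodule k V | IsSimpleSub (C := A) S} (fun a ha => ha) htop W hW
  exact ⟨sSup s, isSubcomod_sSup s (fun a ha => (hsT ha).1), hcompl⟩

end Reductive

end Groth.Agent.Helper9
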