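import Mathlib
import Groth.Agent.Lib.Helper9.Comod2

/-!
Unipotent comodules: existence of flags with trivial graded pieces.
-/

set_option autoImplicit false

namespace Groth.Agent.Helper9

open TensorProduct

universe u v w w'

/-- Shift a flag on the target of `π` to a flag on the source, starting with `⊥`. -/
def shiftFlag {k : Type u} [CommRing k] {V : Type w} [AddCommGroup V] [Module k V]
    {V' : Type w'} [AddCommGroup V'] [Module k V'] (π : V →ₗ[k] V')
    (F' : ℕ → Submodule k V') : ℕ → Submodule k V
  | 0 => ⊥
  | j + 1 => (F' j).comap π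

/-- A flag of subcomodules with trivial graded pieces. -/
def HasTrivFlag (k : Type u) (A : Type v) [CommRing k] [Ring A] [Bialgebra k A]
    (V : Type w) [AddCommGroup V] [Module k V] [HopfRep.Comod k A V] : Prop :=
  ∃ (m : ℕ) (F : ℕ → Submodule k V), Monotone F ∧ F 0 = ⊥ ∧ F m = ⊤ ∧
    (∀ i, HopfRep.IsSubcomod (k := k) (A := A) (F i)) ∧
    ∀ i, ∀ v ∈ F (i + 1),
      HopfRep.Comod.coact (k := k) (A := A) v - v ⊗ₜ[k] (1 : A) ∈
        LinearMap.range ((F i).subtype.rTensor A)

section

variable {k : Type u} [Field k] {A : Type v} [CommRing A] [Bialgebra k A]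

theorem hasTrivFlag_of_isUnipotent_aux (hU : HopfRep.IsUnipotent k A) :
    ∀ (n : ℕ) (V : Type v) [AddCommGroup V] [Module k V] [HopfRep.Comod k A V],
      Module.Finite k V → Module.finrank k V = n → HasTrivFlag k A V := by
  intro n
  induction n using Nat.strong_induction_on with
  | _ n ih =>
    intro V _ _ _ hfin hn
    by_cases hV : Subsingleton V
    · refine ⟨0, fun _ => ⊤, monotone_const, ?_, rfl, fun _ => isSubcomod_top,
        fun i v _ => mem_range_rTensor_top _⟩
      exact eq_bot_iff.mpr (fun x _ => by rw [Subsingleton.elim x 0]; exact zero_mem _)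
    · have hnt : Nontrivial V := not_subsingleton_iff_nontrivial.mp hV
      set W := HopfRep.fixedPts k A V with hWdef
      have hWne : W ≠ ⊥ := hU V hfin hnt
      have hW : HopfRep.IsSubcomod (k := k) (A := A) W := isSubcomod_fixedPts
      letI : HopfRep.Comod k A (V ⧸ W) := quotComod W hW
      have hπ : Hoch.IsComodHom A W.mkQ := quotCoact_comp_mkQ W hW
      have hlt : Module.finrank k (V ⧸ W) < n := by
        have h1 := Submodule.finrank_quotient_add_finrank W
        have h2 : 0 < Module.finrank k W := by
          rw [Module.finrank_pos_iff]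
          exact Submodule.nontrivial_iff_ne_bot.mpr hWne
        omega
      obtain ⟨m', F', hmono, h0, hm, hsub, htriv⟩ :=
        ih _ hlt (V ⧸ W) inferInstance rfl
      refine ⟨m' + 1, shiftFlag W.mkQ F', ?_, rfl, ?_, ?_, ?_⟩
      · apply monotone_nat_of_le_succ
        intro i
        cases i with
        | zero => exact bot_le
        | succ j => exact Submodule.comap_mono (hmono (Nat.le_succ j))
      · show (F' m').comap W.mkQ = ⊤
        rw [hm]
        rfl
      · intro i
        cases i with
        | zero => exact isSubcomod_bot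
        | succ j => exact isSubcomod_comap W.mkQ hπ (F' j) (hsub j)
      · intro i v hv
        cases i with
        | zero =>
          have hv' : v ∈ W := by
            have : W.mkQ v ∈ F' 0 := hv
            rw [h0, Submodule.mem_bot] at this
            simpa using this
          rw [(mem_fixedPts_iff v).mp hv', sub_self]
          exact Submodule.zero_mem _
        | succ j =>
          have hv' : W.mkQ v ∈ F' (j + 1) := hv
          have h3 := htriv j _ hv'
          show _ ∈ LinearMap.range (((F' j).comap W.mkQ).subtype.rTensor A)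
          apply mem_range_rTensor_comap
          rw [map_sub, LinearMap.rTensor_tmul]
          have h4 := LinearMap.congr_fun hπ v
          simp only [LinearMap.comp_apply] at h4
          rw [← h4]
          exact h3

theorem hasTrivFlag_of_isUnipotent (hU : HopfRep.IsUnipotent k A)
    (V : Type v) [AddCommGroup V] [Module k V] [HopfRep.Comod k A V] (hfin : Module.Finite k V) :
    HasTrivFlag k A V :=
  hasTrivFlag_of_isUnipotent_aux hU _ V hfin rfl

theorem fixedPts_ne_bot_of_hasTrivFlag
    (V : Type w) [AddCommGroup V] [Module k V] [HopfRep.Comod k A V] [Nontrivial V]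
    (h : HasTrivFlag k A V) : HopfRep.fixedPts k A V ≠ ⊥ := by
  classical
  obtain ⟨m, F, hmono, h0, hm, hsub, htriv⟩ := h
  have hex : ∃ i, F i ≠ ⊥ := ⟨m, by rw [hm]; exact top_ne_bot⟩
  set i := Nat.find hex with hi
  have hi1 : F i ≠ ⊥ := Nat.find_spec hex
  have hi0 : i ≠ 0 := by
    intro h
    rw [h] at hi1
    exact hi1 h0
  obtain ⟨j, hj⟩ := Nat.exists_eq_succ_of_ne_zero hi0
  have hFj : F j = ⊥ := by
    by_contra hne
    have := Nat.find_min' hex hne
    omega
  rw [hj] at hi1
  obtain ⟨v, hv, hv0⟩ := Submodule.exists_mem_ne_zero_of_ne_bot hi1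
  have h1 := htriv j v hv
  rw [hFj] at h1
  have h2 := eq_zero_of_mem_range_rTensor_bot _ h1
  intro hbot
  have hvfix : v ∈ HopfRep.fixedPts k A V := (mem_fixedPts_iff v).mpr (sub_eq_zero.mp h2)
  rw [hbot, Submodule.mem_bot] at hvfix
  exact hv0 hvfix

end

end Groth.Agent.Helper9
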