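import Mathlib
import Groth.Agent.Lib.Helper9.Comod5
import Groth.Agent.Lib.Helper9.Unipotent

/-!
More on comodules over a field: simple subcomodules as simple comodules, dimension of preimages
under quotient maps, matrix-coefficient maps `V → A`.
-/

set_option autoImplicit false

namespace Groth.Agent.Helper9

open TensorProduct

universe u v w

lemma finrank_comap_mkQ {k : Type u} [Field k] {V : Type w} [AddCommGroup V] [Module k V]
    [Module.Finite k V] (W : Submodule k V) (N : Submodule k (V ⧸ W)) :
    Module.finrank k ↥(N.comap W.mkQ) = Module.finrank k ↥N + Module.finrank k ↥W := by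
  have hle : W ≤ N.comap W.mkQ := by
    intro x hx
    rw [Submodule.mem_comap]
    have : W.mkQ x = 0 := by simpa using hx
    rw [this]; exact zero_mem _
  have hmap : (N.comap W.mkQ).map W.mkQ = N :=
    Submodule.map_comap_eq_of_surjective W.mkQ_surjective N
  have e := Submodule.quotientQuotientEquivQuotient W (N.comap W.mkQ) hle
  rw [hmap] at e
  have h1 := e.finrank_eq
  have h2 := Submodule.finrank_quotient_add_finrank W
  have h3 := Submodule.finrank_quotient_add_finrank N
  have h4 := Submodule.finrank_quotient_add_finrank (N.comap W.mkQ)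
  omega

section Simple

variable {k : Type u} [Field k] {C : Type v} [AddCommGroup C] [Module k C] [Coalgebra k C]
variable {V : Type v} [AddCommGroup V] [Module k V] [HopfRep.Comod k C V]

/-- A simple subcomodule is a simple comodule for the induced structure. -/
lemma isSimpleComod_of_isSimpleSub (S : Submodule k V) (hS : IsSimpleSub (C := C) S) :
    @HopfRep.IsSimpleComod k C _ _ _ _ S _ _ (subComod S hS.1) := by
  letI := subComod S hS.1
  refine ⟨Submodule.nontrivial_iff_ne_bot.mpr hS.2.1, ?_⟩
  intro W hW
  have h1 : HopfRep.IsSubcomod (k := k) (A := C) (W.map S.subtype) :=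
    isSubcomod_map S.subtype (isComodHom_subtype S hS.1) W hW
  have h2 : W.map S.subtype ≤ S := by
    rintro _ ⟨w, _, rfl⟩
    exact w.2
  rcases hS.2.2 _ h1 h2 with h | h
  · left
    rw [eq_bot_iff]
    intro x hx
    have hx' : (x : V) ∈ W.map S.subtype := ⟨x, hx, rfl⟩
    rw [h, Submodule.mem_bot] at hx'
    rw [Submodule.mem_bot]
    exact Subtype.ext hx'
  · right
    rw [eq_top_iff]
    intro x _
    have hx : (x : V) ∈ W.map S.subtype := by rw [h]; exact x.2
    obtain ⟨w, hw, hwx⟩ := hx
    have : w = x := Subtype.ext hwx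
    rw [← this]; exact hw

/-- A nontrivial finite-dimensional comodule has a simple subcomodule. -/
lemma exists_isSimpleSub [Module.Finite k V] [Nontrivial V] :
    ∃ S : Submodule k V, IsSimpleSub (C := C) S := by
  obtain ⟨S, hS, _⟩ := exists_isSimpleSub_le (C := C) (⊤ : Submodule k V) isSubcomod_top
    top_ne_bot
  exact ⟨S, hS⟩

end Simple

section Coeff

variable {k : Type u} [Field k] {A : Type v} [AddCommGroup A] [Module k A] [Coalgebra k A]
variable {V : Type w} [AddCommGroup V] [Module k V] [HopfRep.Comod k A V]

/-- matrix coefficient map `w ↦ (f ⊗ id)(ρ w)` -/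
noncomputable def coeff (f : V →ₗ[k] k) : V →ₗ[k] A :=
  (TensorProduct.lid k A).toLinearMap ∘ₗ f.rTensor A ∘ₗ HopfRep.Comod.coact (k := k) (A := A)

omit [HopfRep.Comod k A V] in
lemma comul_lid (f : V →ₗ[k] k) (y : V ⊗[k] A) :
    CoalgebraStruct.comul (R := k) (A := A) (TensorProduct.lid k A (f.rTensor A y)) =
      TensorProduct.lid k (A ⊗[k] A)
        (f.rTensor (A ⊗[k] A) ((CoalgebraStruct.comul (R := k) (A := A)).lTensor V y)) := by
  induction y using TensorProduct.induction_on with
  | zero => simp
  | tmul u a => simp
  | add x y hx hy => simp only [map_add, hx, hy]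

omit [HopfRep.Comod k A V] [Coalgebra k A] in
lemma lid_assoc_aux (f : V →ₗ[k] k) (a : A) (y : V ⊗[k] A) :
    TensorProduct.lid k (A ⊗[k] A)
        (f.rTensor (A ⊗[k] A) (TensorProduct.assoc k V A A (y ⊗ₜ[k] a))) =
      (TensorProduct.lid k A (f.rTensor A y)) ⊗ₜ[k] a := by
  induction y using TensorProduct.induction_on with
  | zero => simp
  | tmul u a' => simp [TensorProduct.smul_tmul']
  | add x y hx hy => simp only [map_add, TensorProduct.add_tmul, hx, hy]

lemma lid_assoc (f : V →ₗ[k] k) (z : V ⊗[k] A) :
    TensorProduct.lid k (A ⊗[k] A)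
        (f.rTensor (A ⊗[k] A) (TensorProduct.assoc k V A A
          ((HopfRep.Comod.coact (k := k) (A := A) (V := V)).rTensor A z))) =
      (coeff f).rTensor A z := by
  induction z using TensorProduct.induction_on with
  | zero => simp
  | tmul u a =>
    rw [LinearMap.rTensor_tmul, lid_assoc_aux, LinearMap.rTensor_tmul]
    rfl
  | add x y hx hy => simp only [map_add, hx, hy]

/-- `coeff f` is a comodule map to the regular comodule. -/
lemma comul_coeff (f : V →ₗ[k] k) (w : V) :
    CoalgebraStruct.comul (R := k) (A := A) (coeff f w) =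
      (coeff f).rTensor A (HopfRep.Comod.coact (k := k) (A := A) w) := by
  have hco := LinearMap.congr_fun (HopfRep.Comod.coassoc (k := k) (A := A) (V := V)) w
  simp only [LinearMap.comp_apply, LinearEquiv.coe_coe] at hco
  show CoalgebraStruct.comul (R := k) (A := A)
    (TensorProduct.lid k A (f.rTensor A (HopfRep.Comod.coact (k := k) (A := A) w))) = _
  rw [comul_lid, ← hco, lid_assoc]

omit [HopfRep.Comod k A V] in
lemma counit_lid (f : V →ₗ[k] k) (y : V ⊗[k] A) :
    CoalgebraStruct.counit (R := k) (A := A) (TensorProduct.lid k A (f.rTensor A y)) =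
      f (TensorProduct.rid k V ((CoalgebraStruct.counit (R := k) (A := A)).lTensor V y)) := by
  induction y using TensorProduct.induction_on with
  | zero => simp
  | tmul u a => simp [mul_comm]
  | add x y hx hy => simp only [map_add, hx, hy]

lemma counit_coeff (f : V →ₗ[k] k) (w : V) :
    CoalgebraStruct.counit (R := k) (A := A) (coeff f w) = f w := by
  have hcu := LinearMap.congr_fun (HopfRep.Comod.counit_comp (k := k) (A := A) (V := V)) w
  simp only [LinearMap.comp_apply, LinearMap.flip_apply, TensorProduct.mk_apply] at hcu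
  show CoalgebraStruct.counit (R := k) (A := A)
    (TensorProduct.lid k A (f.rTensor A (HopfRep.Comod.coact (k := k) (A := A) w))) = _
  rw [counit_lid, hcu]
  simp

lemma isComodHom_coeff (f : V →ₗ[k] k) : Hoch.IsComodHom A (coeff (A := A) f) := by
  apply LinearMap.ext
  intro w
  exact comul_coeff f w

end Coeff

end Groth.Agent.Helper9
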