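import Mathlib
import Groth.Agent.Lib.Helper9.Comod5

/-!
Comodule retractions from complementary subcomodules.
-/

set_option autoImplicit false

namespace Groth.Agent.Helper9

open TensorProduct

universe u v w w'

section

variable {k : Type u} [Field k] {C : Type v} [AddCommGroup C] [Module k C] [Coalgebra k C]
variable {V : Type w} [AddCommGroup V] [Module k V] [HopfRep.Comod k C V]
variable {U : Type w'} [AddCommGroup U] [Module k U] [HopfRep.Comod k C U]

/-- An injective comodule map whose range has a complementary subcomodule admits a comodule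
retraction. -/
theorem exists_comod_retraction_of_isCompl (f : V →ₗ[k] U) (hf : Hoch.IsComodHom C f)
    (hinj : Function.Injective f) (W' : Submodule k U)
    (hW' : HopfRep.IsSubcomod (k := k) (A := C) W') (hc : IsCompl (LinearMap.range f) W') :
    ∃ π : U →ₗ[k] V, Hoch.IsComodHom C π ∧ π ∘ₗ f = LinearMap.id := by
  let e : V ≃ₗ[k] LinearMap.range f := LinearEquiv.ofInjective f hinj
  let P : U →ₗ[k] LinearMap.range f := Submodule.linearProjOfIsCompl (LinearMap.range f) W' hc
  let π : U →ₗ[k] V := e.symm.toLinearMap ∘ₗ P
  have hπf : π ∘ₗ f = LinearMap.id := by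
    apply LinearMap.ext
    intro v
    have h1 : P (f v) = e v := by
      have := Submodule.linearProjOfIsCompl_apply_left hc (⟨f v, LinearMap.mem_range_self f v⟩ :
        LinearMap.range f)
      exact this
    simp only [π, LinearMap.comp_apply, LinearEquiv.coe_coe, h1, LinearEquiv.symm_apply_apply,
      LinearMap.id_apply]
  have hπW : π ∘ₗ W'.subtype = 0 := by
    apply LinearMap.ext
    intro w
    have h1 : P (w : U) = 0 :=
      (Submodule.linearProjOfIsCompl_apply_eq_zero_iff hc).mpr w.2
    simp only [π, LinearMap.comp_apply, Submodule.subtype_apply, h1, map_zero,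
      LinearMap.zero_apply]
  refine ⟨π, ?_, hπf⟩
  rw [isComodHom_iff]
  intro x
  have hx : x ∈ LinearMap.range f ⊔ W' := by rw [hc.sup_eq_top]; exact Submodule.mem_top
  obtain ⟨_, ⟨v, rfl⟩, w', hw', rfl⟩ := Submodule.mem_sup.mp hx
  have h1 : HopfRep.Comod.coact (k := k) (A := C) (π (f v)) =
      π.rTensor C (HopfRep.Comod.coact (k := k) (A := C) (f v)) := by
    have e1 : ∀ y : V ⊗[k] C, π.rTensor C (f.rTensor C y) = y := by
      intro y
      rw [← LinearMap.comp_apply, ← LinearMap.rTensor_comp, hπf,
        LinearMap.rTensor_id, LinearMap.id_apply]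
    have := LinearMap.congr_fun hπf v
    simp only [LinearMap.comp_apply, LinearMap.id_apply] at this
    rw [(isComodHom_iff f).mp hf, e1, this]
  have h2 : HopfRep.Comod.coact (k := k) (A := C) (π w') =
      π.rTensor C (HopfRep.Comod.coact (k := k) (A := C) w') := by
    have hz : π w' = 0 := LinearMap.congr_fun hπW ⟨w', hw'⟩
    obtain ⟨y, hy⟩ := hW' w' hw'
    have e2 : ∀ y : W' ⊗[k] C, π.rTensor C (W'.subtype.rTensor C y) = 0 := by
      intro y
      rw [← LinearMap.comp_apply, ← LinearMap.rTensor_comp, hπW,
        LinearMap.rTensor_zero, LinearMap.zero_apply]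
    rw [hz, map_zero, ← hy, e2]
  rw [map_add, map_add, map_add, map_add, h1, h2]

end

end Groth.Agent.Helper9
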