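import Mathlib
import Groth.Agent.Lib.Helper9.Comod6

/-!
Reynolds operators for comodules over a linearly reductive Hopf algebra.
-/

set_option autoImplicit false

namespace Groth.Agent.Helper9

open TensorProduct

universe u v

/-- Reynolds operators commute with comodule maps. -/
theorem reynolds_comm {k : Type u} [Field k] {A : Type v} [CommRing A] [HopfAlgebra k A]
    (hG : HopfRep.IsLinearlyReductive k A)
    {V W : Type v} [AddCommGroup V] [Module k V] [HopfRep.Comod k A V]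
    [AddCommGroup W] [Module k W] [HopfRep.Comod k A W]
    (E : V →ₗ[k] V) (hE₁ : Hoch.IsComodHom A E) (hE₂ : E ∘ₗ E = E)
    (hE₃ : ∀ x : V, E x = x ↔ x ∈ HopfRep.fixedPts k A V)
    (E' : W →ₗ[k] W) (hE'₁ : Hoch.IsComodHom A E') (hE'₂ : E' ∘ₗ E' = E')
    (hE'₃ : ∀ y : W, E' y = y ↔ y ∈ HopfRep.fixedPts k A W)
    (u : V →ₗ[k] W) (hu : Hoch.IsComodHom A u) :
    E' ∘ₗ u = u ∘ₗ E := by
  set φ : V →ₗ[k] W := E' ∘ₗ u with hφdef
  have hφ : Hoch.IsComodHom A φ := isComodHom_comp hE'₁ hu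
  have hrangeE' : ∀ y, E' y ∈ HopfRep.fixedPts k A W :=
    fun y => (hE'₃ (E' y)).mp (LinearMap.congr_fun hE'₂ y)
  have hrangeE : ∀ x, E x ∈ HopfRep.fixedPts k A V :=
    fun x => (hE₃ (E x)).mp (LinearMap.congr_fun hE₂ x)
  have hu_fix : ∀ x ∈ HopfRep.fixedPts k A V, u x ∈ HopfRep.fixedPts k A W := by
    intro x hx
    have h1 : HopfRep.Comod.coact (k := k) (A := A) x = x ⊗ₜ[k] (1 : A) := hx
    show HopfRep.Comod.coact (k := k) (A := A) (u x) = u x ⊗ₜ[k] (1 : A)
    rw [(isComodHom_iff u).mp hu, h1, LinearMap.rTensor_tmul]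
  -- crux
  have hK : ∀ x, E x = 0 → φ x = 0 := by
    have hKsub : HopfRep.IsSubcomod (k := k) (A := A) (LinearMap.ker E) :=
      isSubcomod_ker_of_isComodHom E hE₁
    have hN₀ : HopfRep.IsSubcomod (k := k) (A := A) (LinearMap.ker φ ⊓ LinearMap.ker E) :=
      isSubcomod_inf _ _ (isSubcomod_ker_of_isComodHom φ hφ) hKsub
    obtain ⟨T', hT', hc⟩ := isSemisimpleComod_of_isLinearlyReductive hG _ hN₀
    have hT : HopfRep.IsSubcomod (k := k) (A := A) (T' ⊓ LinearMap.ker E) :=
      isSubcomod_inf _ _ hT' hKsub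
    set T : Submodule k V := T' ⊓ LinearMap.ker E with hTdef
    have hinjT : Function.Injective (φ ∘ₗ T.subtype) := by
      rw [← LinearMap.ker_eq_bot, eq_bot_iff]
      intro t ht
      rw [LinearMap.mem_ker, LinearMap.comp_apply] at ht
      have h1 : (t : V) ∈ (LinearMap.ker φ ⊓ LinearMap.ker E) ⊓ T' :=
        ⟨⟨ht, t.2.2⟩, t.2.1⟩
      rw [hc.inf_eq_bot, Submodule.mem_bot] at h1
      rw [Submodule.mem_bot]
      exact Subtype.ext h1
    have hTfix : ∀ t ∈ T, t ∈ HopfRep.fixedPts k A V := by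
      intro t ht
      obtain ⟨y, hy⟩ := hT t ht
      have hinj2 : Function.Injective ((φ ∘ₗ T.subtype).rTensor A) :=
        Module.Flat.rTensor_preserves_injective_linearMap _ hinjT
      have hy0 : y - (⟨t, ht⟩ : T) ⊗ₜ[k] (1 : A) = 0 := by
        apply hinj2
        have e1 : (φ ∘ₗ T.subtype).rTensor A y = HopfRep.Comod.coact (k := k) (A := A) (φ t) := by
          rw [LinearMap.rTensor_comp, LinearMap.comp_apply, hy, ← (isComodHom_iff φ).mp hφ]
        have e2 : (φ ∘ₗ T.subtype).rTensor A ((⟨t, ht⟩ : T) ⊗ₜ[k] (1 : A)) = φ t ⊗ₜ[k] (1 : A) := by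
          rw [LinearMap.rTensor_tmul]
          rfl
        rw [map_zero, map_sub, e1, e2, sub_eq_zero]
        exact hrangeE' (u t)
      rw [sub_eq_zero] at hy0
      show HopfRep.Comod.coact (k := k) (A := A) t = t ⊗ₜ[k] (1 : A)
      rw [← hy, hy0, LinearMap.rTensor_tmul]
      rfl
    have hT0 : ∀ t ∈ T, t = 0 := by
      intro t ht
      have h1 : E t = t := (hE₃ t).mpr (hTfix t ht)
      have h2 : E t = 0 := ht.2
      rw [← h1, h2]
    intro x hx
    have hxtop : x ∈ (LinearMap.ker φ ⊓ LinearMap.ker E) ⊔ T' := by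
      rw [hc.sup_eq_top]; trivial
    obtain ⟨n, hn, t', ht', hsum⟩ := Submodule.mem_sup.mp hxtop
    have ht'K : t' ∈ LinearMap.ker E := by
      have : t' = x - n := by rw [← hsum]; abel
      rw [this]
      exact Submodule.sub_mem _ hx hn.2
    have ht'0 : t' = 0 := hT0 t' ⟨ht', ht'K⟩
    rw [← hsum, ht'0, add_zero]
    exact hn.1
  apply LinearMap.ext
  intro x
  have h1 : x = E x + (x - E x) := by abel
  have h2 : E (x - E x) = 0 := by
    rw [map_sub, ← LinearMap.comp_apply, hE₂, sub_self]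
  have h3 : φ (x - E x) = 0 := hK _ h2
  have h4 : φ (E x) = u (E x) := (hE'₃ _).mpr (hu_fix _ (hrangeE x))
  show φ x = u (E x)
  rw [← h4]
  conv_lhs => rw [h1]
  rw [map_add, h3, add_zero]


section
variable {k : Type u} [Field k] {A : Type v} [CommRing A] [HopfAlgebra k A]

/-- Existence of a Reynolds operator. -/
theorem exists_reynolds (hG : HopfRep.IsLinearlyReductive k A)
    (V : Type v) [AddCommGroup V] [Module k V] [HopfRep.Comod k A V] :
    ∃ E : V →ₗ[k] V, Hoch.IsComodHom A E ∧ E ∘ₗ E = E ∧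
      ∀ x : V, E x = x ↔ x ∈ HopfRep.fixedPts k A V := by
  have hF : HopfRep.IsSubcomod (k := k) (A := A) (HopfRep.fixedPts k A V) := isSubcomod_fixedPts
  obtain ⟨W', hW', hc⟩ := isSemisimpleComod_of_isLinearlyReductive hG _ hF
  letI := subComod (HopfRep.fixedPts k A V) hF
  have hsub := isComodHom_subtype (HopfRep.fixedPts k A V) hF
  have hc' : IsCompl (LinearMap.range (HopfRep.fixedPts k A V).subtype) W' := by
    rw [Submodule.range_subtype]; exact hc
  obtain ⟨π, hπ, hπι⟩ := exists_comod_retraction_of_isCompl (HopfRep.fixedPts k A V).subtype hsub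
    (HopfRep.fixedPts k A V).injective_subtype W' hW' hc'
  refine ⟨(HopfRep.fixedPts k A V).subtype ∘ₗ π, isComodHom_comp hsub hπ, ?_, ?_⟩
  · rw [LinearMap.comp_assoc, ← LinearMap.comp_assoc π, hπι, LinearMap.id_comp]
  · intro x
    constructor
    · intro hx
      rw [← hx]
      exact (π x).2
    · intro hx
      have := LinearMap.congr_fun hπι ⟨x, hx⟩
      simp only [LinearMap.comp_apply, LinearMap.id_apply] at this ⊢
      have h2 : π x = ⟨x, hx⟩ := this
      rw [h2]
      rfl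

/-- A Reynolds operator preserves every subcomodule. -/
theorem reynolds_mem_of_isSubcomod (hG : HopfRep.IsLinearlyReductive k A)
    {V : Type v} [AddCommGroup V] [Module k V] [HopfRep.Comod k A V]
    (E : V →ₗ[k] V) (hE₁ : Hoch.IsComodHom A E) (hE₂ : E ∘ₗ E = E)
    (hE₃ : ∀ x : V, E x = x ↔ x ∈ HopfRep.fixedPts k A V)
    (U : Submodule k V) (hU : HopfRep.IsSubcomod (k := k) (A := A) U) (u : V) (hu : u ∈ U) :
    E u ∈ U := by
  letI := subComod U hU
  obtain ⟨EU, hEU₁, hEU₂, hEU₃⟩ := exists_reynolds hG U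
  have h := reynolds_comm hG EU hEU₁ hEU₂ hEU₃ E hE₁ hE₂ hE₃ U.subtype (isComodHom_subtype U hU)
  have h2 := LinearMap.congr_fun h ⟨u, hu⟩
  simp only [LinearMap.comp_apply, Submodule.subtype_apply] at h2
  rw [h2]
  exact (EU ⟨u, hu⟩).2

end

end Groth.Agent.Helper9
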