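import Mathlib
import Groth.Prelude.Def_GLin
import Groth.Agent.Lib.Helper9.Comod7
import Groth.Agent.Lib.Helper9.Reynolds

/-!
Orbit maps of rational points of a comodule algebra: the orbit ideal is a stable ideal;
rational points over an algebraically closed field (Nullstellensatz).
-/

set_option autoImplicit false

namespace Groth.Agent.Helper9.OrbitLib

open TensorProduct Groth.Agent.Helper9

universe u v w

section Null
variable {k : Type u} [Field k] [IsAlgClosed k] {R : Type w} [CommRing R] [Algebra k R]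
  [Algebra.FiniteType k R]

/-- Nullstellensatz: a proper ideal of a finite type algebra over an algebraically closed field
is contained in the kernel of a rational point. -/
theorem exists_algHom_of_ne_top (J : Ideal R) (hJ : J ≠ ⊤) :
    ∃ z : R →ₐ[k] k, J ≤ RingHom.ker z := by
  obtain ⟨m, hm, hJm⟩ := Ideal.exists_le_maximal J hJ
  let _ : Field (R ⧸ m) := Ideal.Quotient.field m
  have : Algebra.FiniteType k (R ⧸ m) :=
    Algebra.FiniteType.of_surjective (Ideal.Quotient.mkₐ k m) (Ideal.Quotient.mkₐ_surjective k m)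
  have : Module.Finite k (R ⧸ m) := finite_of_finite_type_of_isJacobsonRing k (R ⧸ m)
  have hbij : Function.Bijective (algebraMap k (R ⧸ m)) :=
    IsAlgClosed.algebraMap_bijective_of_isIntegral
  let e : k ≃ₐ[k] (R ⧸ m) := AlgEquiv.ofBijective (Algebra.ofId k (R ⧸ m)) hbij
  refine ⟨(e.symm : (R ⧸ m) →ₐ[k] k).comp (Ideal.Quotient.mkₐ k m), ?_⟩
  intro x hx
  rw [RingHom.mem_ker]
  have h1 : Ideal.Quotient.mkₐ k m x = 0 := by
    rw [Ideal.Quotient.mkₐ_eq_mk, Ideal.Quotient.eq_zero_iff_mem]
    exact hJm hx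
  rw [AlgHom.comp_apply, h1, map_zero]

end Null

section Orbit
variable {k : Type u} [Field k] {A : Type v} [CommRing A] [Bialgebra k A]
variable {R : Type w} [CommRing R] [Algebra k R] [HopfRep.Comod k A R] [GLin.IsCoactAlg k A R]

lemma orbitHom_eq_coeff (x : R →ₐ[k] k) (f : R) :
    GLin.orbitHom k A x f = coeff (A := A) x.toLinearMap f := rfl

/-- the orbit ideal is a stable ideal -/
theorem isSubcomod_ker_orbitHom (x : R →ₐ[k] k) :
    HopfRep.IsSubcomod (k := k) (A := A)
      ((RingHom.ker (GLin.orbitHom k A x)).restrictScalars k) := by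
  have h := isSubcomod_ker_of_isComodHom (C := A) (coeff (A := A) x.toLinearMap)
    (isComodHom_coeff x.toLinearMap)
  intro w hw
  have hw' : w ∈ LinearMap.ker (coeff (A := A) x.toLinearMap) := by
    rw [LinearMap.mem_ker, ← orbitHom_eq_coeff]
    exact hw
  obtain ⟨t, ht⟩ := h w hw'
  have hle : LinearMap.ker (coeff (A := A) x.toLinearMap) ≤
      (RingHom.ker (GLin.orbitHom k A x)).restrictScalars k := by
    intro y hy
    show GLin.orbitHom k A x y = 0
    rw [orbitHom_eq_coeff]
    exact hy
  refine ⟨(Submodule.inclusion hle).rTensor A t, ?_⟩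
  rw [← ht, ← LinearMap.comp_apply, ← LinearMap.rTensor_comp]
  rfl

lemma orbitHom_of_mem_invariants (x : R →ₐ[k] k) (f : R) (hf : f ∈ GLin.invariants k A R) :
    GLin.orbitHom k A x f = algebraMap k A (x f) := by
  have h1 : HopfRep.Comod.coact (k := k) (A := A) f = f ⊗ₜ[k] (1 : A) := hf
  rw [orbitHom_eq_coeff]
  show TensorProduct.lid k A (x.toLinearMap.rTensor A (HopfRep.Comod.coact (k := k) (A := A) f)) = _
  rw [h1, LinearMap.rTensor_tmul, TensorProduct.lid_tmul, Algebra.algebraMap_eq_smul_one]
  rfl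

end Orbit

end Groth.Agent.Helper9.OrbitLib
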