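import Mathlib

/-! Factoring morphisms from the spectrum of a local ring through an affine open (helper9). -/

set_option autoImplicit false

universe u

open CategoryTheory AlgebraicGeometry

namespace Groth.Agent.Lib.Helper9.ValCritAff

theorem factor_affine {X : Scheme.{u}} (S : CommRingCat.{u}) [IsLocalRing S] (h : Spec S ⟶ X)
    {U : X.Opens} (hU : IsAffineOpen U) (hx : h (IsLocalRing.closedPoint S) ∈ U) :
    ∃ a : Γ(X, U) ⟶ S, h = Spec.map a ≫ hU.fromSpec := by
  have htop : h ⁻¹ᵁ U = ⊤ := Scheme.preimage_eq_top_of_closedPoint_mem h hx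
  have := IsAffineOpen.SpecMap_appLE_fromSpec h hU (isAffineOpen_top _) htop.ge
  rw [IsAffineOpen.fromSpec_top, Scheme.isoSpec_Spec_inv] at this
  refine ⟨h.appLE U ⊤ htop.ge ≫ (Scheme.ΓSpecIso S).hom, ?_⟩
  rw [Spec.map_comp, Category.assoc, this, ← Category.assoc, ← Spec.map_comp, Iso.inv_hom_id,
    Spec.map_id, Category.id_comp]

theorem factor_unique {X : Scheme.{u}} {S : CommRingCat.{u}} {U : X.Opens} (hU : IsAffineOpen U)
    {a b : Γ(X, U) ⟶ S} (h : Spec.map a ≫ hU.fromSpec = Spec.map b ≫ hU.fromSpec) : a = b := by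
  rw [cancel_mono] at h
  exact Spec.map_injective h

end Groth.Agent.Lib.Helper9.ValCritAff
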