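import Mathlib
import Groth.Agent.Lib.Helper9.ValCritAff

/-! Gluing morphisms out of the spectrum of a composite valuation ring (helper9). -/

set_option autoImplicit false

universe u

open CategoryTheory AlgebraicGeometry

namespace Groth.Agent.Lib.Helper9.ValCritGlue

open Groth.Agent.Lib.Helper9.ValCritAff

/-- two morphisms from the spectrum of a local ring agreeing at the closed point and after
restriction along an injective ring map are equal -/
theorem eq_of_comp_eq {X : Scheme.{u}} {S S' : CommRingCat.{u}} [IsLocalRing S]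
    (e : S ⟶ S') (he : Function.Injective e.hom) (p₁ p₂ : Spec S ⟶ X)
    (hcl : p₁ (IsLocalRing.closedPoint S) = p₂ (IsLocalRing.closedPoint S))
    (h : Spec.map e ≫ p₁ = Spec.map e ≫ p₂) : p₁ = p₂ := by
  obtain ⟨_, ⟨U, hU, rfl⟩, hxU, -⟩ := X.isBasis_affineOpens.exists_subset_of_mem_open
    (Set.mem_univ (p₁ (IsLocalRing.closedPoint S))) isOpen_univ
  obtain ⟨d₁, hd₁⟩ := factor_affine _ p₁ hU hxU
  obtain ⟨d₂, hd₂⟩ := factor_affine _ p₂ hU (hcl ▸ hxU)
  have : d₁ ≫ e = d₂ ≫ e := by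
    apply factor_unique hU
    rw [Spec.map_comp, Spec.map_comp, Category.assoc, Category.assoc, ← hd₁, ← hd₂, h]
  have hd : d₁ = d₂ := by
    ext t
    apply he
    exact congrArg (fun m => m.hom t) this
  rw [hd₁, hd₂, hd]

/-- variant: the closed points agree because of a local ring map from a third local ring -/
theorem eq_of_comp_eq' {X : Scheme.{u}} {S S' S'' : CommRingCat.{u}} [IsLocalRing S]
    [IsLocalRing S'']
    (e : S ⟶ S') (he : Function.Injective e.hom) (s : S ⟶ S'') [IsLocalHom s.hom]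
    (p₁ p₂ : Spec S ⟶ X)
    (hs : Spec.map s ≫ p₁ = Spec.map s ≫ p₂)
    (h : Spec.map e ≫ p₁ = Spec.map e ≫ p₂) : p₁ = p₂ := by
  apply eq_of_comp_eq e he p₁ p₂ _ h
  have hcl : (Spec.map s) (IsLocalRing.closedPoint S'') = IsLocalRing.closedPoint S :=
    Spec_closedPoint
  have e1 : (Spec.map s ≫ p₁) (IsLocalRing.closedPoint S'') =
      (Spec.map s ≫ p₂) (IsLocalRing.closedPoint S'') := by rw [hs]
  change p₁ ((Spec.map s) (IsLocalRing.closedPoint S'')) =
    p₂ ((Spec.map s) (IsLocalRing.closedPoint S'')) at e1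
  rw [hcl] at e1
  exact e1

section Glue

variable {T : Scheme.{u}} (K : Type u) [Field K] (R R' : ValuationSubring K) (hRR' : R ≤ R')
  (ι : ↥R →+* ↥R') (hι : ∀ x : ↥R, ((ι x : ↥R') : K) = (x : K))
  (Rt : ValuationSubring (IsLocalRing.ResidueField ↥R')) (σ : ↥R →+* ↥Rt)
  (hσs : Function.Surjective σ)
  (hσ : ∀ x : ↥R, ((σ x : ↥Rt) : IsLocalRing.ResidueField ↥R') = IsLocalRing.residue ↥R' (ι x))

include hRR' hι hσs hσ in
/-- `R` is the fibre product of `R'` and `Rt` over the residue field of `R'`. -/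
theorem mem_of_residue_mem (r' : ↥R') (hr' : IsLocalRing.residue ↥R' r' ∈ Rt) : (r' : K) ∈ R := by
  have hmax : ∀ x : ↥R', x ∈ IsLocalRing.maximalIdeal ↥R' → (x : K) ∈ R := by
    intro x hx
    by_contra hxR
    have hx0 : (x : K) ≠ 0 := fun h0 => hxR (h0 ▸ R.zero_mem)
    have hinv : (x : K)⁻¹ ∈ R := (R.mem_or_inv_mem (x : K)).resolve_left hxR
    have hu : IsUnit x := by
      refine ⟨⟨x, ⟨_, hRR' hinv⟩, ?_, ?_⟩, rfl⟩
      · apply Subtype.ext; exact mul_inv_cancel₀ hx0
      · apply Subtype.ext; exact inv_mul_cancel₀ hx0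
    exact (IsLocalRing.mem_maximalIdeal x).1 hx hu
  obtain ⟨r, hr⟩ := hσs ⟨_, hr'⟩
  have h1 : IsLocalRing.residue ↥R' (ι r) = IsLocalRing.residue ↥R' r' := by
    rw [← hσ, hr]
  have h2 : r' - ι r ∈ IsLocalRing.maximalIdeal ↥R' := by
    rw [← IsLocalRing.residue_eq_zero_iff, map_sub, h1, sub_self]
  have h3 := hmax _ h2
  have h4 : ((r' - ι r : ↥R') : K) = (r' : K) - (r : K) := by
    rw [← hι]; rfl
  rw [h4] at h3
  have := add_mem h3 r.2
  simpa using this

include hRR' hι hσs hσ in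
theorem glue (g : Spec (CommRingCat.of ↥R') ⟶ T) (ht : Spec (CommRingCat.of ↥Rt) ⟶ T)
    (hc : Spec.map (CommRingCat.ofHom Rt.subtype) ≫ ht =
      Spec.map (CommRingCat.ofHom (IsLocalRing.residue ↥R')) ≫ g) :
    ∃! m : Spec (CommRingCat.of ↥R) ⟶ T,
      Spec.map (CommRingCat.ofHom ι) ≫ m = g ∧ Spec.map (CommRingCat.ofHom σ) ≫ m = ht := by
  haveI : IsLocalRing (CommRingCat.of ↥R) := inferInstanceAs (IsLocalRing ↥R)
  haveI : IsLocalRing (CommRingCat.of ↥R') := inferInstanceAs (IsLocalRing ↥R')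
  haveI : IsLocalRing (CommRingCat.of ↥Rt) := inferInstanceAs (IsLocalRing ↥Rt)
  have hιinj : Function.Injective ι := by
    intro a b hab
    apply Subtype.ext
    rw [← hι, ← hι, hab]
  have hσloc : IsLocalHom σ := hσs.isLocalHom
  have : IsLocalHom (CommRingCat.ofHom σ).hom := hσloc
  obtain ⟨_, ⟨V, hV, rfl⟩, hyV, -⟩ := T.isBasis_affineOpens.exists_subset_of_mem_open
    (Set.mem_univ (ht (IsLocalRing.closedPoint (CommRingCat.of ↥Rt)))) isOpen_univ
  obtain ⟨ct, hct⟩ := factor_affine _ ht hV hyV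
  have httop : ht ⁻¹ᵁ V = ⊤ := Scheme.preimage_eq_top_of_closedPoint_mem ht hyV
  have hgV : g (IsLocalRing.closedPoint (CommRingCat.of ↥R')) ∈ V := by
    have pt : Spec (CommRingCat.of (IsLocalRing.ResidueField ↥R')) :=
      IsLocalRing.closedPoint (IsLocalRing.ResidueField ↥R')
    have h1 : (Spec.map (CommRingCat.ofHom (IsLocalRing.residue ↥R'))) pt =
        IsLocalRing.closedPoint (CommRingCat.of ↥R') :=
      IsLocalRing.PrimeSpectrum.comap_residue _ pt
    rw [← h1]
    have h2 : (Spec.map (CommRingCat.ofHom (IsLocalRing.residue ↥R')) ≫ g) pt =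
        (Spec.map (CommRingCat.ofHom Rt.subtype) ≫ ht) pt := by rw [hc]
    change g ((Spec.map (CommRingCat.ofHom (IsLocalRing.residue ↥R'))) pt) =
      ht ((Spec.map (CommRingCat.ofHom Rt.subtype)) pt) at h2
    rw [h2]
    have : (Spec.map (CommRingCat.ofHom Rt.subtype)) pt ∈ ht ⁻¹ᵁ V := by rw [httop]; trivial
    exact this
  obtain ⟨c', hc'⟩ := factor_affine _ g hV hgV
  have hcc : ct ≫ CommRingCat.ofHom Rt.subtype =
      c' ≫ CommRingCat.ofHom (IsLocalRing.residue ↥R') := by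
    apply factor_unique hV
    rw [Spec.map_comp, Spec.map_comp, Category.assoc, Category.assoc, ← hct, ← hc', hc]
  have hcct : ∀ t : Γ(T, V), IsLocalRing.residue ↥R' (c'.hom t) =
      ((ct.hom t : ↥Rt) : IsLocalRing.ResidueField ↥R') := by
    intro t
    exact (congrArg (fun m => m.hom t) hcc).symm
  have hmem : ∀ t : Γ(T, V), ((c'.hom t : ↥R') : K) ∈ R := by
    intro t
    apply mem_of_residue_mem K R R' hRR' ι hι Rt σ hσs hσ
    rw [hcct]
    exact (ct.hom t).2
  let c : Γ(T, V) →+* ↥R :=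
    ((R'.subtype.comp c'.hom).codRestrict R hmem)
  have hιc : CommRingCat.ofHom c ≫ CommRingCat.ofHom ι = c' := by
    ext t
    change ((ι (c t) : ↥R') : K) = _
    rw [hι]
    rfl
  have hσc : CommRingCat.ofHom c ≫ CommRingCat.ofHom σ = ct := by
    ext t
    change ((σ (c t) : ↥Rt) : IsLocalRing.ResidueField ↥R') = _
    rw [hσ, ← hcct]
    congr 1
    apply Subtype.ext
    rw [hι]
    rfl
  refine ⟨Spec.map (CommRingCat.ofHom c) ≫ hV.fromSpec, ⟨?_, ?_⟩, ?_⟩
  · rw [← Category.assoc, ← Spec.map_comp, hιc, ← hc']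
  · rw [← Category.assoc, ← Spec.map_comp, hσc, ← hct]
  · rintro m' ⟨h3', h4'⟩
    apply eq_of_comp_eq' (CommRingCat.ofHom ι) hιinj (CommRingCat.ofHom σ)
    · rw [h4', ← Category.assoc, ← Spec.map_comp, hσc, ← hct]
    · rw [h3', ← Category.assoc, ← Spec.map_comp, hιc, ← hc']

end Glue

section Composite

variable {L : Type u} [Field L] (V : ValuationSubring L)
  (Vt : ValuationSubring (IsLocalRing.ResidueField ↥V))

/-- the composite valuation ring -/
def compV : ValuationSubring L where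
  toSubring := (Vt.toSubring.comap (IsLocalRing.residue ↥V)).map V.toSubring.subtype
  mem_or_inv_mem' := by
    intro x
    by_cases hxV : x ∈ V
    · by_cases hxm : (⟨x, hxV⟩ : ↥V) ∈ IsLocalRing.maximalIdeal ↥V
      · left
        refine ⟨⟨x, hxV⟩, ?_, rfl⟩
        change IsLocalRing.residue ↥V ⟨x, hxV⟩ ∈ Vt
        rw [(IsLocalRing.residue_eq_zero_iff _).2 hxm]
        exact Vt.zero_mem
      · have hu : IsUnit (⟨x, hxV⟩ : ↥V) := by
          by_contra h
          exact hxm ((IsLocalRing.mem_maximalIdeal _).2 h)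
        obtain ⟨u, hu⟩ := hu
        rcases Vt.mem_or_inv_mem (IsLocalRing.residue ↥V ⟨x, hxV⟩) with h | h
        · left
          exact ⟨⟨x, hxV⟩, h, rfl⟩
        · right
          refine ⟨((u⁻¹ : (↥V)ˣ) : ↥V), ?_, ?_⟩
          · change IsLocalRing.residue ↥V _ ∈ Vt
            have : IsLocalRing.residue ↥V ((u⁻¹ : (↥V)ˣ) : ↥V) =
                (IsLocalRing.residue ↥V ⟨x, hxV⟩)⁻¹ := by
              apply eq_inv_of_mul_eq_one_left
              rw [← map_mul, ← hu, Units.inv_mul, map_one]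
            rw [this]; exact h
          · change (((u⁻¹ : (↥V)ˣ) : ↥V) : L) = x⁻¹
            apply eq_inv_of_mul_eq_one_left
            have h1 := congrArg Subtype.val u.inv_mul
            rw [hu] at h1
            exact h1
    · right
      have hinv : x⁻¹ ∈ V := (V.mem_or_inv_mem x).resolve_left hxV
      refine ⟨⟨x⁻¹, hinv⟩, ?_, rfl⟩
      change IsLocalRing.residue ↥V ⟨x⁻¹, hinv⟩ ∈ Vt
      have hm : (⟨x⁻¹, hinv⟩ : ↥V) ∈ IsLocalRing.maximalIdeal ↥V := by
        rw [IsLocalRing.mem_maximalIdeal]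
        intro hu
        obtain ⟨u, hu⟩ := hu
        apply hxV
        have h1 := congrArg Subtype.val u.inv_mul
        rw [hu] at h1
        have h2 : (((u⁻¹ : (↥V)ˣ) : ↥V) : L) * x⁻¹ = 1 := h1
        have hx0 : x ≠ 0 := fun h0 => hxV (h0 ▸ V.zero_mem)
        have h3 : (((u⁻¹ : (↥V)ˣ) : ↥V) : L) = x := by
          field_simp at h2
          exact h2
        rw [← h3]
        exact (((u⁻¹ : (↥V)ˣ) : ↥V)).2
      rw [(IsLocalRing.residue_eq_zero_iff _).2 hm]
      exact Vt.zero_mem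

theorem mem_compV {x : L} :
    x ∈ compV V Vt ↔ ∃ hx : x ∈ V, IsLocalRing.residue ↥V ⟨x, hx⟩ ∈ Vt := by
  constructor
  · rintro ⟨v, hv, rfl⟩
    exact ⟨v.2, hv⟩
  · rintro ⟨hx, h⟩
    exact ⟨⟨x, hx⟩, h, rfl⟩

theorem compV_le : compV V Vt ≤ V := by
  intro x hx
  exact ((mem_compV V Vt).1 hx).1

/-- the inclusion of the composite into `V` -/
def compι : ↥(compV V Vt) →+* ↥V := ValuationSubring.inclusion _ _ (compV_le V Vt)

theorem compι_coe (x : ↥(compV V Vt)) : ((compι V Vt x : ↥V) : L) = (x : L) := rfl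

/-- the projection of the composite onto `Vt` -/
noncomputable def compσ : ↥(compV V Vt) →+* ↥Vt :=
  ((IsLocalRing.residue ↥V).comp (compι V Vt)).codRestrict Vt (by
    intro x
    obtain ⟨hx, h⟩ := (mem_compV V Vt).1 x.2
    exact h)

theorem compσ_coe (x : ↥(compV V Vt)) :
    ((compσ V Vt x : ↥Vt) : IsLocalRing.ResidueField ↥V) =
      IsLocalRing.residue ↥V (compι V Vt x) := rfl

theorem compσ_surjective : Function.Surjective (compσ V Vt) := by
  intro t
  obtain ⟨v, hv⟩ := IsLocalRing.residue_surjective (t : IsLocalRing.ResidueField ↥V)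
  have hmem : (v : L) ∈ compV V Vt := (mem_compV V Vt).2 ⟨v.2, by
    have : (⟨(v : L), v.2⟩ : ↥V) = v := rfl
    rw [this, hv]; exact t.2⟩
  refine ⟨⟨v, hmem⟩, ?_⟩
  apply Subtype.ext
  rw [compσ_coe]
  exact hv

end Composite

end Groth.Agent.Lib.Helper9.ValCritGlue
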