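import Mathlib

/-! Points of the target of a dominant quasi-compact morphism are specializations of image points
(helper9). -/

set_option autoImplicit false

universe u

open CategoryTheory AlgebraicGeometry

namespace Groth.Agent.Lib.Helper9.ValCritPts

theorem exists_specializes_of_denseRange {Z Y : Scheme.{u}} (h : Z ⟶ Y) [QuasiCompact h]
    (hd : DenseRange h.base) (y : Y) : ∃ z : Z, h z ⤳ y := by
  obtain ⟨_, ⟨U, hU, rfl⟩, hyU, -⟩ := Y.isBasis_affineOpens.exists_subset_of_mem_open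
    (Set.mem_univ y) isOpen_univ
  have hUa : IsAffineOpen U := hU
  have hW : IsCompact ((h ⁻¹ᵁ U : Z.Opens) : Set Z) := h.isCompact_preimage hUa.isCompact
  obtain ⟨R, k, hk⟩ := isCompact_iff_exists.1 hW
  have hrange : Set.range (k ≫ h) ⊆ Set.range hUa.fromSpec := by
    rw [hUa.range_fromSpec]
    rintro _ ⟨r, rfl⟩
    have : k r ∈ ((h ⁻¹ᵁ U : Z.Opens) : Set Z) := by rw [← hk]; exact ⟨r, rfl⟩
    exact this
  let ψ : Spec R ⟶ Spec Γ(Y, U) := IsOpenImmersion.lift hUa.fromSpec (k ≫ h) hrange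
  have hψ : ψ ≫ hUa.fromSpec = k ≫ h := IsOpenImmersion.lift_fac _ _ _
  obtain ⟨φ, hφ⟩ : ∃ φ : Γ(Y, U) ⟶ R, Spec.map φ = ψ := ⟨Spec.preimage ψ, Spec.map_preimage ψ⟩
  have hψapp : ∀ r : Spec R, hUa.fromSpec (ψ r) = h (k r) := by
    intro r
    have := congrArg (fun m : Spec R ⟶ Y => m r) hψ
    exact this
  -- density
  have hdense : DenseRange (PrimeSpectrum.comap φ.hom) := by
    rw [denseRange_iff_closure_range, Set.eq_univ_iff_forall]
    intro p
    rw [mem_closure_iff]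
    intro O hO hpO
    have hOpen : IsOpen (hUa.fromSpec '' O) := hUa.fromSpec.isOpenEmbedding.isOpenMap O hO
    have hne : (hUa.fromSpec '' O).Nonempty := ⟨_, p, hpO, rfl⟩
    obtain ⟨_, ⟨q, hqO, rfl⟩, z, hz⟩ := hd.exists_mem_open hOpen hne |>.imp
      (fun z hz => hz) |> fun ⟨z, hz⟩ => (⟨h z, hz, z, rfl⟩ :
        ∃ y', y' ∈ hUa.fromSpec '' O ∧ ∃ z, h z = y')
    have hzW : z ∈ ((h ⁻¹ᵁ U : Z.Opens) : Set Z) := by
      change h z ∈ U
      rw [hz]
      have : hUa.fromSpec q ∈ Set.range hUa.fromSpec := ⟨q, rfl⟩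
      rw [hUa.range_fromSpec] at this
      exact this
    rw [← hk] at hzW
    obtain ⟨r, rfl⟩ := hzW
    refine ⟨ψ r, ?_, ?_⟩
    · have : ψ r = q := by
        apply hUa.fromSpec.isOpenEmbedding.injective
        rw [hψapp, hz]
      rw [this]; exact hqO
    · refine ⟨r, ?_⟩
      rw [← hφ]
      rfl
  -- the point y
  set p := hUa.primeIdealOf ⟨y, hyU⟩ with hp
  have hpy : hUa.fromSpec p = y := hUa.fromSpec_primeIdealOf ⟨y, hyU⟩
  obtain ⟨p₀, hp₀, hle⟩ := Ideal.exists_minimalPrimes_le (J := p.asIdeal) bot_le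
  obtain ⟨r, hr⟩ := (PrimeSpectrum.denseRange_comap_iff_minimalPrimes φ.hom).1 hdense p₀ hp₀
  refine ⟨k r, ?_⟩
  have h1 : hUa.fromSpec (ψ r) = h (k r) := hψapp r
  have h2 : ψ r = (⟨p₀, hp₀.1.1⟩ : PrimeSpectrum Γ(Y, U)) := by
    rw [← hr, ← hφ]; rfl
  have h3 : (⟨p₀, hp₀.1.1⟩ : PrimeSpectrum Γ(Y, U)) ⤳ p :=
    (PrimeSpectrum.le_iff_specializes _ _).1 hle
  have h4 := Specializes.map h3 hUa.fromSpec.continuous
  rw [hpy, ← h2] at h4
  change hUa.fromSpec (ψ r) ⤳ y at h4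
  rw [h1] at h4
  exact h4

end Groth.Agent.Lib.Helper9.ValCritPts
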