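import Mathlib
import Groth.Agent.Lib.Helper9.ValCritAff
import Groth.Agent.Lib.Helper9.ValCritGlue
import Groth.Agent.Lib.Helper9.ValCritPts
import Groth.Agent.S17897

/-! Refined valuative criteria: reduction to valuation rings of residue fields of a dominant
quasi-compact morphism (helper9). -/

set_option autoImplicit false

universe u

open CategoryTheory AlgebraicGeometry

namespace Groth.Agent.Lib.Helper9.ValCritCore

open Groth.Agent.Lib.Helper9.ValCritAff Groth.Agent.Lib.Helper9.ValCritGlue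
open Groth.Agent.Lib.Helper9.ValCritPts

/-- extension of a valuation ring along a field extension -/
theorem exists_comap_eq {κ k : Type u} [Field κ] [Field k] (g' : κ →+* k)
    (R₀ : ValuationSubring κ) : ∃ Vt : ValuationSubring k, Vt.comap g' = R₀ := by
  obtain ⟨B, hB, hBloc⟩ := IsLocalRing.exists_factor_valuationRing (g'.comp R₀.subtype)
  refine ⟨B, ?_⟩
  ext x
  rw [ValuationSubring.mem_comap]
  constructor
  · intro hx
    by_contra hxR
    have hx0 : x ≠ 0 := fun h0 => hxR (h0 ▸ R₀.zero_mem)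
    have hinv : x⁻¹ ∈ R₀ := (R₀.mem_or_inv_mem x).resolve_left hxR
    -- x⁻¹ maps to a unit of B
    have hu : IsUnit (((g'.comp R₀.subtype).codRestrict B.toSubring hB) ⟨x⁻¹, hinv⟩) := by
      refine ⟨⟨_, ⟨g' x, hx⟩, ?_, ?_⟩, rfl⟩
      · apply Subtype.ext
        change g' x⁻¹ * g' x = 1
        rw [← map_mul, inv_mul_cancel₀ hx0, map_one]
      · apply Subtype.ext
        change g' x * g' x⁻¹ = 1
        rw [← map_mul, mul_inv_cancel₀ hx0, map_one]
    have hu' : IsUnit (⟨x⁻¹, hinv⟩ : ↥R₀) := hBloc.map_nonunit _ hu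
    obtain ⟨u, hu''⟩ := hu'
    apply hxR
    have h1 := congrArg Subtype.val u.inv_mul
    rw [hu''] at h1
    have h2 : (((u⁻¹ : (↥R₀)ˣ) : ↥R₀) : κ) * x⁻¹ = 1 := h1
    have h3 : (((u⁻¹ : (↥R₀)ˣ) : ↥R₀) : κ) = x := by
      field_simp at h2
      exact h2
    rw [← h3]
    exact (((u⁻¹ : (↥R₀)ˣ) : ↥R₀)).2
  · intro hx
    exact hB ⟨x, hx⟩

/-- the generic point of the local test curve -/
theorem gen_eq {Z Y : Scheme.{u}} (h : Z ⟶ Y) (z : Z) (y : Y) (hsp : h z ⤳ y) :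
    Spec.map (Y.presheaf.stalkSpecializes hsp ≫ h.stalkMap z ≫ Z.residue z) ≫ Y.fromSpecStalk y =
      Z.fromSpecResidueField z ≫ h := by
  rw [Spec.map_comp, Spec.map_comp, Category.assoc, Category.assoc,
    Scheme.SpecMap_stalkSpecializes_fromSpecStalk, Scheme.SpecMap_stalkMap_fromSpecStalk,
    ← Category.assoc]
  rfl

/-- refined uniqueness hypothesis -/
def RefU {X Y Z : Scheme.{u}} (h : Z ⟶ Y) (f : Y ⟶ X) : Prop :=
  ∀ (z : ↥Z) (R : ValuationSubring ↑(Z.residueField z)) (φ : Spec (CommRingCat.of ↥R) ⟶ X),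
    Spec.map (CommRingCat.ofHom R.subtype) ≫ φ = Z.fromSpecResidueField z ≫ h ≫ f →
    ∀ φ₁ φ₂ : Spec (CommRingCat.of ↥R) ⟶ Y,
      Spec.map (CommRingCat.ofHom R.subtype) ≫ φ₁ = Z.fromSpecResidueField z ≫ h → φ₁ ≫ f = φ →
      Spec.map (CommRingCat.ofHom R.subtype) ≫ φ₂ = Z.fromSpecResidueField z ≫ h → φ₂ ≫ f = φ →
      φ₁ = φ₂

/-- refined existence hypothesis -/
def RefE {X Y Z : Scheme.{u}} (h : Z ⟶ Y) (f : Y ⟶ X) : Prop :=
  ∀ (z : ↥Z) (R : ValuationSubring ↑(Z.residueField z)) (φ : Spec (CommRingCat.of ↥R) ⟶ X),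
    Spec.map (CommRingCat.ofHom R.subtype) ≫ φ = Z.fromSpecResidueField z ≫ h ≫ f →
    ∃ φ' : Spec (CommRingCat.of ↥R) ⟶ Y,
      Spec.map (CommRingCat.ofHom R.subtype) ≫ φ' = Z.fromSpecResidueField z ≫ h ∧ φ' ≫ f = φ

section Construction

variable {X Y Z : Scheme.{u}} (h : Z ⟶ Y) {z : Z} {y : Y} (hsp : h z ⤳ y)

/-- the map from the stalk at `y` to the residue field at `z` -/
noncomputable def θ : Y.presheaf.stalk y ⟶ Z.residueField z :=
  Y.presheaf.stalkSpecializes hsp ≫ h.stalkMap z ≫ Z.residue z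

variable (V : ValuationSubring ↑(Z.residueField z)) (hV : ∀ x, (θ h hsp).hom x ∈ V)

/-- the factorization through the valuation ring -/
noncomputable def θV : ↑(Y.presheaf.stalk y) →+* ↥V := (θ h hsp).hom.codRestrict V hV

theorem θV_comp : CommRingCat.ofHom (θV h hsp V hV) ≫ CommRingCat.ofHom V.subtype = θ h hsp := by
  ext x; rfl

/-- the morphism from the spectrum of `V` -/
noncomputable def gV : Spec (CommRingCat.of ↥V) ⟶ Y :=
  Spec.map (CommRingCat.ofHom (θV h hsp V hV)) ≫ Y.fromSpecStalk y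

theorem gV_gen : Spec.map (CommRingCat.ofHom V.subtype) ≫ gV h hsp V hV =
    Z.fromSpecResidueField z ≫ h := by
  rw [gV, ← Category.assoc, ← Spec.map_comp, θV_comp, θ, gen_eq]

variable [hloc : IsLocalHom (θV h hsp V hV)]

/-- the induced map on residue fields -/
noncomputable def g' : ↑(Y.residueField y) →+* IsLocalRing.ResidueField ↥V :=
  IsLocalRing.ResidueField.map (θV h hsp V hV)

theorem g'_residue : Y.residue y ≫ CommRingCat.ofHom (g' h hsp V hV) =
    CommRingCat.ofHom (θV h hsp V hV) ≫ CommRingCat.ofHom (IsLocalRing.residue ↥V) := by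
  ext x; rfl

variable (Vt : ValuationSubring (IsLocalRing.ResidueField ↥V))

/-- the map from the valuation ring of the residue field at `y` -/
noncomputable def ρ' : ↥(Vt.comap (g' h hsp V hV)) →+* ↥Vt :=
  ((g' h hsp V hV).comp (Vt.comap (g' h hsp V hV)).subtype).codRestrict Vt (fun x => x.2)

theorem ρ'_comp : CommRingCat.ofHom (ρ' h hsp V hV Vt) ≫ CommRingCat.ofHom Vt.subtype =
    CommRingCat.ofHom (Vt.comap (g' h hsp V hV)).subtype ≫ CommRingCat.ofHom (g' h hsp V hV) := by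
  ext x; rfl

theorem ρ'_injective : Function.Injective (ρ' h hsp V hV Vt) := by
  intro a b hab
  apply Subtype.ext
  have := congrArg Subtype.val hab
  exact (g' h hsp V hV).injective this

theorem ρ'_isLocalHom : IsLocalHom (ρ' h hsp V hV Vt) := by
  constructor
  intro x hx
  obtain ⟨u, hu⟩ := hx
  have hx0 : (x : ↑(Y.residueField y)) ≠ 0 := by
    intro h0
    have h1 : ρ' h hsp V hV Vt x = 0 := by
      apply Subtype.ext
      change g' h hsp V hV (x : ↑(Y.residueField y)) = 0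
      rw [h0, map_zero]
    rw [← hu] at h1
    exact u.ne_zero h1
  have hinv : (x : ↑(Y.residueField y))⁻¹ ∈ Vt.comap (g' h hsp V hV) := by
    rw [ValuationSubring.mem_comap, map_inv₀]
    have h2 : (((u⁻¹ : (↥Vt)ˣ) : ↥Vt) : IsLocalRing.ResidueField ↥V) =
        (g' h hsp V hV (x : ↑(Y.residueField y)))⁻¹ := by
      apply eq_inv_of_mul_eq_one_left
      have h1 := congrArg Subtype.val u.inv_mul
      rw [hu] at h1
      exact h1
    rw [← h2]
    exact (((u⁻¹ : (↥Vt)ˣ) : ↥Vt)).2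
  refine ⟨⟨x, ⟨_, hinv⟩, ?_, ?_⟩, rfl⟩
  · apply Subtype.ext; exact mul_inv_cancel₀ hx0
  · apply Subtype.ext; exact inv_mul_cancel₀ hx0

/-- compatibility on the residue field of `V` -/
theorem compat {T : Scheme.{u}} (t : Y ⟶ T)
    (l : Spec (CommRingCat.of ↥(Vt.comap (g' h hsp V hV))) ⟶ T)
    (hl : Spec.map (CommRingCat.ofHom (Vt.comap (g' h hsp V hV)).subtype) ≫ l =
      Y.fromSpecResidueField y ≫ t) :
    Spec.map (CommRingCat.ofHom Vt.subtype) ≫ (Spec.map (CommRingCat.ofHom (ρ' h hsp V hV Vt)) ≫ l) =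
      Spec.map (CommRingCat.ofHom (IsLocalRing.residue ↥V)) ≫ (gV h hsp V hV ≫ t) := by
  have hL : Spec.map (CommRingCat.ofHom Vt.subtype) ≫
      (Spec.map (CommRingCat.ofHom (ρ' h hsp V hV Vt)) ≫ l) =
      Spec.map (CommRingCat.ofHom (g' h hsp V hV)) ≫ (Y.fromSpecResidueField y ≫ t) := by
    rw [← Category.assoc, ← Spec.map_comp, ρ'_comp, Spec.map_comp, Category.assoc, hl]
  have hR : Spec.map (CommRingCat.ofHom (IsLocalRing.residue ↥V)) ≫ (gV h hsp V hV ≫ t) =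
      Spec.map (CommRingCat.ofHom (g' h hsp V hV)) ≫ (Y.fromSpecResidueField y ≫ t) := by
    have h1 : Spec.map (CommRingCat.ofHom (IsLocalRing.residue ↥V)) ≫
        Spec.map (CommRingCat.ofHom (θV h hsp V hV)) =
        Spec.map (CommRingCat.ofHom (g' h hsp V hV)) ≫ Spec.map (Y.residue y) := by
      rw [← Spec.map_comp, ← Spec.map_comp]
      exact congrArg Spec.map (g'_residue h hsp V hV).symm
    calc Spec.map (CommRingCat.ofHom (IsLocalRing.residue ↥V)) ≫ (gV h hsp V hV ≫ t)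
        = (Spec.map (CommRingCat.ofHom (IsLocalRing.residue ↥V)) ≫
            Spec.map (CommRingCat.ofHom (θV h hsp V hV))) ≫ (Y.fromSpecStalk y ≫ t) := by
          rw [gV]; simp only [Category.assoc]
      _ = Spec.map (CommRingCat.ofHom (g' h hsp V hV)) ≫ (Y.fromSpecResidueField y ≫ t) := by
          rw [h1, Scheme.fromSpecResidueField]; simp only [Category.assoc]
  rw [hL, hR]

/-- the glued morphism out of the spectrum of the composite valuation ring -/
theorem exists_glue {T : Scheme.{u}} (t : Y ⟶ T)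
    (l : Spec (CommRingCat.of ↥(Vt.comap (g' h hsp V hV))) ⟶ T)
    (hl : Spec.map (CommRingCat.ofHom (Vt.comap (g' h hsp V hV)).subtype) ≫ l =
      Y.fromSpecResidueField y ≫ t) :
    ∃! m : Spec (CommRingCat.of ↥(compV V Vt)) ⟶ T,
      Spec.map (CommRingCat.ofHom (compι V Vt)) ≫ m = gV h hsp V hV ≫ t ∧
      Spec.map (CommRingCat.ofHom (compσ V Vt)) ≫ m =
        Spec.map (CommRingCat.ofHom (ρ' h hsp V hV Vt)) ≫ l :=
  glue _ (compV V Vt) V (compV_le V Vt) (compι V Vt) (compι_coe V Vt) Vt (compσ V Vt)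
    (compσ_surjective V Vt) (compσ_coe V Vt) _ _ (compat h hsp V hV Vt t l hl)

omit hloc in
theorem glue_gen {T : Scheme.{u}} (t : Y ⟶ T) (m : Spec (CommRingCat.of ↥(compV V Vt)) ⟶ T)
    (hm : Spec.map (CommRingCat.ofHom (compι V Vt)) ≫ m = gV h hsp V hV ≫ t) :
    Spec.map (CommRingCat.ofHom (compV V Vt).subtype) ≫ m = Z.fromSpecResidueField z ≫ h ≫ t := by
  have h1 : CommRingCat.ofHom (compι V Vt) ≫ CommRingCat.ofHom V.subtype =
      CommRingCat.ofHom (compV V Vt).subtype := by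
    ext x; rfl
  rw [← h1, Spec.map_comp, Category.assoc, hm, ← Category.assoc, gV_gen, Category.assoc]

theorem res_gV : Spec.map (CommRingCat.ofHom (IsLocalRing.residue ↥V)) ≫ gV h hsp V hV =
    Spec.map (CommRingCat.ofHom (g' h hsp V hV)) ≫ Y.fromSpecResidueField y := by
  have h1 : Spec.map (CommRingCat.ofHom (IsLocalRing.residue ↥V)) ≫
      Spec.map (CommRingCat.ofHom (θV h hsp V hV)) =
      Spec.map (CommRingCat.ofHom (g' h hsp V hV)) ≫ Spec.map (Y.residue y) := by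
    rw [← Spec.map_comp, ← Spec.map_comp]
    exact congrArg Spec.map (g'_residue h hsp V hV).symm
  rw [gV, ← Category.assoc, h1, Scheme.fromSpecResidueField, Category.assoc]

theorem stepU (f : Y ⟶ X) (H : RefU h f)
    (φ' : Spec (CommRingCat.of ↥(Vt.comap (g' h hsp V hV))) ⟶ X)
    (l₁ l₂ : Spec (CommRingCat.of ↥(Vt.comap (g' h hsp V hV))) ⟶ Y)
    (h1 : Spec.map (CommRingCat.ofHom (Vt.comap (g' h hsp V hV)).subtype) ≫ l₁ =
      Y.fromSpecResidueField y) (h1' : l₁ ≫ f = φ')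
    (h2 : Spec.map (CommRingCat.ofHom (Vt.comap (g' h hsp V hV)).subtype) ≫ l₂ =
      Y.fromSpecResidueField y) (h2' : l₂ ≫ f = φ') : l₁ = l₂ := by
  haveI : IsLocalRing (CommRingCat.of ↥(Vt.comap (g' h hsp V hV))) :=
    inferInstanceAs (IsLocalRing ↥(Vt.comap (g' h hsp V hV)))
  haveI : IsLocalRing (CommRingCat.of ↥Vt) := inferInstanceAs (IsLocalRing ↥Vt)
  have hl1 : Spec.map (CommRingCat.ofHom (Vt.comap (g' h hsp V hV)).subtype) ≫ l₁ =
      Y.fromSpecResidueField y ≫ 𝟙 Y := by rw [h1, Category.comp_id]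
  have hl2 : Spec.map (CommRingCat.ofHom (Vt.comap (g' h hsp V hV)).subtype) ≫ l₂ =
      Y.fromSpecResidueField y ≫ 𝟙 Y := by rw [h2, Category.comp_id]
  have hφ' : Spec.map (CommRingCat.ofHom (Vt.comap (g' h hsp V hV)).subtype) ≫ φ' =
      Y.fromSpecResidueField y ≫ f := by rw [← h1', ← Category.assoc, h1]
  obtain ⟨m₁, ⟨hm₁a, hm₁b⟩, -⟩ := exists_glue h hsp V hV Vt (𝟙 Y) l₁ hl1
  obtain ⟨m₂, ⟨hm₂a, hm₂b⟩, -⟩ := exists_glue h hsp V hV Vt (𝟙 Y) l₂ hl2
  obtain ⟨mφ, ⟨hmφa, hmφb⟩, hmφu⟩ := exists_glue h hsp V hV Vt f φ' hφ'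
  have e1 : m₁ ≫ f = mφ := hmφu _ ⟨by rw [← Category.assoc, hm₁a, Category.comp_id],
    by rw [← Category.assoc, hm₁b, Category.assoc, h1']⟩
  have e2 : m₂ ≫ f = mφ := hmφu _ ⟨by rw [← Category.assoc, hm₂a, Category.comp_id],
    by rw [← Category.assoc, hm₂b, Category.assoc, h2']⟩
  have gen1 := glue_gen h hsp V hV Vt (𝟙 Y) m₁ hm₁a
  have gen2 := glue_gen h hsp V hV Vt (𝟙 Y) m₂ hm₂a
  have genφ := glue_gen h hsp V hV Vt f mφ hmφa
  rw [Category.comp_id] at gen1 gen2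
  have hm : m₁ = m₂ := H z (compV V Vt) mφ genφ m₁ m₂ gen1 e1 gen2 e2
  have hs : Spec.map (CommRingCat.ofHom (ρ' h hsp V hV Vt)) ≫ l₁ =
      Spec.map (CommRingCat.ofHom (ρ' h hsp V hV Vt)) ≫ l₂ := by
    rw [← hm₁b, ← hm₂b, hm]
  have : IsLocalHom (CommRingCat.ofHom (ρ' h hsp V hV Vt)).hom := ρ'_isLocalHom h hsp V hV Vt
  exact eq_of_comp_eq' (CommRingCat.ofHom (ρ' h hsp V hV Vt)) (ρ'_injective h hsp V hV Vt)
    (CommRingCat.ofHom (ρ' h hsp V hV Vt)) l₁ l₂ hs hs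

theorem stepE (f : Y ⟶ X) (HU : RefU h f) (HE : RefE h f)
    (φ' : Spec (CommRingCat.of ↥(Vt.comap (g' h hsp V hV))) ⟶ X)
    (hφ' : Spec.map (CommRingCat.ofHom (Vt.comap (g' h hsp V hV)).subtype) ≫ φ' =
      Y.fromSpecResidueField y ≫ f) :
    ∃ l : Spec (CommRingCat.of ↥(Vt.comap (g' h hsp V hV))) ⟶ Y,
      Spec.map (CommRingCat.ofHom (Vt.comap (g' h hsp V hV)).subtype) ≫ l =
        Y.fromSpecResidueField y ∧ l ≫ f = φ' := by
  haveI : IsLocalRing (CommRingCat.of ↥(Vt.comap (g' h hsp V hV))) :=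
    inferInstanceAs (IsLocalRing ↥(Vt.comap (g' h hsp V hV)))
  haveI : IsLocalRing (CommRingCat.of ↥Vt) := inferInstanceAs (IsLocalRing ↥Vt)
  obtain ⟨mφ, ⟨hmφa, hmφb⟩, -⟩ := exists_glue h hsp V hV Vt f φ' hφ'
  have genφ := glue_gen h hsp V hV Vt f mφ hmφa
  obtain ⟨m, hmgen, hmf⟩ := HE z (compV V Vt) mφ genφ
  have hιs : CommRingCat.ofHom (compι V Vt) ≫ CommRingCat.ofHom V.subtype =
      CommRingCat.ofHom (compV V Vt).subtype := by
    ext x; rfl
  have hmV : Spec.map (CommRingCat.ofHom (compι V Vt)) ≫ m = gV h hsp V hV := by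
    refine HU z V (gV h hsp V hV ≫ f) ?_ _ _ ?_ ?_ (gV_gen h hsp V hV) rfl
    · rw [← Category.assoc, gV_gen, Category.assoc]
    · rw [← Category.assoc, ← Spec.map_comp, hιs, hmgen]
    · rw [Category.assoc, hmf, hmφa]
  set mt := Spec.map (CommRingCat.ofHom (compσ V Vt)) ≫ m with hmt
  have hσs : CommRingCat.ofHom (compσ V Vt) ≫ CommRingCat.ofHom Vt.subtype =
      CommRingCat.ofHom (compι V Vt) ≫ CommRingCat.ofHom (IsLocalRing.residue ↥V) := by
    ext x; rfl
  have w : Spec.map (CommRingCat.ofHom Vt.subtype) ≫ mt =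
      (Spec.map (CommRingCat.ofHom (g' h hsp V hV)) ≫ Y.fromSpecResidueField y) ≫ 𝟙 Y := by
    rw [hmt, ← Category.assoc, ← Spec.map_comp, hσs, Spec.map_comp, Category.assoc, hmV, res_gV,
      Category.comp_id]
  obtain ⟨l, ⟨hl1, hl2⟩, -⟩ := Groth.Agent.S17897.result (𝟙 Y) (IsLocalRing.ResidueField ↥V) Vt
    (Spec.map (CommRingCat.ofHom (g' h hsp V hV)) ≫ Y.fromSpecResidueField y) mt w y
    (CommRingCat.ofHom (g' h hsp V hV)) rfl (ρ' h hsp V hV Vt) (fun x => rfl)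
  rw [Category.comp_id] at hl2
  refine ⟨l, hl2, ?_⟩
  have hs : Spec.map (CommRingCat.ofHom (ρ' h hsp V hV Vt)) ≫ (l ≫ f) =
      Spec.map (CommRingCat.ofHom (ρ' h hsp V hV Vt)) ≫ φ' := by
    rw [← Category.assoc, hl1, hmt, Category.assoc, hmf, hmφb]
  have : IsLocalHom (CommRingCat.ofHom (ρ' h hsp V hV Vt)).hom := ρ'_isLocalHom h hsp V hV Vt
  exact eq_of_comp_eq' (CommRingCat.ofHom (ρ' h hsp V hV Vt)) (ρ'_injective h hsp V hV Vt)
    (CommRingCat.ofHom (ρ' h hsp V hV Vt)) (l ≫ f) φ' hs hs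

end Construction

/-- uniqueness of lifts for valuation rings of residue fields of `Y` itself -/
def IdU {X Y : Scheme.{u}} (f : Y ⟶ X) : Prop :=
  ∀ (y : ↥Y) (R₀ : ValuationSubring ↑(Y.residueField y))
    (φ' : Spec (CommRingCat.of ↥R₀) ⟶ X) (l₁ l₂ : Spec (CommRingCat.of ↥R₀) ⟶ Y),
    Spec.map (CommRingCat.ofHom R₀.subtype) ≫ l₁ = Y.fromSpecResidueField y → l₁ ≫ f = φ' →
    Spec.map (CommRingCat.ofHom R₀.subtype) ≫ l₂ = Y.fromSpecResidueField y → l₂ ≫ f = φ' →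
    l₁ = l₂

/-- existence of lifts for valuation rings of residue fields of `Y` itself -/
def IdE {X Y : Scheme.{u}} (f : Y ⟶ X) : Prop :=
  ∀ (y : ↥Y) (R₀ : ValuationSubring ↑(Y.residueField y))
    (φ' : Spec (CommRingCat.of ↥R₀) ⟶ X),
    Spec.map (CommRingCat.ofHom R₀.subtype) ≫ φ' = Y.fromSpecResidueField y ≫ f →
    ∃ l : Spec (CommRingCat.of ↥R₀) ⟶ Y,
      Spec.map (CommRingCat.ofHom R₀.subtype) ≫ l = Y.fromSpecResidueField y ∧ l ≫ f = φ'

theorem idU_of_refU {X Y Z : Scheme.{u}} (h : Z ⟶ Y) [QuasiCompact h] (hd : DenseRange h.base)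
    (f : Y ⟶ X) (H : RefU h f) : IdU f := by
  intro y R₀ φ' l₁ l₂ h1 h1' h2 h2'
  obtain ⟨z, hsp⟩ := exists_specializes_of_denseRange h hd y
  obtain ⟨V, hV, hVloc⟩ := IsLocalRing.exists_factor_valuationRing (θ h hsp).hom
  haveI : IsLocalHom (θV h hsp V hV) := hVloc
  obtain ⟨Vt, rfl⟩ := exists_comap_eq (g' h hsp V hV) R₀
  exact stepU h hsp V hV Vt f H φ' l₁ l₂ h1 h1' h2 h2'

theorem idE_of_refE {X Y Z : Scheme.{u}} (h : Z ⟶ Y) [QuasiCompact h] (hd : DenseRange h.base)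
    (f : Y ⟶ X) (HU : RefU h f) (HE : RefE h f) : IdE f := by
  intro y R₀ φ' hφ'
  obtain ⟨z, hsp⟩ := exists_specializes_of_denseRange h hd y
  obtain ⟨V, hV, hVloc⟩ := IsLocalRing.exists_factor_valuationRing (θ h hsp).hom
  haveI : IsLocalHom (θV h hsp V hV) := hVloc
  obtain ⟨Vt, rfl⟩ := exists_comap_eq (g' h hsp V hV) R₀
  exact stepE h hsp V hV Vt f HU HE φ' hφ'

section StepA

variable {X Y : Scheme.{u}} (f : Y ⟶ X) (S : ValuativeCommSq f)

/-- the valuation subring of `K` attached to a valuative square -/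
def Rv : ValuationSubring S.K :=
  ⟨(algebraMap S.R S.K).range, ValuationRing.isInteger_or_isInteger S.R⟩

/-- `R → Rv` -/
def eR : S.R →+* ↥(Rv f S) := (algebraMap S.R S.K).rangeRestrict

theorem eR_bijective : Function.Bijective (eR f S) :=
  ⟨fun a b hab => IsFractionRing.injective S.R S.K (congrArg Subtype.val hab),
    (algebraMap S.R S.K).rangeRestrict_surjective⟩

/-- the inverse -/
noncomputable def eRinv : ↥(Rv f S) →+* S.R :=
  ((RingEquiv.ofBijective (eR f S) (eR_bijective f S)).symm : ↥(Rv f S) →+* S.R)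

theorem eR_eRinv : CommRingCat.ofHom (eRinv f S) ≫ CommRingCat.ofHom (eR f S) = 𝟙 _ := by
  ext x
  exact congrArg Subtype.val
    ((RingEquiv.ofBijective (eR f S) (eR_bijective f S)).apply_symm_apply x)

theorem eRinv_eR : CommRingCat.ofHom (eR f S) ≫ CommRingCat.ofHom (eRinv f S) = 𝟙 _ := by
  ext x
  exact (RingEquiv.ofBijective (eR f S) (eR_bijective f S)).symm_apply_apply x

theorem eR_subtype : CommRingCat.ofHom (eR f S) ≫ CommRingCat.ofHom (Rv f S).subtype =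
    CommRingCat.ofHom (algebraMap S.R S.K) := by
  ext x; rfl

theorem eRinv_algebraMap : CommRingCat.ofHom (eRinv f S) ≫ CommRingCat.ofHom (algebraMap S.R S.K) =
    CommRingCat.ofHom (Rv f S).subtype := by
  rw [← eR_subtype, ← Category.assoc, eR_eRinv, Category.id_comp]

/-- the point of `Y` hit by the generic point -/
noncomputable abbrev yS : ↥Y := S.i₁ (IsLocalRing.closedPoint S.K)

/-- the residue field embedding -/
noncomputable def gS : Y.residueField (yS f S) ⟶ CommRingCat.of S.K :=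
  Scheme.descResidueField (K := S.K) (Scheme.stalkClosedPointTo S.i₁)

theorem gS_spec : Spec.map (gS f S) ≫ Y.fromSpecResidueField (yS f S) = S.i₁ :=
  Scheme.descResidueField_stalkClosedPointTo_fromSpecResidueField S.K Y S.i₁

/-- the valuation ring of the residue field -/
noncomputable abbrev R₀S : ValuationSubring ↑(Y.residueField (yS f S)) := (Rv f S).comap (gS f S).hom

/-- `R₀ → Rv` -/
noncomputable def ρS : ↥(R₀S f S) →+* ↥(Rv f S) :=
  ((gS f S).hom.comp (R₀S f S).subtype).codRestrict (Rv f S) (fun x => x.2)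

theorem ρS_subtype : CommRingCat.ofHom (ρS f S) ≫ CommRingCat.ofHom (Rv f S).subtype =
    CommRingCat.ofHom (R₀S f S).subtype ≫ gS f S := by
  ext x; rfl

/-- the bottom morphism from the spectrum of `Rv` -/
noncomputable def i₂v : Spec (CommRingCat.of ↥(Rv f S)) ⟶ X :=
  Spec.map (CommRingCat.ofHom (eR f S)) ≫ S.i₂

theorem i₂v_w : Spec.map (CommRingCat.ofHom (Rv f S).subtype) ≫ i₂v f S = S.i₁ ≫ f := by
  rw [i₂v, ← Category.assoc, ← Spec.map_comp, eR_subtype, S.commSq.w]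

theorem exists_φ' : ∃! φ' : Spec (CommRingCat.of ↥(R₀S f S)) ⟶ X,
    Spec.map (CommRingCat.ofHom (ρS f S)) ≫ φ' = i₂v f S ∧
    Spec.map (CommRingCat.ofHom (R₀S f S).subtype) ≫ φ' =
      Y.fromSpecResidueField (yS f S) ≫ f :=
  Groth.Agent.S17897.result f S.K (Rv f S) S.i₁ (i₂v f S) (i₂v_w f S) (yS f S) (gS f S)
    (gS_spec f S) (ρS f S) (fun _ => rfl)

theorem uniqueness_of_idU (H : IdU f) : ValuativeCriterion.Uniqueness f := by
  intro S
  constructor
  intro l₁ l₂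
  obtain ⟨φ', ⟨hφ'1, hφ'2⟩, hφ'u⟩ := exists_φ' f S
  -- descend each lift
  have key : ∀ l : S.commSq.LiftStruct, ∃ l' : Spec (CommRingCat.of ↥(R₀S f S)) ⟶ Y,
      Spec.map (CommRingCat.ofHom (ρS f S)) ≫ l' = Spec.map (CommRingCat.ofHom (eR f S)) ≫ l.l ∧
      Spec.map (CommRingCat.ofHom (R₀S f S).subtype) ≫ l' = Y.fromSpecResidueField (yS f S) ∧
      l' ≫ f = φ' := by
    intro l
    have wl : Spec.map (CommRingCat.ofHom (Rv f S).subtype) ≫
        (Spec.map (CommRingCat.ofHom (eR f S)) ≫ l.l) = S.i₁ ≫ 𝟙 Y := by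
      rw [← Category.assoc, ← Spec.map_comp, eR_subtype, l.fac_left, Category.comp_id]
    obtain ⟨l', ⟨hl'1, hl'2⟩, -⟩ := Groth.Agent.S17897.result (𝟙 Y) S.K (Rv f S) S.i₁
      (Spec.map (CommRingCat.ofHom (eR f S)) ≫ l.l) wl (yS f S) (gS f S)
      (gS_spec f S) (ρS f S) (fun _ => rfl)
    rw [Category.comp_id] at hl'2
    refine ⟨l', hl'1, hl'2, ?_⟩
    apply hφ'u
    constructor
    · rw [← Category.assoc, hl'1, Category.assoc, l.fac_right, i₂v]
    · rw [← Category.assoc, hl'2]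
  obtain ⟨l₁', h11, h12, h13⟩ := key l₁
  obtain ⟨l₂', h21, h22, h23⟩ := key l₂
  have hl' : l₁' = l₂' := H (yS f S) (R₀S f S) φ' l₁' l₂' h12 h13 h22 h23
  have hv : Spec.map (CommRingCat.ofHom (eR f S)) ≫ l₁.l =
      Spec.map (CommRingCat.ofHom (eR f S)) ≫ l₂.l := by
    rw [← h11, ← h21, hl']
  have : l₁.l = l₂.l := by
    have h0 : ∀ m : Spec (CommRingCat.of S.R) ⟶ Y,
        Spec.map (CommRingCat.ofHom (eRinv f S)) ≫ Spec.map (CommRingCat.ofHom (eR f S)) ≫ m = m := by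
      intro m
      rw [← Category.assoc, ← Spec.map_comp, eRinv_eR, Spec.map_id, Category.id_comp]
    rw [← h0 l₁.l, ← h0 l₂.l, hv]
  exact CommSq.LiftStruct.ext this

theorem existence_of_idE (H : IdE f) : ValuativeCriterion.Existence f := by
  intro S
  obtain ⟨φ', ⟨hφ'1, hφ'2⟩, -⟩ := exists_φ' f S
  obtain ⟨l', hl'1, hl'2⟩ := H (yS f S) (R₀S f S) φ' hφ'2
  refine ⟨⟨⟨Spec.map (CommRingCat.ofHom (eRinv f S)) ≫ Spec.map (CommRingCat.ofHom (ρS f S)) ≫ l',
    ?_, ?_⟩⟩⟩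
  · rw [← Category.assoc, ← Category.assoc, ← Spec.map_comp, ← Spec.map_comp,
      eRinv_algebraMap, ρS_subtype, Spec.map_comp, Category.assoc, hl'1, gS_spec]
  · rw [Category.assoc, Category.assoc, hl'2, hφ'1, i₂v, ← Category.assoc, ← Spec.map_comp,
      eRinv_eR, Spec.map_id, Category.id_comp]

end StepA

/-- core theorem, uniqueness part -/
theorem uniqueness_of_refU {X Y Z : Scheme.{u}} (h : Z ⟶ Y) [QuasiCompact h]
    (hd : DenseRange h.base) (f : Y ⟶ X) (H : RefU h f) : ValuativeCriterion.Uniqueness f :=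
  uniqueness_of_idU f (idU_of_refU h hd f H)

/-- core theorem, existence part -/
theorem existence_of_refE {X Y Z : Scheme.{u}} (h : Z ⟶ Y) [QuasiCompact h]
    (hd : DenseRange h.base) (f : Y ⟶ X) (HU : RefU h f) (HE : RefE h f) :
    ValuativeCriterion.Existence f :=
  existence_of_idE f (idE_of_refE h hd f HU HE)

end Groth.Agent.Lib.Helper9.ValCritCore
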