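import Mathlib
import Groth.Agent.Lib.Helper9.ValCritCore

/-! Valuative squares attached to valuation rings of residue fields (helper9). -/

set_option autoImplicit false

universe u

open CategoryTheory AlgebraicGeometry

namespace Groth.Agent.Lib.Helper9.ValCritSq

open Groth.Agent.Lib.Helper9.ValCritCore

variable {X Y Z : Scheme.{u}} (h : Z ⟶ Y) (f : Y ⟶ X) (z : ↥Z)
  (R : ValuationSubring ↑(Z.residueField z)) (φ : Spec (CommRingCat.of ↥R) ⟶ X)
  (hφ : Spec.map (CommRingCat.ofHom R.subtype) ≫ φ = Z.fromSpecResidueField z ≫ h ≫ f)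

/-- the valuative square of a valuation ring of a residue field -/
noncomputable def sqOf : ValuativeCommSq f where
  R := ↥R
  K := ↑(Z.residueField z)
  i₁ := Z.fromSpecResidueField z ≫ h
  i₂ := φ
  commSq := ⟨by rw [Category.assoc, ← hφ]; rfl⟩

theorem sqOf_i₁ : (sqOf h f z R φ hφ).i₁ = Z.fromSpecResidueField z ≫ h := rfl

/-- lifts of the square -/
noncomputable def liftOf (φ' : Spec (CommRingCat.of ↥R) ⟶ Y)
    (h1 : Spec.map (CommRingCat.ofHom R.subtype) ≫ φ' = Z.fromSpecResidueField z ≫ h)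
    (h2 : φ' ≫ f = φ) : (sqOf h f z R φ hφ).commSq.LiftStruct :=
  ⟨φ', h1, h2⟩

theorem refU_of_uniqueness (H : ∀ (z : ↥Z) (R : ValuationSubring ↑(Z.residueField z))
    (φ : Spec (CommRingCat.of ↥R) ⟶ X)
    (hφ : Spec.map (CommRingCat.ofHom R.subtype) ≫ φ = Z.fromSpecResidueField z ≫ h ≫ f),
    Subsingleton (sqOf h f z R φ hφ).commSq.LiftStruct) : RefU h f := by
  intro z R φ hφ φ₁ φ₂ h1 h1' h2 h2'
  have := H z R φ hφ
  have e : liftOf h f z R φ hφ φ₁ h1 h1' = liftOf h f z R φ hφ φ₂ h2 h2' := Subsingleton.elim _ _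
  exact congrArg CommSq.LiftStruct.l e

theorem refE_of_existence (H : ∀ (z : ↥Z) (R : ValuationSubring ↑(Z.residueField z))
    (φ : Spec (CommRingCat.of ↥R) ⟶ X)
    (hφ : Spec.map (CommRingCat.ofHom R.subtype) ≫ φ = Z.fromSpecResidueField z ≫ h ≫ f),
    Nonempty (sqOf h f z R φ hφ).commSq.LiftStruct) : RefE h f := by
  intro z R φ hφ
  obtain ⟨l⟩ := H z R φ hφ
  exact ⟨l.l, l.fac_left, l.fac_right⟩

end Groth.Agent.Lib.Helper9.ValCritSq
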