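import Mathlib
import Groth.Agent.Lib.Helper9.ValCritCore
import Groth.Agent.Lib.Helper9.ValCritSq
import Groth.Agent.S17897

/-! Valuative criterion (existence) tested only at a dense point (helper9). -/

set_option autoImplicit false

universe u

open CategoryTheory AlgebraicGeometry

namespace Groth.Agent.Lib.Helper9.ValCritGen

open Groth.Agent.Lib.Helper9.ValCritCore Groth.Agent.Lib.Helper9.ValCritSq

instance quasiCompact_fromSpecResidueField {X : Scheme.{u}} (ξ : X) :
    QuasiCompact (X.fromSpecResidueField ξ) := by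
  rw [quasiCompact_iff_forall_isAffineOpen]
  intro U _
  haveI : Finite ↥(Spec (X.residueField ξ)) :=
    inferInstanceAs (Finite (PrimeSpectrum (X.residueField ξ)))
  exact (Set.toFinite _).isCompact

/-- transport of a valuation ring along a field map -/
noncomputable def ρof {κ K : Type u} [Field κ] [Field K] (e : κ →+* K) (R : ValuationSubring K) :
    ↥(R.comap e) →+* ↥R :=
  (e.comp (R.comap e).subtype).codRestrict R.toSubring (fun x => ValuationSubring.mem_comap.mp x.2)

theorem ρof_coe {κ K : Type u} [Field κ] [Field K] (e : κ →+* K) (R : ValuationSubring K)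
    (x : ↥(R.comap e)) : ((ρof e R x : ↥R) : K) = e (x : κ) := rfl

theorem existence_of_generic {X Y : Scheme.{u}} (f : X ⟶ Y) (ξ : X)
    (hξ : closure {ξ} = (Set.univ : Set X))
    (HU : ValuativeCriterion.Uniqueness f)
    (HE : ∀ (R : ValuationSubring (X.residueField ξ)) (φ : Spec (CommRingCat.of ↥R) ⟶ Y),
      Spec.map (CommRingCat.ofHom R.subtype) ≫ φ = X.fromSpecResidueField ξ ≫ f →
      ∃ l : Spec (CommRingCat.of ↥R) ⟶ X,
        Spec.map (CommRingCat.ofHom R.subtype) ≫ l = X.fromSpecResidueField ξ ∧ l ≫ f = φ) :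
    ValuativeCriterion.Existence f := by
  have hd : DenseRange (X.fromSpecResidueField ξ).base := by
    rw [DenseRange, Scheme.range_fromSpecResidueField, dense_iff_closure_eq, hξ]
  refine existence_of_refE (X.fromSpecResidueField ξ) hd f ?_ ?_
  · exact refU_of_uniqueness _ f (fun z R φ hφ => HU _)
  · intro z R φ hφ
    let ε : X.residueField ξ ⟶ (Spec (X.residueField ξ)).residueField z :=
      Spec.preimage ((Spec (X.residueField ξ)).fromSpecResidueField z)
    have hε : Spec.map ε = (Spec (X.residueField ξ)).fromSpecResidueField z :=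
      Spec.map_preimage _
    have hw : Spec.map (CommRingCat.ofHom R.subtype) ≫ φ =
        ((Spec (X.residueField ξ)).fromSpecResidueField z ≫ X.fromSpecResidueField ξ) ≫ f := by
      rw [hφ, Category.assoc]
    obtain ⟨φ', ⟨hφ'1, hφ'2⟩, -⟩ := Groth.Agent.S17897.result f
      ((Spec (X.residueField ξ)).residueField z) R
      ((Spec (X.residueField ξ)).fromSpecResidueField z ≫ X.fromSpecResidueField ξ) φ hw ξ ε
      (by rw [hε]) (ρof ε.hom R) (fun x => rfl)
    obtain ⟨l', hl'1, hl'2⟩ := HE (R.comap ε.hom) φ' hφ'2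
    refine ⟨Spec.map (CommRingCat.ofHom (ρof ε.hom R)) ≫ l', ?_, ?_⟩
    · have hcomm : CommRingCat.ofHom (ρof ε.hom R) ≫ CommRingCat.ofHom R.subtype =
          CommRingCat.ofHom (R.comap ε.hom).subtype ≫ ε := by
        ext x; rfl
      rw [← Category.assoc, ← Spec.map_comp, hcomm, Spec.map_comp, Category.assoc, hl'1, hε]
    · rw [Category.assoc, hl'2, hφ'1]

end Groth.Agent.Lib.Helper9.ValCritGen
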