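import Mathlib
import Groth.Agent.Lib.Helper9.ValCritGen

/-! Properness criterion in terms of valuation rings of the function field (helper9). -/

set_option autoImplicit false

universe u

open CategoryTheory CategoryTheory.Limits AlgebraicGeometry

namespace Groth.Agent.Lib.Helper9.ValCritL

open Groth.Agent.Lib.Helper9.ValCritGen Groth.Agent.Lib.Helper9.ValCritCore

theorem isDominant_spec_subtype {K : Type u} [Field K] (R : ValuationSubring K) :
    IsDominant (Spec.map (CommRingCat.ofHom R.subtype)) := by
  rw [isDominant_iff]
  change DenseRange (PrimeSpectrum.comap R.subtype)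
  rw [PrimeSpectrum.denseRange_comap_iff_ker_le_nilRadical]
  intro x hx
  rw [RingHom.mem_ker] at hx
  have : x = 0 := Subtype.ext hx
  rw [this]
  exact Ideal.zero_mem _

theorem ρof_bijective {F κ : Type u} [Field F] [Field κ] (e : F →+* κ)
    (he : Function.Surjective e) (R : ValuationSubring κ) : Function.Bijective (ρof e R) := by
  constructor
  · intro x y hxy
    have h1 : e (x : F) = e (y : F) := congrArg Subtype.val hxy
    exact Subtype.ext (e.injective h1)
  · intro r
    obtain ⟨x, hx⟩ := he (r : κ)
    refine ⟨⟨x, ?_⟩, Subtype.ext hx⟩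
    rw [ValuationSubring.mem_comap, hx]
    exact r.2

variable {X Y : Scheme.{u}} [IsIntegral X] [Y.IsSeparated] (f : X ⟶ Y)

/-- lifting criterion in terms of the function field implies the one for the residue field
of the generic point -/
theorem HE_of_HL
    (HL : ∀ (R : ValuationSubring X.functionField) (φ : Spec (CommRingCat.of ↥R) ⟶ Y),
      Spec.map (CommRingCat.ofHom R.subtype) ≫ φ = X.fromSpecStalk (genericPoint X) ≫ f →
      ∃ l : Spec (CommRingCat.of ↥R) ⟶ X,
        Spec.map (CommRingCat.ofHom R.subtype) ≫ l = X.fromSpecStalk (genericPoint X))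
    (R : ValuationSubring (X.residueField (genericPoint X)))
    (φ : Spec (CommRingCat.of ↥R) ⟶ Y)
    (hφ : Spec.map (CommRingCat.ofHom R.subtype) ≫ φ =
      X.fromSpecResidueField (genericPoint X) ≫ f) :
    ∃ l : Spec (CommRingCat.of ↥R) ⟶ X,
      Spec.map (CommRingCat.ofHom R.subtype) ≫ l = X.fromSpecResidueField (genericPoint X) ∧
        l ≫ f = φ := by
  let res : X.functionField →+* X.residueField (genericPoint X) := (X.residue (genericPoint X)).hom
  have hres : Function.Surjective res := X.residue_surjective (genericPoint X)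
  have hresbij : Function.Bijective res := ⟨res.injective, hres⟩
  haveI : IsIso (X.residue (genericPoint X)) :=
    (ConcreteCategory.isIso_iff_bijective _).mpr hresbij
  let e : ↥(R.comap res) ≃+* ↥R := RingEquiv.ofBijective (ρof res R) (ρof_bijective res hres R)
  have h1 : CommRingCat.ofHom (ρof res R) ≫ CommRingCat.ofHom R.subtype =
      CommRingCat.ofHom (R.comap res).subtype ≫ X.residue (genericPoint X) := by
    ext x; rfl
  have h2 : CommRingCat.ofHom (e.symm : ↥R →+* ↥(R.comap res)) ≫
      CommRingCat.ofHom (R.comap res).subtype ≫ X.residue (genericPoint X) =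
      CommRingCat.ofHom R.subtype := by
    rw [← h1]
    ext x
    exact congrArg Subtype.val (e.apply_symm_apply x)
  have h3 : Spec.map (X.residue (genericPoint X)) ≫
      Spec.map (CommRingCat.ofHom (R.comap res).subtype) ≫
      Spec.map (CommRingCat.ofHom (e.symm : ↥R →+* ↥(R.comap res))) =
      Spec.map (CommRingCat.ofHom R.subtype) := by
    rw [← h2]
    simp only [Spec.map_comp, Category.assoc]
    rfl
  have hcompat : Spec.map (CommRingCat.ofHom (R.comap res).subtype) ≫
      Spec.map (CommRingCat.ofHom (e.symm : ↥R →+* ↥(R.comap res))) ≫ φ =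
      X.fromSpecStalk (genericPoint X) ≫ f := by
    rw [← cancel_epi (Spec.map (X.residue (genericPoint X)))]
    calc Spec.map (X.residue (genericPoint X)) ≫
          Spec.map (CommRingCat.ofHom (R.comap res).subtype) ≫
          Spec.map (CommRingCat.ofHom (e.symm : ↥R →+* ↥(R.comap res))) ≫ φ
        = (Spec.map (X.residue (genericPoint X)) ≫
          Spec.map (CommRingCat.ofHom (R.comap res).subtype) ≫
          Spec.map (CommRingCat.ofHom (e.symm : ↥R →+* ↥(R.comap res)))) ≫ φ := by
            simp only [Category.assoc]
      _ = Spec.map (CommRingCat.ofHom R.subtype) ≫ φ := by rw [h3]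
      _ = X.fromSpecResidueField (genericPoint X) ≫ f := hφ
      _ = Spec.map (X.residue (genericPoint X)) ≫ X.fromSpecStalk (genericPoint X) ≫ f := by
            rw [Scheme.fromSpecResidueField, Category.assoc]
  obtain ⟨lL, hlL⟩ := HL (R.comap res) _ hcompat
  have hl : Spec.map (CommRingCat.ofHom R.subtype) ≫ Spec.map (CommRingCat.ofHom (ρof res R)) ≫ lL =
      X.fromSpecResidueField (genericPoint X) := by
    rw [← Category.assoc, ← Spec.map_comp, h1, Spec.map_comp, Category.assoc, hlL,
      Scheme.fromSpecResidueField]
  refine ⟨Spec.map (CommRingCat.ofHom (ρof res R)) ≫ lL, hl, ?_⟩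
  haveI := isDominant_spec_subtype R
  haveI : _root_.IsReduced (CommRingCat.of ↥R) := inferInstanceAs (_root_.IsReduced ↥R)
  apply ext_of_isDominant (Spec.map (CommRingCat.ofHom R.subtype))
  rw [← Category.assoc, hl, hφ]

/-- properness criterion in terms of valuation rings of the function field -/
theorem proper_of_L [X.IsSeparated] [LocallyOfFiniteType f] [QuasiCompact f]
    (HL : ∀ (R : ValuationSubring X.functionField) (φ : Spec (CommRingCat.of ↥R) ⟶ Y),
      Spec.map (CommRingCat.ofHom R.subtype) ≫ φ = X.fromSpecStalk (genericPoint X) ≫ f →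
      ∃ l : Spec (CommRingCat.of ↥R) ⟶ X,
        Spec.map (CommRingCat.ofHom R.subtype) ≫ l = X.fromSpecStalk (genericPoint X)) :
    IsProper f := by
  haveI : IsSeparated f := inferInstance
  have HU : ValuativeCriterion.Uniqueness f := IsSeparated.valuativeCriterion f
  have hgen : closure {genericPoint X} = (Set.univ : Set X) := genericPoint_spec X
  have HE : ValuativeCriterion.Existence f :=
    existence_of_generic f (genericPoint X) hgen HU (fun R φ hφ => HE_of_HL f HL R φ hφ)
  haveI : UniversallyClosed f := UniversallyClosed.of_valuativeCriterion f HE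
  exact {}

end Groth.Agent.Lib.Helper9.ValCritL
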