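import Mathlib
import Groth.Agent.S4433
import Groth.Agent.Lib.Helper9.ValCritL

/-! Reduction of the existence part of the valuative criterion to discrete valuation rings over a
locally Noetherian base (helper9). -/

set_option autoImplicit false

universe u

open CategoryTheory CategoryTheory.Limits AlgebraicGeometry

namespace Groth.Agent.Lib.Helper9.ValCritDVR

open Groth.Agent.Lib.Helper9.ValCritGen Groth.Agent.Lib.Helper9.ValCritCore
open Groth.Agent.Lib.Helper9.ValCritL

theorem dvr_of_local {O L : Type u} [CommRing O] [IsDomain O] [IsNoetherianRing O] [IsLocalRing O]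
    [Field L] (ι : O →+* L) (hinj : Function.Injective ι) (hA : ¬ IsField O)
    (S : Finset L) (hS : ∀ z : L, z ∈ Subfield.closure (Set.range ι ∪ (S : Set L))) :
    ∃ R' : ValuationSubring L, IsDiscreteValuationRing R' ∧ (∀ a, ι a ∈ R') ∧
      ∀ a ∈ IsLocalRing.maximalIdeal O, R'.valuation (ι a) < 1 := by
  letI : Algebra O L := ι.toAlgebra
  have hinj' : Function.Injective (algebraMap O L) := hinj
  letI : Algebra (FractionRing O) L := (IsFractionRing.lift hinj').toAlgebra
  haveI : IsScalarTower O (FractionRing O) L :=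
    IsScalarTower.of_algebraMap_eq (fun x => (IsFractionRing.lift_algebraMap hinj' x).symm)
  have hfg : (⊤ : IntermediateField (FractionRing O) L).FG := by
    refine ⟨S, ?_⟩
    rw [eq_top_iff]
    intro z _
    have h1 : Subfield.closure (Set.range ι ∪ (S : Set L)) ≤
        (IntermediateField.adjoin (FractionRing O) (S : Set L)).toSubfield := by
      rw [Subfield.closure_le]
      rintro w (⟨a, rfl⟩ | hw)
      · have : ι a = algebraMap (FractionRing O) L (algebraMap O (FractionRing O) a) :=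
          (IsFractionRing.lift_algebraMap hinj' a).symm
        change ι a ∈ IntermediateField.adjoin (FractionRing O) (S : Set L)
        rw [this]
        exact IntermediateField.algebraMap_mem _ _
      · exact IntermediateField.subset_adjoin _ _ hw
    exact h1 (hS z)
  obtain ⟨R', h1, h2, h3⟩ := Groth.Agent.S4433.result O hA (FractionRing O) L hfg
  exact ⟨R', h1, h2, h3⟩

theorem exists_dvr_refine {C L : Type u} [CommRing C] [IsNoetherianRing C] [Field L]
    (g : C →+* L) (R : ValuationSubring L) (hg : ∀ c, g c ∈ R)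
    (T : Finset L) (hT : ∀ t ∈ T, R.valuation t < 1) (t₀ : L) (ht₀ : t₀ ∈ T) (ht₀0 : t₀ ≠ 0)
    (S : Finset L) (hS : ∀ z : L, z ∈ Subfield.closure (Set.range g ∪ (S : Set L))) :
    ∃ R' : ValuationSubring L, IsDiscreteValuationRing R' ∧ (∀ c, g c ∈ R') ∧
      (∀ c, R.valuation (g c) < 1 → R'.valuation (g c) < 1) ∧
      (∀ c, R.valuation (g c) = 1 → R'.valuation (g c) = 1) ∧
      (∀ t ∈ T, R'.valuation t < 1) := by
  classical
  letI : Algebra C L := g.toAlgebra
  let C' : Subalgebra C L := Algebra.adjoin C (T : Set L)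
  let RA : Subalgebra C L := { R.toSubring with algebraMap_mem' := hg }
  have hC'R : C' ≤ RA := by
    apply Algebra.adjoin_le
    intro t ht
    exact (R.valuation_le_one_iff t).mp (le_of_lt (hT t ht))
  haveI : Algebra.FiniteType C C' := (Subalgebra.fg_iff_finiteType _).mp (Subalgebra.fg_adjoin_finset T)
  haveI : IsNoetherianRing C' := Algebra.FiniteType.isNoetherianRing C C'
  let inc : C' →+* R := (C'.val.toRingHom).codRestrict R.toSubring (fun z => hC'R z.2)
  let p' : Ideal C' := (IsLocalRing.maximalIdeal R).comap inc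
  haveI : p'.IsPrime := Ideal.comap_isPrime inc _
  have hunits : ∀ y : p'.primeCompl, IsUnit (inc y) := by
    intro y
    by_contra hy
    exact y.2 ((IsLocalRing.mem_maximalIdeal _).mpr hy)
  let ιR : Localization.AtPrime p' →+* R := IsLocalization.lift hunits
  let ι : Localization.AtPrime p' →+* L := R.subtype.comp ιR
  have hι : ∀ z : C', ι (algebraMap C' (Localization.AtPrime p') z) = (z : L) := by
    intro z
    change ((ιR (algebraMap C' (Localization.AtPrime p') z) : R) : L) = _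
    rw [IsLocalization.lift_eq]
    rfl
  have hinj : Function.Injective ι := by
    rw [injective_iff_map_eq_zero]
    intro z hz
    obtain ⟨a, s, rfl⟩ := IsLocalization.exists_mk'_eq p'.primeCompl z
    have h1 : ι (IsLocalization.mk' (Localization.AtPrime p') a s) *
        ι (algebraMap C' (Localization.AtPrime p') s) =
        ι (algebraMap C' (Localization.AtPrime p') a) := by
      rw [← map_mul, IsLocalization.mk'_spec]
    rw [hz, zero_mul, hι] at h1
    have ha : a = 0 := Subtype.ext h1.symm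
    rw [ha, IsLocalization.mk'_zero]
  have ht₀C' : t₀ ∈ C' := Algebra.subset_adjoin ht₀
  have hmemp' : ∀ z : C', R.valuation (z : L) < 1 → z ∈ p' := by
    intro z hz
    change inc z ∈ IsLocalRing.maximalIdeal R
    rw [ValuationSubring.valuation_lt_one_iff]
    exact hz
  have hA : ¬ IsField (Localization.AtPrime p') := by
    intro hf
    have h1 : algebraMap C' (Localization.AtPrime p') ⟨t₀, ht₀C'⟩ ∈
        IsLocalRing.maximalIdeal (Localization.AtPrime p') :=
      (IsLocalization.AtPrime.to_map_mem_maximal_iff _ p' _).mpr (hmemp' ⟨t₀, ht₀C'⟩ (hT t₀ ht₀))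
    rw [IsLocalRing.isField_iff_maximalIdeal_eq.mp hf, Ideal.mem_bot] at h1
    have h2 := hι ⟨t₀, ht₀C'⟩
    rw [h1, map_zero] at h2
    exact ht₀0 h2.symm
  haveI : IsNoetherianRing (Localization.AtPrime p') :=
    IsLocalization.isNoetherianRing p'.primeCompl _ inferInstance
  have hS' : ∀ z : L, z ∈ Subfield.closure (Set.range ι ∪ (S : Set L)) := by
    intro z
    have h1 : Subfield.closure (Set.range g ∪ (S : Set L)) ≤
        Subfield.closure (Set.range ι ∪ (S : Set L)) := by
      apply Subfield.closure_mono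
      apply Set.union_subset_union_left
      rintro _ ⟨c, rfl⟩
      exact ⟨algebraMap C' (Localization.AtPrime p') (algebraMap C C' c), hι _⟩
    exact h1 (hS z)
  obtain ⟨R', hdvr, hmem, hdom⟩ := dvr_of_local ι hinj hA S hS'
  have hC'mem : ∀ z : C', (z : L) ∈ R' := fun z => hι z ▸ hmem _
  have hC'lt : ∀ z : C', R.valuation (z : L) < 1 → R'.valuation (z : L) < 1 := by
    intro z hz
    have := hdom _ ((IsLocalization.AtPrime.to_map_mem_maximal_iff _ p' _).mpr (hmemp' z hz))
    rwa [hι] at this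
  have hC'one : ∀ z : C', R.valuation (z : L) = 1 → R'.valuation (z : L) = 1 := by
    intro z hz
    have hzp : z ∉ p' := by
      intro hzp
      have : R.valuation ((inc z : R) : L) < 1 :=
        (ValuationSubring.valuation_lt_one_iff R (inc z)).mp hzp
      exact absurd hz (ne_of_lt this)
    have hu : IsUnit (algebraMap C' (Localization.AtPrime p') z) :=
      IsLocalization.map_units _ (⟨z, hzp⟩ : p'.primeCompl)
    obtain ⟨u, hu⟩ := hu
    have h1 : ι (u : Localization.AtPrime p') * ι ((u⁻¹ : (Localization.AtPrime p')ˣ)) = 1 := by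
      rw [← map_mul, Units.mul_inv, map_one]
    rw [hu, hι] at h1
    have h2 : R'.valuation (z : L) ≤ 1 := (R'.valuation_le_one_iff _).mpr (hC'mem z)
    have h3 : R'.valuation (ι ((u⁻¹ : (Localization.AtPrime p')ˣ))) ≤ 1 :=
      (R'.valuation_le_one_iff _).mpr (hmem _)
    have h4 := congrArg R'.valuation h1
    rw [map_mul, map_one] at h4
    by_contra hne
    have hlt : R'.valuation (z : L) < 1 := lt_of_le_of_ne h2 hne
    have : R'.valuation (z : L) * R'.valuation (ι ((u⁻¹ : (Localization.AtPrime p')ˣ))) < 1 :=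
      mul_lt_one_of_lt_of_le hlt h3
    rw [h4] at this
    exact lt_irrefl _ this
  have hgC' : ∀ c, g c ∈ C' := fun c => C'.algebraMap_mem c
  refine ⟨R', hdvr, fun c => hC'mem ⟨g c, hgC' c⟩, fun c hc => hC'lt ⟨g c, hgC' c⟩ hc,
    fun c hc => hC'one ⟨g c, hgC' c⟩ hc, fun t ht => ?_⟩
  exact hC'lt ⟨t, Algebra.subset_adjoin ht⟩ (hT t ht)

theorem val_inv_lt_one {L : Type u} [Field L] (R : ValuationSubring L) (t : L) (ht : t ∉ R) :
    R.valuation t⁻¹ < 1 := by
  have h1 : ¬ R.valuation t ≤ 1 := fun h => ht ((R.valuation_le_one_iff t).mp h)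
  rw [not_le] at h1
  rw [map_inv₀]
  exact inv_lt_one_of_one_lt₀ h1


section sch

variable {X Y : Scheme.{u}} (f : X ⟶ Y) (η : X)

theorem spec_closedPoint_κ (R : ValuationSubring (X.residueField η))
    (φ : Spec (CommRingCat.of ↥R) ⟶ Y)
    (hφ : Spec.map (CommRingCat.ofHom R.subtype) ≫ φ = X.fromSpecResidueField η ≫ f) :
    f.base η ⤳ φ (IsLocalRing.closedPoint ↥R) := by
  let pt : ↥(Spec (X.residueField η)) := IsLocalRing.closedPoint (X.residueField η)
  have h1 : (Spec.map (CommRingCat.ofHom R.subtype) ≫ φ) pt = f η := by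
    rw [hφ]
    change f (X.fromSpecResidueField η pt) = _
    rw [Scheme.fromSpecResidueField_apply]
  have h2 : Spec.map (CommRingCat.ofHom R.subtype) pt ⤳ IsLocalRing.closedPoint ↥R :=
    IsLocalRing.specializes_closedPoint _
  have h3 := h2.map φ.continuous
  rw [← h1]
  exact h3

theorem key_eq_κ (R : ValuationSubring (X.residueField η))
    (φ : Spec (CommRingCat.of ↥R) ⟶ Y)
    (hφ : Spec.map (CommRingCat.ofHom R.subtype) ≫ φ = X.fromSpecResidueField η ≫ f)
    (hy : f.base η ⤳ φ (IsLocalRing.closedPoint ↥R)) :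
    Scheme.stalkClosedPointTo φ ≫ CommRingCat.ofHom R.subtype =
      Y.presheaf.stalkSpecializes hy ≫ f.stalkMap η ≫ X.residue η := by
  apply Spec.map_injective
  rw [← cancel_mono (Y.fromSpecStalk (φ (IsLocalRing.closedPoint ↥R)))]
  rw [gen_eq f η _ hy, Spec.map_comp, Category.assoc,
    Scheme.Spec_stalkClosedPointTo_fromSpecStalk, hφ]

theorem φ_eq_of_affine {A : CommRingCat.{u}} [IsLocalRing A] (φ : Spec A ⟶ Y) (V : Y.Opens)
    (hV : IsAffineOpen V) (hyV : φ (IsLocalRing.closedPoint A) ∈ V) :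
    φ = Spec.map (Y.presheaf.germ V _ hyV ≫ Scheme.stalkClosedPointTo φ) ≫ hV.fromSpec := by
  rw [Spec.map_comp, Category.assoc]
  have : Spec.map (Y.presheaf.germ V _ hyV) ≫ hV.fromSpec = Y.fromSpecStalk _ :=
    hV.fromSpecStalk_eq_fromSpecStalk hyV
  rw [this, Scheme.Spec_stalkClosedPointTo_fromSpecStalk]

theorem appLE_germ (V : Y.Opens) (W : X.Opens) (e : W ≤ f ⁻¹ᵁ V) (x : X) (hx : x ∈ W)
    (hfx : f x ∈ V) :
    f.appLE V W e ≫ X.presheaf.germ W x hx =
      Y.presheaf.germ V (f x) hfx ≫ f.stalkMap x := by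
  rw [Scheme.Hom.appLE, Category.assoc, X.presheaf.germ_res']
  exact (Scheme.Hom.germ_stalkMap f V x hfx).symm

theorem lift_of_affine_κ (R : ValuationSubring (X.residueField η))
    (φ : Spec (CommRingCat.of ↥R) ⟶ Y)
    (hφ : Spec.map (CommRingCat.ofHom R.subtype) ≫ φ = X.fromSpecResidueField η ≫ f)
    (V : Y.Opens) (hV : IsAffineOpen V) (hyV : φ (IsLocalRing.closedPoint ↥R) ∈ V)
    (U : X.Opens) (hU : IsAffineOpen U) (e : U ≤ f ⁻¹ᵁ V) (hη : η ∈ U)
    (h : ∀ b : Γ(X, U), (X.presheaf.germ U η hη ≫ X.residue η).hom b ∈ R) :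
    ∃ l : Spec (CommRingCat.of ↥R) ⟶ X,
      Spec.map (CommRingCat.ofHom R.subtype) ≫ l = X.fromSpecResidueField η ∧ l ≫ f = φ := by
  haveI : IsLocalRing (CommRingCat.of ↥R) := inferInstanceAs (IsLocalRing ↥R)
  let ψ : Γ(X, U) →+* ↥R := (X.presheaf.germ U η hη ≫ X.residue η).hom.codRestrict R.toSubring h
  have hψ : CommRingCat.ofHom ψ ≫ CommRingCat.ofHom R.subtype =
      X.presheaf.germ U η hη ≫ X.residue η := by
    ext; rfl
  refine ⟨Spec.map (CommRingCat.ofHom ψ) ≫ hU.fromSpec, ?_, ?_⟩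
  · rw [← Category.assoc, ← Spec.map_comp, hψ, Spec.map_comp, Category.assoc]
    have : Spec.map (X.presheaf.germ U η hη) ≫ hU.fromSpec = X.fromSpecStalk η :=
      hU.fromSpecStalk_eq_fromSpecStalk hη
    rw [this, Scheme.fromSpecResidueField]
  · have hy := spec_closedPoint_κ f η R φ hφ
    have hfη : f η ∈ V := hy.mem_open V.2 hyV
    rw [Category.assoc, ← IsAffineOpen.SpecMap_appLE_fromSpec f hV hU e, ← Category.assoc,
      ← Spec.map_comp]
    conv_rhs => rw [φ_eq_of_affine φ V hV hyV]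
    congr 2
    haveI : Mono (CommRingCat.ofHom R.subtype) :=
      ConcreteCategory.mono_of_injective _ Subtype.val_injective
    rw [← cancel_mono (CommRingCat.ofHom R.subtype)]
    rw [Category.assoc, hψ, ← Category.assoc, appLE_germ f V U e η hη hfη, Category.assoc,
      Category.assoc, key_eq_κ f η R φ hφ hy, ← Category.assoc (Y.presheaf.germ V _ hyV),
      Y.presheaf.germ_stalkSpecializes]

theorem lift_of_top_κ (R : ValuationSubring (X.residueField η))
    (φ : Spec (CommRingCat.of ↥R) ⟶ Y)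
    (hφ : Spec.map (CommRingCat.ofHom R.subtype) ≫ φ = X.fromSpecResidueField η ≫ f)
    (hR : ∀ k : X.residueField η, k ∈ R) :
    ∃ l : Spec (CommRingCat.of ↥R) ⟶ X,
      Spec.map (CommRingCat.ofHom R.subtype) ≫ l = X.fromSpecResidueField η ∧ l ≫ f = φ := by
  let inv : X.residueField η →+* ↥R := (RingHom.id _).codRestrict R.toSubring hR
  have h1 : CommRingCat.ofHom inv ≫ CommRingCat.ofHom R.subtype = 𝟙 _ := by
    ext x; rfl
  have h2 : CommRingCat.ofHom R.subtype ≫ CommRingCat.ofHom inv = 𝟙 _ := by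
    ext x; rfl
  refine ⟨Spec.map (CommRingCat.ofHom inv) ≫ X.fromSpecResidueField η, ?_, ?_⟩
  · rw [← Category.assoc, ← Spec.map_comp, h1, Spec.map_id, Category.id_comp]
  · rw [Category.assoc, ← hφ, ← Category.assoc, ← Spec.map_comp, h2, Spec.map_id,
      Category.id_comp]

theorem fg_input_κ [LocallyOfFiniteType f] (V : Y.Opens) (hV : IsAffineOpen V) (W : X.Opens)
    (hW : IsAffineOpen W) (e : W ≤ f ⁻¹ᵁ V) (hη : η ∈ W) (hfη : f η ∈ V) :
    ∃ S : Finset (X.residueField η), ∀ z : X.residueField η, z ∈ Subfield.closure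
      (Set.range (Y.presheaf.germ V (f η) hfη ≫ f.stalkMap η ≫ X.residue η).hom ∪
        (S : Set (X.residueField η))) := by
  classical
  have ft := f.finiteType_appLE hV hW e
  letI : Algebra Γ(Y, V) Γ(X, W) := (f.appLE V W e).hom.toAlgebra
  have ft' : Algebra.FiniteType Γ(Y, V) Γ(X, W) := ft
  obtain ⟨S₀, hS₀⟩ := ft'.out
  refine ⟨S₀.image (X.presheaf.germ W η hη ≫ X.residue η).hom, fun z => ?_⟩
  set F := Subfield.closure
      (Set.range (Y.presheaf.germ V (f η) hfη ≫ f.stalkMap η ≫ X.residue η).hom ∪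
        ((S₀.image (X.presheaf.germ W η hη ≫ X.residue η).hom : Finset (X.residueField η)) :
          Set (X.residueField η))) with hF
  have hev : ∀ a : Γ(X, W), (X.presheaf.germ W η hη ≫ X.residue η).hom a ∈ F := by
    intro a
    have ha : a ∈ Algebra.adjoin Γ(Y, V) (S₀ : Set Γ(X, W)) := by rw [hS₀]; trivial
    induction ha using Algebra.adjoin_induction with
    | mem x hx =>
      apply Subfield.subset_closure
      right
      exact Finset.mem_coe.mpr (Finset.mem_image_of_mem _ hx)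
    | algebraMap c =>
      apply Subfield.subset_closure
      left
      refine ⟨c, ?_⟩
      have h1 : f.appLE V W e ≫ X.presheaf.germ W η hη ≫ X.residue η =
          Y.presheaf.germ V (f η) hfη ≫ f.stalkMap η ≫ X.residue η := by
        rw [← Category.assoc, appLE_germ f V W e η hη hfη, Category.assoc]
      have := congrArg (fun h => h.hom c) h1
      exact this.symm
    | add x y _ _ hx hy => rw [map_add]; exact F.add_mem hx hy
    | mul x y _ _ hx hy => rw [map_mul]; exact F.mul_mem hx hy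
  obtain ⟨σ, rfl⟩ := X.residue_surjective η z
  letI := X.presheaf.algebra_section_stalk ⟨η, hη⟩
  haveI := hW.isLocalization_stalk ⟨η, hη⟩
  obtain ⟨⟨a, s⟩, has⟩ := IsLocalization.surj (hW.primeIdealOf ⟨η, hη⟩).asIdeal.primeCompl σ
  have hu : IsUnit (algebraMap Γ(X, W) (X.presheaf.stalk η) s.1) := IsLocalization.map_units _ s
  have hu' : IsUnit ((X.residue η).hom (algebraMap Γ(X, W) (X.presheaf.stalk η) s.1)) :=
    hu.map _
  have h2 : (X.residue η).hom σ * (X.residue η).hom (algebraMap Γ(X, W) (X.presheaf.stalk η) s.1) =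
      (X.residue η).hom (algebraMap Γ(X, W) (X.presheaf.stalk η) a) := by
    rw [← map_mul, has]
  have h3 : (X.residue η).hom σ = (X.residue η).hom (algebraMap Γ(X, W) (X.presheaf.stalk η) a) /
      (X.residue η).hom (algebraMap Γ(X, W) (X.presheaf.stalk η) s.1) := by
    rw [eq_div_iff hu'.ne_zero, h2]
  change (X.residue η).hom σ ∈ F
  rw [h3]
  exact F.div_mem (hev a) (hev s.1)

theorem specializes_of_lift (R : ValuationSubring (X.residueField η))
    (l : Spec (CommRingCat.of ↥R) ⟶ X)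
    (hl : Spec.map (CommRingCat.ofHom R.subtype) ≫ l = X.fromSpecResidueField η) :
    η ⤳ l (IsLocalRing.closedPoint ↥R) := by
  have := spec_closedPoint_κ (𝟙 X) η R l (by rw [hl, Category.comp_id])
  exact this

theorem key_eq_X (R : ValuationSubring (X.residueField η))
    (l : Spec (CommRingCat.of ↥R) ⟶ X)
    (hl : Spec.map (CommRingCat.ofHom R.subtype) ≫ l = X.fromSpecResidueField η)
    (hsp : η ⤳ l (IsLocalRing.closedPoint ↥R)) :
    Scheme.stalkClosedPointTo l ≫ CommRingCat.ofHom R.subtype =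
      X.presheaf.stalkSpecializes hsp ≫ X.residue η := by
  apply Spec.map_injective
  rw [← cancel_mono (X.fromSpecStalk (l (IsLocalRing.closedPoint ↥R)))]
  rw [Spec.map_comp, Category.assoc, Scheme.Spec_stalkClosedPointTo_fromSpecStalk, hl,
    Spec.map_comp, Category.assoc, Scheme.SpecMap_stalkSpecializes_fromSpecStalk,
    Scheme.fromSpecResidueField]

theorem mem_of_lift (R : ValuationSubring (X.residueField η))
    (l : Spec (CommRingCat.of ↥R) ⟶ X)
    (hl : Spec.map (CommRingCat.ofHom R.subtype) ≫ l = X.fromSpecResidueField η)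
    (W : X.Opens) (hW : l (IsLocalRing.closedPoint ↥R) ∈ W) (hη : η ∈ W) (b : Γ(X, W)) :
    (X.presheaf.germ W η hη ≫ X.residue η).hom b ∈ R := by
  have hsp := specializes_of_lift η R l hl
  have h1 := key_eq_X η R l hl hsp
  have h2 : X.presheaf.germ W η hη ≫ X.residue η =
      X.presheaf.germ W _ hW ≫ Scheme.stalkClosedPointTo l ≫ CommRingCat.ofHom R.subtype := by
    rw [h1, ← Category.assoc, X.presheaf.germ_stalkSpecializes]
  rw [h2]
  exact ((Scheme.stalkClosedPointTo l).hom ((X.presheaf.germ W _ hW).hom b)).2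

theorem val_of_dvr [IsLocallyNoetherian Y] [LocallyOfFiniteType f] [QuasiCompact f]
    (Hdvr : ∀ R' : ValuationSubring (X.residueField η), IsDiscreteValuationRing R' →
      ∀ φ' : Spec (CommRingCat.of ↥R') ⟶ Y,
        Spec.map (CommRingCat.ofHom R'.subtype) ≫ φ' = X.fromSpecResidueField η ≫ f →
        ∃ l' : Spec (CommRingCat.of ↥R') ⟶ X,
          Spec.map (CommRingCat.ofHom R'.subtype) ≫ l' = X.fromSpecResidueField η ∧ l' ≫ f = φ')
    (R : ValuationSubring (X.residueField η)) (φ : Spec (CommRingCat.of ↥R) ⟶ Y)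
    (hφ : Spec.map (CommRingCat.ofHom R.subtype) ≫ φ = X.fromSpecResidueField η ≫ f) :
    ∃ l : Spec (CommRingCat.of ↥R) ⟶ X,
      Spec.map (CommRingCat.ofHom R.subtype) ≫ l = X.fromSpecResidueField η ∧ l ≫ f = φ := by
  classical
  by_cases hR : ∀ k : X.residueField η, k ∈ R
  · exact lift_of_top_κ f η R φ hφ hR
  push Not at hR
  obtain ⟨t, ht⟩ := hR
  have ht0 : t ≠ 0 := fun h0 => ht (h0 ▸ R.zero_mem)
  have hy := spec_closedPoint_κ f η R φ hφ
  have hkey := key_eq_κ f η R φ hφ hy
  by_contra hno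
  -- affine neighbourhood of y₀
  obtain ⟨_, ⟨V, hV, rfl⟩, hy₀V, -⟩ := Y.isBasis_affineOpens.exists_subset_of_mem_open
    (Set.mem_univ (φ (IsLocalRing.closedPoint ↥R))) isOpen_univ
  have hV' : IsAffineOpen V := hV
  have hfηV : f η ∈ V := hy.mem_open V.2 hy₀V
  haveI : IsNoetherianRing Γ(Y, V) := IsLocallyNoetherian.component_noetherian ⟨V, hV'⟩
  have H0 : ∀ (U : X.Opens) (hU : IsAffineOpen U) (e : U ≤ f ⁻¹ᵁ V) (hη : η ∈ U),
      ∃ b : Γ(X, U), (X.presheaf.germ U η hη ≫ X.residue η).hom b ∉ R := by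
    intro U hU e hη
    by_contra hall
    push Not at hall
    exact hno (lift_of_affine_κ f η R φ hφ V hV' hy₀V U hU e hη hall)
  -- finite affine cover of the preimage
  have hcpt : IsCompact (f ⁻¹ᵁ V : Set X) := f.isCompact_preimage hV'.isCompact
  obtain ⟨s, hsfin, hs⟩ := isCompact_iff_finite_and_eq_biUnion_affineOpens.mp hcpt
  have hcover : ∀ x : X, x ∈ f ⁻¹ᵁ V → ∃ W ∈ s, x ∈ W.1 := by
    intro x hx
    rw [hs] at hx
    simp only [TopologicalSpace.Opens.mem_iSup] at hx
    obtain ⟨W, hW, hxW⟩ := hx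
    exact ⟨W, hW, hxW⟩
  have hle : ∀ W ∈ s, W.1 ≤ f ⁻¹ᵁ V := by
    intro W hW
    rw [hs]
    exact le_iSup₂ (f := fun (i : X.affineOpens) (_ : i ∈ s) => (i : X.Opens)) W hW
  -- choice of the elements
  let βfun : X.affineOpens → X.residueField η := fun W =>
    if hW : W ∈ s ∧ η ∈ W.1 then
      (X.presheaf.germ W.1 η hW.2 ≫ X.residue η).hom
        (Classical.choose (H0 W.1 W.2 (hle W hW.1) hW.2))
    else t
  have hβ : ∀ W, βfun W ∉ R := by
    intro W
    by_cases hW : W ∈ s ∧ η ∈ W.1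
    · simp only [βfun, dif_pos hW]
      exact Classical.choose_spec (H0 W.1 W.2 (hle W hW.1) hW.2)
    · simp only [βfun, dif_neg hW]
      exact ht
  have hβgerm : ∀ (W : X.affineOpens) (hWs : W ∈ s) (hη : η ∈ W.1),
      ∃ b : Γ(X, W.1), βfun W = (X.presheaf.germ W.1 η hη ≫ X.residue η).hom b := by
    intro W hWs hη
    have hW : W ∈ s ∧ η ∈ W.1 := ⟨hWs, hη⟩
    exact ⟨Classical.choose (H0 W.1 W.2 (hle W hWs) hη), by simp only [βfun, dif_pos hW]⟩
  let T : Finset (X.residueField η) :=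
    insert t⁻¹ (hsfin.toFinset.image (fun W => (βfun W)⁻¹))
  have hT : ∀ τ ∈ T, R.valuation τ < 1 := by
    intro τ hτ
    rcases Finset.mem_insert.mp hτ with rfl | hτ
    · exact val_inv_lt_one R t ht
    · obtain ⟨W, -, rfl⟩ := Finset.mem_image.mp hτ
      exact val_inv_lt_one R _ (hβ W)
  obtain ⟨W₁, hW₁s, hηW₁⟩ := hcover η hfηV
  obtain ⟨S, hS⟩ := fg_input_κ f η V hV' W₁.1 W₁.2 (hle W₁ hW₁s) hηW₁ hfηV
  -- the ring map
  have hg : ∀ c, (Y.presheaf.germ V (f η) hfηV ≫ f.stalkMap η ≫ X.residue η).hom c ∈ R := by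
    intro c
    have h1 : Y.presheaf.germ V (f η) hfηV ≫ f.stalkMap η ≫ X.residue η =
        Y.presheaf.germ V _ hy₀V ≫ Scheme.stalkClosedPointTo φ ≫ CommRingCat.ofHom R.subtype := by
      rw [hkey, TopCat.Presheaf.germ_stalkSpecializes_assoc]
    rw [h1]
    exact ((Scheme.stalkClosedPointTo φ).hom ((Y.presheaf.germ V _ hy₀V).hom c)).2
  obtain ⟨R', hdvr, h1, -, -, h4⟩ := exists_dvr_refine
    (Y.presheaf.germ V (f η) hfηV ≫ f.stalkMap η ≫ X.residue η).hom R hg T hT
    t⁻¹ (Finset.mem_insert_self _ _) (inv_ne_zero ht0) S hS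
  let gR' : Γ(Y, V) →+* ↥R' :=
    (Y.presheaf.germ V (f η) hfηV ≫ f.stalkMap η ≫ X.residue η).hom.codRestrict R'.toSubring h1
  have hgR' : CommRingCat.ofHom gR' ≫ CommRingCat.ofHom R'.subtype =
      Y.presheaf.germ V (f η) hfηV ≫ f.stalkMap η ≫ X.residue η := by
    ext; rfl
  have hcompat' : Spec.map (CommRingCat.ofHom R'.subtype) ≫
      Spec.map (CommRingCat.ofHom gR') ≫ hV'.fromSpec = X.fromSpecResidueField η ≫ f := by
    rw [← Category.assoc, ← Spec.map_comp, hgR', Spec.map_comp, Spec.map_comp, Category.assoc,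
      Category.assoc]
    have : Spec.map (Y.presheaf.germ V (f η) hfηV) ≫ hV'.fromSpec = Y.fromSpecStalk (f η) :=
      hV'.fromSpecStalk_eq_fromSpecStalk hfηV
    rw [this, Scheme.SpecMap_stalkMap_fromSpecStalk, Scheme.fromSpecResidueField, Category.assoc]
  obtain ⟨l', hl'1, hl'2⟩ := Hdvr R' hdvr _ hcompat'
  let cp' : ↥(Spec (CommRingCat.of ↥R')) := IsLocalRing.closedPoint ↥R'
  have hxV : l' cp' ∈ f ⁻¹ᵁ V := by
    have e1 : f (l' cp') = (l' ≫ f) cp' := (Scheme.Hom.comp_apply _ _ _).symm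
    change f (l' cp') ∈ V
    rw [e1, hl'2]
    have e2 : (Spec.map (CommRingCat.ofHom gR') ≫ hV'.fromSpec) cp' ∈ Set.range hV'.fromSpec :=
      ⟨Spec.map (CommRingCat.ofHom gR') cp', (Scheme.Hom.comp_apply _ _ _).symm⟩
    rw [hV'.range_fromSpec] at e2
    exact e2
  obtain ⟨W, hWs, hxW⟩ := hcover _ hxV
  have hηW : η ∈ W.1 := (specializes_of_lift η R' l' hl'1).mem_open W.1.2 hxW
  obtain ⟨b, hb⟩ := hβgerm W hWs hηW
  have hβR' : βfun W ∈ R' := by
    rw [hb]
    exact mem_of_lift η R' l' hl'1 W.1 hxW hηW b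
  have hβinv : R'.valuation (βfun W)⁻¹ < 1 :=
    h4 _ (Finset.mem_insert_of_mem (Finset.mem_image.mpr ⟨W, hsfin.mem_toFinset.mpr hWs, rfl⟩))
  have hβ0 : βfun W ≠ 0 := fun h0 => hβ W (h0 ▸ R.zero_mem)
  have hβle : R'.valuation (βfun W) ≤ 1 := (R'.valuation_le_one_iff _).mpr hβR'
  rw [map_inv₀] at hβinv
  have hpos : 0 < R'.valuation (βfun W) := zero_lt_iff.mpr ((Valuation.ne_zero_iff _).mpr hβ0)
  have : 1 ≤ (R'.valuation (βfun W))⁻¹ := (one_le_inv₀ hpos).mpr hβle
  exact absurd hβinv (not_lt.mpr this)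

end sch

section family

open Groth.Agent.Lib.Helper9.ValCritSq

variable {X Y : Scheme.{u}} (f : X ⟶ Y)

/-- the refined existence property for the canonical morphism of a point -/
theorem refE_of_point (ξ : X)
    (HE : ∀ (R : ValuationSubring (X.residueField ξ)) (φ : Spec (CommRingCat.of ↥R) ⟶ Y),
      Spec.map (CommRingCat.ofHom R.subtype) ≫ φ = X.fromSpecResidueField ξ ≫ f →
      ∃ l : Spec (CommRingCat.of ↥R) ⟶ X,
        Spec.map (CommRingCat.ofHom R.subtype) ≫ l = X.fromSpecResidueField ξ ∧ l ≫ f = φ) :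
    RefE (X.fromSpecResidueField ξ) f := by
  intro z R φ hφ
  let ε : X.residueField ξ ⟶ (Spec (X.residueField ξ)).residueField z :=
    Spec.preimage ((Spec (X.residueField ξ)).fromSpecResidueField z)
  have hε : Spec.map ε = (Spec (X.residueField ξ)).fromSpecResidueField z :=
    Spec.map_preimage _
  have hw : Spec.map (CommRingCat.ofHom R.subtype) ≫ φ =
      ((Spec (X.residueField ξ)).fromSpecResidueField z ≫ X.fromSpecResidueField ξ) ≫ f := by
    rw [hφ, Category.assoc]
  obtain ⟨φ', ⟨hφ'1, hφ'2⟩, -⟩ := Groth.Agent.S17897.result f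
    ((Spec (X.residueField ξ)).residueField z) R
    ((Spec (X.residueField ξ)).fromSpecResidueField z ≫ X.fromSpecResidueField ξ) φ hw ξ ε
    (by rw [hε]) (ρof ε.hom R) (fun x => rfl)
  obtain ⟨l', hl'1, hl'2⟩ := HE (R.comap ε.hom) φ' hφ'2
  refine ⟨Spec.map (CommRingCat.ofHom (ρof ε.hom R)) ≫ l', ?_, ?_⟩
  · have hcomm : CommRingCat.ofHom (ρof ε.hom R) ≫ CommRingCat.ofHom R.subtype =
        CommRingCat.ofHom (R.comap ε.hom).subtype ≫ ε := by
      ext x; rfl
    rw [← Category.assoc, ← Spec.map_comp, hcomm, Spec.map_comp, Category.assoc, hl'1, hε]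
  · rw [Category.assoc, hl'2, hφ'1]

/-- existence part of the valuative criterion from the lifting property at a family of points
such that every point is a specialization of a point of the family -/
theorem existence_of_family (P : X → Prop) (hP : ∀ x : X, ∃ η, P η ∧ η ⤳ x)
    (HU : ValuativeCriterion.Uniqueness f)
    (HE : ∀ η, P η → ∀ (R : ValuationSubring (X.residueField η))
      (φ : Spec (CommRingCat.of ↥R) ⟶ Y),
      Spec.map (CommRingCat.ofHom R.subtype) ≫ φ = X.fromSpecResidueField η ≫ f →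
      ∃ l : Spec (CommRingCat.of ↥R) ⟶ X,
        Spec.map (CommRingCat.ofHom R.subtype) ≫ l = X.fromSpecResidueField η ∧ l ≫ f = φ) :
    ValuativeCriterion.Existence f := by
  apply existence_of_idE
  intro y R₀ φ' hφ'
  obtain ⟨η, hPη, hsp⟩ := hP y
  let z : ↥(Spec (X.residueField η)) := IsLocalRing.closedPoint (X.residueField η)
  have hz : (X.fromSpecResidueField η) z = η := Scheme.fromSpecResidueField_apply _ _
  have hsp' : (X.fromSpecResidueField η) z ⤳ y := by rw [hz]; exact hsp
  obtain ⟨V, hV, hVloc⟩ := IsLocalRing.exists_factor_valuationRing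
    (θ (X.fromSpecResidueField η) hsp').hom
  haveI : IsLocalHom (θV (X.fromSpecResidueField η) hsp' V hV) := hVloc
  obtain ⟨Vt, rfl⟩ := exists_comap_eq (g' (X.fromSpecResidueField η) hsp' V hV) R₀
  exact stepE (X.fromSpecResidueField η) hsp' V hV Vt f
    (refU_of_uniqueness _ f (fun z R φ hφ => HU _)) (refE_of_point f η (HE η hPη)) φ' hφ'

end family

end Groth.Agent.Lib.Helper9.ValCritDVR
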