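import Mathlib

set_option autoImplicit false
universe u

namespace Groth.Agent.Helper9.FppfCov

open CategoryTheory CategoryTheory.Limits AlgebraicGeometry

/-- members of a `Scheme.precoverage P` covering are jointly surjective -/
lemma exists_mem_range {P : MorphismProperty Scheme.{u}} {Y : Scheme.{u}} {R : Presieve Y}
    (hR : R ∈ Scheme.precoverage P Y) (y : Y) :
    ∃ (U : Scheme.{u}) (g : U ⟶ Y), R g ∧ y ∈ Set.range g.base := by
  have h1 := hR.1
  rw [Presieve.mem_comap_jointlySurjectivePrecoverage_iff] at h1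
  obtain ⟨U, g, hg, hy⟩ := h1 y
  exact ⟨U, g, hg, hy⟩

lemma prop_of_mem {P : MorphismProperty Scheme.{u}} {Y : Scheme.{u}} {R : Presieve Y}
    (hR : R ∈ Scheme.precoverage P Y) {U : Scheme.{u}} {g : U ⟶ Y} (hg : R g) : P g :=
  hR.2 hg

lemma fppf_flat {Y : Scheme.{u}} {R : Presieve Y}
    (hR : R ∈ Scheme.fppfPrecoverage Y) {U : Scheme.{u}} {g : U ⟶ Y} (hg : R g) : Flat g :=
  (prop_of_mem hR hg).1

lemma fppf_lfp {Y : Scheme.{u}} {R : Presieve Y}
    (hR : R ∈ Scheme.fppfPrecoverage Y) {U : Scheme.{u}} {g : U ⟶ Y} (hg : R g) :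
    LocallyOfFinitePresentation g :=
  (prop_of_mem hR hg).2

lemma fppf_universallyOpen {Y : Scheme.{u}} {R : Presieve Y}
    (hR : R ∈ Scheme.fppfPrecoverage Y) {U : Scheme.{u}} {g : U ⟶ Y} (hg : R g) :
    UniversallyOpen g := by
  have := fppf_flat hR hg
  have := fppf_lfp hR hg
  infer_instance

lemma fppf_isOpenMap {Y : Scheme.{u}} {R : Presieve Y}
    (hR : R ∈ Scheme.fppfPrecoverage Y) {U : Scheme.{u}} {g : U ⟶ Y} (hg : R g) :
    IsOpenMap g.base := by
  have := fppf_universallyOpen hR hg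
  exact g.isOpenMap

end Groth.Agent.Helper9.FppfCov
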