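import Mathlib
import Groth.Agent.Lib.Helper9.Comod7

/-!
Simple comodules over a cocommutative coalgebra over an algebraically closed field are
one-dimensional: every vector is an eigenvector.
-/

set_option autoImplicit false

namespace Groth.Agent.Helper9
namespace CocommSimple

open TensorProduct

universe u v w

section Gen
variable {k : Type u} [CommRing k] {C : Type v} [AddCommGroup C] [Module k C] [Coalgebra k C]
variable {V : Type w} [AddCommGroup V] [Module k V] [HopfRep.Comod k C V]

/-- the action of a functional `f` on a comodule -/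
noncomputable def T (f : C →ₗ[k] k) : V →ₗ[k] V :=
  slice f ∘ₗ HopfRep.Comod.coact (k := k) (A := C)

lemma T_apply (f : C →ₗ[k] k) (v : V) :
    T f v = slice f (HopfRep.Comod.coact (k := k) (A := C) v) := rfl

lemma conv_comm [Coalgebra.IsCocomm k C] (g f : C →ₗ[k] k) : conv g f = conv f g := by
  apply LinearMap.ext
  intro c
  simp only [conv, LinearMap.comp_apply]
  conv_lhs => rw [← Coalgebra.comm_comul (R := k) c]
  generalize Coalgebra.comul (R := k) c = y
  induction y using TensorProduct.induction_on with
  | zero => simp
  | tmul a b => simp [mul_comm]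
  | add x y hx hy => simp only [map_add, hx, hy]

lemma T_comm [Coalgebra.IsCocomm k C] (g f : C →ₗ[k] k) (v : V) :
    T g (T f v) = T f (T g v) := by
  simp only [T_apply]
  rw [slice_coact_slice, slice_coact_slice, conv_comm]

omit [Coalgebra k C] [HopfRep.Comod k C V] in
lemma apply_lid_rTensor (g : C →ₗ[k] k) (φ : V →ₗ[k] k) (y : V ⊗[k] C) :
    g (TensorProduct.lid k C (φ.rTensor C y)) = φ (slice g y) := by
  induction y using TensorProduct.induction_on with
  | zero => simp
  | tmul u c => simp [mul_comm]
  | add x y hx hy => simp only [map_add, hx, hy]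

end Gen

section Field
variable {k : Type u} [Field k] {C : Type v} [AddCommGroup C] [Module k C] [Coalgebra k C]
variable {V : Type w} [AddCommGroup V] [Module k V] [HopfRep.Comod k C V]

/-- If every functional acts by a scalar on `v`, then `v` is an eigenvector. -/
lemma exists_coact_eq_tmul_of_scalar (v : V)
    (h : ∀ f : C →ₗ[k] k, ∃ c : k, T f v = c • v) :
    ∃ a : C, HopfRep.Comod.coact (k := k) (A := C) v = v ⊗ₜ[k] a := by
  by_cases hv : v = 0
  · exact ⟨0, by rw [hv, map_zero, TensorProduct.tmul_zero]⟩
  have hinj : LinearMap.ker (LinearMap.toSpanSingleton k V v) = ⊥ := by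
    rw [LinearMap.ker_eq_bot]
    intro a b hab
    exact smul_left_injective k hv hab
  obtain ⟨φ, hφ⟩ := LinearMap.exists_leftInverse_of_injective _ hinj
  have hφv : φ v = 1 := by
    have := LinearMap.congr_fun hφ 1
    simpa using this
  refine ⟨coeff φ v, ?_⟩
  rw [← sub_eq_zero]
  apply eq_zero_of_slice_eq_zero
  intro g
  rw [map_sub, slice_tmul, sub_eq_zero]
  obtain ⟨c, hc⟩ := h g
  rw [T_apply] at hc
  have h1 : g (coeff φ v) = c := by
    show g (TensorProduct.lid k C (φ.rTensor C (HopfRep.Comod.coact (k := k) (A := C) v))) = c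
    rw [apply_lid_rTensor, hc, map_smul, hφv, smul_eq_mul, mul_one]
  rw [hc, h1]

variable [IsAlgClosed k] [Coalgebra.IsCocomm k C]

/-- On a simple finite-dimensional comodule over a cocommutative coalgebra over an algebraically
closed field every functional acts by a scalar. -/
lemma exists_scalar_of_isSimpleComod [Module.Finite k V]
    (hs : HopfRep.IsSimpleComod k C V) (f : C →ₗ[k] k) :
    ∃ c : k, ∀ v : V, T f v = c • v := by
  haveI : Nontrivial V := hs.1
  obtain ⟨c, hc⟩ := Module.End.exists_eigenvalue (T (V := V) f)
  refine ⟨c, ?_⟩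
  have hsub : HopfRep.IsSubcomod (k := k) (A := C) (Module.End.eigenspace (T (V := V) f) c) := by
    intro w hw
    apply mem_range_rTensor_subtype_of_slice_mem
    intro g
    rw [Module.End.mem_eigenspace_iff] at hw ⊢
    change T f (T g w) = c • T g w
    rw [← T_comm, hw, map_smul]
  rcases hs.2 _ hsub with h | h
  · exact absurd h hc
  · intro v
    have : v ∈ Module.End.eigenspace (T (V := V) f) c := by rw [h]; trivial
    exact Module.End.mem_eigenspace_iff.mp this

theorem exists_coact_eq_tmul_of_isSimpleComod [Module.Finite k V]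
    (hs : HopfRep.IsSimpleComod k C V) (v : V) :
    ∃ a : C, HopfRep.Comod.coact (k := k) (A := C) v = v ⊗ₜ[k] a := by
  apply exists_coact_eq_tmul_of_scalar
  intro f
  obtain ⟨c, hc⟩ := exists_scalar_of_isSimpleComod hs f
  exact ⟨c, hc v⟩

end Field

end CocommSimple
end Groth.Agent.Helper9
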