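import Mathlib
import Groth.Prelude.Def_CotT2

set_option autoImplicit false
set_option linter.unusedSectionVars false
universe u v w t u' v' w' t' m

namespace Groth.Agent.Helper9.CotHom

open CotT TensorProduct

section SemiLin

variable {R : Type u} {R' : Type u'} [CommRing R] [CommRing R'] (τ : R →+* R')
variable {σ : Type t} {N : Type m} [AddCommGroup N] [Module R' N]

/-- the `τ`-semilinear map out of a free module with prescribed values on the basis -/
noncomputable def semiLin (w : σ → N) : (σ →₀ R) →ₛₗ[τ] N where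
  toFun f := Finsupp.linearCombination R' w (Finsupp.mapRange τ (map_zero _) f)
  map_add' f g := by rw [Finsupp.mapRange_add (map_add _), map_add]
  map_smul' r f := by
    rw [← map_smul]
    congr 1
    ext s
    simp [Finsupp.mapRange_apply, map_mul]

@[simp] lemma semiLin_single (w : σ → N) (s : σ) (r : R) :
    semiLin τ w (Finsupp.single s r) = τ r • w s := by
  simp [semiLin]

end SemiLin

section Desc

variable {R : Type u} [CommRing R] {X : Type v} {Y : Type w} {Z : Type t}
  [AddCommGroup X] [Module R X] [AddCommGroup Y] [Module R Y] [AddCommGroup Z] [Module R Z]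

lemma exists_desc {c : X →ₗ[R] Y} (hc : Function.Surjective c) (ρ : X →ₗ[R] Z)
    (h : LinearMap.ker c ≤ LinearMap.ker ρ) : ∃ l : Y →ₗ[R] Z, ∀ x, l (c x) = ρ x := by
  let e := c.quotKerEquivOfSurjective hc
  refine ⟨((LinearMap.ker c).liftQ ρ h) ∘ₗ e.symm.toLinearMap, fun x => ?_⟩
  simp only [LinearMap.coe_comp, LinearEquiv.coe_coe, Function.comp_apply]
  have : e.symm (c x) = Submodule.Quotient.mk x := by
    rw [LinearEquiv.symm_apply_eq]
    rfl
  rw [this, Submodule.liftQ_apply]

end Desc

section NN

variable {A : Type u} {B : Type v} {ι : Type w} {σ : Type t}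
variable [CommRing A] [CommRing B] [Algebra A B]
variable (P : Algebra.Presentation A B ι σ)

/-- `F / F₀`: the free module on the relations modulo the trivial relations -/
def NN : Type (max t w u) := relMod P ⧸ trivRel P

noncomputable instance : AddCommGroup (NN P) := inferInstanceAs (AddCommGroup (relMod P ⧸ trivRel P))

noncomputable instance : Module P.toExtension.Ring (NN P) :=
  inferInstanceAs (Module P.toExtension.Ring (relMod P ⧸ trivRel P))

/-- the quotient map `F → F/F₀` -/
noncomputable def mkN : relMod P →ₗ[P.toExtension.Ring] NN P := (trivRel P).mkQ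

lemma mkN_surjective : Function.Surjective (mkN P) := Submodule.mkQ_surjective _

lemma mkN_eq_zero_iff (f : relMod P) : mkN P f = 0 ↔ f ∈ trivRel P :=
  Submodule.Quotient.mk_eq_zero _

/-- `j` on `F/F₀` -/
noncomputable def jN : NN P →ₗ[P.toExtension.Ring] P.toExtension.Ring :=
  (trivRel P).liftQ (jmap P) (trivRel_le_relKer P)

lemma jN_mk (f : relMod P) : jN P (mkN P f) = jmap P f := rfl

lemma jN_smul_comm (a b : NN P) : jN P a • b = jN P b • a := by
  obtain ⟨f, rfl⟩ := mkN_surjective P a
  obtain ⟨g, rfl⟩ := mkN_surjective P b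
  rw [jN_mk, jN_mk, ← map_smul, ← map_smul, ← sub_eq_zero, ← map_sub, mkN_eq_zero_iff]
  exact Submodule.subset_span ⟨f, g, rfl⟩

noncomputable instance : Mul (NN P) := ⟨fun a b => jN P a • b⟩

lemma mul_def (a b : NN P) : a * b = jN P a • b := rfl

noncomputable instance : NonUnitalCommRing (NN P) :=
  { (inferInstance : AddCommGroup (NN P)) with
    mul := (· * ·)
    left_distrib := fun a b c => by rw [mul_def, mul_def, mul_def, smul_add]
    right_distrib := fun a b c => by rw [mul_def, mul_def, mul_def, map_add, add_smul]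
    zero_mul := fun a => by rw [mul_def, map_zero, zero_smul]
    mul_zero := fun a => by rw [mul_def, smul_zero]
    mul_assoc := fun a b c => by
      rw [mul_def, mul_def, mul_def, mul_def, map_smul, smul_eq_mul, mul_smul]
    mul_comm := fun a b => by rw [mul_def, mul_def, jN_smul_comm] }

instance : IsScalarTower P.toExtension.Ring (NN P) (NN P) :=
  ⟨fun r a b => by
    change (r • a) * b = r • (a * b)
    rw [mul_def, mul_def, map_smul, smul_eq_mul, mul_smul]⟩

instance : SMulCommClass P.toExtension.Ring (NN P) (NN P) :=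
  ⟨fun r a b => by
    change r • (a * b) = a * (r • b)
    rw [mul_def, mul_def, smul_comm]⟩

/-- the ring `R ⋉ F/F₀` -/
abbrev EE : Type (max t w u) := Unitization P.toExtension.Ring (NN P)

/-- the second projection `(r, n) ↦ r + j n` -/
noncomputable def p1 : EE P →+* P.toExtension.Ring where
  toFun x := x.fst + jN P x.snd
  map_one' := by rw [Unitization.fst_one, Unitization.snd_one, map_zero, add_zero]
  map_mul' x y := by
    rw [Unitization.fst_mul, Unitization.snd_mul, map_add, map_add, map_smul, map_smul, mul_def,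
      map_smul, smul_eq_mul, smul_eq_mul, smul_eq_mul]
    ring
  map_zero' := by rw [Unitization.fst_zero, Unitization.snd_zero, map_zero, add_zero]
  map_add' x y := by
    rw [Unitization.fst_add, Unitization.snd_add, map_add]
    ring

lemma p1_apply (x : EE P) : p1 P x = x.fst + jN P x.snd := rfl

lemma p1_inl (r : P.toExtension.Ring) : p1 P (Unitization.inl r) = r := by
  rw [p1_apply, Unitization.fst_inl, Unitization.snd_inl, map_zero, add_zero]

end NN

section Hom

variable {A : Type u} {B : Type v} {ι : Type w} {σ : Type t}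
variable {A' : Type u'} {B' : Type v'} {ι' : Type w'} {σ' : Type t'}
variable [CommRing A] [CommRing B] [Algebra A B] [CommRing A'] [CommRing B'] [Algebra A' B']
variable [Algebra A A'] [Algebra B B'] [Algebra A B'] [IsScalarTower A A' B'] [IsScalarTower A B B']
variable {P : Algebra.Presentation A B ι σ} {P' : Algebra.Presentation A' B' ι' σ'}
variable (h1 h2 : PresHom P P')

lemma ringHom_sub_mem (r : P.toExtension.Ring) :
    h1.ringHom r - h2.ringHom r ∈ P'.toExtension.ker := by
  change algebraMap P'.toExtension.Ring B' (h1.ringHom r - h2.ringHom r) = 0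
  rw [map_sub, h1.algebraMap_ringHom, h2.algebraMap_ringHom, sub_self]

lemma exists_theta (r : P.toExtension.Ring) :
    ∃ n : NN P', jN P' n = h1.ringHom r - h2.ringHom r := by
  have h := ringHom_sub_mem h1 h2 r
  have h' : h1.ringHom r - h2.ringHom r ∈ LinearMap.range (jmap P') := by
    rw [range_jmap]; exact h
  obtain ⟨f, hf⟩ := h'
  exact ⟨mkN P' f, hf⟩

/-- chosen lifts of the differences of the images of the variables -/
noncomputable def theta (i : ι) : NN P' := (exists_theta h1 h2 (MvPolynomial.X i)).choose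

lemma jN_theta (i : ι) :
    jN P' (theta h1 h2 i) = h1.ringHom (MvPolynomial.X i) - h2.ringHom (MvPolynomial.X i) :=
  (exists_theta h1 h2 (MvPolynomial.X i)).choose_spec

/-- the ring map `R → R' ⋉ F'/F₀'` lifting `(τ₁, τ₂)` -/
noncomputable def Psi : MvPolynomial ι A →+* EE P' :=
  MvPolynomial.eval₂Hom
    ((Unitization.inlRingHom P'.toExtension.Ring (NN P')).comp
      ((MvPolynomial.C : A' →+* MvPolynomial ι' A').comp (algebraMap A A')))
    (fun i => (Unitization.inl (h2.ringHom (MvPolynomial.X i)) + Unitization.inr (theta h1 h2 i) : EE P'))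


lemma fst_Psi (r : MvPolynomial ι A) : (Psi h1 h2 r).fst = h2.ringHom r := by
  have : (Unitization.fstHom P'.toExtension.Ring (NN P')).toRingHom.comp (Psi h1 h2) =
      (h2.ringHom : MvPolynomial ι A →+* P'.toExtension.Ring) := by
    apply MvPolynomial.ringHom_ext
    · intro a
      simp only [Psi, RingHom.comp_apply, MvPolynomial.eval₂Hom_C]
      change MvPolynomial.C (algebraMap A A' a) = h2.hom.toAlgHom (MvPolynomial.C a)
      rw [Algebra.Generators.Hom.toAlgHom_C]
    · intro i
      simp only [Psi, RingHom.comp_apply, MvPolynomial.eval₂Hom_X']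
      change (Unitization.inl (h2.ringHom (MvPolynomial.X i)) + (theta h1 h2 i : EE P')).fst = _
      rw [Unitization.fst_add, Unitization.fst_inl, Unitization.fst_inr, add_zero]
      rfl
  exact RingHom.congr_fun this r


lemma p1_Psi (r : MvPolynomial ι A) : p1 P' (Psi h1 h2 r) = h1.ringHom r := by
  have : (p1 P').comp (Psi h1 h2) =
      (h1.ringHom : MvPolynomial ι A →+* P'.toExtension.Ring) := by
    apply MvPolynomial.ringHom_ext
    · intro a
      simp only [Psi, RingHom.comp_apply, MvPolynomial.eval₂Hom_C]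
      have e1 : h1.hom.toAlgHom (MvPolynomial.C a) = MvPolynomial.C (algebraMap A A' a) :=
        Algebra.Generators.Hom.toAlgHom_C _ _
      change p1 P' (Unitization.inl _) = h1.hom.toAlgHom (MvPolynomial.C a)
      rw [e1]
      exact p1_inl P' _
    · intro i
      simp only [Psi, RingHom.comp_apply, MvPolynomial.eval₂Hom_X']
      rw [p1_apply, Unitization.fst_add, Unitization.fst_inl, Unitization.fst_inr, add_zero,
        Unitization.snd_add, Unitization.snd_inl, Unitization.snd_inr, zero_add, jN_theta]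
      have e : ∀ x y : P'.toExtension.Ring, y + (x - y) = x := fun x y => by ring
      exact e _ _
  exact RingHom.congr_fun this r

/-- `Psi` on `R` under its extension name -/
noncomputable def PsiR : P.toExtension.Ring →+* EE P' := Psi h1 h2

lemma fst_PsiR (r : P.toExtension.Ring) : (PsiR h1 h2 r).fst = h2.ringHom r := fst_Psi h1 h2 r

lemma p1_PsiR (r : P.toExtension.Ring) : p1 P' (PsiR h1 h2 r) = h1.ringHom r := p1_Psi h1 h2 r

/-- the twisted derivation `R → F'/F₀'` -/
noncomputable def Theta (r : P.toExtension.Ring) : NN P' := (PsiR h1 h2 r).snd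

lemma Theta_add (r g : P.toExtension.Ring) :
    Theta h1 h2 (r + g) = Theta h1 h2 r + Theta h1 h2 g := by
  rw [Theta, map_add, Unitization.snd_add]; rfl

lemma Theta_zero : Theta h1 h2 0 = 0 := by
  rw [Theta, map_zero, Unitization.snd_zero]

lemma jN_Theta (r : P.toExtension.Ring) :
    jN P' (Theta h1 h2 r) = h1.ringHom r - h2.ringHom r := by
  have := p1_PsiR h1 h2 r
  rw [p1_apply, fst_PsiR] at this
  rw [← this]
  change _ = h2.ringHom r + jN P' (Theta h1 h2 r) - h2.ringHom r
  ring

lemma Theta_mul (r g : P.toExtension.Ring) :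
    Theta h1 h2 (r * g) = h2.ringHom r • Theta h1 h2 g + h1.ringHom g • Theta h1 h2 r := by
  have e : (PsiR h1 h2 (r * g)).snd = (PsiR h1 h2 r).fst • (PsiR h1 h2 g).snd +
      (PsiR h1 h2 g).fst • (PsiR h1 h2 r).snd + (PsiR h1 h2 r).snd * (PsiR h1 h2 g).snd := by
    rw [map_mul, Unitization.snd_mul]
  rw [fst_PsiR, fst_PsiR] at e
  change Theta h1 h2 (r * g) = h2.ringHom r • Theta h1 h2 g + h2.ringHom g • Theta h1 h2 r +
    Theta h1 h2 r * Theta h1 h2 g at e
  rw [e, mul_def, jN_smul_comm, jN_Theta, sub_smul]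
  abel

/-- the values of the homotopy on the basis of `F` -/
noncomputable def wN (s : σ) : NN P' :=
  mkN P' (h1.relVal s) - mkN P' (h2.relVal s) - Theta h1 h2 (rel P s)

lemma jN_wN (s : σ) : jN P' (wN h1 h2 s) = 0 := by
  rw [wN, map_sub, map_sub, jN_mk, jN_mk, jN_Theta, h1.jmap_relVal, h2.jmap_relVal, sub_self]

/-- the homotopy on `F`, with values in `F'/F₀'` -/
noncomputable def TN : relMod P →ₛₗ[h2.ringHom] NN P' := semiLin h2.ringHom (wN h1 h2)

lemma jN_TN (f : relMod P) : jN P' (TN h1 h2 f) = 0 := by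
  induction f using Finsupp.induction_linear with
  | zero => rw [map_zero, map_zero]
  | add f g hf hg => rw [map_add, map_add, hf, hg, add_zero]
  | single s r => rw [TN, semiLin_single, map_smul, jN_wN, smul_zero]

/-- the key identity -/
lemma key_identity (f : relMod P) :
    mkN P' (h1.relModMap f) - mkN P' (h2.relModMap f) =
      TN h1 h2 f + Theta h1 h2 (jmap P f) := by
  induction f using Finsupp.induction_linear with
  | zero => simp only [map_zero, sub_zero, Theta_zero, add_zero]
  | add f g hf hg =>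
    rw [map_add, map_add, map_add, map_add, map_add, map_add, Theta_add]
    have e : ∀ a b c d x y : NN P', a - c = x → b - d = y → a + b - (c + d) = x + y := by
      intro a b c d x y h h'
      rw [← h, ← h']; abel
    rw [e _ _ _ _ _ _ hf hg]
    abel
  | single s r =>
    rw [PresHom.relModMap_single, PresHom.relModMap_single, TN, semiLin_single, jmap_single,
      Theta_mul, map_smul, map_smul, wN, smul_sub, smul_sub]
    have e : h1.ringHom (rel P s) • Theta h1 h2 r = (h1.ringHom r - h2.ringHom r) • mkN P' (h1.relVal s) := by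
      rw [← h1.jmap_relVal, ← jN_mk, jN_smul_comm, jN_Theta]
    rw [e, sub_smul]
    abel

end Hom


section QuotAux

lemma quot_aux {R : Type u} {B : Type v} {F : Type w} [CommRing R] [CommRing B] [Algebra R B]
    [AddCommGroup F] [Module R F]
    (Q : Submodule R F) (W : Submodule B (B ⊗[R] Q)) (b : B) (q1 q2 : Q) :
    (Submodule.Quotient.mk (b ⊗ₜ[R] q1) : (B ⊗[R] Q) ⧸ W) - Submodule.Quotient.mk (b ⊗ₜ[R] q2) =
      b • Submodule.Quotient.mk ((1 : B) ⊗ₜ[R] (q1 - q2)) := by
  rw [← Submodule.Quotient.mk_sub, ← Submodule.Quotient.mk_smul, TensorProduct.smul_tmul',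
    smul_eq_mul, mul_one]
  congr 1
  rw [TensorProduct.tmul_sub]

lemma quot_forall {R : Type u} {B : Type v} {B' : Type v'} {F : Type w} {Y : Type t} {L : Type m}
    [CommRing R] [CommRing B] [CommRing B'] {β : B →+* B'}
    [Algebra R B] [AddCommGroup F] [Module R F] (Q : Submodule R F) (W : Submodule B (B ⊗[R] Q))
    [AddCommGroup Y] [Module B' Y] [AddCommGroup L] [Module B L]
    (f g : ((B ⊗[R] Q) ⧸ W) →ₛₗ[β] Y) (s : L →ₛₗ[β] Y) (d : ((B ⊗[R] Q) ⧸ W) →ₗ[B] L)
    (h : ∀ (b : B) (q : Q), f (Submodule.Quotient.mk (b ⊗ₜ[R] q)) - g (Submodule.Quotient.mk (b ⊗ₜ[R] q))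
      = s (d (Submodule.Quotient.mk (b ⊗ₜ[R] q))))
    (z : (B ⊗[R] Q) ⧸ W) : f z - g z = s (d z) := by
  induction z using Submodule.Quotient.induction_on with
  | H z =>
    induction z using TensorProduct.induction_on with
    | zero => rw [Submodule.Quotient.mk_zero, map_zero, map_zero, map_zero, map_zero, sub_zero]
    | add x y hx hy =>
      rw [Submodule.Quotient.mk_add, map_add, map_add, map_add, map_add, ← hx, ← hy]
      abel
    | tmul b q => exact h b q

end QuotAux

section Lam

variable {A : Type u} {B : Type v} {ι : Type w} {σ : Type t}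
variable [CommRing A] [CommRing B] [Algebra A B]
variable (P : Algebra.Presentation A B ι σ)

/-- the kernel of `j` on `F/F₀`, i.e. `Q/F₀` -/
noncomputable def KN : Submodule P.toExtension.Ring (NN P) := LinearMap.ker (jN P)

/-- `Q → Q/F₀` -/
noncomputable def cK : relKer P →ₗ[P.toExtension.Ring] KN P :=
  LinearMap.codRestrict (KN P) ((mkN P).comp (relKer P).subtype) (fun q => by
    change jN P (mkN P (q : relMod P)) = 0
    rw [jN_mk]
    exact q.2)

lemma cK_coe (q : relKer P) : (cK P q : NN P) = mkN P (q : relMod P) := rfl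

lemma cK_surjective : Function.Surjective (cK P) := by
  rintro ⟨n, hn⟩
  obtain ⟨f, rfl⟩ := mkN_surjective P n
  have hf : f ∈ relKer P := by
    change jN P (mkN P f) = 0 at hn
    rwa [jN_mk] at hn
  exact ⟨⟨f, hf⟩, rfl⟩

/-- `Q → L₂`, `q ↦ [1 ⊗ q]` -/
noncomputable def rhoK : relKer P →ₗ[P.toExtension.Ring] L2 P :=
  ((LinearMap.range ((trivRelKer P).subtype.baseChange B)).mkQ.restrictScalars P.toExtension.Ring).comp
    (TensorProduct.mk P.toExtension.Ring B (relKer P) 1)

lemma rhoK_apply (q : relKer P) : rhoK P q = Submodule.Quotient.mk ((1 : B) ⊗ₜ q) := rfl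

lemma ker_cK_le : LinearMap.ker (cK P) ≤ LinearMap.ker (rhoK P) := by
  intro q hq
  rw [LinearMap.mem_ker] at hq ⊢
  have h1 : mkN P (q : relMod P) = 0 := by
    rw [← cK_coe, hq]; rfl
  rw [mkN_eq_zero_iff] at h1
  rw [rhoK_apply, Submodule.Quotient.mk_eq_zero]
  exact ⟨(1 : B) ⊗ₜ ⟨q, h1⟩, rfl⟩

lemma exists_lam : ∃ l : KN P →ₗ[P.toExtension.Ring] L2 P, ∀ q, l (cK P q) = rhoK P q := by
  have h1 := cK_surjective P
  have h2 := ker_cK_le P
  exact exists_desc (R := P.toExtension.Ring) (X := relKer P) (Y := KN P) (Z := L2 P)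
    (c := cK P) h1 (rhoK P) h2

end Lam

section Homotopy

variable {A : Type u} {B : Type v} {ι : Type w} {σ : Type t}
variable {A' : Type u'} {B' : Type v'} {ι' : Type w'} {σ' : Type t'}
variable [CommRing A] [CommRing B] [Algebra A B] [CommRing A'] [CommRing B'] [Algebra A' B']
variable [Algebra A A'] [Algebra B B'] [Algebra A B'] [IsScalarTower A A' B'] [IsScalarTower A B B']
variable {P : Algebra.Presentation A B ι σ} {P' : Algebra.Presentation A' B' ι' σ'}
variable (h1 h2 : PresHom P P')

/-- the homotopy on `F` with values in `Q'/F₀'` -/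
noncomputable def TK : relMod P →ₛₗ[h2.ringHom] KN P' :=
  (TN h1 h2).codRestrict (KN P') (jN_TN h1 h2)

lemma TK_coe (f : relMod P) : (TK h1 h2 f : NN P') = TN h1 h2 f := rfl

lemma TK_relKer (q : relKer P) :
    TK h1 h2 (q : relMod P) = cK P' (h1.relKerMap q - h2.relKerMap q) := by
  apply Subtype.ext
  rw [TK_coe, cK_coe]
  have := key_identity h1 h2 (q : relMod P)
  have hq : jmap P (q : relMod P) = 0 := q.2
  rw [hq, Theta_zero, add_zero] at this
  rw [← this, Submodule.coe_sub, map_sub, PresHom.relKerMap_coe, PresHom.relKerMap_coe]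


lemma homotopy2_aux (l : KN P' →ₗ[P'.toExtension.Ring] L2 P')
    (hl : ∀ q, l (cK P' q) = rhoK P' q) (b : B) (q : relKer P) :
    h1.L2map (Submodule.Quotient.mk (b ⊗ₜ q)) - h2.L2map (Submodule.Quotient.mk (b ⊗ₜ q)) =
      ((LinearMap.liftBaseChange B' l).comp
        (tensorMap h2.ringHom h2.algebraMap_ringHom (TK h1 h2)))
          (d2 P (Submodule.Quotient.mk (b ⊗ₜ q))) := by
  rw [PresHom.L2map_mk_tmul]
  rw [PresHom.L2map_mk_tmul]
  rw [d2_mk_tmul]
  rw [LinearMap.comp_apply]
  rw [tensorMap_tmul]
  rw [LinearMap.liftBaseChange_tmul]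
  rw [TK_relKer]
  rw [hl]
  rw [rhoK_apply]
  exact quot_aux _ _ _ _ _

/-- **Homotopy in degree two**: two morphisms of presentations over the same square induce maps
`L₂ → L₂'` whose difference factors through `d₂`. -/
theorem exists_homotopy2 :
    ∃ s : L1 P →ₛₗ[(algebraMap B B' : B →+* B')] L2 P',
      ∀ z : L2 P, h1.L2map z - h2.L2map z = s (d2 P z) := by
  obtain ⟨l, hl⟩ := exists_lam P'
  refine ⟨(LinearMap.liftBaseChange B' l).comp
    (tensorMap h2.ringHom h2.algebraMap_ringHom (TK h1 h2)), fun z => ?_⟩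
  exact quot_forall (relKer P) _ h1.L2map h2.L2map _ (d2 P) (homotopy2_aux h1 h2 l hl) z

end Homotopy

end Groth.Agent.Helper9.CotHom
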