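import Mathlib
import Groth.Prelude.Def_CotT2
import Groth.Agent.Lib.Helper9.CotHom1

set_option autoImplicit false
set_option linter.unusedSectionVars false
universe u v w t u' v' w' t' u'' v'' w'' t'' m

namespace Groth.Agent.Helper9.CotHom

open CotT TensorProduct

section Generic

variable {B : Type v} {B' : Type v'} [CommRing B] [CommRing B'] [Algebra B B']
  {X : Type w} [AddCommGroup X] [Module B' X] [Module B X] [IsScalarTower B B' X]
  {Y : Type t} [AddCommGroup Y] [Module B Y]

lemma mapQ_restrict_mk (W' : Submodule B' X) (W : Submodule B Y) (g : X →ₗ[B] Y)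
    (hg : W'.restrictScalars B ≤ W.comap g) (x : X) :
    ((Submodule.mapQ (W'.restrictScalars B) W g hg).comp
      (Submodule.Quotient.restrictScalarsEquiv B W').symm.toLinearMap) (W'.mkQ x) = W.mkQ (g x) := by
  rw [LinearMap.comp_apply, LinearEquiv.coe_coe, Submodule.mkQ_apply,
    Submodule.Quotient.restrictScalarsEquiv_symm_mk, Submodule.mapQ_apply, Submodule.mkQ_apply]

lemma mapQ_restrict_eq (W' : Submodule B' X) (W : Submodule B Y) (g1 g2 : X →ₗ[B] Y)
    (hg1 : W'.restrictScalars B ≤ W.comap g1) (hg2 : W'.restrictScalars B ≤ W.comap g2)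
    (h : ∀ x, g1 x - g2 x ∈ W) (z : X ⧸ W') :
    ((Submodule.mapQ (W'.restrictScalars B) W g1 hg1).comp
      (Submodule.Quotient.restrictScalarsEquiv B W').symm.toLinearMap) z =
    ((Submodule.mapQ (W'.restrictScalars B) W g2 hg2).comp
      (Submodule.Quotient.restrictScalarsEquiv B W').symm.toLinearMap) z := by
  obtain ⟨x, rfl⟩ := W'.mkQ_surjective z
  rw [mapQ_restrict_mk, mapQ_restrict_mk, Submodule.mkQ_apply, Submodule.mkQ_apply,
    Submodule.Quotient.eq]
  exact h x

lemma quot_ext_add {R : Type u} {F : Type w'} [CommRing R] [Algebra R B] [AddCommGroup F] [Module R F]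
    (Q : Submodule R F) (W : Submodule B (B ⊗[R] Q)) (f g : ((B ⊗[R] Q) ⧸ W) →+ Y)
    (h : ∀ (b : B) (q : Q), f (Submodule.Quotient.mk (b ⊗ₜ[R] q)) = g (Submodule.Quotient.mk (b ⊗ₜ[R] q)))
    (z : (B ⊗[R] Q) ⧸ W) : f z = g z := by
  induction z using Submodule.Quotient.induction_on with
  | H z =>
    induction z using TensorProduct.induction_on with
    | zero => rw [Submodule.Quotient.mk_zero, map_zero, map_zero]
    | add x y hx hy => rw [Submodule.Quotient.mk_add, map_add, map_add, hx, hy]
    | tmul b q => exact h b q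

variable {L2 : Type u} {L2' : Type u'} {L1 : Type w'} {M' : Type m}
  [AddCommGroup L2] [Module B L2] [AddCommGroup L2'] [Module B' L2'] [AddCommGroup L1] [Module B L1]
  [AddCommGroup M'] [Module B' M'] [Module B M'] [IsScalarTower B B' M']

lemma lin_sub_eq (g1 g2 : L2 →ₛₗ[(algebraMap B B' : B →+* B')] L2')
    (s : L1 →ₛₗ[(algebraMap B B' : B →+* B')] L2') (d : L2 →ₗ[B] L1)
    (hs : ∀ z, g1 z - g2 z = s (d z)) (φ : L2' →ₗ[B'] M') :
    PresHom.linOfSemilinear M' (φ.comp g1) - PresHom.linOfSemilinear M' (φ.comp g2) =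
      (PresHom.linOfSemilinear M' (φ.comp s)).comp d := by
  refine LinearMap.ext fun z => ?_
  change φ (g1 z) - φ (g2 z) = φ (s (d z))
  rw [← hs, map_sub]

end Generic

section Generic3

variable {B : Type v} {B' : Type v'} {B'' : Type v''} [CommRing B] [CommRing B'] [CommRing B'']
  [Algebra B B'] [Algebra B' B''] [Algebra B B'']
  {X'' : Type w''} [AddCommGroup X''] [Module B'' X''] [Module B' X''] [Module B X'']
  [IsScalarTower B' B'' X''] [IsScalarTower B B'' X'']
  {X' : Type w'} [AddCommGroup X'] [Module B' X'] [Module B X'] [IsScalarTower B B' X']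
  {X : Type w} [AddCommGroup X] [Module B X]

lemma mapQ_restrict_comp (W'' : Submodule B'' X'') (W' : Submodule B' X') (W : Submodule B X)
    (g' : X'' →ₗ[B'] X') (g : X' →ₗ[B] X) (gc : X'' →ₗ[B] X)
    (hg' : W''.restrictScalars B' ≤ W'.comap g') (hg : W'.restrictScalars B ≤ W.comap g)
    (hgc : W''.restrictScalars B ≤ W.comap gc) (h : ∀ x, gc x = g (g' x)) (z : X'' ⧸ W'') :
    ((Submodule.mapQ (W''.restrictScalars B) W gc hgc).comp
      (Submodule.Quotient.restrictScalarsEquiv B W'').symm.toLinearMap) z =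
    ((Submodule.mapQ (W'.restrictScalars B) W g hg).comp
      (Submodule.Quotient.restrictScalarsEquiv B W').symm.toLinearMap)
      (((Submodule.mapQ (W''.restrictScalars B') W' g' hg').comp
        (Submodule.Quotient.restrictScalarsEquiv B' W'').symm.toLinearMap) z) := by
  obtain ⟨x, rfl⟩ := W''.mkQ_surjective z
  rw [mapQ_restrict_mk, mapQ_restrict_mk, mapQ_restrict_mk, h]

end Generic3

section GenericId

variable {B : Type v} [CommRing B] {X : Type w} [AddCommGroup X] [Module B X]

lemma mapQ_restrict_id (W : Submodule B X) (g : X →ₗ[B] X)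
    (hg : W.restrictScalars B ≤ W.comap g) (h : ∀ x, g x = x) (z : X ⧸ W) :
    ((Submodule.mapQ (W.restrictScalars B) W g hg).comp
      (Submodule.Quotient.restrictScalarsEquiv B W).symm.toLinearMap) z = z := by
  obtain ⟨x, rfl⟩ := W.mkQ_surjective z
  rw [mapQ_restrict_mk, h]

end GenericId

section PullEq

variable {A : Type u} {B : Type v} {ι : Type w} {σ : Type t}
variable {A' : Type u'} {B' : Type v'} {ι' : Type w'} {σ' : Type t'}
variable [CommRing A] [CommRing B] [Algebra A B] [CommRing A'] [CommRing B'] [Algebra A' B']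
variable [Algebra A A'] [Algebra B B'] [Algebra A B'] [IsScalarTower A A' B'] [IsScalarTower A B B']
variable {P : Algebra.Presentation A B ι σ} {P' : Algebra.Presentation A' B' ι' σ'}
variable (M' : Type m) [AddCommGroup M'] [Module B' M'] [Module B M'] [IsScalarTower B B' M']

lemma T2pull_mk (h : PresHom P P') (φ : L2 P' →ₗ[B'] M') :
    h.T2pull M' (toT2 P' M' φ) = toT2 P M' (h.pull2 M' φ) :=
  mapQ_restrict_mk _ _ _ _ _

theorem T2pull_eq (h1 h2 : PresHom P P') (x : T2 P' M') : h1.T2pull M' x = h2.T2pull M' x := by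
  obtain ⟨s, hs⟩ := exists_homotopy2 h1 h2
  refine mapQ_restrict_eq _ _ _ _ _ _ (fun φ => ?_) x
  exact ⟨PresHom.linOfSemilinear M' (φ.comp s), (lin_sub_eq _ _ s (d2 P) hs φ).symm⟩

end PullEq


section Exists

variable {A : Type u} {B : Type v} {ι : Type w} {σ : Type t}
variable {A' : Type u'} {B' : Type v'} {ι' : Type w'} {σ' : Type t'}
variable [CommRing A] [CommRing B] [Algebra A B] [CommRing A'] [CommRing B'] [Algebra A' B']
variable [Algebra A A'] [Algebra B B'] [Algebra A B'] [IsScalarTower A A' B'] [IsScalarTower A B B']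
variable (P : Algebra.Presentation A B ι σ) (P' : Algebra.Presentation A' B' ι' σ')

lemma exists_relVal (g : Algebra.Generators.Hom P.toGenerators P'.toGenerators) (s : σ) :
    ∃ f' : relMod P', jmap P' f' = g.toExtensionHom.toRingHom (rel P s) := by
  have h1 := g.toExtensionHom.algebraMap_toRingHom (rel P s)
  rw [algebraMap_rel, map_zero] at h1
  have h2 : g.toExtensionHom.toRingHom (rel P s) ∈ LinearMap.range (jmap P') := by
    rw [range_jmap]; exact h1
  exact h2

/-- a morphism of presentations extending a morphism of generators -/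
noncomputable def presHomOfHom (g : Algebra.Generators.Hom P.toGenerators P'.toGenerators) :
    PresHom P P' where
  hom := g
  relVal s := (exists_relVal P P' g s).choose
  jmap_relVal s := (exists_relVal P P' g s).choose_spec

instance : Nonempty (PresHom P P') := ⟨presHomOfHom P P' (Algebra.Generators.defaultHom _ _)⟩

end Exists

section Comp

variable {A : Type u} {B : Type v} {ι : Type w} {σ : Type t}
variable {A' : Type u'} {B' : Type v'} {ι' : Type w'} {σ' : Type t'}
variable {A'' : Type u''} {B'' : Type v''} {ι'' : Type w''} {σ'' : Type t''}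
variable [CommRing A] [CommRing B] [Algebra A B] [CommRing A'] [CommRing B'] [Algebra A' B']
variable [CommRing A''] [CommRing B''] [Algebra A'' B'']
variable [Algebra A A'] [Algebra B B'] [Algebra A B'] [IsScalarTower A A' B'] [IsScalarTower A B B']
variable [Algebra A' A''] [Algebra B' B''] [Algebra A' B''] [IsScalarTower A' A'' B'']
  [IsScalarTower A' B' B'']
variable [Algebra A A''] [Algebra B B''] [Algebra A B''] [IsScalarTower A A'' B'']
  [IsScalarTower A B B''] [IsScalarTower A A' A''] [IsScalarTower B B' B'']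
variable {P : Algebra.Presentation A B ι σ} {P' : Algebra.Presentation A' B' ι' σ'}
  {P'' : Algebra.Presentation A'' B'' ι'' σ''}

lemma comp_ringHom_apply (h' : PresHom P' P'') (h : PresHom P P') (r : P.toExtension.Ring) :
    (h'.hom.comp h.hom).toExtensionHom.toRingHom r = h'.ringHom (h.ringHom r) :=
  Algebra.Generators.Hom.toAlgHom_comp_apply _ _ _ h.hom h'.hom r

/-- composition of morphisms of presentations -/
noncomputable def comp (h' : PresHom P' P'') (h : PresHom P P') : PresHom P P'' where
  hom := h'.hom.comp h.hom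
  relVal s := h'.relModMap (h.relVal s)
  jmap_relVal s := by
    rw [PresHom.jmap_relModMap, h.jmap_relVal, comp_ringHom_apply]

lemma comp_ringHom (h' : PresHom P' P'') (h : PresHom P P') (r : P.toExtension.Ring) :
    (comp h' h).ringHom r = h'.ringHom (h.ringHom r) := comp_ringHom_apply h' h r

lemma comp_relModMap (h' : PresHom P' P'') (h : PresHom P P') (f : relMod P) :
    (comp h' h).relModMap f = h'.relModMap (h.relModMap f) := by
  induction f using Finsupp.induction_linear with
  | zero => rw [map_zero, map_zero, map_zero]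
  | add f g hf hg => rw [map_add, map_add, map_add, hf, hg]
  | single s r =>
    rw [PresHom.relModMap_single, PresHom.relModMap_single, LinearMap.map_smulₛₗ, comp_ringHom]
    rfl

lemma comp_relKerMap (h' : PresHom P' P'') (h : PresHom P P') (q : relKer P) :
    (comp h' h).relKerMap q = h'.relKerMap (h.relKerMap q) :=
  Subtype.ext (comp_relModMap h' h q)

lemma comp_L2map_mk (h' : PresHom P' P'') (h : PresHom P P') (b : B) (q : relKer P) :
    (comp h' h).L2map (Submodule.Quotient.mk (b ⊗ₜ q)) =
      h'.L2map (h.L2map (Submodule.Quotient.mk (b ⊗ₜ q))) := by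
  rw [PresHom.L2map_mk_tmul, PresHom.L2map_mk_tmul, PresHom.L2map_mk_tmul, comp_relKerMap,
    ← IsScalarTower.algebraMap_apply]

lemma comp_L2map (h' : PresHom P' P'') (h : PresHom P P') (z : L2 P) :
    (comp h' h).L2map z = h'.L2map (h.L2map z) :=
  quot_ext_add (relKer P) _ (comp h' h).L2map.toAddMonoidHom
    (h'.L2map.toAddMonoidHom.comp h.L2map.toAddMonoidHom) (comp_L2map_mk h' h) z

variable (M'' : Type m) [AddCommGroup M''] [Module B'' M''] [Module B' M''] [Module B M'']
  [IsScalarTower B' B'' M''] [IsScalarTower B B' M''] [IsScalarTower B B'' M'']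

lemma comp_pull2 (h' : PresHom P' P'') (h : PresHom P P') (φ : L2 P'' →ₗ[B''] M'') :
    (comp h' h).pull2 M'' φ = h.pull2 M'' (h'.pull2 M'' φ) := by
  refine LinearMap.ext fun z => ?_
  rw [PresHom.pull2_apply, PresHom.pull2_apply, PresHom.pull2_apply, comp_L2map]

theorem T2pull_comp (h' : PresHom P' P'') (h : PresHom P P') (x : T2 P'' M'') :
    (comp h' h).T2pull M'' x = h.T2pull M'' (h'.T2pull M'' x) :=
  mapQ_restrict_comp _ _ _ _ _ _ _ _ _ (fun φ => comp_pull2 M'' h' h φ) x

end Comp

section Id

variable {A : Type u} {B : Type v} {ι : Type w} {σ : Type t}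
variable [CommRing A] [CommRing B] [Algebra A B]
variable (P : Algebra.Presentation A B ι σ)

lemma id_ringHom (r : P.toExtension.Ring) : (PresHom.id P).ringHom r = r := by
  change (Algebra.Generators.Hom.id P.toGenerators).toAlgHom r = r
  rw [Algebra.Generators.Hom.toAlgHom_id]
  rfl

lemma id_relModMap (f : relMod P) : (PresHom.id P).relModMap f = f := by
  induction f using Finsupp.induction_linear with
  | zero => rw [map_zero]
  | add f g hf hg => rw [map_add, hf, hg]
  | single s r =>
    rw [PresHom.relModMap_single, id_ringHom]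
    change r • Finsupp.single s (1 : P.toExtension.Ring) = _
    rw [Finsupp.smul_single, smul_eq_mul, mul_one]

lemma id_relKerMap (q : relKer P) : (PresHom.id P).relKerMap q = q :=
  Subtype.ext (id_relModMap P q)

lemma id_L2map_mk (b : B) (q : relKer P) :
    (PresHom.id P).L2map (Submodule.Quotient.mk (b ⊗ₜ q)) = Submodule.Quotient.mk (b ⊗ₜ q) := by
  rw [PresHom.L2map_mk_tmul, id_relKerMap]
  rfl

lemma id_L2map (z : L2 P) : (PresHom.id P).L2map z = z :=
  quot_ext_add (relKer P) _ (PresHom.id P).L2map.toAddMonoidHom (AddMonoidHom.id _) (id_L2map_mk P) z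

variable (M : Type m) [AddCommGroup M] [Module B M]

lemma id_pull2 (φ : L2 P →ₗ[B] M) : (PresHom.id P).pull2 M φ = φ := by
  refine LinearMap.ext fun z => ?_
  rw [PresHom.pull2_apply, id_L2map]

theorem T2pull_id (x : T2 P M) : (PresHom.id P).T2pull M x = x :=
  mapQ_restrict_id _ _ _ (fun φ => id_pull2 P M φ) x

end Id

section Equiv

lemma nonempty_equiv_of_inv {B : Type v} [CommRing B] {X : Type w} {Y : Type t} [AddCommGroup X]
    [Module B X] [AddCommGroup Y] [Module B Y] (f : X →ₗ[B] Y) (g : Y →ₗ[B] X)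
    (h1 : ∀ x, g (f x) = x) (h2 : ∀ y, f (g y) = y) : Nonempty (X ≃ₗ[B] Y) :=
  ⟨LinearEquiv.ofLinear f g (LinearMap.ext h2) (LinearMap.ext h1)⟩

variable {A : Type u} {B : Type v} {ι : Type w} {σ : Type t} {ι' : Type w'} {σ' : Type t'}
variable [CommRing A] [CommRing B] [Algebra A B]
variable (P : Algebra.Presentation A B ι σ) (P' : Algebra.Presentation A B ι' σ')
variable (M : Type m) [AddCommGroup M] [Module B M]

lemma T2pull_inv (h : PresHom P P') (h' : PresHom P' P) (x : T2 P M) :
    h.T2pull M (h'.T2pull M x) = x :=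
  (T2pull_comp M h' h x).symm.trans
    ((T2pull_eq M (comp h' h) (PresHom.id P) x).trans (T2pull_id P M x))

/-- `T²` does not depend on the presentation -/
theorem nonempty_T2equiv : Nonempty (T2 P M ≃ₗ[B] T2 P' M) := by
  obtain ⟨h⟩ := (inferInstance : Nonempty (PresHom P P'))
  obtain ⟨h'⟩ := (inferInstance : Nonempty (PresHom P' P))
  exact nonempty_equiv_of_inv (h'.T2pull M) (h.T2pull M) (T2pull_inv P P' M h h')
    (T2pull_inv P' P M h' h)

end Equiv

end Groth.Agent.Helper9.CotHom
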