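import Groth.Prelude.Def_CotT2
import Mathlib

set_option autoImplicit false
universe u v w t m

namespace Groth.Agent.Helper9.CotLib

open CotT TensorProduct

variable {A : Type u} {B : Type v} {ι : Type w} {σ : Type t}
variable [CommRing A] [CommRing B] [Algebra A B]
variable (P : Algebra.Presentation A B ι σ)

/-- every element of `L₁ = B ⊗_R F` is of the form `1 ⊗ f` -/
lemma L1_exists_one_tmul (x : L1 P) : ∃ f : relMod P, x = (1 : B) ⊗ₜ[P.toExtension.Ring] f := by
  induction x using TensorProduct.induction_on with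
  | zero => exact ⟨0, by rw [tmul_zero]⟩
  | tmul b f =>
    obtain ⟨r, rfl⟩ := P.toExtension.algebraMap_surjective b
    refine ⟨r • f, ?_⟩
    rw [tmul_smul, smul_tmul', Algebra.smul_def, mul_one]
  | add x y hx hy =>
    obtain ⟨f, rfl⟩ := hx
    obtain ⟨g, rfl⟩ := hy
    exact ⟨f + g, by rw [tmul_add]⟩

lemma toCot_one_tmul (f : relMod P) :
    toCot P ((1 : B) ⊗ₜ f) = Algebra.Extension.Cotangent.mk (jker P f) := by
  rw [toCot_tmul, one_smul]

lemma toCot_surjective : Function.Surjective (toCot P) := by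
  intro y
  obtain ⟨x, rfl⟩ := Algebra.Extension.Cotangent.mk_surjective y
  have hx : (x : P.toExtension.Ring) ∈ LinearMap.range (jmap P) := by
    rw [range_jmap]; exact x.2
  obtain ⟨f, hf⟩ := hx
  refine ⟨(1 : B) ⊗ₜ f, ?_⟩
  rw [toCot_one_tmul]
  congr 1
  exact Subtype.ext hf

/-- `1 ⊗ (a • f) = 0` for `a ∈ I` -/
lemma one_tmul_smul_of_mem {a : P.toExtension.Ring} (ha : a ∈ P.toExtension.ker) (f : relMod P) :
    (1 : B) ⊗ₜ[P.toExtension.Ring] (a • f) = 0 := by
  rw [tmul_smul, smul_tmul', Algebra.smul_def, mul_one]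
  have : algebraMap P.toExtension.Ring B a = 0 := ha
  rw [this, zero_tmul]

/-- elements of `I²` are images under `j` of elements of `I F` whose class in `L₁` vanishes -/
lemma exists_of_mem_sq {x : P.toExtension.Ring} (hx : x ∈ P.toExtension.ker ^ 2) :
    ∃ g : relMod P, jmap P g = x ∧ (1 : B) ⊗ₜ[P.toExtension.Ring] g = 0 := by
  rw [pow_two] at hx
  refine Submodule.mul_induction_on hx ?_ ?_
  · intro a ha b hb
    have hb' : b ∈ LinearMap.range (jmap P) := by
      rw [range_jmap]; exact hb
    obtain ⟨f, rfl⟩ := hb'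
    refine ⟨a • f, ?_, one_tmul_smul_of_mem P ha f⟩
    rw [map_smul, smul_eq_mul]
  · rintro x y ⟨g, rfl, hg⟩ ⟨g', rfl, hg'⟩
    exact ⟨g + g', map_add _ _ _, by rw [tmul_add, hg, hg', add_zero]⟩

lemma ker_toCot_le : LinearMap.ker (toCot P) ≤ LinearMap.range (d2 P) := by
  intro x hx
  obtain ⟨f, rfl⟩ := L1_exists_one_tmul P x
  rw [LinearMap.mem_ker, toCot_one_tmul, Algebra.Extension.Cotangent.mk_eq_zero_iff] at hx
  obtain ⟨g, hg, hg0⟩ := exists_of_mem_sq P hx
  have hq : f - g ∈ relKer P := by
    change jmap P (f - g) = 0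
    rw [map_sub, hg]
    exact sub_self _
  refine ⟨Submodule.Quotient.mk ((1 : B) ⊗ₜ ⟨f - g, hq⟩), ?_⟩
  rw [d2_mk_tmul]
  change (1 : B) ⊗ₜ[P.toExtension.Ring] (f - g) = _
  rw [tmul_sub, hg0, sub_zero]

lemma ker_toCot : LinearMap.ker (toCot P) = LinearMap.range (d2 P) := by
  apply le_antisymm (ker_toCot_le P)
  rw [LinearMap.range_le_ker_iff]
  exact toCot_comp_d2 P

variable (M : Type m) [AddCommGroup M] [Module B M]

/-- a cocycle factors through `I/I²` -/
lemma exists_factor_of_cocycle (c : L1 P →ₗ[B] M) (hc : c ∘ₗ d2 P = 0) :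
    ∃ φ : P.toExtension.Cotangent →ₗ[B] M, φ ∘ₗ toCot P = c := by
  have hker : LinearMap.ker (toCot P) ≤ LinearMap.ker c := by
    rw [ker_toCot, LinearMap.range_le_ker_iff]
    exact hc
  let e := (toCot P).quotKerEquivOfSurjective (toCot_surjective P)
  refine ⟨((LinearMap.ker (toCot P)).liftQ c hker) ∘ₗ e.symm.toLinearMap, ?_⟩
  refine LinearMap.ext fun x => ?_
  simp only [LinearMap.coe_comp, LinearEquiv.coe_coe, Function.comp_apply]
  have : e.symm (toCot P x) = Submodule.Quotient.mk x := by
    rw [LinearEquiv.symm_apply_eq]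
    rfl
  rw [this, Submodule.liftQ_apply]

theorem main12289 :
    LinearMap.ker (d1Star P M) = LinearMap.ker (LinearMap.lcomp B M P.toExtension.cotangentComplex) ∧
    LinearMap.ker (homToT1 P M) = LinearMap.range (LinearMap.lcomp B M P.toExtension.cotangentComplex) ∧
    Function.Surjective (homToT1 P M) := by
  refine ⟨?_, ?_, ?_⟩
  · ext φ
    rw [LinearMap.mem_ker, LinearMap.mem_ker, d1Star_apply, LinearMap.lcomp_apply']
    constructor
    · intro h
      ext y
      obtain ⟨x, rfl⟩ := toCot_surjective P y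
      have := LinearMap.congr_fun h x
      exact this
    · intro h
      rw [d1, ← LinearMap.comp_assoc, h, LinearMap.zero_comp]
  · ext φ
    rw [LinearMap.mem_ker, LinearMap.mem_range]
    constructor
    · intro h
      rw [homToT1, LinearMap.comp_apply, Submodule.mkQ_apply, Submodule.Quotient.mk_eq_zero] at h
      obtain ⟨ψ, hψ⟩ := h
      refine ⟨ψ, ?_⟩
      rw [LinearMap.lcomp_apply']
      ext y
      obtain ⟨x, rfl⟩ := toCot_surjective P y
      have := LinearMap.congr_fun hψ x
      exact this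
    · rintro ⟨ψ, rfl⟩
      rw [homToT1, LinearMap.comp_apply, Submodule.mkQ_apply, Submodule.Quotient.mk_eq_zero]
      refine ⟨ψ, ?_⟩
      rfl
  · intro x
    obtain ⟨⟨c, hc⟩, rfl⟩ := Submodule.Quotient.mk_surjective _ x
    rw [LinearMap.mem_ker, d2Star_apply] at hc
    obtain ⟨φ, hφ⟩ := exists_factor_of_cocycle P M c hc
    refine ⟨φ, ?_⟩
    rw [homToT1, LinearMap.comp_apply, Submodule.mkQ_apply]
    congr 1
    exact Subtype.ext hφ

end Groth.Agent.Helper9.CotLib

namespace Groth.Agent.Helper9.CotLib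

open CotT TensorProduct

variable {A : Type u} {B : Type v} {ι : Type w} {σ : Type t}
variable [CommRing A] [CommRing B] [Algebra A B]
variable (P : Algebra.Presentation A B ι σ)
variable (M : Type m) [AddCommGroup M] [Module B M] [Module A M] [IsScalarTower A B M]

lemma adjoin_range_val : Algebra.adjoin A (Set.range P.val) = ⊤ := by
  rw [Algebra.adjoin_range_eq_range_aeval, AlgHom.range_eq_top]
  intro b
  obtain ⟨r, hr⟩ := P.toExtension.algebraMap_surjective b
  exact ⟨r, by rw [← hr]; exact (algebraMap_toExtension P r).symm⟩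

theorem derToT0_injective : Function.Injective (derToT0 P M) := by
  rw [← LinearMap.ker_eq_bot, LinearMap.ker_eq_bot']
  intro D hD
  have h1 : derLift P M D = 0 := by
    have := congrArg Subtype.val hD
    exact this
  refine Derivation.ext_of_adjoin_eq_top _ (adjoin_range_val P) ?_
  rintro _ ⟨i, rfl⟩
  rw [← derLift_basis, h1]
  rfl

theorem derToT0_surjective : Function.Surjective (derToT0 P M) := by
  rintro ⟨φ, hφ⟩
  have h1 : φ ∘ₗ P.toExtension.cotangentComplex = 0 := by
    have := (main12289 P M).1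
    rw [this] at hφ
    exact hφ
  -- factor through `Ω[B⁄A]`
  have hker : LinearMap.ker P.toExtension.toKaehler ≤ LinearMap.ker φ := by
    intro x hx
    rw [P.toExtension.exact_cotangentComplex_toKaehler.linearMap_ker_eq] at hx
    obtain ⟨y, rfl⟩ := hx
    exact LinearMap.congr_fun h1 y
  let e := P.toExtension.toKaehler.quotKerEquivOfSurjective P.toExtension.toKaehler_surjective
  let ψ : Ω[B⁄A] →ₗ[B] M := ((LinearMap.ker P.toExtension.toKaehler).liftQ φ hker) ∘ₗ e.symm.toLinearMap
  have hψ : ∀ x, ψ (P.toExtension.toKaehler x) = φ x := by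
    intro x
    change (LinearMap.ker P.toExtension.toKaehler).liftQ φ hker (e.symm (P.toExtension.toKaehler x)) = _
    have : e.symm (P.toExtension.toKaehler x) = Submodule.Quotient.mk x := by
      rw [LinearEquiv.symm_apply_eq]
      rfl
    rw [this, Submodule.liftQ_apply]
  refine ⟨ψ.compDer (KaehlerDifferential.D A B), ?_⟩
  apply Subtype.ext
  change derLift P M (ψ.compDer (KaehlerDifferential.D A B)) = φ
  refine (P.cotangentSpaceBasis).ext fun i => ?_
  rw [derLift_basis]
  change ψ (KaehlerDifferential.D A B (P.val i)) = _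
  rw [← hψ, Algebra.Generators.cotangentSpaceBasis_apply]
  congr 1
  erw [KaehlerDifferential.mapBaseChange_tmul]
  rw [one_smul]
  have h2 : KaehlerDifferential.map A A P.toExtension.Ring B
      (KaehlerDifferential.D A P.toExtension.Ring (MvPolynomial.X i : P.toExtension.Ring)) =
      KaehlerDifferential.D A B (algebraMap P.toExtension.Ring B (MvPolynomial.X i)) :=
    KaehlerDifferential.map_D A A P.toExtension.Ring B _
  have h3 : algebraMap P.toExtension.Ring B (MvPolynomial.X i : P.toExtension.Ring) = P.val i :=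
    (algebraMap_toExtension P _).trans (MvPolynomial.aeval_X _ _)
  rw [h3] at h2
  exact h2.symm

theorem main12286 : Function.Bijective (derToT0 P M) :=
  ⟨derToT0_injective P M, derToT0_surjective P M⟩

end Groth.Agent.Helper9.CotLib
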