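import Mathlib
import Groth.Prelude.Def_CotT2
import Groth.Agent.Lib.Helper9.CotLib1
import Groth.Agent.Lib.Helper9.CotHom2

set_option autoImplicit false
set_option linter.unusedSectionVars false
universe u v w t u' v' w' t' u'' v'' w'' t'' m

namespace Groth.Agent.Helper9.CotHom

open CotT TensorProduct Groth.Agent.Helper9.CotLib

section PullEq

attribute [local instance] SMulCommClass.of_commMonoid

variable {A : Type u} {B : Type v} {ι : Type w} {σ : Type t}
variable {A' : Type u'} {B' : Type v'} {ι' : Type w'} {σ' : Type t'}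
variable [CommRing A] [CommRing B] [Algebra A B] [CommRing A'] [CommRing B'] [Algebra A' B']
variable [Algebra A A'] [Algebra B B'] [Algebra A B'] [IsScalarTower A A' B'] [IsScalarTower A B B']
variable {P : Algebra.Presentation A B ι σ} {P' : Algebra.Presentation A' B' ι' σ'}
variable (M' : Type m) [AddCommGroup M'] [Module B' M'] [Module B M'] [IsScalarTower B B' M']

/-- Mathlib's homotopy between the maps induced by two morphisms of presentations -/
noncomputable def hsub (h1 h2 : PresHom P P') : L0 P →ₗ[B] P'.toExtension.Cotangent :=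
  h1.hom.toExtensionHom.sub h2.hom.toExtensionHom

lemma cotMap_sub (h1 h2 : PresHom P P') (y : P.toExtension.Cotangent) :
    h1.cotMap y - h2.cotMap y = hsub h1 h2 (P.toExtension.cotangentComplex y) := by
  have := LinearMap.congr_fun
    (Algebra.Extension.Cotangent.map_sub_map h1.hom.toExtensionHom h2.hom.toExtensionHom) y
  exact this

lemma L0map_sub (h1 h2 : PresHom P P') (x : L0 P) :
    h1.L0map x - h2.L0map x = P'.toExtension.cotangentComplex (hsub h1 h2 x) := by
  have := LinearMap.congr_fun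
    (Algebra.Extension.CotangentSpace.map_sub_map h1.hom.toExtensionHom h2.hom.toExtensionHom) x
  exact this

/-- `x ↦ φ (hsub x)` as a `B`-linear map -/
noncomputable def psiOf (h1 h2 : PresHom P P') (φ : P'.toExtension.Cotangent →ₗ[B'] M') :
    L0 P →ₗ[B] M' :=
  (φ.restrictScalars B).comp (hsub h1 h2)

lemma psiOf_apply (h1 h2 : PresHom P P') (φ : P'.toExtension.Cotangent →ₗ[B'] M') (x : L0 P) :
    psiOf M' h1 h2 φ x = φ (hsub h1 h2 x) := rfl

lemma pull1_sub_eq (h1 h2 : PresHom P P') (c : L1 P' →ₗ[B'] M')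
    (φ : P'.toExtension.Cotangent →ₗ[B'] M') (hφ : φ ∘ₗ toCot P' = c) :
    h1.pull1 M' c - h2.pull1 M' c = d1Star P M' (psiOf M' h1 h2 φ) := by
  refine LinearMap.ext fun y => ?_
  rw [LinearMap.sub_apply, PresHom.pull1_apply, PresHom.pull1_apply, d1Star_apply,
    LinearMap.comp_apply, psiOf_apply, d1, LinearMap.comp_apply, ← cotMap_sub, map_sub,
    ← PresHom.toCot_L1map, ← PresHom.toCot_L1map, ← hφ, LinearMap.comp_apply, LinearMap.comp_apply]

lemma pull1_sub_mem (h1 h2 : PresHom P P') (c : cocycles1 P' M') :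
    h1.cocycles1Pull M' c - h2.cocycles1Pull M' c ∈ coboundaries1 P M' := by
  have hc : (c : L1 P' →ₗ[B'] M') ∘ₗ d2 P' = 0 := c.2
  obtain ⟨φ, hφ⟩ := exists_factor_of_cocycle P' M' c hc
  exact ⟨psiOf M' h1 h2 φ, (pull1_sub_eq M' h1 h2 c φ hφ).symm⟩

theorem T1pull_eq (h1 h2 : PresHom P P') (x : T1 P' M') : h1.T1pull M' x = h2.T1pull M' x :=
  mapQ_restrict_eq _ _ _ _ _ _ (fun c => pull1_sub_mem M' h1 h2 c) x

lemma pull0_eq (h1 h2 : PresHom P P') (ψ : L0 P' →ₗ[B'] M') (hψ : ψ ∘ₗ d1 P' = 0) :
    h1.pull0 M' ψ = h2.pull0 M' ψ := by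
  refine LinearMap.ext fun x => ?_
  rw [PresHom.pull0_apply, PresHom.pull0_apply, ← sub_eq_zero, ← map_sub, L0map_sub]
  obtain ⟨l, hl⟩ := toCot_surjective P' (hsub h1 h2 x)
  rw [← hl]
  exact LinearMap.congr_fun hψ l

theorem T0pull_eq (h1 h2 : PresHom P P') (x : T0 P' M') : h1.T0pull M' x = h2.T0pull M' x := by
  apply Subtype.ext
  exact pull0_eq M' h1 h2 x.1 x.2

end PullEq


section GenericT

variable {R : Type u} {B : Type v} [CommRing R] [CommRing B] [Algebra R B]
  {F : Type w} [AddCommGroup F] [Module R F] {Y : Type t} [AddCommGroup Y]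

lemma tensor_ext_add (f g : (B ⊗[R] F) →+ Y)
    (h : ∀ (b : B) (x : F), f (b ⊗ₜ[R] x) = g (b ⊗ₜ[R] x)) (z : B ⊗[R] F) : f z = g z := by
  induction z using TensorProduct.induction_on with
  | zero => rw [map_zero, map_zero]
  | add x y hx hy => rw [map_add, map_add, hx, hy]
  | tmul b x => exact h b x

end GenericT

section Comp

attribute [local instance] SMulCommClass.of_commMonoid

variable {A : Type u} {B : Type v} {ι : Type w} {σ : Type t}
variable {A' : Type u'} {B' : Type v'} {ι' : Type w'} {σ' : Type t'}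
variable {A'' : Type u''} {B'' : Type v''} {ι'' : Type w''} {σ'' : Type t''}
variable [CommRing A] [CommRing B] [Algebra A B] [CommRing A'] [CommRing B'] [Algebra A' B']
variable [CommRing A''] [CommRing B''] [Algebra A'' B'']
variable [Algebra A A'] [Algebra B B'] [Algebra A B'] [IsScalarTower A A' B'] [IsScalarTower A B B']
variable [Algebra A' A''] [Algebra B' B''] [Algebra A' B''] [IsScalarTower A' A'' B'']
  [IsScalarTower A' B' B'']
variable [Algebra A A''] [Algebra B B''] [Algebra A B''] [IsScalarTower A A'' B'']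
  [IsScalarTower A B B''] [IsScalarTower A A' A''] [IsScalarTower B B' B'']
variable {P : Algebra.Presentation A B ι σ} {P' : Algebra.Presentation A' B' ι' σ'}
  {P'' : Algebra.Presentation A'' B'' ι'' σ''}

lemma comp_L1map_tmul (h' : PresHom P' P'') (h : PresHom P P') (b : B) (f : relMod P) :
    (comp h' h).L1map (b ⊗ₜ f) = h'.L1map (h.L1map (b ⊗ₜ f)) := by
  rw [PresHom.L1map_tmul, PresHom.L1map_tmul, PresHom.L1map_tmul, comp_relModMap,
    ← IsScalarTower.algebraMap_apply]

lemma comp_L1map (h' : PresHom P' P'') (h : PresHom P P') (y : L1 P) :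
    (comp h' h).L1map y = h'.L1map (h.L1map y) :=
  tensor_ext_add (comp h' h).L1map.toAddMonoidHom
    (h'.L1map.toAddMonoidHom.comp h.L1map.toAddMonoidHom) (comp_L1map_tmul h' h) y

lemma comp_L0map (h' : PresHom P' P'') (h : PresHom P P') (x : L0 P) :
    (comp h' h).L0map x = h'.L0map (h.L0map x) := by
  rw [PresHom.L0map_apply, PresHom.L0map_apply, PresHom.L0map_apply]
  have e : (comp h' h).hom.toExtensionHom = h'.hom.toExtensionHom.comp h.hom.toExtensionHom :=
    Algebra.Generators.Hom.toExtensionHom_comp _ _ _ h'.hom h.hom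
  rw [e]
  exact Algebra.Extension.CotangentSpace.map_comp_apply _ _ x

variable (M'' : Type m) [AddCommGroup M''] [Module B'' M''] [Module B' M''] [Module B M'']
  [IsScalarTower B' B'' M''] [IsScalarTower B B' M''] [IsScalarTower B B'' M'']

lemma comp_pull1 (h' : PresHom P' P'') (h : PresHom P P') (φ : L1 P'' →ₗ[B''] M'') :
    (comp h' h).pull1 M'' φ = h.pull1 M'' (h'.pull1 M'' φ) := by
  refine LinearMap.ext fun z => ?_
  rw [PresHom.pull1_apply, PresHom.pull1_apply, PresHom.pull1_apply, comp_L1map]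

lemma comp_pull0 (h' : PresHom P' P'') (h : PresHom P P') (φ : L0 P'' →ₗ[B''] M'') :
    (comp h' h).pull0 M'' φ = h.pull0 M'' (h'.pull0 M'' φ) := by
  refine LinearMap.ext fun z => ?_
  rw [PresHom.pull0_apply, PresHom.pull0_apply, PresHom.pull0_apply, comp_L0map]

lemma comp_cocycles1Pull (h' : PresHom P' P'') (h : PresHom P P') (c : cocycles1 P'' M'') :
    (comp h' h).cocycles1Pull M'' c = h.cocycles1Pull M'' (h'.cocycles1Pull M'' c) :=
  Subtype.ext (comp_pull1 M'' h' h c)

theorem T1pull_comp (h' : PresHom P' P'') (h : PresHom P P') (x : T1 P'' M'') :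
    (comp h' h).T1pull M'' x = h.T1pull M'' (h'.T1pull M'' x) :=
  mapQ_restrict_comp _ _ _ _ _ _ _ _ _ (fun c => comp_cocycles1Pull M'' h' h c) x

theorem T0pull_comp (h' : PresHom P' P'') (h : PresHom P P') (x : T0 P'' M'') :
    (comp h' h).T0pull M'' x = h.T0pull M'' (h'.T0pull M'' x) :=
  Subtype.ext (comp_pull0 M'' h' h x)

end Comp

section Id

attribute [local instance] SMulCommClass.of_commMonoid

variable {A : Type u} {B : Type v} {ι : Type w} {σ : Type t}
variable [CommRing A] [CommRing B] [Algebra A B]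
variable (P : Algebra.Presentation A B ι σ)

lemma id_L1map_tmul (b : B) (f : relMod P) : (PresHom.id P).L1map (b ⊗ₜ f) = b ⊗ₜ f := by
  rw [PresHom.L1map_tmul, id_relModMap]
  rfl

lemma id_L1map (y : L1 P) : (PresHom.id P).L1map y = y :=
  tensor_ext_add (PresHom.id P).L1map.toAddMonoidHom (AddMonoidHom.id _) (id_L1map_tmul P) y

lemma id_L0map (x : L0 P) : (PresHom.id P).L0map x = x := by
  rw [PresHom.L0map_apply]
  have e : (PresHom.id P).hom.toExtensionHom = Algebra.Extension.Hom.id P.toExtension :=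
    Algebra.Generators.Hom.toExtensionHom_id _
  rw [e, Algebra.Extension.CotangentSpace.map_id]
  rfl

variable (M : Type m) [AddCommGroup M] [Module B M]

lemma id_pull1 (φ : L1 P →ₗ[B] M) : (PresHom.id P).pull1 M φ = φ := by
  refine LinearMap.ext fun z => ?_
  rw [PresHom.pull1_apply, id_L1map]

lemma id_pull0 (φ : L0 P →ₗ[B] M) : (PresHom.id P).pull0 M φ = φ := by
  refine LinearMap.ext fun z => ?_
  rw [PresHom.pull0_apply, id_L0map]

lemma id_cocycles1Pull (c : cocycles1 P M) : (PresHom.id P).cocycles1Pull M c = c :=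
  Subtype.ext (id_pull1 P M c)

theorem T1pull_id (x : T1 P M) : (PresHom.id P).T1pull M x = x :=
  mapQ_restrict_id _ _ _ (fun c => id_cocycles1Pull P M c) x

theorem T0pull_id (x : T0 P M) : (PresHom.id P).T0pull M x = x :=
  Subtype.ext (id_pull0 P M x)

end Id

section Equiv

variable {A : Type u} {B : Type v} {ι : Type w} {σ : Type t} {ι' : Type w'} {σ' : Type t'}
variable [CommRing A] [CommRing B] [Algebra A B]
variable (P : Algebra.Presentation A B ι σ) (P' : Algebra.Presentation A B ι' σ')
variable (M : Type m) [AddCommGroup M] [Module B M]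

lemma T1pull_inv (h : PresHom P P') (h' : PresHom P' P) (x : T1 P M) :
    h.T1pull M (h'.T1pull M x) = x :=
  (T1pull_comp M h' h x).symm.trans
    ((T1pull_eq M (comp h' h) (PresHom.id P) x).trans (T1pull_id P M x))

lemma T0pull_inv (h : PresHom P P') (h' : PresHom P' P) (x : T0 P M) :
    h.T0pull M (h'.T0pull M x) = x :=
  (T0pull_comp M h' h x).symm.trans
    ((T0pull_eq M (comp h' h) (PresHom.id P) x).trans (T0pull_id P M x))

/-- `T¹` does not depend on the presentation -/
theorem nonempty_T1equiv : Nonempty (T1 P M ≃ₗ[B] T1 P' M) := by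
  obtain ⟨h⟩ := (inferInstance : Nonempty (PresHom P P'))
  obtain ⟨h'⟩ := (inferInstance : Nonempty (PresHom P' P))
  exact nonempty_equiv_of_inv (h'.T1pull M) (h.T1pull M) (T1pull_inv P P' M h h')
    (T1pull_inv P' P M h' h)

/-- `T⁰` does not depend on the presentation -/
theorem nonempty_T0equiv : Nonempty (T0 P M ≃ₗ[B] T0 P' M) := by
  obtain ⟨h⟩ := (inferInstance : Nonempty (PresHom P P'))
  obtain ⟨h'⟩ := (inferInstance : Nonempty (PresHom P' P))
  exact nonempty_equiv_of_inv (h'.T0pull M) (h.T0pull M) (T0pull_inv P P' M h h')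
    (T0pull_inv P' P M h' h)

end Equiv

end Groth.Agent.Helper9.CotHom
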