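import Mathlib

set_option autoImplicit false
universe u

namespace Groth.Agent.Helper9.Koszul

variable {R : Type u} [CommRing R] {n : ℕ} (g : Fin n → R)

/-- the map `F → R`, `e_i ↦ g i` -/
noncomputable abbrev jj : (Fin n →₀ R) →ₗ[R] R := Finsupp.linearCombination R g

/-- the trivial (Koszul) relations -/
noncomputable abbrev triv : Submodule R (Fin n →₀ R) :=
  Submodule.span R {y | ∃ a b : Fin n →₀ R, y = jj g a • b - jj g b • a}

lemma koszul_aux
    (hreg : ∀ (k : Fin n) (r : R), r * g k ∈ Ideal.span (g '' {i | i < k}) →
      r ∈ Ideal.span (g '' {i | i < k})) :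
    ∀ (m : ℕ) (_ : m ≤ n) (f : Fin n →₀ R), (∀ i : Fin n, m ≤ i.1 → f i = 0) → jj g f = 0 →
      f ∈ triv g := by
  intro m
  induction m with
  | zero =>
    intro _ f hf _
    have : f = 0 := by
      ext i
      exact hf i (Nat.zero_le _)
    rw [this]
    exact zero_mem _
  | succ m ih =>
    intro hm f hf hj
    let k : Fin n := ⟨m, hm⟩
    set r := f k with hr
    -- f' = f with the k-th coefficient removed
    have hsupp : f - Finsupp.single k r ∈ Finsupp.supported R R {i : Fin n | i < k} := by
      rw [Finsupp.mem_supported]
      intro i hi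
      rw [Finset.mem_coe, Finsupp.mem_support_iff] at hi
      by_contra hlt
      have hge : m ≤ i.1 := by
        have : ¬ i.1 < m := fun h => hlt (by exact Fin.lt_def.mpr h)
        omega
      apply hi
      rw [Finsupp.sub_apply]
      rcases Nat.eq_or_lt_of_le hge with heq | hlt'
      · have hik : i = k := Fin.ext heq.symm
        rw [hik, Finsupp.single_eq_same, sub_self]
      · have hik : i ≠ k := fun h => by
          rw [h] at hlt'
          exact lt_irrefl _ hlt'
        rw [Finsupp.single_eq_of_ne hik, hf i (by omega), sub_zero]
    have h1 : jj g (f - Finsupp.single k r) ∈ Ideal.span (g '' {i : Fin n | i < k}) := by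
      have := (Finsupp.mem_span_image_iff_linearCombination R (v := g) (s := {i : Fin n | i < k})
        (x := jj g (f - Finsupp.single k r))).mpr ⟨_, hsupp, rfl⟩
      exact this
    have h2 : r * g k ∈ Ideal.span (g '' {i : Fin n | i < k}) := by
      have e : r * g k = -(jj g (f - Finsupp.single k r)) := by
        rw [map_sub, hj, Finsupp.linearCombination_single, smul_eq_mul]
        ring
      rw [e]
      exact neg_mem h1
    have h3 := hreg k r h2
    obtain ⟨c, hc, hcr⟩ :=
      (Finsupp.mem_span_image_iff_linearCombination R (v := g) (s := {i : Fin n | i < k})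
        (x := r)).mp h3
    have hck : ∀ i : Fin n, m ≤ i.1 → c i = 0 := by
      intro i hi
      rw [Finsupp.mem_supported] at hc
      by_contra hne
      have : i ∈ (c.support : Set (Fin n)) := by
        rw [Finset.mem_coe, Finsupp.mem_support_iff]; exact hne
      have hlt : i < k := hc this
      rw [Fin.lt_def] at hlt
      change i.1 < m at hlt
      omega
    have hjk : jj g (Finsupp.single k (1 : R)) = g k := by
      rw [Finsupp.linearCombination_single, one_smul]
    have hT : jj g c • Finsupp.single k (1 : R) - jj g (Finsupp.single k (1 : R)) • c ∈ triv g :=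
      Submodule.subset_span ⟨c, Finsupp.single k 1, rfl⟩
    have hf'' : f - (jj g c • Finsupp.single k (1 : R) - jj g (Finsupp.single k (1 : R)) • c) ∈
        triv g := by
      apply ih (by omega)
      · intro i hi
        rw [Finsupp.sub_apply, Finsupp.sub_apply, Finsupp.smul_apply, Finsupp.smul_apply, hcr, hjk]
        rcases Nat.eq_or_lt_of_le hi with heq | hlt'
        · have hik : i = k := Fin.ext heq.symm
          rw [hik, Finsupp.single_eq_same, hck k (le_refl _)]
          simp [hr]
        · have hik : i ≠ k := fun h => by
            rw [h] at hlt'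
            exact lt_irrefl _ hlt'
          rw [Finsupp.single_eq_of_ne hik, hf i (by omega), hck i hi]
          simp
      · rw [map_sub, map_sub, map_smul, map_smul, hj, hjk, smul_eq_mul, smul_eq_mul]
        ring
    have := add_mem hf'' hT
    rwa [sub_add_cancel] at this

/-- **Koszul syzygies**: the relations among a regular sequence are generated by the trivial ones -/
theorem koszul_syzygy
    (hreg : ∀ (k : Fin n) (r : R), r * g k ∈ Ideal.span (g '' {i | i < k}) →
      r ∈ Ideal.span (g '' {i | i < k}))
    (f : Fin n →₀ R) (hf : jj g f = 0) : f ∈ triv g :=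
  koszul_aux g hreg n (le_refl _) f (fun i hi => absurd i.2 (by omega)) hf

end Groth.Agent.Helper9.Koszul
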