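import Mathlib
import Groth.Prelude.Def_CotT2
import Groth.Agent.Lib.Helper9.CotHom3
import Groth.Agent.Lib.Helper9.Koszul

set_option autoImplicit false
set_option linter.unusedSectionVars false
universe u v w t m

namespace Groth.Agent.Helper9.CotHom

open CotT TensorProduct

section TrivL2

variable {A : Type u} {B : Type v} {ι : Type w} {σ : Type t}
variable [CommRing A] [CommRing B] [Algebra A B]
variable (P : Algebra.Presentation A B ι σ)
variable (M : Type m) [AddCommGroup M] [Module B M]

lemma L2_eq_zero_of_le (h : relKer P ≤ trivRel P) (z : L2 P) : z = 0 := by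
  induction z using Submodule.Quotient.induction_on with
  | H z =>
    induction z using TensorProduct.induction_on with
    | zero => rfl
    | add x y hx hy => rw [Submodule.Quotient.mk_add, hx, hy, add_zero]
    | tmul b q =>
      rw [Submodule.Quotient.mk_eq_zero]
      exact ⟨b ⊗ₜ ⟨q, h q.2⟩, rfl⟩

lemma subsingleton_T2_of_le (h : relKer P ≤ trivRel P) : Subsingleton (T2 P M) := by
  refine ⟨fun x y => ?_⟩
  obtain ⟨c, rfl⟩ := (LinearMap.range (d2Star P M)).mkQ_surjective x
  obtain ⟨c', rfl⟩ := (LinearMap.range (d2Star P M)).mkQ_surjective y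
  congr 1
  refine LinearMap.ext fun l => ?_
  rw [L2_eq_zero_of_le P h l, map_zero, map_zero]

end TrivL2

end Groth.Agent.Helper9.CotHom

namespace Groth.Agent.Helper9.CotHom

open CotT TensorProduct

section MapC

variable {A : Type u} [CommRing A] {ι : Type w} [IsEmpty ι]

lemma C_coeff_zero (x : MvPolynomial ι A) : MvPolynomial.C (x.coeff 0) = x := by
  obtain ⟨a, rfl⟩ := MvPolynomial.C_surjective ι x
  rw [MvPolynomial.coeff_zero_C]

lemma mem_map_C_iff (I : Ideal A) (x : MvPolynomial ι A) :
    x ∈ Ideal.map (MvPolynomial.C : A →+* MvPolynomial ι A) I ↔ x.coeff 0 ∈ I := by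
  constructor
  · intro hx
    have hle : Ideal.map (MvPolynomial.C : A →+* MvPolynomial ι A) I ≤
        Ideal.comap (MvPolynomial.constantCoeff : MvPolynomial ι A →+* A) I := by
      rw [Ideal.map_le_iff_le_comap]
      intro a ha
      rw [Ideal.mem_comap, Ideal.mem_comap, MvPolynomial.constantCoeff_C]
      exact ha
    exact hle hx
  · intro hx
    rw [← C_coeff_zero x]
    exact Ideal.mem_map_of_mem _ hx

end MapC

section SeqPres

variable {A : Type u} {B : Type v} [CommRing A] [CommRing B] [Algebra A B]
  (hs : Function.Surjective (algebraMap A B)) (rs : List A)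
  (hI : RingHom.ker (algebraMap A B) = Ideal.ofList rs)

lemma span_range_C_get :
    Ideal.span (Set.range fun i : Fin rs.length => (MvPolynomial.C (rs.get i) : MvPolynomial PEmpty.{1} A)) =
      Ideal.map (MvPolynomial.C : A →+* MvPolynomial PEmpty.{1} A) (Ideal.ofList rs) := by
  rw [Ideal.ofList, Ideal.map_span]
  congr 1
  ext x
  constructor
  · rintro ⟨i, rfl⟩
    exact ⟨rs.get i, List.get_mem rs i, rfl⟩
  · rintro ⟨a, ha, rfl⟩
    obtain ⟨i, rfl⟩ := List.mem_iff_get.mp ha
    exact ⟨i, rfl⟩

include hI in
lemma ker_ofSurjectiveAlgebraMap :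
    (Algebra.Generators.ofSurjectiveAlgebraMap.{0} hs).ker =
      Ideal.map (MvPolynomial.C : A →+* MvPolynomial PEmpty.{1} A) (Ideal.ofList rs) := by
  ext x
  rw [mem_map_C_iff, ← hI, Algebra.Generators.ker_eq_ker_aeval_val, RingHom.mem_ker, RingHom.mem_ker]
  conv_lhs => rw [← C_coeff_zero x]
  rw [MvPolynomial.aeval_C]

/-- the presentation of a quotient `A → B` by the ideal generated by a list -/
noncomputable def seqPres : Algebra.Presentation A B PEmpty.{1} (Fin rs.length) where
  toGenerators := Algebra.Generators.ofSurjectiveAlgebraMap hs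
  relation i := MvPolynomial.C (rs.get i)
  span_range_relation_eq_ker := by
    rw [span_range_C_get, ker_ofSurjectiveAlgebraMap hs rs hI]

end SeqPres

end Groth.Agent.Helper9.CotHom

namespace Groth.Agent.Helper9.CotHom

open CotT TensorProduct

section Reg

variable {A : Type u} [CommRing A] (rs : List A)

lemma mem_of_mul_mem_of_isWeaklyRegular (h : RingTheory.Sequence.IsWeaklyRegular A rs) (k : ℕ)
    (hk : k < rs.length) (a : A) (ha : a * rs[k] ∈ Ideal.ofList (rs.take k)) :
    a ∈ Ideal.ofList (rs.take k) := by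
  have hreg := h.regular_mod_prev k hk
  have e : (Ideal.ofList (rs.take k) • ⊤ : Submodule A A) = Ideal.ofList (rs.take k) := by
    rw [smul_eq_mul, Ideal.mul_top]
  have h1 : rs[k] • (Submodule.Quotient.mk a : A ⧸ (Ideal.ofList (rs.take k) • ⊤ : Submodule A A)) =
      rs[k] • (0 : A ⧸ (Ideal.ofList (rs.take k) • ⊤ : Submodule A A)) := by
    rw [smul_zero, ← Submodule.Quotient.mk_smul, Submodule.Quotient.mk_eq_zero, e, smul_eq_mul,
      mul_comm]
    exact ha
  have h2 := hreg h1
  rw [Submodule.Quotient.mk_eq_zero, e] at h2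
  exact h2

lemma image_get_lt (k : Fin rs.length) :
    (fun i : Fin rs.length => rs.get i) '' {i | i < k} = {a | a ∈ rs.take k} := by
  ext a
  constructor
  · rintro ⟨i, hi, rfl⟩
    have hi' : i.1 < k.1 := hi
    have h1 : i.1 < (rs.take k).length := by
      rw [List.length_take]
      exact lt_min hi' i.2
    have h2 : (rs.take k)[i.1] = rs.get i := by
      rw [List.getElem_take]
      rfl
    change rs.get i ∈ rs.take k
    rw [← h2]
    exact List.getElem_mem h1
  · intro ha
    change a ∈ rs.take k at ha
    rw [List.mem_iff_getElem] at ha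
    obtain ⟨i, hi, rfl⟩ := ha
    rw [List.length_take] at hi
    have hik : i < k.1 := lt_of_lt_of_le hi (min_le_left _ _)
    have hil : i < rs.length := lt_of_lt_of_le hi (min_le_right _ _)
    refine ⟨⟨i, hil⟩, hik, ?_⟩
    rw [List.getElem_take]
    rfl

end Reg

end Groth.Agent.Helper9.CotHom

namespace Groth.Agent.Helper9.CotHom

open CotT TensorProduct

section Main

variable {A : Type u} {B : Type v} [CommRing A] [CommRing B] [Algebra A B]
  (hs : Function.Surjective (algebraMap A B)) (rs : List A)
  (hI : RingHom.ker (algebraMap A B) = Ideal.ofList rs)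

lemma span_image_C_get (k : Fin rs.length) :
    Ideal.span ((fun i : Fin rs.length => (MvPolynomial.C (rs.get i) : MvPolynomial PEmpty.{1} A)) ''
      {i | i < k}) =
      Ideal.map (MvPolynomial.C : A →+* MvPolynomial PEmpty.{1} A) (Ideal.ofList (rs.take k)) := by
  rw [Ideal.ofList, Ideal.map_span, ← image_get_lt rs k, Set.image_image]

lemma hreg_C (h : RingTheory.Sequence.IsWeaklyRegular A rs) (k : Fin rs.length)
    (r : MvPolynomial PEmpty.{1} A)
    (hr : r * MvPolynomial.C (rs.get k) ∈ Ideal.span
      ((fun i : Fin rs.length => (MvPolynomial.C (rs.get i) : MvPolynomial PEmpty.{1} A)) '' {i | i < k})) :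
    r ∈ Ideal.span
      ((fun i : Fin rs.length => (MvPolynomial.C (rs.get i) : MvPolynomial PEmpty.{1} A)) '' {i | i < k}) := by
  rw [span_image_C_get, mem_map_C_iff] at hr ⊢
  rw [mul_comm, MvPolynomial.coeff_C_mul, mul_comm] at hr
  exact mem_of_mul_mem_of_isWeaklyRegular rs h k.1 k.2 _ hr

include hI in
lemma relKer_le_trivRel_seqPres (h : RingTheory.Sequence.IsWeaklyRegular A rs) :
    relKer (seqPres hs rs hI) ≤ trivRel (seqPres hs rs hI) := by
  intro q hq
  exact Koszul.koszul_syzygy
    (fun i : Fin rs.length => (MvPolynomial.C (rs.get i) : MvPolynomial PEmpty.{1} A))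
    (hreg_C rs h) q hq

end Main

theorem main12288 (A B : Type u) [CommRing A] [CommRing B] [Algebra A B]
    (hs : Function.Surjective (algebraMap A B)) (rs : List A)
    (hreg : RingTheory.Sequence.IsRegular A rs)
    (hI : RingHom.ker (algebraMap A B) = Ideal.ofList rs) (M : Type u) [AddCommGroup M] [Module B M] :
    Subsingleton (CotT.T2 (CotT.canon A B) M) := by
  have h1 := subsingleton_T2_of_le (seqPres hs rs hI) M
    (relKer_le_trivRel_seqPres hs rs hI hreg.toIsWeaklyRegular)
  obtain ⟨e⟩ := nonempty_T2equiv (canon A B) (seqPres hs rs hI) M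
  exact e.toEquiv.subsingleton

end Groth.Agent.Helper9.CotHom
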