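import Mathlib

set_option autoImplicit false
universe u v w

namespace Groth.Agent.Helper9.CotNine

open TensorProduct

section TensKer

variable {R : Type u} {B : Type v} [CommRing R] [CommRing B] [Algebra R B]
variable {N : Type w} [AddCommGroup N] [Module R N]

lemma exists_one_tmul (hs : Function.Surjective (algebraMap R B)) (x : B ⊗[R] N) :
    ∃ n : N, x = (1 : B) ⊗ₜ[R] n := by
  induction x using TensorProduct.induction_on with
  | zero => exact ⟨0, (tmul_zero _ _).symm⟩
  | tmul b n =>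
    obtain ⟨r, rfl⟩ := hs b
    refine ⟨r • n, ?_⟩
    rw [← smul_tmul, Algebra.smul_def, mul_one]
  | add x y hx hy =>
    obtain ⟨n, rfl⟩ := hx
    obtain ⟨n', rfl⟩ := hy
    exact ⟨n + n', (tmul_add _ _ _).symm⟩

/-- if `ker (R → B)` kills `N` then `n ↦ 1 ⊗ n` is injective -/
lemma one_tmul_injective (hs : Function.Surjective (algebraMap R B))
    (hI : ∀ r : R, algebraMap R B r = 0 → ∀ n : N, r • n = 0) (n : N)
    (h : (1 : B) ⊗ₜ[R] n = 0) : n = 0 := by
  -- B ≃ R ⧸ ker
  let I' : Submodule R R := LinearMap.ker (Algebra.linearMap R B)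
  let e : (R ⧸ I') ≃ₗ[R] B :=
    LinearMap.quotKerEquivOfSurjective (Algebra.linearMap R B) hs
  let μ : (R ⧸ I') →ₗ[R] N →ₗ[R] N := Submodule.liftQ I' (LinearMap.lsmul R N) (by
    intro r hr
    rw [LinearMap.mem_ker] at hr ⊢
    ext n
    exact hI r hr n)
  let lam : B ⊗[R] N →ₗ[R] N := TensorProduct.lift (μ ∘ₗ e.symm.toLinearMap)
  have h1 : lam ((1 : B) ⊗ₜ[R] n) = n := by
    have : e.symm 1 = Submodule.Quotient.mk 1 := by
      rw [LinearEquiv.symm_apply_eq]
      change (1 : B) = Algebra.linearMap R B 1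
      rw [Algebra.linearMap_apply, map_one]
    simp only [lam, TensorProduct.lift.tmul, LinearMap.comp_apply, LinearEquiv.coe_coe, this, μ]
    rw [Submodule.liftQ_apply, LinearMap.lsmul_apply, one_smul]
  rw [← h1, h, map_zero]

/-- membership in a submodule containing `ker • ⊤` can be tested after base change -/
lemma mem_of_one_tmul_mem (hs : Function.Surjective (algebraMap R B)) (F0 : Submodule R N)
    (hI : ∀ r : R, algebraMap R B r = 0 → ∀ n : N, r • n ∈ F0) (q : N)
    (h : (1 : B) ⊗ₜ[R] q ∈ LinearMap.range (F0.subtype.baseChange B)) : q ∈ F0 := by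
  obtain ⟨w, hw⟩ := h
  have h1 : (F0.mkQ.baseChange B) ((F0.subtype.baseChange B) w) = 0 := by
    rw [← LinearMap.comp_apply, ← LinearMap.baseChange_comp]
    have : F0.mkQ ∘ₗ F0.subtype = 0 := by
      ext x; simp
    rw [this, LinearMap.baseChange_zero, LinearMap.zero_apply]
  rw [hw, LinearMap.baseChange_tmul] at h1
  have h2 := one_tmul_injective (N := N ⧸ F0) hs (fun r hr n => by
    obtain ⟨n, rfl⟩ := F0.mkQ_surjective n
    rw [← map_smul, Submodule.mkQ_apply, Submodule.Quotient.mk_eq_zero]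
    exact hI r hr n) _ h1
  exact (Submodule.Quotient.mk_eq_zero F0).1 h2


variable {F : Type w} [AddCommGroup F] [Module R F]

lemma exists_one_tmul' (hs : Function.Surjective (algebraMap R B)) (Q : Submodule R F)
    (x : B ⊗[R] Q) : ∃ n : Q, x = (1 : B) ⊗ₜ[R] n := by
  induction x using TensorProduct.induction_on with
  | zero => exact ⟨0, (tmul_zero _ _).symm⟩
  | tmul b n =>
    obtain ⟨r, rfl⟩ := hs b
    refine ⟨r • n, ?_⟩
    rw [← smul_tmul, Algebra.smul_def, mul_one]
  | add x y hx hy =>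
    obtain ⟨n, rfl⟩ := hx
    obtain ⟨n', rfl⟩ := hy
    exact ⟨n + n', (tmul_add _ _ _).symm⟩

lemma mem_of_one_tmul_mem' (hs : Function.Surjective (algebraMap R B)) (Q : Submodule R F)
    (F0 : Submodule R Q)
    (hI : ∀ r : R, algebraMap R B r = 0 → ∀ n : Q, r • n ∈ F0) (q : Q)
    (h : (1 : B) ⊗ₜ[R] q ∈ LinearMap.range (F0.subtype.baseChange B)) : q ∈ F0 :=
  mem_of_one_tmul_mem hs F0 hI q h

end TensKer

end Groth.Agent.Helper9.CotNine
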