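import Mathlib
import Groth.Prelude.Def_HTop2
import Groth.Agent.Lib.Helper9.UnivHomeo
open AlgebraicGeometry CategoryTheory MorphismProperty
universe u
namespace Groth.Agent.Helper9.UH

theorem universallyInjective_of_isUnivHomeo {X Y : Scheme.{u}} (f : X ⟶ Y)
    (h : FlatMor.IsUnivHomeo f) : UniversallyInjective f := by
  rw [universallyInjective_eq]
  refine universally_mono ?_ _ h
  intro X Y f hf
  exact (show IsHomeomorph f from hf).injective

section Ring
variable {A B : Type u} [CommRing A] [CommRing B] (φ : A →+* B)

set_option backward.isDefEq.respectTransparency.types false in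
/-- for a universally injective `Spec φ`, the residue field extensions are purely inseparable,
in the concrete form: some `e^n`-th power lies in the image of the residue field map. -/
theorem resmap_pow_mem_range (h : UniversallyInjective (Spec.map (CommRingCat.ofHom φ)))
    (y : PrimeSpectrum B) (x : y.asIdeal.ResidueField) :
    ∃ n : ℕ, x ^ ringExpChar (PrimeSpectrum.comap φ y).asIdeal.ResidueField ^ n ∈
      Set.range (Ideal.ResidueField.map (PrimeSpectrum.comap φ y).asIdeal y.asIdeal φ rfl) := by
  have htf := (tfae_universallyInjective (Spec.map (CommRingCat.ofHom φ))).out 0 2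
  have hpi := (htf.mp h).2 y
  have hsq := residueFieldMap_square (CommRingCat.ofHom φ) y
  rw [Iso.inv_comp_eq] at hsq
  let isoA := Scheme.Spec.residueFieldIso (CommRingCat.of A) ((Spec.map (CommRingCat.ofHom φ)) y)
  let isoB := Scheme.Spec.residueFieldIso (CommRingCat.of B) y
  let g := ((Spec.map (CommRingCat.ofHom φ)).residueFieldMap y).hom
  let _ : Algebra _ _ := g.toAlgebra
  have hpi' : IsPurelyInseparable
      ((Spec (CommRingCat.of A)).residueField ((Spec.map (CommRingCat.ofHom φ)) y))
      ((Spec (CommRingCat.of B)).residueField y) := hpi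
  have hexp : ExpChar ((Spec (CommRingCat.of A)).residueField ((Spec.map (CommRingCat.ofHom φ)) y))
      (ringExpChar (PrimeSpectrum.comap φ y).asIdeal.ResidueField) :=
    @expChar_of_injective_ringHom _ _ _ _ isoA.inv.hom (RingHom.injective _) _
      (ringExpChar.expChar (PrimeSpectrum.comap φ y).asIdeal.ResidueField)
  obtain ⟨n, w, hw⟩ := IsPurelyInseparable.pow_mem
    ((Spec (CommRingCat.of A)).residueField ((Spec.map (CommRingCat.ofHom φ)) y))
    (ringExpChar (PrimeSpectrum.comap φ y).asIdeal.ResidueField) (isoB.inv.hom x)
  refine ⟨n, isoA.hom.hom w, ?_⟩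
  have h1 := congrArg (fun k => k.hom w) hsq
  simp only [CommRingCat.hom_comp, RingHom.comp_apply] at h1
  have h2 : isoB.hom.hom (g w) = x ^ ringExpChar (PrimeSpectrum.comap φ y).asIdeal.ResidueField ^ n := by
    have : g w = (isoB.inv.hom x) ^ ringExpChar (PrimeSpectrum.comap φ y).asIdeal.ResidueField ^ n := hw
    rw [this, map_pow]
    congr 1
    exact congrArg (fun k => k.hom x) isoB.inv_hom_id
  rw [← h2]
  exact h1.symm

end Ring

end Groth.Agent.Helper9.UH
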