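import Mathlib

/-!
Short exact sequences ending in a flat module are pure; kernels of surjections between flat
modules are flat; products of flat modules are flat.
-/

set_option autoImplicit false

universe u v

open TensorProduct

namespace Groth.Agent.Helper9

section

variable {R : Type u} [CommRing R]
variable {K F Q : Type*} [AddCommGroup K] [Module R K] [AddCommGroup F] [Module R F]
  [AddCommGroup Q] [Module R Q]

/-- Purity: if `0 → K → F → Q → 0` is exact with `Q` flat then `K ⊗ N → F ⊗ N` is injective
for every module `N`. -/
theorem rTensor_injective_of_exact_of_flat (f : K →ₗ[R] F) (g : F →ₗ[R] Q)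
    (hf : Function.Injective f) (hfg : Function.Exact f g) (hg : Function.Surjective g)
    [Module.Flat R Q] (N : Type*) [AddCommGroup N] [Module R N] :
    Function.Injective (f.rTensor N) := by
  rw [injective_iff_map_eq_zero]
  intro x hx
  -- free presentation of N
  let P := N →₀ R
  let p : P →ₗ[R] N := Finsupp.linearCombination R id
  have hp : Function.Surjective p := Finsupp.linearCombination_id_surjective R N
  let L := LinearMap.ker p
  let i : L →ₗ[R] P := L.subtype
  have hip : Function.Exact i p := LinearMap.exact_subtype_ker_map p
  have hi : Function.Injective i := L.injective_subtype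
  -- lift x
  obtain ⟨y, rfl⟩ := LinearMap.lTensor_surjective K hp x
  have hy' : (p.lTensor F) (f.rTensor P y) = 0 := by
    rw [← LinearMap.comp_apply, LinearMap.lTensor_comp_rTensor, ← LinearMap.rTensor_comp_lTensor,
      LinearMap.comp_apply, hx]
  obtain ⟨z, hz⟩ := (lTensor_exact (M := L) (f := i) F hip hp _).mp hy'
  have hgz : (i.lTensor Q) (g.rTensor L z) = 0 := by
    rw [← LinearMap.comp_apply, LinearMap.lTensor_comp_rTensor, ← LinearMap.rTensor_comp_lTensor,
      LinearMap.comp_apply, hz, ← LinearMap.comp_apply, ← LinearMap.rTensor_comp,
      hfg.linearMap_comp_eq_zero, LinearMap.rTensor_zero, LinearMap.zero_apply]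
  have hgz' : g.rTensor L z = 0 :=
    (injective_iff_map_eq_zero _).mp
      (Module.Flat.lTensor_preserves_injective_linearMap i hi) _ hgz
  obtain ⟨w, hw⟩ := (rTensor_exact L hfg hg _).mp hgz'
  have hfP : Function.Injective (f.rTensor P) :=
    Module.Flat.rTensor_preserves_injective_linearMap f hf
  have hyw : i.lTensor K w = y := by
    apply hfP
    rw [← hz, ← hw, ← LinearMap.comp_apply, LinearMap.rTensor_comp_lTensor,
      ← LinearMap.lTensor_comp_rTensor, LinearMap.comp_apply]
  rw [← hyw, ← LinearMap.comp_apply, ← LinearMap.lTensor_comp, hip.linearMap_comp_eq_zero,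
    LinearMap.lTensor_zero, LinearMap.zero_apply]

theorem lTensor_injective_of_exact_of_flat (f : K →ₗ[R] F) (g : F →ₗ[R] Q)
    (hf : Function.Injective f) (hfg : Function.Exact f g) (hg : Function.Surjective g)
    [Module.Flat R Q] (N : Type*) [AddCommGroup N] [Module R N] :
    Function.Injective (f.lTensor N) :=
  (f.lTensor_inj_iff_rTensor_inj N).2 (rTensor_injective_of_exact_of_flat f g hf hfg hg N)

/-- The kernel of a surjection from a flat module onto a flat module is flat. -/
theorem flat_of_exact_of_flat (f : K →ₗ[R] F) (g : F →ₗ[R] Q)
    (hf : Function.Injective f) (hfg : Function.Exact f g) (hg : Function.Surjective g)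
    [Module.Flat R F] [Module.Flat R Q] : Module.Flat R K := by
  rw [Module.Flat.iff_rTensor_injective']
  intro I
  have h1 : Function.Injective (f.lTensor I) :=
    lTensor_injective_of_exact_of_flat f g hf hfg hg I
  have h2 : Function.Injective (I.subtype.rTensor F) :=
    Module.Flat.rTensor_preserves_injective_linearMap _ I.injective_subtype
  have h3 : (f.lTensor R) ∘ₗ (I.subtype.rTensor K) = (I.subtype.rTensor F) ∘ₗ (f.lTensor I) := by
    rw [LinearMap.lTensor_comp_rTensor, LinearMap.rTensor_comp_lTensor]
  have h4 : Function.Injective ((f.lTensor R) ∘ₗ (I.subtype.rTensor K)) := by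
    rw [h3]
    exact h2.comp h1
  exact Function.Injective.of_comp h4

end

section Prod

variable {R : Type u} [CommRing R]
variable {M N : Type*} [AddCommGroup M] [Module R M] [AddCommGroup N] [Module R N]

theorem flat_prod [Module.Flat R M] [Module.Flat R N] : Module.Flat R (M × N) := by
  rw [Module.Flat.iff_rTensor_injective']
  intro I
  have hM : Function.Injective (I.subtype.rTensor M) :=
    Module.Flat.rTensor_preserves_injective_linearMap _ I.injective_subtype
  have hN : Function.Injective (I.subtype.rTensor N) :=
    Module.Flat.rTensor_preserves_injective_linearMap _ I.injective_subtype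
  have key : (TensorProduct.prodRight R R R M N).toLinearMap ∘ₗ (I.subtype.rTensor (M × N)) =
      (LinearMap.prodMap (I.subtype.rTensor M) (I.subtype.rTensor N)) ∘ₗ
        (TensorProduct.prodRight R R I M N).toLinearMap := by
    apply TensorProduct.ext'
    intro a x
    simp
  have h4 : Function.Injective ((TensorProduct.prodRight R R R M N).toLinearMap ∘ₗ
      (I.subtype.rTensor (M × N))) := by
    rw [key]
    exact (Function.Injective.prodMap hM hN).comp (TensorProduct.prodRight R R I M N).injective
  exact Function.Injective.of_comp h4

end Prod

end Groth.Agent.Helper9
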