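import Mathlib

/-!
`dualTensorHom R M N : M* ⊗ N → Hom(M, N)` is bijective for `M` finitely presented and `N` flat.
-/

set_option autoImplicit false

namespace Groth.Agent.Helper9

open TensorProduct

universe u v w

section
variable (R : Type u) [CommRing R] (M : Type v) [AddCommGroup M] [Module R M]
  (N : Type w) [AddCommGroup N] [Module R N]

lemma dualTensorHom_rTensor_dualMap {M' : Type*} [AddCommGroup M'] [Module R M']
    (f : M' →ₗ[R] M) (x : Module.Dual R M ⊗[R] N) :
    dualTensorHom R M' N (f.dualMap.rTensor N x) = (dualTensorHom R M N x) ∘ₗ f := by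
  induction x using TensorProduct.induction_on with
  | zero => simp
  | tmul φ n =>
    apply LinearMap.ext
    intro m
    simp
  | add x y hx hy => rw [map_add, map_add, hx, hy, map_add, LinearMap.add_comp]

theorem dualTensorHom_bijective_of_fp_flat [Module.FinitePresentation R M] [Module.Flat R N] :
    Function.Bijective (dualTensorHom R M N) := by
  obtain ⟨n, m, f, g, hf, hgf⟩ := Module.FinitePresentation.exists_fin' R M
  have hfg : f ∘ₗ g = 0 := hgf.linearMap_comp_eq_zero
  have hinj : Function.Injective f.dualMap := LinearMap.dualMap_injective_of_surjective hf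
  have hexact : Function.Exact f.dualMap g.dualMap := by
    rw [LinearMap.exact_iff, LinearMap.ker_dualMap_eq_dualAnnihilator_range,
      LinearMap.range_dualMap_eq_dualAnnihilator_ker_of_surjective f hf,
      (LinearMap.exact_iff.mp hgf)]
  have bF : Function.Bijective (dualTensorHom R (Fin n → R) N) := dualTensorHom_bijective ..
  have bG : Function.Bijective (dualTensorHom R (Fin m → R) N) := dualTensorHom_bijective ..
  constructor
  · intro x x' h
    have h1 : f.dualMap.rTensor N x = f.dualMap.rTensor N x' :=
      bF.1 (by rw [dualTensorHom_rTensor_dualMap, dualTensorHom_rTensor_dualMap, h])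
    exact (Module.Flat.rTensor_preserves_injective_linearMap _ hinj) h1
  · intro h
    obtain ⟨y, hy⟩ := bF.2 (h ∘ₗ f)
    have hy0 : g.dualMap.rTensor N y = 0 := by
      apply bG.1
      rw [dualTensorHom_rTensor_dualMap, hy, map_zero, LinearMap.comp_assoc, hfg,
        LinearMap.comp_zero]
    have hex2 := Module.Flat.rTensor_exact N hexact
    obtain ⟨x, hx⟩ := (hex2 y).mp hy0
    refine ⟨x, ?_⟩
    apply LinearMap.ext
    intro m'
    obtain ⟨u, rfl⟩ := hf m'
    have h3 := dualTensorHom_rTensor_dualMap R M N f x
    rw [hx, hy] at h3
    exact (LinearMap.congr_fun h3 u).symm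

end

end Groth.Agent.Helper9
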