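import Mathlib
import Groth.Prelude.Def_HopfRep
import Groth.Prelude.Def_ComodTens
import Groth.Prelude.Def_ComodDual
import Groth.Prelude.Def_Hoch
import Groth.Agent.Lib.Helper9.DualTensorFlat

/-!
Invariants of `B ⊗ M^*` are the comodule maps `M → B`.
-/

set_option autoImplicit false

namespace Groth.Agent.Helper9.HomComod

open TensorProduct

universe u v w w'

section ConvAction

variable {k : Type u} [CommRing k] {A : Type v} [CommRing A] [HopfAlgebra k A]
variable {B : Type w} [AddCommGroup B] [Module k B]
variable {M : Type w'} [AddCommGroup M] [Module k M]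

variable (k A B) in
/-- right multiplication of `A` on `B ⊗ A` -/
noncomputable def rmul : (B ⊗[k] A) ⊗[k] A →ₗ[k] B ⊗[k] A :=
  (LinearMap.mul' k A).lTensor B ∘ₗ (TensorProduct.assoc k B A A).toLinearMap

@[simp] lemma rmul_tmul (b : B) (a a' : A) :
    rmul k A B ((b ⊗ₜ[k] a) ⊗ₜ[k] a') = b ⊗ₜ[k] (a * a') := by
  simp [rmul]

lemma rmul_tmul_one (z : B ⊗[k] A) : rmul k A B (z ⊗ₜ[k] (1 : A)) = z := by
  induction z using TensorProduct.induction_on with
  | zero => simp
  | tmul b a => simp
  | add x y hx hy => rw [TensorProduct.add_tmul, map_add, hx, hy]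

lemma rmul_rmul :
    rmul k A B ∘ₗ (rmul k A B).rTensor A =
      rmul k A B ∘ₗ (LinearMap.mul' k A).lTensor (B ⊗[k] A) ∘ₗ
        (TensorProduct.assoc k (B ⊗[k] A) A A).toLinearMap := by
  ext b a a' a''
  simp [mul_assoc]

/-- convolution action of `Hom(A, A)` on `Hom(M, B ⊗ A)` -/
noncomputable def star (cM : HopfRep.Comod k A M) (F : M →ₗ[k] B ⊗[k] A) (g : A →ₗ[k] A) :
    M →ₗ[k] B ⊗[k] A :=
  rmul k A B ∘ₗ TensorProduct.map F g ∘ₗ cM.coact

/-- convolution product on `Hom(A, A)` -/
noncomputable def convA (g g' : A →ₗ[k] A) : A →ₗ[k] A :=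
  LinearMap.mul' k A ∘ₗ TensorProduct.map g g' ∘ₗ CoalgebraStruct.comul (R := k) (A := A)

lemma star_star (cM : HopfRep.Comod k A M) (F : M →ₗ[k] B ⊗[k] A) (g g' : A →ₗ[k] A) :
    star cM (star cM F g) g' = star cM F (convA g g') := by
  apply LinearMap.ext
  intro m
  have hco := LinearMap.congr_fun cM.coassoc m
  simp only [LinearMap.comp_apply, LinearEquiv.coe_coe] at hco
  simp only [star, convA, LinearMap.comp_apply]
  -- LHS
  have e1 : ∀ y : M ⊗[k] A, TensorProduct.map (rmul k A B ∘ₗ TensorProduct.map F g ∘ₗ cM.coact) g' y =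
      (rmul k A B).rTensor A (TensorProduct.map (TensorProduct.map F g) g' (cM.coact.rTensor A y)) := by
    intro y
    induction y using TensorProduct.induction_on with
    | zero => simp
    | tmul m a => simp
    | add x y hx hy => simp only [map_add, hx, hy]
  have e2 : ∀ y : M ⊗[k] A,
      TensorProduct.map F (LinearMap.mul' k A ∘ₗ TensorProduct.map g g' ∘ₗ
        CoalgebraStruct.comul (R := k) (A := A)) y =
      (LinearMap.mul' k A).lTensor (B ⊗[k] A) (TensorProduct.map F (TensorProduct.map g g')
        ((CoalgebraStruct.comul (R := k) (A := A)).lTensor M y)) := by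
    intro y
    induction y using TensorProduct.induction_on with
    | zero => simp
    | tmul m a => simp
    | add x y hx hy => simp only [map_add, hx, hy]
  have e3 : ∀ w : (M ⊗[k] A) ⊗[k] A,
      TensorProduct.map F (TensorProduct.map g g') (TensorProduct.assoc k M A A w) =
        TensorProduct.assoc k (B ⊗[k] A) A A (TensorProduct.map (TensorProduct.map F g) g' w) := by
    intro w
    induction w using TensorProduct.induction_on with
    | zero => simp
    | tmul y a =>
      induction y using TensorProduct.induction_on with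
      | zero => simp
      | tmul m a' => simp
      | add x y hx hy => simp only [TensorProduct.add_tmul, map_add, hx, hy]
    | add x y hx hy => simp only [map_add, hx, hy]
  rw [e1, e2, ← hco, e3]
  have h4 := LinearMap.congr_fun (rmul_rmul (k := k) (A := A) (B := B))
    (TensorProduct.map (TensorProduct.map F g) g' (cM.coact.rTensor A (cM.coact m)))
  simpa only [LinearMap.comp_apply, LinearEquiv.coe_coe] using h4

lemma star_unit (cM : HopfRep.Comod k A M) (F : M →ₗ[k] B ⊗[k] A) :
    star cM F (Algebra.linearMap k A ∘ₗ CoalgebraStruct.counit (R := k) (A := A)) = F := by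
  apply LinearMap.ext
  intro m
  have hcu := LinearMap.congr_fun cM.counit_comp m
  simp only [LinearMap.comp_apply, LinearMap.flip_apply, TensorProduct.mk_apply] at hcu
  simp only [star, LinearMap.comp_apply]
  have e1 : ∀ y : M ⊗[k] A, rmul k A B (TensorProduct.map F
      (Algebra.linearMap k A ∘ₗ CoalgebraStruct.counit (R := k) (A := A)) y) =
      F (TensorProduct.rid k M ((CoalgebraStruct.counit (R := k) (A := A)).lTensor M y)) := by
    intro y
    induction y using TensorProduct.induction_on with
    | zero => simp
    | tmul m a =>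
      simp only [TensorProduct.map_tmul, LinearMap.comp_apply, Algebra.linearMap_apply,
        LinearMap.lTensor_tmul, TensorProduct.rid_tmul, map_smul]
      rw [Algebra.algebraMap_eq_smul_one, TensorProduct.tmul_smul, map_smul, rmul_tmul_one]
    | add x y hx hy => simp only [map_add, hx, hy]
  rw [e1, hcu]
  simp

lemma convA_id_antipode :
    convA (LinearMap.id : A →ₗ[k] A) (HopfAlgebraStruct.antipode (R := k) (A := A)) =
      Algebra.linearMap k A ∘ₗ CoalgebraStruct.counit (R := k) (A := A) := by
  apply LinearMap.ext
  intro a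
  simp only [convA, LinearMap.comp_apply]
  have := HopfAlgebra.mul_antipode_lTensor_comul_apply (R := k) a
  simpa [LinearMap.lTensor] using this

lemma convA_antipode_id :
    convA (HopfAlgebraStruct.antipode (R := k) (A := A)) (LinearMap.id : A →ₗ[k] A) =
      Algebra.linearMap k A ∘ₗ CoalgebraStruct.counit (R := k) (A := A) := by
  apply LinearMap.ext
  intro a
  simp only [convA, LinearMap.comp_apply]
  have := HopfAlgebra.mul_antipode_rTensor_comul_apply (R := k) a
  simpa [LinearMap.rTensor] using this

/-- `m ↦ h m ⊗ 1` -/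
noncomputable def unitR (h : M →ₗ[k] B) : M →ₗ[k] B ⊗[k] A :=
  (TensorProduct.mk k B A).flip 1 ∘ₗ h

lemma star_unitR_id (cM : HopfRep.Comod k A M) (h : M →ₗ[k] B) :
    star cM (unitR (A := A) h) LinearMap.id = h.rTensor A ∘ₗ cM.coact := by
  apply LinearMap.ext
  intro m
  simp only [star, LinearMap.comp_apply]
  generalize cM.coact m = y
  induction y using TensorProduct.induction_on with
  | zero => simp
  | tmul m a => simp [unitR]
  | add x y hx hy => simp only [map_add, hx, hy]

/-- A linear map is a comodule map iff it satisfies the invariance equation. -/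
theorem comodHom_iff_star (cM : HopfRep.Comod k A M) (cB : HopfRep.Comod k A B) (h : M →ₗ[k] B) :
    cB.coact ∘ₗ h = h.rTensor A ∘ₗ cM.coact ↔
      star cM (cB.coact ∘ₗ h) (HopfAlgebraStruct.antipode (R := k) (A := A)) = unitR h := by
  constructor
  · intro hh
    rw [hh, ← star_unitR_id, star_star, convA_id_antipode, star_unit]
  · intro hh
    rw [← star_unitR_id, ← hh, star_star, convA_antipode_id, star_unit]

end ConvAction

end Groth.Agent.Helper9.HomComod
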