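import Mathlib
import Groth.Agent.Lib.Helper9.HomComod

/-!
Invariants of `B ⊗ M^*` are the comodule maps `M → B` (continued).
-/

set_option autoImplicit false

namespace Groth.Agent.Helper9.HomComod

open TensorProduct

universe u v w w'

section Main

variable {k : Type u} [CommRing k] {A : Type v} [CommRing A] [HopfAlgebra k A]
variable {B : Type w} [AddCommGroup B] [Module k B]
variable {M : Type w'} [AddCommGroup M] [Module k M]

variable (k B M) in
/-- `b ⊗ φ ↦ (m ↦ φ m • b)` -/
noncomputable def ΦL : B ⊗[k] Module.Dual k M →ₗ[k] (M →ₗ[k] B) :=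
  dualTensorHom k M B ∘ₗ (TensorProduct.comm k B (Module.Dual k M)).toLinearMap

@[simp] lemma ΦL_tmul (b : B) (φ : Module.Dual k M) (m : M) : ΦL k B M (b ⊗ₜ[k] φ) m = φ m • b := by
  simp [ΦL]

variable (k B) in
/-- evaluation at `m` -/
noncomputable def evalAt (m : M) : B ⊗[k] Module.Dual k M →ₗ[k] B :=
  LinearMap.applyₗ m ∘ₗ ΦL k B M

@[simp] lemma evalAt_tmul (m : M) (b : B) (φ : Module.Dual k M) :
    evalAt k B m (b ⊗ₜ[k] φ) = φ m • b := by
  simp [evalAt]

/-- L1 -/
lemma evalAt_rTensor_tensor (m : M) (z : B ⊗[k] A) (w : Module.Dual k M ⊗[k] A) :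
    (evalAt k B m).rTensor A
      (TensorProduct.map LinearMap.id (LinearMap.mul' k A)
        (AlgebraTensorModule.tensorTensorTensorComm k k k k B A (Module.Dual k M) A (z ⊗ₜ[k] w))) =
      rmul k A B (z ⊗ₜ[k] dualTensorHom k M A w m) := by
  induction z using TensorProduct.induction_on with
  | zero => simp
  | tmul b a =>
    induction w using TensorProduct.induction_on with
    | zero => simp
    | tmul φ a' =>
      simp [TensorProduct.smul_tmul', TensorProduct.tmul_smul]
    | add x y hx hy =>
      simp only [TensorProduct.tmul_add, map_add, LinearMap.add_apply, hx, hy]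
  | add x y hx hy =>
    simp only [TensorProduct.add_tmul, map_add, hx, hy]

/-- L2 -/
lemma rmul_map_coact_ΦL (cB : HopfRep.Comod k A B) (b : B) (φ : Module.Dual k M)
    (y : M ⊗[k] A) :
    rmul k A B (TensorProduct.map (cB.coact ∘ₗ ΦL k B M (b ⊗ₜ[k] φ))
        (HopfAlgebraStruct.antipode (R := k) (A := A)) y) =
      rmul k A B (cB.coact b ⊗ₜ[k] TensorProduct.lid k A
        (TensorProduct.map φ (HopfAlgebraStruct.antipode (R := k) (A := A)) y)) := by
  induction y using TensorProduct.induction_on with
  | zero => simp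
  | tmul m a =>
    simp only [TensorProduct.map_tmul, LinearMap.comp_apply, ΦL_tmul, map_smul,
      TensorProduct.lid_tmul, TensorProduct.smul_tmul', TensorProduct.tmul_smul]
  | add x y hx hy =>
    simp only [map_add, TensorProduct.tmul_add, hx, hy]

/-- C2 -/
theorem evalAt_tensor_coact (cM : HopfRep.Comod k A M) (cB : HopfRep.Comod k A B)
    (d : HopfRep.Comod k A (Module.Dual k M)) (hd : ComodTens.Comod.IsDual cM d)
    (x : B ⊗[k] Module.Dual k M) (m : M) :
    (evalAt k B m).rTensor A ((ComodTens.Comod.tensor cB d).coact x) =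
      star cM (cB.coact ∘ₗ ΦL k B M x) (HopfAlgebraStruct.antipode (R := k) (A := A)) m := by
  induction x using TensorProduct.induction_on with
  | zero =>
    simp [star]
  | tmul b φ =>
    rw [ComodTens.tensor_coact_tmul, evalAt_rTensor_tensor, hd φ, ComodTens.dualCoactFun_apply]
    simp only [star, LinearMap.comp_apply]
    rw [rmul_map_coact_ΦL]
  | add x y hx hy =>
    rw [map_add, map_add, hx, hy]
    simp only [star, map_add, LinearMap.comp_add, LinearMap.comp_apply, TensorProduct.map_add_left,
      LinearMap.add_apply]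

/-- C1 -/
lemma evalAt_tmul_one (x : B ⊗[k] Module.Dual k M) (m : M) :
    (evalAt k B m).rTensor A (x ⊗ₜ[k] (1 : A)) = unitR (A := A) (ΦL k B M x) m := by
  simp [unitR, evalAt]

variable (k A B M) in
/-- reassociation `(B ⊗ M*) ⊗ A ≃ M* ⊗ (B ⊗ A)` -/
noncomputable def σ : (B ⊗[k] Module.Dual k M) ⊗[k] A ≃ₗ[k] Module.Dual k M ⊗[k] (B ⊗[k] A) :=
  (TensorProduct.congr (TensorProduct.comm k B (Module.Dual k M)) (LinearEquiv.refl k A)).trans
    (TensorProduct.assoc k (Module.Dual k M) B A)

lemma evalAt_rTensor_eq (y : (B ⊗[k] Module.Dual k M) ⊗[k] A) (m : M) :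
    (evalAt k B m).rTensor A y = dualTensorHom k M (B ⊗[k] A) (σ k A B M y) m := by
  induction y using TensorProduct.induction_on with
  | zero => simp
  | tmul x a =>
    induction x using TensorProduct.induction_on with
    | zero => simp
    | tmul b φ => simp [σ, TensorProduct.smul_tmul']
    | add x y hx hy => simp only [TensorProduct.add_tmul, map_add, LinearMap.add_apply, hx, hy]
  | add x y hx hy => simp only [map_add, LinearMap.add_apply, hx, hy]

/-- D -/
lemma eq_of_evalAt_eq [Module.FinitePresentation k M] [Module.Flat k B] [Module.Flat k A]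
    (y y' : (B ⊗[k] Module.Dual k M) ⊗[k] A)
    (h : ∀ m : M, (evalAt k B m).rTensor A y = (evalAt k B m).rTensor A y') : y = y' := by
  apply (σ k A B M).injective
  apply (dualTensorHom_bijective_of_fp_flat k M (B ⊗[k] A)).1
  apply LinearMap.ext
  intro m
  rw [← evalAt_rTensor_eq, ← evalAt_rTensor_eq, h m]

/-- fixed vectors of `B ⊗ M^*` correspond to comodule maps. -/
theorem mem_fixedPts_iff [Module.FinitePresentation k M] [Module.Flat k B] [Module.Flat k A]
    (cM : HopfRep.Comod k A M) (cB : HopfRep.Comod k A B)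
    (d : HopfRep.Comod k A (Module.Dual k M)) (hd : ComodTens.Comod.IsDual cM d)
    (x : B ⊗[k] Module.Dual k M) :
    x ∈ @HopfRep.fixedPts k A _ _ _ (B ⊗[k] Module.Dual k M) _ _ (ComodTens.Comod.tensor cB d) ↔
      cB.coact ∘ₗ ΦL k B M x = (ΦL k B M x).rTensor A ∘ₗ cM.coact := by
  rw [comodHom_iff_star]
  constructor
  · intro hx
    have hx' : (ComodTens.Comod.tensor cB d).coact x = x ⊗ₜ[k] (1 : A) := hx
    apply LinearMap.ext
    intro m
    rw [← evalAt_tensor_coact cM cB d hd, hx', evalAt_tmul_one]
  · intro hx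
    show (ComodTens.Comod.tensor cB d).coact x = x ⊗ₜ[k] (1 : A)
    apply eq_of_evalAt_eq
    intro m
    rw [evalAt_tensor_coact cM cB d hd, hx, evalAt_tmul_one]

lemma ΦL_bijective [Module.FinitePresentation k M] [Module.Flat k B] :
    Function.Bijective (ΦL k B M) := by
  have h1 := dualTensorHom_bijective_of_fp_flat k M B
  exact h1.comp (TensorProduct.comm k B (Module.Dual k M)).bijective

end Main

end Groth.Agent.Helper9.HomComod
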