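import Mathlib
import Groth.Prelude.Def_PP16

set_option autoImplicit false
universe u
open scoped TensorProduct

namespace Groth.Agent.Helper9.PPLib

section general
variable {R S : Type*} [CommRing R] [CommRing S]

lemma quot_map_surj_ker {F G : Type*} [FunLike F R S] [RingHomClass F R S]
    (f : F) (hf : Function.Surjective f) (𝔞 : Ideal R) (𝔟 : Ideal S)
    (h : 𝔞.map f = 𝔟) [FunLike G (R ⧸ 𝔞) (S ⧸ 𝔟)] [RingHomClass G (R ⧸ 𝔞) (S ⧸ 𝔟)] (g : G)
    (hg : ∀ x, g (Ideal.Quotient.mk 𝔞 x) = Ideal.Quotient.mk 𝔟 (f x)) :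
    Function.Surjective g ∧ RingHom.ker g = (RingHom.ker f).map (Ideal.Quotient.mk 𝔞) := by
  constructor
  · intro y
    obtain ⟨y, rfl⟩ := Ideal.Quotient.mk_surjective y
    obtain ⟨x, rfl⟩ := hf y
    exact ⟨Ideal.Quotient.mk 𝔞 x, hg x⟩
  · apply le_antisymm
    · intro x hx
      obtain ⟨x, rfl⟩ := Ideal.Quotient.mk_surjective x
      rw [RingHom.mem_ker, hg, Ideal.Quotient.eq_zero_iff_mem, ← h] at hx
      obtain ⟨z, hz, hzx⟩ := (Ideal.mem_map_iff_of_surjective f hf).1 hx
      have h1 : x - z ∈ RingHom.ker f := by simp [RingHom.mem_ker, hzx]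
      have h2 : Ideal.Quotient.mk 𝔞 x = Ideal.Quotient.mk 𝔞 (x - z) := by
        rw [map_sub, Ideal.Quotient.eq_zero_iff_mem.2 hz, sub_zero]
      rw [h2]
      exact Ideal.mem_map_of_mem _ h1
    · rw [Ideal.map_le_iff_le_comap]
      intro x hx
      rw [Ideal.mem_comap, RingHom.mem_ker, hg, RingHom.mem_ker.1 hx, map_zero]

lemma map_map_comm {T U : Type*} [CommRing T] [CommRing U] {F G H K : Type*}
    [FunLike F R S] [RingHomClass F R S] [FunLike G S U] [RingHomClass G S U]
    [FunLike H R T] [RingHomClass H R T] [FunLike K T U] [RingHomClass K T U]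
    (f : F) (g : G) (h : H) (k : K) (I : Ideal R) (hc : ∀ x, g (f x) = k (h x)) :
    (I.map f).map g = (I.map h).map k := by
  apply le_antisymm
  · rw [Ideal.map_le_iff_le_comap, Ideal.map_le_iff_le_comap]
    intro x hx
    rw [Ideal.mem_comap, Ideal.mem_comap, hc]
    exact Ideal.mem_map_of_mem _ (Ideal.mem_map_of_mem _ hx)
  · rw [Ideal.map_le_iff_le_comap, Ideal.map_le_iff_le_comap]
    intro x hx
    rw [Ideal.mem_comap, Ideal.mem_comap, ← hc]
    exact Ideal.mem_map_of_mem _ (Ideal.mem_map_of_mem _ hx)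

end general

section pp
variable (n : ℕ) (A B A' B' : Type u) [CommRing A] [CommRing B] [Algebra A B]
  [CommRing A'] [CommRing B'] [Algebra A' B'] [Algebra A A'] [Algebra B B'] [Algebra A B']
  [IsScalarTower A A' B'] [IsScalarTower A B B']

lemma tensorMap_surjective (h : Function.Surjective (algebraMap B B')) :
    Function.Surjective (PP16.tensorMap A B A' B') := by
  intro y
  induction y using TensorProduct.induction_on with
  | zero => exact ⟨0, map_zero _⟩
  | tmul b c =>
    obtain ⟨b, rfl⟩ := h b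
    obtain ⟨c, rfl⟩ := h c
    exact ⟨b ⊗ₜ c, PP16.tensorMap_tmul A B A' B' b c⟩
  | add x y hx hy =>
    obtain ⟨x, rfl⟩ := hx
    obtain ⟨y, rfl⟩ := hy
    exact ⟨x + y, map_add _ _ _⟩

lemma ideal_map_tensorMap_eq (h : Function.Surjective (algebraMap B B')) :
    (KaehlerDifferential.ideal A B).map (PP16.tensorMap A B A' B') =
      KaehlerDifferential.ideal A' B' := by
  apply le_antisymm (PP16.ideal_map_tensorMap_le A B A' B')
  rw [← KaehlerDifferential.span_range_eq_ideal, Ideal.span_le]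
  rintro _ ⟨s, rfl⟩
  obtain ⟨b, rfl⟩ := h s
  have h1 : (1 : B') ⊗ₜ[A'] algebraMap B B' b - algebraMap B B' b ⊗ₜ[A'] (1 : B') =
      PP16.tensorMap A B A' B' (1 ⊗ₜ b - b ⊗ₜ 1) := by
    rw [map_sub, PP16.tensorMap_tmul, PP16.tensorMap_tmul, map_one]
  change (1 : B') ⊗ₜ[A'] algebraMap B B' b - algebraMap B B' b ⊗ₜ[A'] (1 : B') ∈ _
  rw [h1]
  exact Ideal.mem_map_of_mem _ (KaehlerDifferential.one_smul_sub_smul_one_mem_ideal A b)

theorem map_surj_ker (h : Function.Surjective (algebraMap B B')) :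
    Function.Surjective (PP16.map n A B A' B') ∧
      RingHom.ker (PP16.map n A B A' B') =
        (RingHom.ker (PP16.tensorMap A B A' B')).map (Ideal.Quotient.mk _) :=
  quot_map_surj_ker (PP16.tensorMap A B A' B') (tensorMap_surjective A B A' B' h) _ _
    (by rw [Ideal.map_pow, ideal_map_tensorMap_eq A B A' B' h]) (PP16.map n A B A' B')
    (fun x => PP16.map_mk n A B A' B' x)

end pp


section tower
variable (n : ℕ) (A B C : Type u) [CommRing A] [CommRing B] [CommRing C]
    [Algebra A B] [Algebra B C] [Algebra A C] [IsScalarTower A B C]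

lemma tensorMap_eq_mapOfCompatibleSMul (x : C ⊗[A] C) :
    PP16.tensorMap A C B C x = TensorProduct.mapOfCompatibleSMul B A B C C x := by
  induction x using TensorProduct.induction_on with
  | zero => simp
  | tmul c e => simp [PP16.tensorMap_tmul]
  | add x y hx hy => simp only [map_add, hx, hy]

lemma smul_eq_tmul_mul (b : B) (x : C ⊗[A] C) :
    b • x = (algebraMap B C b ⊗ₜ[A] (1 : C)) * x := by
  induction x using TensorProduct.induction_on with
  | zero => simp
  | tmul c e =>
    rw [Algebra.TensorProduct.tmul_mul_tmul, one_mul, TensorProduct.smul_tmul',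
      Algebra.smul_def]
  | add x y ih₁ ih₂ => rw [smul_add, mul_add, ih₁, ih₂]

lemma ker_tensorMap_tower :
    RingHom.ker (PP16.tensorMap A C B C) =
      (KaehlerDifferential.ideal A B).map (PP16.tensorMap A B A C) := by
  apply le_antisymm
  · intro x hx
    rw [RingHom.mem_ker, tensorMap_eq_mapOfCompatibleSMul] at hx
    have hx' : x ∈ LinearMap.ker (TensorProduct.mapOfCompatibleSMul B A B C C) := hx
    rw [TensorProduct.AlgebraTensorModule.ker_mapOfCompatibleSMul] at hx'
    have key : ∀ (b : B) (m k : C), (b • m) ⊗ₜ[A] k - m ⊗ₜ[A] (b • k) ∈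
        (KaehlerDifferential.ideal A B).map (PP16.tensorMap A B A C) := by
      intro b m k
      have h1 : (b • m) ⊗ₜ[A] k - m ⊗ₜ[A] (b • k) =
          - ((m ⊗ₜ[A] k) * PP16.tensorMap A B A C (1 ⊗ₜ b - b ⊗ₜ 1)) := by
        rw [map_sub, PP16.tensorMap_tmul, PP16.tensorMap_tmul, map_one, mul_sub,
          Algebra.TensorProduct.tmul_mul_tmul, Algebra.TensorProduct.tmul_mul_tmul, mul_one,
          mul_one, Algebra.smul_def, Algebra.smul_def, mul_comm m, mul_comm k]
        ring
      rw [h1]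
      exact neg_mem (Ideal.mul_mem_left _ _ (Ideal.mem_map_of_mem _
        (KaehlerDifferential.one_smul_sub_smul_one_mem_ideal A b)))
    refine Submodule.span_induction ?_ ?_ ?_ ?_ hx'
    · rintro _ ⟨b, m, k, rfl⟩
      exact key b m k
    · exact zero_mem _
    · intro x y _ _ hx hy
      exact add_mem hx hy
    · intro b x _ hx
      rw [smul_eq_tmul_mul]
      exact Ideal.mul_mem_left _ _ hx
  · rw [Ideal.map_le_iff_le_comap, ← KaehlerDifferential.span_range_eq_ideal, Ideal.span_le]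
    rintro _ ⟨b, rfl⟩
    change PP16.tensorMap A B A C ((1 : B) ⊗ₜ[A] b - b ⊗ₜ[A] (1 : B)) ∈ RingHom.ker _
    have h3 : algebraMap B C b ⊗ₜ[B] (1 : C) = 1 ⊗ₜ[B] algebraMap B C b := by
      rw [Algebra.algebraMap_eq_smul_one, TensorProduct.smul_tmul]
    rw [RingHom.mem_ker, map_sub, PP16.tensorMap_tmul, PP16.tensorMap_tmul, map_one, map_sub,
      PP16.tensorMap_tmul, PP16.tensorMap_tmul, map_one]
    simp [h3]

theorem tower_main :
    Function.Surjective (PP16.map n A C B C) ∧
      RingHom.ker (PP16.map n A C B C) = (PP16.augIdeal n A B).map (PP16.map n A B A C) := by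
  obtain ⟨h1, h2⟩ := map_surj_ker n A C B C (fun x => ⟨x, rfl⟩)
  refine ⟨h1, ?_⟩
  rw [h2, ker_tensorMap_tower, PP16.augIdeal]
  exact map_map_comm _ _ _ _ _ (fun x => (PP16.map_mk n A B A C x).symm)

end tower


section quot
variable (n : ℕ) (A B : Type u) [CommRing A] [CommRing B] [Algebra A B] (K : Ideal B)

lemma tensorMap_quot_eq (x : B ⊗[A] B) :
    PP16.tensorMap A B A (B ⧸ K) x =
      Algebra.TensorProduct.map (Ideal.Quotient.mkₐ A K) (Ideal.Quotient.mkₐ A K) x := by
  induction x using TensorProduct.induction_on with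
  | zero => simp
  | tmul c e => simp [PP16.tensorMap_tmul]
  | add x y hx hy => simp only [map_add, hx, hy]

lemma ker_tensorMap_quot :
    RingHom.ker (PP16.tensorMap A B A (B ⧸ K)) =
      K.map (Algebra.TensorProduct.includeLeft : B →ₐ[A] B ⊗[A] B) ⊔
        K.map (Algebra.TensorProduct.includeRight : B →ₐ[A] B ⊗[A] B) := by
  have h := Algebra.TensorProduct.map_ker (Ideal.Quotient.mkₐ A K) (Ideal.Quotient.mkₐ A K)
    (Ideal.Quotient.mkₐ_surjective A K) (Ideal.Quotient.mkₐ_surjective A K)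
  have hk : RingHom.ker (Ideal.Quotient.mkₐ A K) = K := by
    ext x
    rw [RingHom.mem_ker, Ideal.Quotient.mkₐ_eq_mk, Ideal.Quotient.eq_zero_iff_mem]
  rw [hk] at h
  rw [← h]
  ext x
  rw [RingHom.mem_ker, RingHom.mem_ker, tensorMap_quot_eq]

theorem quot_main :
    Function.Surjective (PP16.map n A B A (B ⧸ K)) ∧
      RingHom.ker (PP16.map n A B A (B ⧸ K)) =
        K.map (algebraMap B (PP16.P n A B)) ⊔ K.map (PP16.dn n A B) := by
  obtain ⟨h1, h2⟩ := map_surj_ker n A B A (B ⧸ K) Ideal.Quotient.mk_surjective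
  refine ⟨h1, ?_⟩
  rw [h2, ker_tensorMap_quot, Ideal.map_sup]
  congr 1
  · apply le_antisymm
    · rw [Ideal.map_le_iff_le_comap, Ideal.map_le_iff_le_comap]
      intro x hx
      exact Ideal.mem_map_of_mem (algebraMap B (PP16.P n A B)) hx
    · rw [Ideal.map_le_iff_le_comap]
      intro x hx
      exact Ideal.mem_map_of_mem _ (Ideal.mem_map_of_mem
        (Algebra.TensorProduct.includeLeft : B →ₐ[A] B ⊗[A] B) hx)
  · apply le_antisymm
    · rw [Ideal.map_le_iff_le_comap, Ideal.map_le_iff_le_comap]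
      intro x hx
      exact Ideal.mem_map_of_mem (PP16.dn n A B) hx
    · rw [Ideal.map_le_iff_le_comap]
      intro x hx
      exact Ideal.mem_map_of_mem _ (Ideal.mem_map_of_mem
        (Algebra.TensorProduct.includeRight : B →ₐ[A] B ⊗[A] B) hx)

end quot


section retraction
variable (n : ℕ) (A B : Type u) [CommRing A] [CommRing B] [Algebra A B] (g : B →ₐ[A] A)

/-- `b ⊗ c ↦ g(b) • c` -/
noncomputable def rho : B ⊗[A] B →ₐ[A] B :=
  Algebra.TensorProduct.lift ((Algebra.ofId A B).comp g) (AlgHom.id A B) (fun _ _ => Commute.all _ _)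

@[simp] lemma rho_tmul (b c : B) : rho A B g (b ⊗ₜ c) = algebraMap A B (g b) * c := by
  simp [rho, Algebra.ofId_apply]

lemma g_algebraMap (a : A) : g (algebraMap A B a) = a := by
  rw [g.commutes]; rfl

lemma sub_mem_ker (b : B) : b - algebraMap A B (g b) ∈ RingHom.ker g := by
  rw [RingHom.mem_ker, map_sub, g_algebraMap, sub_self]

lemma sub_rho_mem (x : B ⊗[A] B) :
    x - (1 : B) ⊗ₜ[A] rho A B g x ∈
      (RingHom.ker g).map (Algebra.TensorProduct.includeLeft : B →ₐ[A] B ⊗[A] B) := by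
  induction x using TensorProduct.induction_on with
  | zero => simp
  | tmul b c =>
    have h1 : b ⊗ₜ[A] c - (1 : B) ⊗ₜ[A] rho A B g (b ⊗ₜ c) =
        (Algebra.TensorProduct.includeLeft : B →ₐ[A] B ⊗[A] B) (b - algebraMap A B (g b)) *
          ((1 : B) ⊗ₜ[A] c) := by
      rw [rho_tmul, Algebra.TensorProduct.includeLeft_apply, Algebra.TensorProduct.tmul_mul_tmul,
        one_mul, mul_one, TensorProduct.sub_tmul, ← Algebra.smul_def, TensorProduct.tmul_smul,
        TensorProduct.smul_tmul', Algebra.smul_def, mul_one]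
    rw [h1]
    exact Ideal.mul_mem_right _ _ (Ideal.mem_map_of_mem _ (sub_mem_ker A B g b))
  | add x y hx hy =>
    have h1 : x + y - (1 : B) ⊗ₜ[A] rho A B g (x + y) =
        (x - (1 : B) ⊗ₜ[A] rho A B g x) + (y - (1 : B) ⊗ₜ[A] rho A B g y) := by
      rw [map_add, TensorProduct.tmul_add]; abel
    rw [h1]
    exact add_mem hx hy

lemma map_includeLeft_le_ker :
    (RingHom.ker g).map (Algebra.TensorProduct.includeLeft : B →ₐ[A] B ⊗[A] B) ≤
      RingHom.ker (rho A B g) := by
  rw [Ideal.map_le_iff_le_comap]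
  intro k hk
  rw [Ideal.mem_comap, RingHom.mem_ker, Algebra.TensorProduct.includeLeft_apply, rho_tmul,
    RingHom.mem_ker.1 hk, map_zero, zero_mul]

lemma ideal_map_rho : (KaehlerDifferential.ideal A B).map (rho A B g) = RingHom.ker g := by
  apply le_antisymm
  · rw [← KaehlerDifferential.span_range_eq_ideal, Ideal.map_span, Ideal.span_le]
    rintro _ ⟨_, ⟨b, rfl⟩, rfl⟩
    change rho A B g ((1 : B) ⊗ₜ[A] b - b ⊗ₜ[A] (1 : B)) ∈ RingHom.ker g
    rw [map_sub, rho_tmul, rho_tmul, map_one, map_one, one_mul, mul_one]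
    exact sub_mem_ker A B g b
  · intro k hk
    have h1 : k = rho A B g ((1 : B) ⊗ₜ[A] k - k ⊗ₜ[A] (1 : B)) := by
      rw [map_sub, rho_tmul, rho_tmul, map_one, map_one, one_mul, mul_one, RingHom.mem_ker.1 hk,
        map_zero, sub_zero]
    rw [h1]
    exact Ideal.mem_map_of_mem _ (KaehlerDifferential.one_smul_sub_smul_one_mem_ideal A k)

lemma rho_surjective : Function.Surjective (rho A B g) := fun b => ⟨1 ⊗ₜ b, by simp⟩

lemma algebraMap_P (b : B) :
    algebraMap B (PP16.P n A B) b = Ideal.Quotient.mk _ (b ⊗ₜ[A] (1 : B)) := rfl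

lemma dn_apply (b : B) :
    PP16.dn n A B b = Ideal.Quotient.mk _ ((1 : B) ⊗ₜ[A] b) := rfl

lemma map_mk_includeLeft_le :
    ((RingHom.ker g).map (Algebra.TensorProduct.includeLeft : B →ₐ[A] B ⊗[A] B)).map
      (Ideal.Quotient.mk (KaehlerDifferential.ideal A B ^ (n + 1))) ≤
      (RingHom.ker g).map (algebraMap B (PP16.P n A B)) := by
  rw [Ideal.map_le_iff_le_comap, Ideal.map_le_iff_le_comap]
  intro k hk
  exact Ideal.mem_map_of_mem (algebraMap B (PP16.P n A B)) hk

/-- `P^n → B/K^(n+1)` -/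
noncomputable def rhoBar : PP16.P n A B →+* B ⧸ (RingHom.ker g ^ (n + 1)) :=
  Ideal.Quotient.lift _ ((Ideal.Quotient.mk (RingHom.ker g ^ (n + 1))).comp (rho A B g).toRingHom)
    (by
      intro x hx
      rw [RingHom.comp_apply, Ideal.Quotient.eq_zero_iff_mem, ← ideal_map_rho A B g,
        ← Ideal.map_pow]
      exact Ideal.mem_map_of_mem _ hx)

lemma rhoBar_mk (x : B ⊗[A] B) :
    rhoBar n A B g (Ideal.Quotient.mk _ x) = Ideal.Quotient.mk _ (rho A B g x) := rfl

theorem retraction_main :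
    Function.Surjective ((Ideal.Quotient.mk ((RingHom.ker g).map
        (algebraMap B (PP16.P n A B)))).comp (PP16.dn n A B).toRingHom) ∧
      RingHom.ker ((Ideal.Quotient.mk ((RingHom.ker g).map (algebraMap B (PP16.P n A B)))).comp
        (PP16.dn n A B).toRingHom) = RingHom.ker g ^ (n + 1) := by
  constructor
  · intro y
    obtain ⟨y, rfl⟩ := Ideal.Quotient.mk_surjective y
    obtain ⟨x, rfl⟩ := Ideal.Quotient.mk_surjective y
    refine ⟨rho A B g x, ?_⟩
    rw [RingHom.comp_apply]
    symm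
    rw [Ideal.Quotient.eq]
    change Ideal.Quotient.mk _ x - Ideal.Quotient.mk _ ((1 : B) ⊗ₜ[A] rho A B g x) ∈ _
    rw [← map_sub]
    exact map_mk_includeLeft_le n A B g (Ideal.mem_map_of_mem _ (sub_rho_mem A B g x))
  · ext b
    rw [RingHom.mem_ker, RingHom.comp_apply, Ideal.Quotient.eq_zero_iff_mem]
    change PP16.dn n A B b ∈ _ ↔ _
    constructor
    · intro hb
      have h1 : (RingHom.ker g).map (algebraMap B (PP16.P n A B)) ≤
          RingHom.ker (rhoBar n A B g) := by
        rw [Ideal.map_le_iff_le_comap]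
        intro k hk
        rw [Ideal.mem_comap, RingHom.mem_ker, algebraMap_P, rhoBar_mk, rho_tmul,
          RingHom.mem_ker.1 hk, map_zero, zero_mul, map_zero]
      have h2 := h1 hb
      rw [RingHom.mem_ker, dn_apply, rhoBar_mk, rho_tmul, map_one, map_one, one_mul,
        Ideal.Quotient.eq_zero_iff_mem] at h2
      exact h2
    · intro hb
      rw [← ideal_map_rho A B g, ← Ideal.map_pow] at hb
      obtain ⟨z, hz, hzb⟩ := (Ideal.mem_map_iff_of_surjective _ (rho_surjective A B g)).1 hb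
      have h1 : PP16.dn n A B b = - Ideal.Quotient.mk (KaehlerDifferential.ideal A B ^ (n + 1))
          (z - (1 : B) ⊗ₜ[A] rho A B g z) := by
        rw [map_sub, Ideal.Quotient.eq_zero_iff_mem.2 hz, zero_sub, neg_neg, hzb, dn_apply]
      rw [h1]
      exact neg_mem (map_mk_includeLeft_le n A B g
        (Ideal.mem_map_of_mem _ (sub_rho_mem A B g z)))

end retraction

end Groth.Agent.Helper9.PPLib

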