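import Mathlib
import Groth.Prelude.Def_PP16
import Groth.Prelude.Def_DiffOp
import Groth.Agent.Lib.Helper9.PPLib

set_option autoImplicit false
universe u
open scoped TensorProduct

namespace Groth.Agent.Helper9.DiffOpLib

variable (A B : Type u) [CommRing A] [CommRing B] [Algebra A B]
variable (M N : Type u) [AddCommGroup M] [Module A M] [Module B M] [IsScalarTower A B M]
  [AddCommGroup N] [Module A N] [Module B N] [IsScalarTower A B N]

/-- `b ⊗ c ↦ (m ↦ b • D (c • m))` -/
noncomputable def Phi (D : M →ₗ[A] N) : B ⊗[A] B →ₗ[A] (M →ₗ[A] N) :=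
  TensorProduct.lift
    (LinearMap.mk₂ A (fun (b c : B) => (b • D) ∘ₗ ((LinearMap.lsmul B M c).restrictScalars A))
      (by intro b b' c; ext m; simp [add_smul])
      (by intro a b c; ext m; simp)
      (by intro b c c'; ext m; simp)
      (by
        intro a b c; ext m
        simp only [LinearMap.coe_comp, LinearMap.coe_restrictScalars, Function.comp_apply,
          LinearMap.lsmul_apply, LinearMap.smul_apply]
        rw [smul_assoc, map_smul, smul_comm]))

variable {A B M N}

@[simp] lemma Phi_tmul (D : M →ₗ[A] N) (b c : B) (m : M) :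
    Phi A B M N D (b ⊗ₜ c) m = b • D (c • m) := by
  simp [Phi]

lemma commutator_apply (D : M →ₗ[A] N) (b : B) (m : M) :
    Diff16.commutator A B M N D b m = D (b • m) - b • D m := by
  simp [Diff16.commutator]

lemma Phi_mul_gen (D : M →ₗ[A] N) (b : B) (x : B ⊗[A] B) :
    Phi A B M N D (x * ((1 : B) ⊗ₜ[A] b - b ⊗ₜ[A] (1 : B))) =
      Phi A B M N (Diff16.commutator A B M N D b) x := by
  induction x using TensorProduct.induction_on with
  | zero => simp
  | tmul p q =>
    ext m
    rw [mul_sub, Algebra.TensorProduct.tmul_mul_tmul, Algebra.TensorProduct.tmul_mul_tmul,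
      map_sub, LinearMap.sub_apply, Phi_tmul, Phi_tmul, Phi_tmul, commutator_apply, mul_one,
      mul_one, smul_sub, mul_smul, mul_smul, smul_comm q b m]
  | add x y hx hy => rw [add_mul, map_add, hx, hy, map_add]

lemma Phi_right_mul (D : M →ₗ[A] N) (b : B) (x : B ⊗[A] B) (m : M) :
    Phi A B M N D (((1 : B) ⊗ₜ[A] b) * x) m = Phi A B M N D x (b • m) := by
  induction x using TensorProduct.induction_on with
  | zero => simp
  | tmul p q =>
    rw [Algebra.TensorProduct.tmul_mul_tmul, Phi_tmul, Phi_tmul, one_mul, mul_comm, mul_smul]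
  | add x y hx hy => rw [mul_add, map_add, LinearMap.add_apply, hx, hy, map_add,
      LinearMap.add_apply]

lemma Phi_left_mul (D : M →ₗ[A] N) (b : B) (x : B ⊗[A] B) (m : M) :
    Phi A B M N D ((b ⊗ₜ[A] (1 : B)) * x) m = b • Phi A B M N D x m := by
  induction x using TensorProduct.induction_on with
  | zero => simp
  | tmul p q =>
    rw [Algebra.TensorProduct.tmul_mul_tmul, Phi_tmul, Phi_tmul, one_mul, mul_smul]
  | add x y hx hy => rw [mul_add, map_add, LinearMap.add_apply, hx, hy, map_add,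
      LinearMap.add_apply, smul_add]

/-- `Phi D` vanishes on `I^n` -/
def Q (n : ℕ) (D : M →ₗ[A] N) : Prop :=
  ∀ x ∈ KaehlerDifferential.ideal A B ^ n, Phi A B M N D x = 0

lemma Q_zero_iff (D : M →ₗ[A] N) : Q (B := B) 0 D ↔ D = 0 := by
  constructor
  · intro h
    ext m
    have := h ((1 : B) ⊗ₜ[A] (1 : B)) (by simp)
    have h2 := LinearMap.congr_fun this m
    simpa using h2
  · rintro rfl x -
    induction x using TensorProduct.induction_on with
    | zero => simp
    | tmul p q => ext m; simp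
    | add x y hx hy => rw [map_add, hx, hy, add_zero]

lemma Q_succ_iff (n : ℕ) (D : M →ₗ[A] N) :
    Q (B := B) (n + 1) D ↔ ∀ b : B, Q (B := B) n (Diff16.commutator A B M N D b) := by
  constructor
  · intro h b x hx
    rw [← Phi_mul_gen]
    apply h
    rw [pow_succ]
    exact Ideal.mul_mem_mul hx (KaehlerDifferential.one_smul_sub_smul_one_mem_ideal A b)
  · intro h z hz
    rw [pow_succ] at hz
    refine Submodule.mul_induction_on hz ?_ ?_
    · intro x hx y hy
      rw [← KaehlerDifferential.span_range_eq_ideal] at hy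
      revert x
      refine Submodule.span_induction ?_ ?_ ?_ ?_ hy
      · rintro _ ⟨b, rfl⟩ x hx
        rw [Phi_mul_gen]
        exact h b x hx
      · intro x _
        rw [mul_zero, map_zero]
      · intro y₁ y₂ _ _ h₁ h₂ x hx
        rw [mul_add, map_add, h₁ x hx, h₂ x hx, add_zero]
      · intro w y' _ h' x hx
        rw [smul_eq_mul, ← mul_assoc]
        exact h' (x * w) (Ideal.mul_mem_right _ _ hx)
    · intro x y hx hy
      rw [map_add, hx, hy, add_zero]

theorem isDiffOpLE_iff_Q (n : ℕ) (D : M →ₗ[A] N) :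
    Diff16.IsDiffOpLE A B M N n D ↔ Q (B := B) (n + 1) D := by
  induction n generalizing D with
  | zero =>
    rw [Q_succ_iff]
    simp only [Diff16.IsDiffOpLE, Q_zero_iff]
    constructor
    · intro h b
      ext m
      rw [commutator_apply, h, sub_self, LinearMap.zero_apply]
    · intro h b m
      have := LinearMap.congr_fun (h b) m
      rw [commutator_apply, LinearMap.zero_apply, sub_eq_zero] at this
      exact this
  | succ n ih =>
    rw [Q_succ_iff]
    simp only [Diff16.IsDiffOpLE]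
    exact forall_congr' (fun b => ih _)

section mkPr
variable (A B) in
/-- the quotient map into the synonym `Pr` -/
noncomputable def mkPr (n : ℕ) : B ⊗[A] B →+* PP16.Pr n A B :=
  Ideal.Quotient.mk (KaehlerDifferential.ideal A B ^ (n + 1))

lemma mkPr_surjective (n : ℕ) : Function.Surjective (mkPr A B n) :=
  Ideal.Quotient.mk_surjective

lemma mkPr_eq_zero {n : ℕ} {x : B ⊗[A] B} (hx : x ∈ KaehlerDifferential.ideal A B ^ (n + 1)) :
    mkPr A B n x = 0 :=
  Ideal.Quotient.eq_zero_iff_mem.2 hx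

end mkPr

section descend
variable (n : ℕ) (D : M →ₗ[A] N) (hQ : Q (B := B) (n + 1) D)

/-- `Phi D` descended to `P^n` -/
noncomputable def PhiBar : PP16.P n A B →ₗ[A] (M →ₗ[A] N) :=
  (Submodule.liftQ ((KaehlerDifferential.ideal A B ^ (n + 1)).restrictScalars A) (Phi A B M N D)
    (fun x hx => hQ x hx)) ∘ₗ
    (Submodule.Quotient.restrictScalarsEquiv A (KaehlerDifferential.ideal A B ^ (n + 1))).symm.toLinearMap

lemma PhiBar_mk (x : B ⊗[A] B) :
    PhiBar n D hQ (Ideal.Quotient.mk _ x) = Phi A B M N D x := rfl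

/-- the additive bi-map `Pr → M → N` -/
noncomputable def fBi : PP16.Pr n A B →+ M →+ N :=
  (LinearMap.toAddMonoidHom' : (M →ₗ[A] N) →+ M →+ N).comp (PhiBar n D hQ).toAddMonoidHom

lemma fBi_mk (x : B ⊗[A] B) (m : M) :
    fBi n D hQ (mkPr A B n x) m = Phi A B M N D x m := rfl

/-- the factorization `P^n(M) → N` -/
noncomputable def uOf : PP16.PM n A B M →+ N :=
  TensorProduct.liftAddHom (fBi n D hQ) (by
    intro b p m
    obtain ⟨x, rfl⟩ := mkPr_surjective n p
    have h1 : (b • (mkPr A B n x)) = mkPr A B n (((1 : B) ⊗ₜ[A] b) * x) := rfl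
    rw [h1, fBi_mk, fBi_mk, Phi_right_mul])

lemma uOf_tmul (x : B ⊗[A] B) (m : M) :
    uOf n D hQ ((mkPr A B n x) ⊗ₜ[B] m) =
      Phi A B M N D x m := rfl

end descend

section main
variable (n : ℕ) (D : M →ₗ[A] N)

lemma smul_tmul_PM (b : B) (x : B ⊗[A] B) (m : M) :
    algebraMap B (PP16.P n A B) b •
      (((mkPr A B n x) ⊗ₜ[B] m) :
        PP16.PM n A B M) =
      ((mkPr A B n ((b ⊗ₜ[A] (1 : B)) * x))
        ⊗ₜ[B] m) := rfl

lemma tmul_right_PM (c : B) (m : M) :
    (((mkPr A B n ((1 : B) ⊗ₜ[A] c)) ⊗ₜ[B] m) :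
        PP16.PM n A B M) = (1 : PP16.Pr n A B) ⊗ₜ[B] (c • m) := by
  rw [← TensorProduct.smul_tmul]
  congr 1
  change _ = (PP16.dn n A B c : PP16.P n A B) * (1 : PP16.P n A B)
  rw [mul_one]
  rfl

lemma u_eq_Phi (u : PP16.PM n A B M →+ N)
    (h1 : ∀ (b : B) (t : PP16.PM n A B M), u (algebraMap B (PP16.P n A B) b • t) = b • u t)
    (h2 : ∀ m : M, u (PP16.dM n A B M m) = D m) (x : B ⊗[A] B) (m : M) :
    u ((mkPr A B n x) ⊗ₜ[B] m) =
      Phi A B M N D x m := by
  induction x using TensorProduct.induction_on with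
  | zero =>
    rw [map_zero, map_zero, LinearMap.zero_apply, TensorProduct.zero_tmul, map_zero]
  | tmul b c =>
    have h3 : b ⊗ₜ[A] c = (b ⊗ₜ[A] (1 : B)) * ((1 : B) ⊗ₜ[A] c) := by
      rw [Algebra.TensorProduct.tmul_mul_tmul, mul_one, one_mul]
    rw [h3, ← smul_tmul_PM, h1, tmul_right_PM]
    have h4 : ((1 : PP16.Pr n A B) ⊗ₜ[B] (c • m) : PP16.PM n A B M) =
        PP16.dM n A B M (c • m) := rfl
    rw [h4, h2, ← h3, Phi_tmul]
  | add x y hx hy =>
    rw [map_add, TensorProduct.add_tmul, map_add, hx, hy, map_add, LinearMap.add_apply]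

theorem main :
    Diff16.IsDiffOpLE A B M N n D ↔
      ∃! u : PP16.PM n A B M →+ N,
        (∀ (b : B) (t : PP16.PM n A B M), u (algebraMap B (PP16.P n A B) b • t) = b • u t) ∧
          ∀ m : M, u (PP16.dM n A B M m) = D m := by
  rw [isDiffOpLE_iff_Q]
  constructor
  · intro hQ
    refine ⟨uOf n D hQ, ⟨?_, ?_⟩, ?_⟩
    · intro b t
      induction t using TensorProduct.induction_on with
      | zero => rw [smul_zero, map_zero, smul_zero]
      | tmul p m =>
        obtain ⟨x, rfl⟩ := mkPr_surjective n p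
        rw [smul_tmul_PM, uOf_tmul, uOf_tmul, Phi_left_mul]
      | add t₁ t₂ h₁ h₂ => rw [smul_add, map_add, h₁, h₂, map_add, smul_add]
    · intro m
      have h4 : PP16.dM n A B M m =
          ((mkPr A B n ((1 : B) ⊗ₜ[A] (1 : B)))
            ⊗ₜ[B] m : PP16.PM n A B M) := rfl
      rw [h4, uOf_tmul, Phi_tmul, one_smul, one_smul]
    · rintro u' ⟨h1, h2⟩
      apply DFunLike.ext
      intro t
      induction t using TensorProduct.induction_on with
      | zero => rw [map_zero, map_zero]
      | tmul p m =>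
        obtain ⟨x, rfl⟩ := mkPr_surjective n p
        rw [u_eq_Phi n D u' h1 h2, uOf_tmul]
      | add t₁ t₂ h₁ h₂ => rw [map_add, map_add, h₁, h₂]
  · rintro ⟨u, ⟨h1, h2⟩, -⟩ x hx
    ext m
    rw [← u_eq_Phi n D u h1 h2, LinearMap.zero_apply]
    rw [mkPr_eq_zero hx, TensorProduct.zero_tmul, map_zero]

end main

end Groth.Agent.Helper9.DiffOpLib
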