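import Mathlib
import Groth.Prelude.Def_ArtFun2

/-! The tangent space `F(k[ε])` of a functor of Artin rings satisfying `H0` and `Hε` is a vector space
(helper9). -/

set_option autoImplicit false

universe u v

open CategoryTheory

namespace Groth.Agent.Lib.Helper9.TanStr

open ArtFun ArtFun.Art

variable {Λ : Type u} {k : Type u} [CommRing Λ] [Field k] [Algebra Λ k]

section Objects

variable (Λ k)
variable (M : Type u) [AddCommGroup M] [Module k M] [Module kᵐᵒᵖ M] [SMulCommClass k kᵐᵒᵖ M]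
  [IsCentralScalar k M] [Module Λ M] [IsScalarTower Λ k M] [IsScalarTower Λ kᵐᵒᵖ M]
  [Module.Finite k M]

/-- the object `k ⊕ M` -/
def tobj : Art Λ k :=
  { carrier := TrivSqZeroExt k M
    isLocalRing := isLocalRing_tsze k M
    isArtinianRing := isArtinianRing_tsze k M
    res := TrivSqZeroExt.fstHom Λ k M
    res_surjective := fun a => ⟨TrivSqZeroExt.inl a, rfl⟩ }

end Objects

example : dual Λ k = tobj Λ k k := rfl
example : dual2 Λ k = tobj Λ k (k × k) := rfl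

section Maps

variable {M N P : Type u}
  [AddCommGroup M] [Module k M] [Module kᵐᵒᵖ M] [SMulCommClass k kᵐᵒᵖ M]
  [IsCentralScalar k M] [Module Λ M] [IsScalarTower Λ k M] [IsScalarTower Λ kᵐᵒᵖ M]
  [Module.Finite k M]
  [AddCommGroup N] [Module k N] [Module kᵐᵒᵖ N] [SMulCommClass k kᵐᵒᵖ N]
  [IsCentralScalar k N] [Module Λ N] [IsScalarTower Λ k N] [IsScalarTower Λ kᵐᵒᵖ N]
  [Module.Finite k N]
  [AddCommGroup P] [Module k P] [Module kᵐᵒᵖ P] [SMulCommClass k kᵐᵒᵖ P]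
  [IsCentralScalar k P] [Module Λ P] [IsScalarTower Λ k P] [IsScalarTower Λ kᵐᵒᵖ P]
  [Module.Finite k P]

/-- the morphism `k ⊕ M → k ⊕ N` induced by a linear map -/
def tmap (f : M →ₗ[k] N) : tobj Λ k M ⟶ tobj Λ k N :=
  ⟨tszeMap f, AlgHom.ext fun _ => rfl⟩

lemma tmap_comp (f : M →ₗ[k] N) (g : N →ₗ[k] P) :
    (tmap f : tobj Λ k M ⟶ _) ≫ tmap g = tmap (g ∘ₗ f) :=
  Art.hom_ext (AlgHom.ext fun _ => rfl)

lemma tmap_id : (tmap (LinearMap.id : M →ₗ[k] M) : tobj Λ k M ⟶ _) = 𝟙 _ :=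
  Art.hom_ext (AlgHom.ext fun _ => rfl)

lemma tmap_toBase (f : M →ₗ[k] N) :
    (tmap f : tobj Λ k M ⟶ _) ≫ toBase (tobj Λ k N) = toBase (tobj Λ k M) := eq_toBase _

/-- `k ⊕ (M × N)` is the fibre product of `k ⊕ M` and `k ⊕ N` over `k` -/
theorem isFibreProd_prod :
    IsFibreProd (tmap (LinearMap.fst k M N) : tobj Λ k (M × N) ⟶ _) (tmap (LinearMap.snd k M N))
      (toBase (tobj Λ k M)) (toBase (tobj Λ k N)) where
  w := by rw [eq_toBase (_ ≫ toBase _), eq_toBase (tmap (LinearMap.snd k M N) ≫ toBase _)]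
  inj b₁ b₂ h₁ h₂ := by
    have e₁ : b₁.fst = b₂.fst := by have e := congrArg TrivSqZeroExt.fst h₁; exact e
    have e₂ : b₁.snd.1 = b₂.snd.1 := by have e := congrArg TrivSqZeroExt.snd h₁; exact e
    have e₃ : b₁.snd.2 = b₂.snd.2 := by have e := congrArg TrivSqZeroExt.snd h₂; exact e
    exact TrivSqZeroExt.ext e₁ (Prod.ext e₂ e₃)
  surj a' a'' h := by
    have h' : a'.fst = a''.fst := h
    exact ⟨(a'.fst, (a'.snd, a''.snd)), TrivSqZeroExt.ext rfl rfl, TrivSqZeroExt.ext h' rfl⟩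

end Maps

section Tangent

variable (F : Art Λ k ⥤ Type v)

lemma map_comp_app {X Y Z : Art Λ k} (f : X ⟶ Y) (g : Y ⟶ Z) (a : F.obj X) :
    F.map g (F.map f a) = F.map (f ≫ g) a := by
  rw [F.map_comp]; rfl

lemma map_id_app {X : Art Λ k} (a : F.obj X) : F.map (𝟙 X) a = a := by
  rw [F.map_id]; rfl

variable {F}
variable (h0 : H0 F) (h2 : Heps F)

include h0 h2 in
lemma pair_surj (x y : F.obj (dual Λ k)) :
    ∃ w : F.obj (dual2 Λ k), F.map pr₁ w = x ∧ F.map pr₂ w = y := by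
  haveI := h0.2
  obtain ⟨w, hw⟩ := (h2 pr₁ pr₂ isFibreProd_dual2).2 ⟨(x, y), Subsingleton.elim _ _⟩
  exact ⟨w, congrArg (fun t => t.1.1) hw, congrArg (fun t => t.1.2) hw⟩

include h2 in
lemma pair_inj (w w' : F.obj (dual2 Λ k)) (h₁ : F.map pr₁ w = F.map pr₁ w')
    (h₂ : F.map pr₂ w = F.map pr₂ w') : w = w' :=
  (h2 pr₁ pr₂ isFibreProd_dual2).1 (FibProd.ext h₁ h₂)

/-- the element of `F(k[ε₁,ε₂])` with given projections -/
noncomputable def pair (x y : F.obj (dual Λ k)) : F.obj (dual2 Λ k) :=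
  Classical.choose (pair_surj h0 h2 x y)

lemma pair_fst (x y : F.obj (dual Λ k)) : F.map pr₁ (pair h0 h2 x y) = x :=
  (Classical.choose_spec (pair_surj h0 h2 x y)).1

lemma pair_snd (x y : F.obj (dual Λ k)) : F.map pr₂ (pair h0 h2 x y) = y :=
  (Classical.choose_spec (pair_surj h0 h2 x y)).2

/-- addition on the tangent space -/
noncomputable def add (x y : F.obj (dual Λ k)) : F.obj (dual Λ k) := F.map plus (pair h0 h2 x y)

lemma add_eq_of (x y : F.obj (dual Λ k)) (w : F.obj (dual2 Λ k)) (hx : F.map pr₁ w = x)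
    (hy : F.map pr₂ w = y) : add h0 h2 x y = F.map plus w := by
  rw [add]
  congr 1
  apply pair_inj h2
  · rw [pair_fst, hx]
  · rw [pair_snd, hy]

/-- the transport principle: additions computed through a morphism into `k[ε₁,ε₂]` -/
lemma add_of_map {X : Art Λ k} (g : X ⟶ dual2 Λ k) (u : F.obj X) :
    add h0 h2 (F.map (g ≫ pr₁) u) (F.map (g ≫ pr₂) u) = F.map (g ≫ plus) u := by
  rw [add_eq_of h0 h2 _ _ (F.map g u) (map_comp_app F _ _ _) (map_comp_app F _ _ _), map_comp_app]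

/-- the zero tangent vector -/
noncomputable def zero : F.obj (dual Λ k) :=
  F.map (baseToDual : base Λ k ⟶ dual Λ k) (Classical.choice h0.1)

include h0 in
lemma zero_eq (x : F.obj (dual Λ k)) :
    F.map (toBase (dual Λ k) ≫ baseToDual) x = zero h0 := by
  haveI := h0.2
  rw [← map_comp_app, zero]
  congr 1
  exact Subsingleton.elim _ _

section Morphisms

variable (Λ k)

/-- swap the two `ε`s -/
def swap : dual2 Λ k ⟶ dual2 Λ k :=
  (tmap (LinearMap.prod (LinearMap.snd k k k) (LinearMap.fst k k k)) : tobj Λ k (k × k) ⟶ _)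

/-- `ε ↦ (cε₁, dε₂)` -/
def delta (c d : k) : dual Λ k ⟶ dual2 Λ k :=
  (tmap (LinearMap.prod (c • LinearMap.id) (d • LinearMap.id)) : tobj Λ k k ⟶ tobj Λ k (k × k))

/-- `εᵢ ↦ cεᵢ` -/
def scale2 (c : k) : dual2 Λ k ⟶ dual2 Λ k :=
  (tmap (c • LinearMap.id) : tobj Λ k (k × k) ⟶ _)

/-- `k[ε₁, ε₂, ε₃]` -/
abbrev dual3 : Art Λ k := tobj Λ k ((k × k) × k)

/-- forget `ε₃` -/
def p12 : dual3 Λ k ⟶ dual2 Λ k := (tmap (LinearMap.fst k (k × k) k) : tobj Λ k ((k × k) × k) ⟶ _)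

/-- the coordinate `ε₃` -/
def q3 : dual3 Λ k ⟶ dual Λ k := (tmap (LinearMap.snd k (k × k) k) : tobj Λ k ((k × k) × k) ⟶ _)

/-- forget `ε₁` -/
def p23 : dual3 Λ k ⟶ dual2 Λ k :=
  (tmap (LinearMap.prod ((LinearMap.snd k k k).comp (LinearMap.fst k (k × k) k))
    (LinearMap.snd k (k × k) k)) : tobj Λ k ((k × k) × k) ⟶ _)

/-- `(ε₁, ε₂, ε₃) ↦ (ε₁, ε₁, ε₂)` i.e. add the first two coordinates -/
def m12 : dual3 Λ k ⟶ dual2 Λ k :=
  (tmap (LinearMap.prod
    ((LinearMap.fst k k k + LinearMap.snd k k k).comp (LinearMap.fst k (k × k) k))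
    (LinearMap.snd k (k × k) k)) : tobj Λ k ((k × k) × k) ⟶ _)

/-- add the last two coordinates -/
def m23 : dual3 Λ k ⟶ dual2 Λ k :=
  (tmap (LinearMap.prod
    ((LinearMap.fst k k k).comp (LinearMap.fst k (k × k) k))
    ((LinearMap.snd k k k).comp (LinearMap.fst k (k × k) k) + LinearMap.snd k (k × k) k)) :
    tobj Λ k ((k × k) × k) ⟶ _)

variable {Λ k}

lemma isFibreProd_dual3 :
    IsFibreProd (p12 Λ k) (q3 Λ k) (toBase (dual2 Λ k)) (toBase (dual Λ k)) :=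
  isFibreProd_prod (Λ := Λ) (k := k) (M := k × k) (N := k)

lemma swap_pr₁ : swap Λ k ≫ pr₁ = pr₂ := Art.hom_ext (AlgHom.ext fun _ => rfl)
lemma swap_pr₂ : swap Λ k ≫ pr₂ = pr₁ := Art.hom_ext (AlgHom.ext fun _ => rfl)
lemma swap_plus : swap Λ k ≫ plus = plus :=
  Art.hom_ext (AlgHom.ext fun x => TrivSqZeroExt.ext rfl (add_comm _ _))

lemma delta_pr₁ (c d : k) : delta Λ k c d ≫ pr₁ = scale c := Art.hom_ext (AlgHom.ext fun _ => rfl)
lemma delta_pr₂ (c d : k) : delta Λ k c d ≫ pr₂ = scale d := Art.hom_ext (AlgHom.ext fun _ => rfl)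
lemma delta_plus (c d : k) : delta Λ k c d ≫ plus = scale (c + d) :=
  Art.hom_ext (AlgHom.ext fun x => TrivSqZeroExt.ext rfl (add_smul c d x.snd).symm)

lemma scale_one : (scale (1 : k) : dual Λ k ⟶ _) = 𝟙 _ :=
  Art.hom_ext (AlgHom.ext fun x => TrivSqZeroExt.ext rfl (one_smul k x.snd))

lemma scale_zero : (scale (0 : k) : dual Λ k ⟶ _) = toBase (dual Λ k) ≫ baseToDual :=
  Art.hom_ext (AlgHom.ext fun x => TrivSqZeroExt.ext rfl (zero_smul k x.snd))

lemma scale_mul (c d : k) : (scale (c * d) : dual Λ k ⟶ _) = scale d ≫ scale c :=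
  Art.hom_ext (AlgHom.ext fun x => TrivSqZeroExt.ext rfl (mul_smul c d x.snd))

lemma baseToDual_scale (c : k) : (baseToDual : base Λ k ⟶ dual Λ k) ≫ scale c = baseToDual :=
  Art.hom_ext (AlgHom.ext fun x => TrivSqZeroExt.ext rfl (smul_zero c))

lemma scale2_pr₁ (c : k) : scale2 Λ k c ≫ pr₁ = pr₁ ≫ scale c :=
  Art.hom_ext (AlgHom.ext fun _ => rfl)
lemma scale2_pr₂ (c : k) : scale2 Λ k c ≫ pr₂ = pr₂ ≫ scale c :=
  Art.hom_ext (AlgHom.ext fun _ => rfl)
lemma scale2_plus (c : k) : scale2 Λ k c ≫ plus = plus ≫ scale c :=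
  Art.hom_ext (AlgHom.ext fun x => TrivSqZeroExt.ext rfl (smul_add c x.snd.1 x.snd.2).symm)

lemma m12_pr₁ : m12 Λ k ≫ pr₁ = p12 Λ k ≫ plus := Art.hom_ext (AlgHom.ext fun _ => rfl)
lemma m12_pr₂ : m12 Λ k ≫ pr₂ = q3 Λ k := Art.hom_ext (AlgHom.ext fun _ => rfl)
lemma m23_pr₁ : m23 Λ k ≫ pr₁ = p12 Λ k ≫ pr₁ := Art.hom_ext (AlgHom.ext fun _ => rfl)
lemma m23_pr₂ : m23 Λ k ≫ pr₂ = p23 Λ k ≫ plus := Art.hom_ext (AlgHom.ext fun _ => rfl)
lemma p23_pr₁ : p23 Λ k ≫ pr₁ = p12 Λ k ≫ pr₂ := Art.hom_ext (AlgHom.ext fun _ => rfl)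
lemma p23_pr₂ : p23 Λ k ≫ pr₂ = q3 Λ k := Art.hom_ext (AlgHom.ext fun _ => rfl)
lemma m12_plus_eq : m12 Λ k ≫ plus = m23 Λ k ≫ plus :=
  Art.hom_ext (AlgHom.ext fun x => TrivSqZeroExt.ext rfl (add_assoc _ _ _))

end Morphisms

section Axioms

lemma add_comm' (x y : F.obj (dual Λ k)) : add h0 h2 x y = add h0 h2 y x := by
  have h := add_of_map h0 h2 (swap Λ k) (pair h0 h2 x y)
  rw [swap_pr₁, swap_pr₂, swap_plus, pair_fst, pair_snd] at h
  rw [h, add]

lemma add_smul' (c d : k) (x : F.obj (dual Λ k)) :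
    add h0 h2 (F.map (scale c) x) (F.map (scale d) x) = F.map (scale (c + d)) x := by
  have h := add_of_map h0 h2 (delta Λ k c d) x
  rwa [delta_pr₁, delta_pr₂, delta_plus] at h

lemma add_zero' (x : F.obj (dual Λ k)) : add h0 h2 x (zero h0) = x := by
  have h := add_smul' h0 h2 1 0 x
  rwa [scale_one, scale_zero, add_zero, scale_one, map_id_app, zero_eq h0] at h

lemma zero_add' (x : F.obj (dual Λ k)) : add h0 h2 (zero h0) x = x := by
  rw [add_comm', add_zero']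

lemma neg_add' (x : F.obj (dual Λ k)) : add h0 h2 (F.map (scale (-1)) x) x = zero h0 := by
  have h := add_smul' h0 h2 (-1) 1 x
  rwa [neg_add_cancel, scale_one, scale_zero, map_id_app, zero_eq h0] at h

lemma smul_add' (c : k) (x y : F.obj (dual Λ k)) :
    F.map (scale c) (add h0 h2 x y) = add h0 h2 (F.map (scale c) x) (F.map (scale c) y) := by
  have h := add_of_map h0 h2 (scale2 Λ k c) (pair h0 h2 x y)
  rw [scale2_pr₁, scale2_pr₂, scale2_plus, ← map_comp_app, ← map_comp_app, ← map_comp_app,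
    pair_fst, pair_snd] at h
  rw [h, add]

include h0 h2 in
lemma triple_surj (x y z : F.obj (dual Λ k)) : ∃ u : F.obj (dual3 Λ k),
    F.map (p12 Λ k) u = pair h0 h2 x y ∧ F.map (q3 Λ k) u = z := by
  haveI := h0.2
  obtain ⟨w, hw⟩ := (h2 (p12 Λ k) (q3 Λ k) isFibreProd_dual3).2
    ⟨(pair h0 h2 x y, z), Subsingleton.elim _ _⟩
  exact ⟨w, congrArg (fun t => t.1.1) hw, congrArg (fun t => t.1.2) hw⟩

lemma add_assoc' (x y z : F.obj (dual Λ k)) :
    add h0 h2 (add h0 h2 x y) z = add h0 h2 x (add h0 h2 y z) := by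
  obtain ⟨u, hu1, hu2⟩ := triple_surj h0 h2 x y z
  have hx : F.map (p12 Λ k ≫ pr₁) u = x := by rw [← map_comp_app, hu1, pair_fst]
  have hy : F.map (p12 Λ k ≫ pr₂) u = y := by rw [← map_comp_app, hu1, pair_snd]
  have h1 := add_of_map h0 h2 (m12 Λ k) u
  rw [m12_pr₁, m12_pr₂, ← map_comp_app, hu1, hu2] at h1
  have h23 : F.map (p23 Λ k) u = pair h0 h2 y z := by
    apply pair_inj h2
    · rw [map_comp_app, p23_pr₁, hy, pair_fst]
    · rw [map_comp_app, p23_pr₂, hu2, pair_snd]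
  have h3 := add_of_map h0 h2 (m23 Λ k) u
  rw [m23_pr₁, m23_pr₂, hx, ← map_comp_app (F := F) (p23 Λ k), h23] at h3
  change add h0 h2 (F.map plus (pair h0 h2 x y)) z = add h0 h2 x (F.map plus (pair h0 h2 y z))
  rw [h1, h3, m12_plus_eq]

/-- the additive group structure on the tangent space -/
noncomputable def addCommGroup : AddCommGroup (F.obj (dual Λ k)) :=
  letI : Add (F.obj (dual Λ k)) := ⟨add h0 h2⟩
  letI : Zero (F.obj (dual Λ k)) := ⟨zero h0⟩
  letI : Neg (F.obj (dual Λ k)) := ⟨fun x => F.map (scale (-1)) x⟩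
  { AddGroup.ofLeftAxioms (add_assoc' h0 h2) (zero_add' h0 h2) (neg_add' h0 h2) with
    add_comm := add_comm' h0 h2 }

/-- the vector space structure on the tangent space -/
noncomputable def module : @Module k (F.obj (dual Λ k)) _ (addCommGroup h0 h2).toAddCommMonoid :=
  letI := addCommGroup h0 h2
  letI : SMul k (F.obj (dual Λ k)) := ⟨fun c x => F.map (scale c) x⟩
  Module.ofMinimalAxioms (fun c x y => smul_add' h0 h2 c x y)
    (fun c d x => (add_smul' h0 h2 c d x).symm)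
    (fun c d x => by
      change F.map (scale (c * d)) x = F.map (scale c) (F.map (scale d) x)
      rw [scale_mul, map_comp_app])
    (fun x => by
      change F.map (scale 1) x = x
      rw [scale_one, map_id_app])

/-- the tangent structure -/
noncomputable def tangentStr : TangentStr F where
  addCommGroup := addCommGroup h0 h2
  module := module h0 h2
  smul_eq _ _ := rfl
  add_eq z := add_eq_of h0 h2 _ _ z rfl rfl

end Axioms

end Tangent

end Groth.Agent.Lib.Helper9.TanStr
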