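import Mathlib
import Groth.Prelude.Def_Exal
import Groth.Prelude.Def_Exal2

set_option autoImplicit false
set_option linter.unusedSectionVars false
universe u v w

namespace Groth.Agent.Helper9.ExalLib

open Exal

section basic
variable {A : Type u} {B L : Type v} [CommRing A] [CommRing B] [Algebra A B] [AddCommGroup L]
  [Module B L] (X : Ext A B L)

lemma proj_incl (z : L) : X.proj (X.incl z) = 0 := (X.isExtension.exact _).2 ⟨z, rfl⟩

lemma incl_mul_incl (z z' : L) : X.incl z * X.incl z' = 0 := by
  rw [X.isExtension.mul_incl, proj_incl, zero_smul, map_zero]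

lemma incl_mul (x : X.E) (z : L) : X.incl z * x = X.incl (X.proj x • z) := by
  rw [mul_comm, X.isExtension.mul_incl]

lemma exists_incl_of_proj_eq {x y : X.E} (h : X.proj x = X.proj y) : ∃ z, x = y + X.incl z := by
  have : X.proj (x - y) = 0 := by rw [map_sub, h, sub_self]
  obtain ⟨z, hz⟩ := (X.isExtension.exact _).1 this
  exact ⟨z, by rw [hz]; abel⟩

lemma incl_eq_zero_iff (z : L) : X.incl z = 0 ↔ z = 0 := by
  constructor
  · intro h
    apply X.isExtension.incl_injective
    rw [h, map_zero]
  · rintro rfl; exact map_zero _

end basic

section s5828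
variable {A : Type u} {C L : Type v} [CommRing A] [CommRing C] [Algebra A C]
    [AddCommGroup L] [Module C L] [Module A L] [IsScalarTower A C L] (X : Exal.Ext A C L)

/-- the automorphism attached to a derivation -/
noncomputable def autOfDer (D : Derivation A C L) : X.E →ₐ[A] X.E where
  toFun x := x + X.incl (D (X.proj x))
  map_one' := by rw [map_one, Derivation.map_one_eq_zero, map_zero, add_zero]
  map_mul' x y := by
    rw [map_mul, Derivation.leibniz, map_add, ← X.isExtension.mul_incl, ← X.isExtension.mul_incl]
    have h := incl_mul_incl X (D (X.proj x)) (D (X.proj y))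
    have e : (x + X.incl (D (X.proj x))) * (y + X.incl (D (X.proj y))) =
        x * y + (x * X.incl (D (X.proj y)) + y * X.incl (D (X.proj x))) +
          X.incl (D (X.proj x)) * X.incl (D (X.proj y)) := by ring
    rw [e, h, add_zero]
  map_zero' := by rw [map_zero, map_zero, map_zero, add_zero]
  map_add' x y := by
    rw [map_add, map_add, map_add]; abel
  commutes' a := by
    rw [AlgHom.commutes, Derivation.map_algebraMap, map_zero, add_zero]

lemma proj_autOfDer (D : Derivation A C L) (x : X.E) : X.proj (autOfDer X D x) = X.proj x := by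
  change X.proj (x + X.incl (D (X.proj x))) = _
  rw [map_add, proj_incl, add_zero]

lemma autOfDer_neg_autOfDer (D : Derivation A C L) (x : X.E) :
    autOfDer X (-D) (autOfDer X D x) = x := by
  change autOfDer X D x + X.incl ((-D) (X.proj (autOfDer X D x))) = x
  rw [proj_autOfDer]
  change x + X.incl (D (X.proj x)) + X.incl ((-D) (X.proj x)) = x
  rw [Derivation.neg_apply, map_neg]
  abel

theorem part1 (D : Derivation A C L) :
    ∃ e : X.Equiv X, ∀ x : X.E, e.toAlgEquiv x = x + X.incl (D (X.proj x)) := by
  refine ⟨⟨AlgEquiv.ofAlgHom (autOfDer X D) (autOfDer X (-D)) ?_ ?_, fun x => ?_, fun z => ?_⟩,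
    fun x => rfl⟩
  · ext x
    have := autOfDer_neg_autOfDer X (-D) x
    rw [neg_neg] at this
    exact this
  · ext x
    exact autOfDer_neg_autOfDer X D x
  · exact proj_autOfDer X D x
  · change X.incl z + X.incl (D (X.proj (X.incl z))) = X.incl z
    rw [proj_incl, map_zero, map_zero, add_zero]

end s5828


section s5828b
variable {A : Type u} {C L : Type v} [CommRing A] [CommRing C] [Algebra A C]
    [AddCommGroup L] [Module C L] [Module A L] [IsScalarTower A C L] (X : Exal.Ext A C L)
    (e : X.Equiv X)

lemma proj_sub (x : X.E) : X.proj (e.toAlgEquiv x - x) = 0 := by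
  rw [map_sub, e.proj_apply, sub_self]

/-- the difference map `E → L` -/
noncomputable def delta (x : X.E) : L := X.kerLift (e.toAlgEquiv x - x) (proj_sub X e x)

lemma incl_delta (x : X.E) : X.incl (delta X e x) = e.toAlgEquiv x - x := X.incl_kerLift _ _

lemma delta_add (x y : X.E) : delta X e (x + y) = delta X e x + delta X e y := by
  apply X.isExtension.incl_injective
  rw [map_add, incl_delta, incl_delta, incl_delta, map_add]; abel

lemma delta_incl (z : L) : delta X e (X.incl z) = 0 := by
  apply X.isExtension.incl_injective
  rw [incl_delta, e.apply_incl, sub_self, map_zero]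

lemma delta_mul (x y : X.E) :
    delta X e (x * y) = X.proj x • delta X e y + X.proj y • delta X e x := by
  apply X.isExtension.incl_injective
  rw [map_add, ← X.isExtension.mul_incl, ← X.isExtension.mul_incl, incl_delta, incl_delta,
    incl_delta, map_mul]
  have h := incl_mul_incl X (delta X e x) (delta X e y)
  rw [incl_delta, incl_delta] at h
  have e1 : e.toAlgEquiv x * e.toAlgEquiv y - x * y =
      x * (e.toAlgEquiv y - y) + y * (e.toAlgEquiv x - x) +
        (e.toAlgEquiv x - x) * (e.toAlgEquiv y - y) := by ring
  rw [e1, h, add_zero]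

lemma delta_algebraMap (a : A) : delta X e (algebraMap A X.E a) = 0 := by
  apply X.isExtension.incl_injective
  rw [incl_delta, AlgEquiv.commutes, sub_self, map_zero]

lemma delta_eq_of_proj_eq {x y : X.E} (h : X.proj x = X.proj y) : delta X e x = delta X e y := by
  obtain ⟨z, rfl⟩ := exists_incl_of_proj_eq X h
  rw [delta_add, delta_incl, add_zero]

/-- a set-theoretic section of the projection -/
noncomputable def sec (c : C) : X.E := Function.surjInv X.isExtension.proj_surjective c

lemma proj_sec (c : C) : X.proj (sec X c) = c := Function.surjInv_eq _ c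

/-- the derivation attached to a self-equivalence -/
noncomputable def derOfEquiv : Derivation A C L where
  toFun c := delta X e (sec X c)
  map_add' c c' := by
    rw [← delta_add]
    apply delta_eq_of_proj_eq
    rw [map_add, proj_sec, proj_sec, proj_sec]
  map_smul' a c := by
    have h1 : delta X e (sec X (a • c)) =
        delta X e (algebraMap A X.E a * sec X c) := by
      apply delta_eq_of_proj_eq
      rw [map_mul, proj_sec, proj_sec, AlgHom.commutes, Algebra.smul_def]
    rw [h1, delta_mul, delta_algebraMap, smul_zero, add_zero, AlgHom.commutes,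
      algebraMap_smul, RingHom.id_apply]
  map_one_eq_zero' := by
    have h1 : delta X e (sec X (1 : C)) =
        delta X e (algebraMap A X.E 1) := by
      apply delta_eq_of_proj_eq
      rw [proj_sec, map_one, map_one]
    change delta X e (sec X (1 : C)) = 0
    rw [h1, delta_algebraMap]
  leibniz' c c' := by
    have h1 : delta X e (sec X (c * c')) =
        delta X e (sec X c *
          sec X c') := by
      apply delta_eq_of_proj_eq
      rw [map_mul, proj_sec, proj_sec, proj_sec]
    change delta X e (sec X (c * c')) = _
    rw [h1, delta_mul, proj_sec, proj_sec]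
    rfl

lemma derOfEquiv_proj (x : X.E) : derOfEquiv X e (X.proj x) = delta X e x := by
  change delta X e (sec X (X.proj x)) = _
  apply delta_eq_of_proj_eq
  rw [proj_sec]

theorem part2 : ∃! D : Derivation A C L, ∀ x : X.E,
    e.toAlgEquiv x = x + X.incl (D (X.proj x)) := by
  refine ⟨derOfEquiv X e, fun x => ?_, fun D' hD' => ?_⟩
  · rw [derOfEquiv_proj, incl_delta]; abel
  · ext c
    obtain ⟨x, rfl⟩ := X.isExtension.proj_surjective c
    apply X.isExtension.incl_injective
    rw [derOfEquiv_proj, incl_delta, hD' x]; abel

end s5828b

end Groth.Agent.Helper9.ExalLib
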