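import Mathlib
import Groth.Prelude.Def_Exal
import Groth.Prelude.Def_Exal2
import Groth.Agent.Lib.Helper9.ExalLib

set_option autoImplicit false
set_option linter.unusedSectionVars false
universe u v w

namespace Groth.Agent.Helper9.ExalLib

open Exal

attribute [local instance] Exal.opModule Exal.isCentralScalar_opModule

section s5817
variable {A : Type u} {B C L : Type v} [CommRing A] [CommRing B] [CommRing C]
    [Algebra A B] [Algebra B C] [Algebra A C] [IsScalarTower A B C]
    [AddCommGroup L] [Module C L] [Module B L] [IsScalarTower B C L] [Module A L] [IsScalarTower A B L]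
    (D : Derivation A B L)

/-- the identity, as a ring isomorphism onto Mathlib's trivial extension -/
noncomputable def toT : (Exal.Ext.ofDerivation (C := C) D).E ≃+* TrivSqZeroExt C L := RingEquiv.refl _

lemma toT_algebraMap (b : B) :
    toT (C := C) D (algebraMap B (Exal.Ext.ofDerivation (C := C) D).E b) =
      TrivSqZeroExt.inl (algebraMap B C b) + TrivSqZeroExt.inr (D b) := rfl

lemma proj_eq_fst (x : (Exal.Ext.ofDerivation (C := C) D).E) :
    (Exal.Ext.ofDerivation (C := C) D).proj x = TrivSqZeroExt.fst (toT (C := C) D x) := rfl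

lemma incl_eq_inr (z : L) :
    toT (C := C) D ((Exal.Ext.ofDerivation (C := C) D).incl z) = TrivSqZeroExt.inr z := rfl

variable [IsScalarTower A C L]

theorem main5817 :
    (Exal.Ext.ofDerivation (C := C) D).IsTrivial ↔
      ∃ D' : Derivation A C L, D'.compAlgebraMap B = D := by
  constructor
  · rintro ⟨s, hs⟩
    let σ : C →+* TrivSqZeroExt C L := (toT (C := C) D).toRingHom.comp s.toRingHom
    have hfst : ∀ c : C, TrivSqZeroExt.fst (σ c) = c := hs
    have hsB : ∀ b : B, σ (algebraMap B C b) =
        TrivSqZeroExt.inl (algebraMap B C b) + TrivSqZeroExt.inr (D b) := fun b => by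
      change toT (C := C) D (s (algebraMap B C b)) = _
      rw [s.commutes, toT_algebraMap]
    refine ⟨{ toFun := fun c => TrivSqZeroExt.snd (σ c)
              map_add' := fun c c' => by rw [map_add, TrivSqZeroExt.snd_add]
              map_smul' := fun a c => ?_
              map_one_eq_zero' := ?_
              leibniz' := fun c c' => ?_ }, ?_⟩
    · have h1 : a • c = algebraMap B C (algebraMap A B a) * c := by
        rw [← IsScalarTower.algebraMap_apply, Algebra.smul_def]
      rw [h1, map_mul, hsB, Derivation.map_algebraMap, TrivSqZeroExt.inr_zero, add_zero,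
        RingHom.id_apply, TrivSqZeroExt.snd_mul, TrivSqZeroExt.fst_inl, TrivSqZeroExt.snd_inl,
        smul_zero, add_zero, ← IsScalarTower.algebraMap_apply, algebraMap_smul]
    · change TrivSqZeroExt.snd (σ 1) = 0
      rw [map_one, TrivSqZeroExt.snd_one]
    · change TrivSqZeroExt.snd (σ (c * c')) = _
      rw [map_mul, TrivSqZeroExt.snd_mul, hfst, hfst, op_smul_eq_smul]
      rfl
    · ext b
      change TrivSqZeroExt.snd (σ (algebraMap B C b)) = D b
      rw [hsB, TrivSqZeroExt.snd_add, TrivSqZeroExt.snd_inl, TrivSqZeroExt.snd_inr, zero_add]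
  · rintro ⟨D', rfl⟩
    let τ : C →+* (Exal.Ext.ofDerivation (C := C) (D'.compAlgebraMap B)).E :=
      (toT (C := C) (D'.compAlgebraMap B)).symm.toRingHom.comp
        (Exal.Ext.derivationHom (A := A) (B := C) (C := C) D')
    refine ⟨{ toRingHom := τ
              commutes' := fun b => ?_ }, fun c => ?_⟩
    · apply (toT (C := C) (D'.compAlgebraMap B)).injective
      rw [toT_algebraMap]
      change toT (C := C) (D'.compAlgebraMap B) ((toT (C := C) (D'.compAlgebraMap B)).symm
        (Exal.Ext.derivationHom (A := A) (B := C) (C := C) D' (algebraMap B C b))) = _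
      rw [RingEquiv.apply_symm_apply]
      rfl
    · rw [proj_eq_fst]
      change TrivSqZeroExt.fst (toT (C := C) (D'.compAlgebraMap B)
        ((toT (C := C) (D'.compAlgebraMap B)).symm
        (Exal.Ext.derivationHom (A := A) (B := C) (C := C) D' c))) = c
      rw [RingEquiv.apply_symm_apply]
      change TrivSqZeroExt.fst (TrivSqZeroExt.inl (algebraMap C C c) +
        TrivSqZeroExt.inr (D' c) : TrivSqZeroExt C L) = c
      rw [TrivSqZeroExt.fst_add, TrivSqZeroExt.fst_inl, TrivSqZeroExt.fst_inr, add_zero]
      rfl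

end s5817


section split
variable {A : Type u} {B L : Type v} [CommRing A] [CommRing B] [Algebra A B] [AddCommGroup L]
  [Module B L] (X : Ext A B L) (s : B →+* X.E) (hs : ∀ b, X.proj (s b) = b)

/-- the map `B ⊕ L → E` attached to a ring-theoretic section -/
noncomputable def psi : TrivSqZeroExt B L →+* X.E where
  toFun y := s (TrivSqZeroExt.fst y) + X.incl (TrivSqZeroExt.snd y)
  map_one' := by
    rw [TrivSqZeroExt.fst_one, TrivSqZeroExt.snd_one, map_one, map_zero, add_zero]
  map_mul' y y' := by
    rw [TrivSqZeroExt.fst_mul, TrivSqZeroExt.snd_mul, map_mul, map_add, op_smul_eq_smul]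
    have h1 : X.incl (TrivSqZeroExt.fst y • TrivSqZeroExt.snd y') =
        s (TrivSqZeroExt.fst y) * X.incl (TrivSqZeroExt.snd y') := by
      rw [X.isExtension.mul_incl, hs]
    have h2 : X.incl (TrivSqZeroExt.fst y' • TrivSqZeroExt.snd y) =
        s (TrivSqZeroExt.fst y') * X.incl (TrivSqZeroExt.snd y) := by
      rw [X.isExtension.mul_incl, hs]
    have h3 := incl_mul_incl X (TrivSqZeroExt.snd y) (TrivSqZeroExt.snd y')
    rw [h1, h2]
    have e : (s (TrivSqZeroExt.fst y) + X.incl (TrivSqZeroExt.snd y)) *
        (s (TrivSqZeroExt.fst y') + X.incl (TrivSqZeroExt.snd y')) =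
        s (TrivSqZeroExt.fst y) * s (TrivSqZeroExt.fst y') +
          (s (TrivSqZeroExt.fst y) * X.incl (TrivSqZeroExt.snd y') +
            s (TrivSqZeroExt.fst y') * X.incl (TrivSqZeroExt.snd y)) +
          X.incl (TrivSqZeroExt.snd y) * X.incl (TrivSqZeroExt.snd y') := by ring
    rw [e, h3, add_zero]
  map_zero' := by
    rw [TrivSqZeroExt.fst_zero, TrivSqZeroExt.snd_zero, map_zero, map_zero, add_zero]
  map_add' y y' := by
    rw [TrivSqZeroExt.fst_add, TrivSqZeroExt.snd_add, map_add, map_add]; abel

lemma psi_apply (y : TrivSqZeroExt B L) :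
    psi X s hs y = s (TrivSqZeroExt.fst y) + X.incl (TrivSqZeroExt.snd y) := rfl

include hs in
lemma proj_psi (y : TrivSqZeroExt B L) : X.proj (psi X s hs y) = TrivSqZeroExt.fst y := by
  rw [psi_apply, map_add, hs, proj_incl, add_zero]

lemma psi_inr (z : L) : psi X s hs (TrivSqZeroExt.inr z) = X.incl z := by
  rw [psi_apply, TrivSqZeroExt.fst_inr, TrivSqZeroExt.snd_inr, map_zero, zero_add]

lemma psi_bijective : Function.Bijective (psi X s hs) := by
  constructor
  · rw [injective_iff_map_eq_zero]
    intro y hy
    have h1 : TrivSqZeroExt.fst y = 0 := by rw [← proj_psi X s hs y, hy, map_zero]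
    rw [psi_apply, h1, map_zero, zero_add, incl_eq_zero_iff] at hy
    exact TrivSqZeroExt.ext h1 hy
  · intro x
    have h1 : X.proj (x - s (X.proj x)) = 0 := by rw [map_sub, hs, sub_self]
    obtain ⟨z, hz⟩ := (X.isExtension.exact _).1 h1
    refine ⟨TrivSqZeroExt.inl (X.proj x) + TrivSqZeroExt.inr z, ?_⟩
    rw [psi_apply, TrivSqZeroExt.fst_add, TrivSqZeroExt.fst_inl, TrivSqZeroExt.fst_inr, add_zero,
      TrivSqZeroExt.snd_add, TrivSqZeroExt.snd_inl, TrivSqZeroExt.snd_inr, zero_add, hz]
    abel

end split


section trivOver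
variable {A : Type u} {B : Type w} {C L : Type v} [CommRing A] [CommRing B] [CommRing C]
    [Algebra A B] [Algebra B C] [Algebra A C] [IsScalarTower A B C]
    [AddCommGroup L] [Module C L]

/-- unfolding `IsTrivialOver` into ring-hom data -/
lemma isTrivialOver_iff (X : Ext B C L) :
    X.IsTrivialOver A ↔ ∃ σ : C →+* X.E, (∀ c, X.proj (σ c) = c) ∧
      ∀ a : A, σ (algebraMap A C a) = algebraMap B X.E (algebraMap A B a) := by
  constructor
  · rintro ⟨s, hs⟩
    exact ⟨s.toRingHom, hs, fun a => s.commutes a⟩
  · rintro ⟨σ, hσ, hσA⟩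
    exact ⟨{ toRingHom := σ, commutes' := hσA }, hσ⟩

lemma isTrivialOver_of_equiv {X Y : Ext B C L} (e : X.Equiv Y) (hY : Y.IsTrivialOver A) :
    X.IsTrivialOver A := by
  rw [isTrivialOver_iff] at hY ⊢
  obtain ⟨σ, hσ, hσA⟩ := hY
  refine ⟨(e.symm.toAlgEquiv : Y.E →+* X.E).comp σ, fun c => ?_, fun a => ?_⟩
  · rw [RingHom.comp_apply]
    change X.proj (e.symm.toAlgEquiv (σ c)) = c
    rw [e.symm.proj_apply, hσ]
  · rw [RingHom.comp_apply, hσA]
    exact e.symm.toAlgEquiv.commutes _

end trivOver

section s5818
variable {A : Type u} {B C L : Type v} [CommRing A] [CommRing B] [CommRing C]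
    [Algebra A B] [Algebra B C] [Algebra A C] [IsScalarTower A B C]
    [AddCommGroup L] [Module C L] [Module B L] [IsScalarTower B C L] [Module A L] [IsScalarTower A B L]
    [IsScalarTower A C L]

lemma ofDerivation_isTrivialOver (D : Derivation A B L) :
    (Exal.Ext.ofDerivation (C := C) D).IsTrivialOver A := by
  rw [isTrivialOver_iff]
  refine ⟨(toT (C := C) D).symm.toRingHom.comp (TrivSqZeroExt.inlHom C L), fun c => ?_, fun a => ?_⟩
  · rw [proj_eq_fst]
    change TrivSqZeroExt.fst (toT (C := C) D ((toT (C := C) D).symm (TrivSqZeroExt.inl c))) = c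
    rw [RingEquiv.apply_symm_apply, TrivSqZeroExt.fst_inl]
  · apply (toT (C := C) D).injective
    rw [toT_algebraMap]
    change toT (C := C) D ((toT (C := C) D).symm (TrivSqZeroExt.inl (algebraMap A C a))) = _
    rw [RingEquiv.apply_symm_apply, Derivation.map_algebraMap, TrivSqZeroExt.inr_zero, add_zero,
      ← IsScalarTower.algebraMap_apply]

section fwd
variable (X : Exal.Ext B C L) (σ : C →+* X.E) (hσ : ∀ c, X.proj (σ c) = c)
  (hσA : ∀ a : A, σ (algebraMap A C a) = algebraMap B X.E (algebraMap A B a))

include hσ in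
lemma proj_diff (b : B) : X.proj (algebraMap B X.E b - σ (algebraMap B C b)) = 0 := by
  rw [map_sub, hσ, AlgHom.commutes, sub_self]

/-- the difference `B → L` between the structure map and the section -/
noncomputable def dfun (b : B) : L :=
  X.kerLift (algebraMap B X.E b - σ (algebraMap B C b)) (proj_diff X σ hσ b)

lemma incl_dfun (b : B) :
    X.incl (dfun X σ hσ b) = algebraMap B X.E b - σ (algebraMap B C b) := X.incl_kerLift _ _

/-- the derivation attached to an `A`-section -/
noncomputable def derOfSection : Derivation A B L where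
  toFun := dfun X σ hσ
  map_add' b b' := by
    apply X.isExtension.incl_injective
    rw [map_add, incl_dfun, incl_dfun, incl_dfun, map_add, map_add, map_add]; abel
  map_smul' a b := by
    apply X.isExtension.incl_injective
    rw [RingHom.id_apply, incl_dfun]
    have h1 : a • dfun X σ hσ b = algebraMap B C (algebraMap A B a) • dfun X σ hσ b := by
      rw [← IsScalarTower.algebraMap_apply, algebraMap_smul]
    have h2 : X.proj (algebraMap B X.E (algebraMap A B a)) = algebraMap B C (algebraMap A B a) :=
      X.proj.commutes _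
    rw [h1, ← h2, ← X.isExtension.mul_incl, incl_dfun, Algebra.smul_def, map_mul, map_mul, map_mul,
      ← IsScalarTower.algebraMap_apply A B C, hσA]
    ring
  map_one_eq_zero' := by
    apply X.isExtension.incl_injective
    change X.incl (dfun X σ hσ 1) = _
    rw [incl_dfun, map_one, map_one, map_one, sub_self, map_zero]
  leibniz' b b' := by
    apply X.isExtension.incl_injective
    change X.incl (dfun X σ hσ (b * b')) = X.incl (b • dfun X σ hσ b' + b' • dfun X σ hσ b)
    have h1 : b • dfun X σ hσ b' = X.proj (algebraMap B X.E b) • dfun X σ hσ b' := by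
      rw [AlgHom.commutes, algebraMap_smul]
    have h2 : b' • dfun X σ hσ b = X.proj (σ (algebraMap B C b')) • dfun X σ hσ b := by
      rw [hσ, algebraMap_smul]
    rw [h1, h2, map_add, ← X.isExtension.mul_incl, ← X.isExtension.mul_incl, incl_dfun, incl_dfun,
      incl_dfun, map_mul, map_mul, map_mul]
    ring

lemma derOfSection_apply (b : B) : derOfSection X σ hσ hσA b = dfun X σ hσ b := rfl

/-- the resulting equivalence -/
noncomputable def equivOfSection :
    (Exal.Ext.ofDerivation (C := C) (derOfSection X σ hσ hσA)).Equiv X where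
  toAlgEquiv := AlgEquiv.ofBijective
    { toRingHom := (psi X σ hσ).comp (toT (C := C) (derOfSection X σ hσ hσA)).toRingHom
      commutes' := fun b => by
        change psi X σ hσ (toT (C := C) (derOfSection X σ hσ hσA) (algebraMap B _ b)) = _
        rw [toT_algebraMap, psi_apply, TrivSqZeroExt.fst_add, TrivSqZeroExt.fst_inl,
          TrivSqZeroExt.fst_inr, add_zero, TrivSqZeroExt.snd_add, TrivSqZeroExt.snd_inl,
          TrivSqZeroExt.snd_inr, zero_add, derOfSection_apply, incl_dfun]
        abel }
    ((psi_bijective X σ hσ).comp (toT (C := C) (derOfSection X σ hσ hσA)).bijective)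
  proj_apply y := by
    change X.proj (psi X σ hσ (toT (C := C) (derOfSection X σ hσ hσA) y)) = _
    rw [proj_psi, proj_eq_fst]
  apply_incl z := by
    change psi X σ hσ (toT (C := C) (derOfSection X σ hσ hσA) (Exal.Ext.incl _ z)) = _
    rw [incl_eq_inr, psi_inr]

end fwd

theorem main5818 (X : Exal.Ext B C L) :
    X.IsTrivialOver A ↔
      ∃ D : Derivation A B L, Nonempty (X.Equiv (Exal.Ext.ofDerivation (C := C) D)) := by
  constructor
  · intro h
    obtain ⟨σ, hσ, hσA⟩ := (isTrivialOver_iff X).1 h
    exact ⟨derOfSection X σ hσ hσA, ⟨(equivOfSection X σ hσ hσA).symm⟩⟩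
  · rintro ⟨D, ⟨e⟩⟩
    exact isTrivialOver_of_equiv e (ofDerivation_isTrivialOver D)

end s5818

end Groth.Agent.Helper9.ExalLib
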