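import Mathlib
import Groth.Prelude.Def_Exal
import Groth.Prelude.Def_Exal2
import Groth.Agent.Lib.Helper9.ExalLib2

set_option autoImplicit false
set_option linter.unusedSectionVars false
universe u v w

namespace Groth.Agent.Helper9.ExalLib

open Exal

section s5819
variable {A : Type u} {B C L : Type v} [CommRing A]
    [CommRing B] [CommRing C] [Algebra A B] [Algebra B C] [Algebra A C] [IsScalarTower A B C]
    [AddCommGroup L] [Module C L] [Module B L] [IsScalarTower B C L]

lemma mem_fiberProd (Y : Exal.Ext A C L) (x : Y.E × B) :
    x ∈ Y.fiberProd B ↔ Y.proj x.1 = algebraMap B C x.2 := by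
  simp [Exal.Ext.fiberProd, AlgHom.mem_equalizer]

/-- an extension of `C` over `B` built from an `A`-extension and an `A`-algebra map `B → E`
lifting `B → C` -/
noncomputable def extOfLift (Y : Exal.Ext A C L) (t : B →ₐ[A] Y.E)
    (ht : ∀ b, Y.proj (t b) = algebraMap B C b) : Exal.Ext B C L :=
  letI : Algebra B Y.E := t.toRingHom.toAlgebra
  { E := Y.E
    proj := { Y.proj.toRingHom with commutes' := ht }
    incl := Y.incl
    isExtension :=
      { proj_surjective := Y.isExtension.proj_surjective
        incl_injective := Y.isExtension.incl_injective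
        exact := Y.isExtension.exact
        mul_incl := Y.isExtension.mul_incl } }

theorem main5819 (Y : Exal.Ext A C L) :
    (Y.pullback B).IsTrivial ↔
      ∃ X : Exal.Ext B C L, Nonempty ((X.restrictBase A).Equiv Y) := by
  constructor
  · rintro ⟨s, hs⟩
    let t : B →ₐ[A] Y.E := (AlgHom.fst A Y.E B).comp ((Y.fiberProd B).val.comp s)
    have ht : ∀ b, Y.proj (t b) = algebraMap B C b := by
      intro b
      let sb : Y.fiberProd B := s b
      have h1 := (mem_fiberProd Y _).1 sb.2
      have h2 : sb.1.2 = b := hs b
      rw [h2] at h1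
      exact h1
    let eq0 : ((extOfLift Y t ht).restrictBase A).E ≃ₐ[A] Y.E :=
      { toEquiv := Equiv.refl _
        map_mul' := fun _ _ => rfl
        map_add' := fun _ _ => rfl
        commutes' := fun a => by
          change t (algebraMap A B a) = algebraMap A Y.E a
          exact t.commutes a }
    exact ⟨extOfLift Y t ht, ⟨⟨eq0, fun x => rfl, fun z => rfl⟩⟩⟩
  · rintro ⟨X, ⟨e⟩⟩
    let f0 : B →ₐ[A] (X.restrictBase A).E :=
      { toRingHom := (algebraMap B X.E : B →+* X.RestrictCarrier A)
        commutes' := fun a => rfl }
    let f : B →ₐ[A] Y.E := (e.toAlgEquiv : (X.restrictBase A).E →ₐ[A] Y.E).comp f0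
    have hf : ∀ b, Y.proj (f b) = algebraMap B C b := by
      intro b
      change Y.proj (e.toAlgEquiv (f0 b)) = _
      rw [e.proj_apply]
      exact X.proj.commutes b
    let g : B →ₐ[A] Y.E × B := AlgHom.prod f (AlgHom.id A B)
    have hg : ∀ b, g b ∈ Y.fiberProd B := fun b => (mem_fiberProd Y _).2 (hf b)
    exact ⟨g.codRestrict (Y.fiberProd B) hg, fun b => rfl⟩

end s5819


attribute [local instance] Exal.opModule Exal.isCentralScalar_opModule

section compat
variable {A : Type u} {B C L : Type v} [CommRing A] [CommRing B] [CommRing C]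
    [Algebra A B] [Algebra B C] [Algebra A C] [IsScalarTower A B C]
    [AddCommGroup L] [Module C L] [Module B L] [IsScalarTower B C L] [Module A L] [IsScalarTower A B L]
    (X : Exal.Ext B C L) (D : Derivation A B L) (σ : C →+* X.E) (hσ : ∀ c, X.proj (σ c) = c)
    (hD : ∀ b, algebraMap B X.E b = σ (algebraMap B C b) + X.incl (D b))

/-- an extension whose structure map differs from a section by a derivation is the extension
attached to that derivation -/
noncomputable def equivOfCompat : (Exal.Ext.ofDerivation (C := C) D).Equiv X where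
  toAlgEquiv := AlgEquiv.ofBijective
    { toRingHom := (psi X σ hσ).comp (toT (C := C) D).toRingHom
      commutes' := fun b => by
        change psi X σ hσ (toT (C := C) D (algebraMap B _ b)) = _
        rw [toT_algebraMap, psi_apply, TrivSqZeroExt.fst_add, TrivSqZeroExt.fst_inl,
          TrivSqZeroExt.fst_inr, add_zero, TrivSqZeroExt.snd_add, TrivSqZeroExt.snd_inl,
          TrivSqZeroExt.snd_inr, zero_add, hD] }
    ((psi_bijective X σ hσ).comp (toT (C := C) D).bijective)
  proj_apply y := by
    change X.proj (psi X σ hσ (toT (C := C) D y)) = _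
    rw [proj_psi, proj_eq_fst]
  apply_incl z := by
    change psi X σ hσ (toT (C := C) D (Exal.Ext.incl _ z)) = _
    rw [incl_eq_inr, psi_inr]

end compat

end Groth.Agent.Helper9.ExalLib
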