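import Groth.Prelude.Def_Exal2
import Mathlib
import Groth.Agent.Lib.Helper9.ExalLib3

set_option autoImplicit false
set_option linter.unusedSectionVars false
universe u v

namespace Groth.Agent.Helper9.ExalBaer

open Exal

variable {A : Type u} {Λ R L : Type v} [CommRing A] [CommRing Λ] [CommRing R]
  [Algebra A Λ] [Algebra Λ R] [Algebra A R] [IsScalarTower A Λ R]
  [AddCommGroup L] [Module R L] [Module Λ L] [IsScalarTower Λ R L]

section Diff

variable (Y Y' : Ext A R L)

/-- the fibre product `E ×_R E'` -/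
def F : Subalgebra A (Y.E × Y'.E) :=
  AlgHom.equalizer (Y.proj.comp (AlgHom.fst A Y.E Y'.E)) (Y'.proj.comp (AlgHom.snd A Y.E Y'.E))

lemma mem_F (x : Y.E × Y'.E) : x ∈ F Y Y' ↔ Y.proj x.1 = Y'.proj x.2 := by
  simp [F, AlgHom.mem_equalizer]

/-- the diagonal copy of `L` -/
def diag (z : L) : F Y Y' := ⟨(Y.incl z, Y'.incl z), by
  rw [mem_F]
  change Y.proj (Y.incl z) = Y'.proj (Y'.incl z)
  rw [(Y.isExtension.exact _).2 ⟨z, rfl⟩, (Y'.isExtension.exact _).2 ⟨z, rfl⟩]⟩

/-- the diagonal ideal -/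
def N : Ideal (F Y Y') where
  carrier := Set.range (diag Y Y')
  add_mem' := by
    rintro _ _ ⟨z, rfl⟩ ⟨z', rfl⟩
    refine ⟨z + z', ?_⟩
    apply Subtype.ext
    apply Prod.ext
    · change Y.incl (z + z') = Y.incl z + Y.incl z'
      rw [map_add]
    · change Y'.incl (z + z') = Y'.incl z + Y'.incl z'
      rw [map_add]
  zero_mem' := by
    refine ⟨0, ?_⟩
    apply Subtype.ext
    apply Prod.ext
    · change Y.incl 0 = 0
      rw [map_zero]
    · change Y'.incl 0 = 0
      rw [map_zero]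
  smul_mem' := by
    rintro ⟨⟨e, e'⟩, he⟩ _ ⟨z, rfl⟩
    have he' : Y.proj e = Y'.proj e' := (mem_F Y Y' _).1 he
    refine ⟨Y.proj e • z, ?_⟩
    apply Subtype.ext
    apply Prod.ext
    · change Y.incl (Y.proj e • z) = e * Y.incl z
      rw [Y.isExtension.mul_incl]
    · change Y'.incl (Y.proj e • z) = e' * Y'.incl z
      rw [Y'.isExtension.mul_incl, he']

lemma mem_N (f : F Y Y') : f ∈ N Y Y' ↔ ∃ z, diag Y Y' z = f := Iff.rfl

/-- the Baer difference ring -/
def G : Type v := F Y Y' ⧸ N Y Y'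

noncomputable instance : CommRing (G Y Y') := Ideal.Quotient.commRing (N Y Y')

/-- the quotient map as a ring hom -/
noncomputable def mkR : F Y Y' →+* G Y Y' := Ideal.Quotient.mk (N Y Y')

noncomputable instance : Algebra A (G Y Y') :=
  RingHom.toAlgebra ((mkR Y Y').comp (algebraMap A (F Y Y')))

/-- the quotient map -/
noncomputable def mkG : F Y Y' →ₐ[A] G Y Y' :=
  { mkR Y Y' with commutes' := fun _ => rfl }

lemma mkG_surjective : Function.Surjective (mkG Y Y') := Ideal.Quotient.mk_surjective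

lemma mkG_eq_zero_iff (f : F Y Y') : mkG Y Y' f = 0 ↔ f ∈ N Y Y' :=
  Ideal.Quotient.eq_zero_iff_mem

lemma mkG_eq_iff (f f' : F Y Y') : mkG Y Y' f = mkG Y Y' f' ↔ f - f' ∈ N Y Y' :=
  Ideal.Quotient.eq

/-- the first projection `F → E` -/
def pr1 : F Y Y' →ₐ[A] Y.E := (AlgHom.fst A Y.E Y'.E).comp (F Y Y').val

/-- the second projection `F → E'` -/
def pr2 : F Y Y' →ₐ[A] Y'.E := (AlgHom.snd A Y.E Y'.E).comp (F Y Y').val

lemma proj_pr1 (f : F Y Y') : Y.proj (pr1 Y Y' f) = Y'.proj (pr2 Y Y' f) := (mem_F Y Y' _).1 f.2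

/-- the projection `G → R` as an `A`-algebra map -/
noncomputable def projG : G Y Y' →ₐ[A] R :=
  { (Ideal.Quotient.lift (N Y Y') (Y.proj.comp (pr1 Y Y')).toRingHom (by
      rintro _ ⟨z, rfl⟩
      change Y.proj (Y.incl z) = 0
      exact (Y.isExtension.exact _).2 ⟨z, rfl⟩) : G Y Y' →+* R) with
    commutes' := fun a => by
      change Y.proj (pr1 Y Y' (algebraMap A (F Y Y') a)) = algebraMap A R a
      rw [AlgHom.commutes, AlgHom.commutes] }

lemma projG_mk (f : F Y Y') : projG Y Y' (mkG Y Y' f) = Y.proj (pr1 Y Y' f) := rfl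

/-- the left copy of `L` in `F` -/
def inlF (z : L) : F Y Y' := ⟨(Y.incl z, 0), by
  rw [mem_F]
  change Y.proj (Y.incl z) = Y'.proj 0
  rw [(Y.isExtension.exact _).2 ⟨z, rfl⟩, map_zero]⟩

/-- the inclusion `L → G` -/
noncomputable def inclG : L →+ G Y Y' where
  toFun z := mkG Y Y' (inlF Y Y' z)
  map_zero' := by
    rw [mkG_eq_zero_iff]
    convert (N Y Y').zero_mem
    apply Subtype.ext
    apply Prod.ext
    · change Y.incl 0 = 0
      rw [map_zero]
    · rfl
  map_add' z z' := by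
    rw [← map_add]
    congr 1
    apply Subtype.ext
    apply Prod.ext
    · change Y.incl (z + z') = Y.incl z + Y.incl z'
      rw [map_add]
    · change (0 : Y'.E) = 0 + 0
      rw [add_zero]

lemma inclG_apply (z : L) : inclG Y Y' z = mkG Y Y' (inlF Y Y' z) := rfl

lemma projG_surjective : Function.Surjective (projG Y Y') := by
  intro r
  obtain ⟨e, he⟩ := Y.isExtension.proj_surjective r
  obtain ⟨e', he'⟩ := Y'.isExtension.proj_surjective r
  exact ⟨mkG Y Y' ⟨(e, e'), (mem_F Y Y' _).2 (he.trans he'.symm)⟩, he⟩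

lemma inclG_injective : Function.Injective (inclG Y Y') := by
  rw [injective_iff_map_eq_zero]
  intro z hz
  rw [inclG_apply, mkG_eq_zero_iff, mem_N] at hz
  obtain ⟨w, hw⟩ := hz
  have h1 : Y.incl w = Y.incl z := congrArg (fun f : F Y Y' => f.1.1) hw
  have h2 : Y'.incl w = 0 := congrArg (fun f : F Y Y' => f.1.2) hw
  have hw0 : w = 0 := Y'.isExtension.incl_injective (h2.trans (map_zero _).symm)
  rw [hw0, map_zero] at h1
  exact (Y.isExtension.incl_injective (h1.symm.trans (map_zero _).symm))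

lemma projG_exact (x : G Y Y') : projG Y Y' x = 0 ↔ x ∈ Set.range (inclG Y Y') := by
  obtain ⟨⟨⟨e, e'⟩, hf⟩, rfl⟩ := mkG_surjective Y Y' x
  have hf' : Y.proj e = Y'.proj e' := (mem_F Y Y' _).1 hf
  constructor
  · intro h
    have h1 : Y.proj e = 0 := h
    obtain ⟨z, hz⟩ := (Y.isExtension.exact e).1 h1
    obtain ⟨z', hz'⟩ := (Y'.isExtension.exact e').1 (hf' ▸ h1)
    refine ⟨z - z', ?_⟩
    rw [inclG_apply, mkG_eq_iff, mem_N]
    refine ⟨-z', ?_⟩
    apply Subtype.ext
    apply Prod.ext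
    · change Y.incl (-z') = Y.incl (z - z') - e
      rw [← hz, map_sub, map_neg]; abel
    · change Y'.incl (-z') = 0 - e'
      rw [← hz', map_neg, zero_sub]
  · rintro ⟨z, hz⟩
    rw [← hz, inclG_apply, projG_mk]
    change Y.proj (Y.incl z) = 0
    exact (Y.isExtension.exact _).2 ⟨z, rfl⟩

lemma mul_inclG (x : G Y Y') (z : L) : x * inclG Y Y' z = inclG Y Y' (projG Y Y' x • z) := by
  obtain ⟨⟨⟨e, e'⟩, hf⟩, rfl⟩ := mkG_surjective Y Y' x
  rw [inclG_apply, inclG_apply, projG_mk, ← map_mul]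
  congr 1
  apply Subtype.ext
  apply Prod.ext
  · change e * Y.incl z = Y.incl (Y.proj e • z)
    rw [Y.isExtension.mul_incl]
  · change e' * 0 = 0
    rw [mul_zero]

end Diff

section Lam

variable {Y Y' : Ext A R L} {P : Type v} [CommRing P] [Algebra A P]
  (πP : P →ₐ[A] Λ) (hπ : Function.Surjective πP) (eP : P →ₐ[A] Y.E) (eP' : P →ₐ[A] Y'.E)
  (h1 : ∀ x, Y.proj (eP x) = algebraMap Λ R (πP x))
  (h2 : ∀ x, Y'.proj (eP' x) = algebraMap Λ R (πP x))
  (h3 : ∀ x, πP x = 0 → ∃ z, eP x = Y.incl z ∧ eP' x = Y'.incl z)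

/-- the map from the pulled back extension to the fibre product -/
noncomputable def muF : P →ₐ[A] F Y Y' :=
  (AlgHom.prod eP eP').codRestrict (F Y Y') (by
      intro x
      rw [mem_F]
      change Y.proj (eP x) = Y'.proj (eP' x)
      rw [h1, h2])

lemma muF_fst (x : P) : (muF πP eP eP' h1 h2 x).1.1 = eP x := rfl

lemma muF_snd (x : P) : (muF πP eP eP' h1 h2 x).1.2 = eP' x := rfl

/-- the map `P → G` -/
noncomputable def mu : P →ₐ[A] G Y Y' :=
  (mkG Y Y').comp (muF πP eP eP' h1 h2)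

lemma mu_apply (x : P) :
    mu πP eP eP' h1 h2 x = mkG Y Y' (muF πP eP eP' h1 h2 x) := rfl

include h3 in
lemma mu_ker (x : P) (hx : πP x = 0) : mu πP eP eP' h1 h2 x = 0 := by
  obtain ⟨z, hz, hz'⟩ := h3 x hx
  rw [mu_apply, mkG_eq_zero_iff, mem_N]
  refine ⟨z, ?_⟩
  apply Subtype.ext
  apply Prod.ext
  · exact hz.symm
  · exact hz'.symm

include h3 in
lemma mu_eq_of_proj_eq (x x' : P) (h : πP x = πP x') :
    mu πP eP eP' h1 h2 x = mu πP eP eP' h1 h2 x' := by
  have h4 : mu πP eP eP' h1 h2 (x - x') = 0 :=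
    mu_ker πP eP eP' h1 h2 h3 _ (by rw [map_sub, h, sub_self])
  rw [map_sub, sub_eq_zero] at h4
  exact h4

/-- a set-theoretic section -/
noncomputable def secP (a : Λ) : P := Function.surjInv hπ a

lemma proj_secP (a : Λ) : πP (secP πP hπ a) = a := Function.surjInv_eq hπ a

/-- the structure map `Λ → G` -/
noncomputable def lam : Λ →ₐ[A] G Y Y' where
  toFun a := mu πP eP eP' h1 h2 (secP πP hπ a)
  map_one' := by
    rw [← map_one (mu πP eP eP' h1 h2)]
    exact mu_eq_of_proj_eq πP eP eP' h1 h2 h3 _ _ (by rw [proj_secP, map_one])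
  map_mul' a b := by
    rw [← map_mul (mu πP eP eP' h1 h2)]
    exact mu_eq_of_proj_eq πP eP eP' h1 h2 h3 _ _ (by rw [proj_secP, map_mul, proj_secP, proj_secP])
  map_zero' := by
    rw [← map_zero (mu πP eP eP' h1 h2)]
    exact mu_eq_of_proj_eq πP eP eP' h1 h2 h3 _ _ (by rw [proj_secP, map_zero])
  map_add' a b := by
    rw [← map_add (mu πP eP eP' h1 h2)]
    exact mu_eq_of_proj_eq πP eP eP' h1 h2 h3 _ _ (by rw [proj_secP, map_add, proj_secP, proj_secP])
  commutes' a := by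
    rw [← (mu πP eP eP' h1 h2).commutes a]
    exact mu_eq_of_proj_eq πP eP eP' h1 h2 h3 _ _ (by rw [proj_secP, AlgHom.commutes])

lemma lam_proj (x : P) : lam πP hπ eP eP' h1 h2 h3 (πP x) = mu πP eP eP' h1 h2 x :=
  mu_eq_of_proj_eq πP eP eP' h1 h2 h3 _ _ (proj_secP πP hπ _)

lemma projG_lam (a : Λ) : projG Y Y' (lam πP hπ eP eP' h1 h2 h3 a) = algebraMap Λ R a := by
  obtain ⟨x, rfl⟩ := hπ a
  rw [lam_proj, mu_apply, projG_mk]
  change Y.proj (eP x) = _
  exact h1 x

/-- the `Λ`-algebra structure on `G` -/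
@[reducible] noncomputable def algG : Algebra Λ (G Y Y') :=
  RingHom.toAlgebra (R := Λ) (S := G Y Y') (lam πP hπ eP eP' h1 h2 h3).toRingHom

/-- the Baer difference as a `Λ`-extension of `R` by `L` -/
noncomputable def baerExt : Ext Λ R L :=
  letI : Algebra Λ (G Y Y') := algG πP hπ eP eP' h1 h2 h3
  { E := G Y Y'
    proj := { (projG Y Y').toRingHom with
      commutes' := fun a => projG_lam πP hπ eP eP' h1 h2 h3 a }
    incl := inclG Y Y'
    isExtension :=
      { proj_surjective := projG_surjective Y Y'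
        incl_injective := inclG_injective Y Y'
        exact := projG_exact Y Y'
        mul_incl := mul_inclG Y Y' } }

lemma baerExt_proj (x : G Y Y') :
    (baerExt πP hπ eP eP' h1 h2 h3).proj x = projG Y Y' x := rfl

lemma baerExt_algebraMap (a : Λ) :
    algebraMap Λ (baerExt πP hπ eP eP' h1 h2 h3).E a = lam πP hπ eP eP' h1 h2 h3 a := rfl

include πP hπ eP eP' h1 h2 h3 in
/-- if the Baer difference is trivial, the two extensions are equivalent -/
theorem equiv_of_baer_trivial (htriv : (baerExt πP hπ eP eP' h1 h2 h3).IsTrivial) :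
    Nonempty (Y.Equiv Y') := by
  obtain ⟨σ, hσ⟩ := htriv
  let σG : R →+* G Y Y' := σ.toRingHom
  have hσproj : ∀ r, projG Y Y' (σG r) = r := hσ
  have hσalg : ∀ a : Λ, σG (algebraMap Λ R a) = lam πP hπ eP eP' h1 h2 h3 a := fun a =>
    σ.commutes a
  let σA : R →ₐ[A] G Y Y' :=
    { toRingHom := σG
      commutes' := fun a => by
        change σG (algebraMap A R a) = algebraMap A (G Y Y') a
        rw [IsScalarTower.algebraMap_apply A Λ R, hσalg, AlgHom.commutes] }
  have hσA : ∀ r, σA r = σG r := fun r => rfl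
  let H : Subalgebra A (F Y Y') :=
    AlgHom.equalizer (mkG Y Y') (σA.comp (Y.proj.comp (pr1 Y Y')))
  have memH : ∀ f : F Y Y', f ∈ H ↔ mkG Y Y' f = σG (Y.proj (pr1 Y Y' f)) := fun f => by
    rw [AlgHom.mem_equalizer]
    rfl
  let q1 : H →ₐ[A] Y.E := (pr1 Y Y').comp H.val
  let q2 : H →ₐ[A] Y'.E := (pr2 Y Y').comp H.val
  have hdiagH : ∀ z : L, diag Y Y' z ∈ H := by
    intro z
    rw [memH]
    have h4 : mkG Y Y' (diag Y Y' z) = 0 := (mkG_eq_zero_iff Y Y' _).2 ⟨z, rfl⟩
    have h5 : Y.proj (pr1 Y Y' (diag Y Y' z)) = 0 := (Y.isExtension.exact _).2 ⟨z, rfl⟩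
    rw [h4, h5, map_zero]
  -- existence of elements of `H` over a given element of `R`
  have hex : ∀ r : R, ∃ f : F Y Y', f ∈ H ∧ Y.proj (pr1 Y Y' f) = r := by
    intro r
    obtain ⟨f, hf⟩ := mkG_surjective Y Y' (σG r)
    have h4 : Y.proj (pr1 Y Y' f) = r := by
      rw [← projG_mk, hf, hσproj]
    refine ⟨f, ?_, h4⟩
    rw [memH, hf, h4]
  have q1_bij : Function.Bijective q1 := by
    constructor
    · rw [injective_iff_map_eq_zero]
      rintro ⟨f, hf⟩ h0
      have h0' : pr1 Y Y' f = 0 := h0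
      have h4 : mkG Y Y' f = 0 := by
        rw [(memH f).1 hf, h0', map_zero, map_zero]
      obtain ⟨w, hw⟩ := (mkG_eq_zero_iff Y Y' f).1 h4
      have h5 : Y.incl w = 0 := by
        have : pr1 Y Y' (diag Y Y' w) = pr1 Y Y' f := by rw [hw]
        rw [h0'] at this
        exact this
      have hw0 : w = 0 := Y.isExtension.incl_injective (h5.trans (map_zero _).symm)
      apply Subtype.ext
      change f = 0
      rw [← hw, hw0]
      apply Subtype.ext
      apply Prod.ext
      · change Y.incl 0 = 0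
        rw [map_zero]
      · change Y'.incl 0 = 0
        rw [map_zero]
    · intro e
      obtain ⟨f, hfH, hf⟩ := hex (Y.proj e)
      have h4 : Y.proj (e - pr1 Y Y' f) = 0 := by rw [map_sub, hf, sub_self]
      obtain ⟨z, hz⟩ := (Y.isExtension.exact _).1 h4
      refine ⟨⟨f + diag Y Y' z, H.add_mem hfH (hdiagH z)⟩, ?_⟩
      change pr1 Y Y' (f + diag Y Y' z) = e
      rw [map_add]
      change pr1 Y Y' f + Y.incl z = e
      rw [hz]; ring
  have q2_bij : Function.Bijective q2 := by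
    constructor
    · rw [injective_iff_map_eq_zero]
      rintro ⟨f, hf⟩ h0
      have h0' : pr2 Y Y' f = 0 := h0
      have h0'' : Y.proj (pr1 Y Y' f) = 0 := by rw [proj_pr1, h0', map_zero]
      have h4 : mkG Y Y' f = 0 := by
        rw [(memH f).1 hf, h0'', map_zero]
      obtain ⟨w, hw⟩ := (mkG_eq_zero_iff Y Y' f).1 h4
      have h5 : Y'.incl w = 0 := by
        have : pr2 Y Y' (diag Y Y' w) = pr2 Y Y' f := by rw [hw]
        rw [h0'] at this
        exact this
      have hw0 : w = 0 := Y'.isExtension.incl_injective (h5.trans (map_zero _).symm)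
      apply Subtype.ext
      change f = 0
      rw [← hw, hw0]
      apply Subtype.ext
      apply Prod.ext
      · change Y.incl 0 = 0
        rw [map_zero]
      · change Y'.incl 0 = 0
        rw [map_zero]
    · intro e'
      obtain ⟨f, hfH, hf⟩ := hex (Y'.proj e')
      have h4 : Y'.proj (e' - pr2 Y Y' f) = 0 := by rw [map_sub, ← proj_pr1, hf, sub_self]
      obtain ⟨z, hz⟩ := (Y'.isExtension.exact _).1 h4
      refine ⟨⟨f + diag Y Y' z, H.add_mem hfH (hdiagH z)⟩, ?_⟩
      change pr2 Y Y' (f + diag Y Y' z) = e'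
      rw [map_add]
      change pr2 Y Y' f + Y'.incl z = e'
      rw [hz]; ring
  let e1 : H ≃ₐ[A] Y.E := AlgEquiv.ofBijective q1 q1_bij
  let e2 : H ≃ₐ[A] Y'.E := AlgEquiv.ofBijective q2 q2_bij
  refine ⟨⟨e1.symm.trans e2, ?_, ?_⟩⟩
  · intro e
    obtain ⟨h, rfl⟩ := e1.surjective e
    rw [AlgEquiv.trans_apply, AlgEquiv.symm_apply_apply]
    change Y'.proj (pr2 Y Y' h.1) = Y.proj (pr1 Y Y' h.1)
    rw [proj_pr1]
  · intro z
    have : e1 ⟨diag Y Y' z, hdiagH z⟩ = Y.incl z := rfl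
    rw [← this, AlgEquiv.trans_apply, AlgEquiv.symm_apply_apply]
    rfl

end Lam

end Groth.Agent.Helper9.ExalBaer
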