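import Groth.Prelude.Def_Exal2
import Mathlib
import Groth.Agent.Lib.Helper9.ExalBaer

set_option autoImplicit false
set_option linter.unusedSectionVars false
universe u v

namespace Groth.Agent.Helper9.ExalBaer

open Exal

attribute [local instance] Exal.opModule Exal.isCentralScalar_opModule

section Gen

variable {A : Type u} {B L : Type v} [CommRing A] [CommRing B] [Algebra A B]
  [AddCommGroup L] [Module B L]

lemma equiv_trivial_of_isTrivial (X : Ext A B L) (h : X.IsTrivial) :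
    Nonempty ((Ext.trivial A B L).Equiv X) := by
  obtain ⟨s, hs⟩ := h
  refine ⟨⟨AlgEquiv.ofBijective
    { toRingHom := (ExalLib.psi X s.toRingHom hs : (Ext.trivial A B L).E →+* X.E)
      commutes' := ?_ } (ExalLib.psi_bijective X s.toRingHom hs), ?_, ?_⟩⟩
  · intro a
    change ExalLib.psi X s.toRingHom hs (TrivSqZeroExt.inl (algebraMap A B a)) = _
    rw [ExalLib.psi_apply, TrivSqZeroExt.fst_inl, TrivSqZeroExt.snd_inl, map_zero, add_zero]
    exact s.commutes a
  · intro y
    exact ExalLib.proj_psi X s.toRingHom hs y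
  · intro z
    exact ExalLib.psi_inr X s.toRingHom hs z

lemma isTrivial_of_equiv {X X' : Ext A B L} (e : X.Equiv X') (h : X'.IsTrivial) : X.IsTrivial := by
  obtain ⟨s, hs⟩ := h
  refine ⟨e.symm.toAlgEquiv.toAlgHom.comp s, fun b => ?_⟩
  change X.proj (e.symm.toAlgEquiv (s b)) = b
  rw [e.symm.proj_apply, hs]

lemma trivial_isTrivial : (Ext.trivial A B L).IsTrivial := by
  refine ⟨{ toRingHom := (TrivSqZeroExt.inlHom B L : B →+* (Ext.trivial A B L).E)
            commutes' := fun a => rfl }, fun b => rfl⟩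

end Gen

section Main

variable {A : Type u} {Λ R L : Type v} [CommRing A] [CommRing Λ] [CommRing R]
  [Algebra A Λ] [Algebra Λ R] [Algebra A R] [IsScalarTower A Λ R]
  [AddCommGroup L] [Module R L] [Module Λ L] [IsScalarTower Λ R L]

/-- injectivity of the inverse image map when there are no `Λ`-extensions -/
theorem pullback_injective (htriv : ∀ X : Ext Λ R L, X.IsTrivial) (Y Y' : Ext A R L)
    (θ : (Y.pullback Λ).Equiv (Y'.pullback Λ)) : Nonempty (Y.Equiv Y') := by
  let πP : (Y.pullback Λ).E →ₐ[A] Λ := (Y.pullback Λ).proj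
  have hπ : Function.Surjective πP := (Y.pullback Λ).isExtension.proj_surjective
  let eP : (Y.pullback Λ).E →ₐ[A] Y.E := (AlgHom.fst A Y.E Λ).comp (Y.fiberProd Λ).val
  let eP0 : (Y'.pullback Λ).E →ₐ[A] Y'.E := (AlgHom.fst A Y'.E Λ).comp (Y'.fiberProd Λ).val
  let eP' : (Y.pullback Λ).E →ₐ[A] Y'.E := eP0.comp θ.toAlgEquiv.toAlgHom
  have h1 : ∀ x, Y.proj (eP x) = algebraMap Λ R (πP x) := fun x =>
    (ExalLib.mem_fiberProd Y _).1 (show Y.fiberProd Λ from x).2
  have h2 : ∀ x, Y'.proj (eP' x) = algebraMap Λ R (πP x) := fun x => by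
    have h := (ExalLib.mem_fiberProd Y' _).1 (show Y'.fiberProd Λ from θ.toAlgEquiv x).2
    have h' : (Y'.pullback Λ).proj (θ.toAlgEquiv x) = πP x := θ.proj_apply x
    rw [← h']
    exact h
  have h3 : ∀ x, πP x = 0 → ∃ z, eP x = Y.incl z ∧ eP' x = Y'.incl z := by
    intro x hx
    obtain ⟨z, rfl⟩ := ((Y.pullback Λ).isExtension.exact x).1 hx
    refine ⟨z, rfl, ?_⟩
    change eP0 (θ.toAlgEquiv ((Y.pullback Λ).incl z)) = _
    rw [θ.apply_incl]
    rfl
  exact equiv_of_baer_trivial πP hπ eP eP' h1 h2 h3 (htriv _)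

variable [Module A L] [IsScalarTower A Λ L] [IsScalarTower A R L]

lemma trivial_pullback_isTrivial : ((Ext.trivial A R L).pullback Λ).IsTrivial := by
  let f : Λ →ₐ[A] (Ext.trivial A R L).E :=
    { toRingHom := ((TrivSqZeroExt.inlHom R L).comp (algebraMap Λ R) :
        Λ →+* (Ext.trivial A R L).E)
      commutes' := fun a => by
        change TrivSqZeroExt.inl (algebraMap Λ R (algebraMap A Λ a)) =
          TrivSqZeroExt.inl (algebraMap A R a)
        rw [← IsScalarTower.algebraMap_apply] }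
  have hf : ∀ a, (Ext.trivial A R L).proj (f a) = algebraMap Λ R a := fun a => rfl
  let g : Λ →ₐ[A] (Ext.trivial A R L).E × Λ := AlgHom.prod f (AlgHom.id A Λ)
  have hg : ∀ a, g a ∈ (Ext.trivial A R L).fiberProd Λ := fun a =>
    (ExalLib.mem_fiberProd _ _).2 (hf a)
  exact ⟨g.codRestrict _ hg, fun a => rfl⟩

theorem main11292 :
    (∀ X : Ext Λ R L, X.IsTrivial) ↔
    ((∀ D : Derivation A Λ L, ∃ D' : Derivation A R L, ∀ a : Λ, D' (algebraMap Λ R a) = D a) ∧
     (∀ Y Y' : Ext A R L, Nonempty ((Y.pullback Λ).Equiv (Y'.pullback Λ)) →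
        Nonempty (Y.Equiv Y'))) := by
  constructor
  · intro htriv
    refine ⟨fun D => ?_, fun Y Y' ⟨θ⟩ => pullback_injective htriv Y Y' θ⟩
    obtain ⟨D', hD'⟩ := (ExalLib.main5817 (C := R) D).1 (htriv _)
    refine ⟨D', fun a => ?_⟩
    rw [← hD']
    rfl
  · rintro ⟨hD, hinj⟩ X
    -- the underlying `A`-extension is trivial
    have h1 : ((X.restrictBase A).pullback Λ).IsTrivial :=
      (ExalLib.main5819 (X.restrictBase A)).2 ⟨X, ⟨Ext.Equiv.refl _⟩⟩
    obtain ⟨e1⟩ := equiv_trivial_of_isTrivial _ h1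
    obtain ⟨e2⟩ := equiv_trivial_of_isTrivial _
      (trivial_pullback_isTrivial (A := A) (Λ := Λ) (R := R) (L := L))
    obtain ⟨e3⟩ := hinj (X.restrictBase A) (Ext.trivial A R L) ⟨e1.symm.trans e2⟩
    have h2 : X.IsTrivialOver A := isTrivial_of_equiv e3 trivial_isTrivial
    obtain ⟨D, ⟨e4⟩⟩ := (ExalLib.main5818 X).1 h2
    obtain ⟨D', hD'⟩ := hD D
    have h3 : (Ext.ofDerivation (C := R) D).IsTrivial :=
      (ExalLib.main5817 (C := R) D).2 ⟨D', by ext a; exact hD' a⟩
    exact isTrivial_of_equiv e4 h3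

end Main

end Groth.Agent.Helper9.ExalBaer
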