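import Mathlib
import Groth.Prelude.Def_Exal
import Groth.Prelude.Def_Exal2
import Groth.Agent.Lib.Helper9.ExalLib

set_option autoImplicit false
set_option linter.unusedSectionVars false
set_option linter.style.haveILetI false
universe u v

namespace Groth.Agent.Helper9.Framed

open Exal Groth.Agent.Helper9.ExalLib

attribute [local instance] Exal.opModule Exal.isCentralScalar_opModule

variable {A : Type u} {R B M : Type v} [CommRing A] [CommRing R] [CommRing B]
  [Algebra A R] [Algebra A B] [Algebra R B] [IsScalarTower A R B]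
  [AddCommGroup M] [Module B M] [Module R M] [IsScalarTower R B M]

/-- the kernel ideal of `R → B` -/
abbrev I (R B : Type v) [CommRing R] [CommRing B] [Algebra R B] : Ideal R :=
  RingHom.ker (algebraMap R B)

lemma smul_eq_zero_of_mem {x : R} (hx : x ∈ I R B) (m : M) : x • m = 0 := by
  rw [← IsScalarTower.algebraMap_smul B x m, (RingHom.mem_ker).1 hx, zero_smul]

section Model

variable (k : I R B →ₗ[R] M)

/-- the graph element attached to `x ∈ I` -/
noncomputable def gr (x : I R B) : TrivSqZeroExt R M :=
  TrivSqZeroExt.inl (x : R) + TrivSqZeroExt.inr (-(k x))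

lemma fst_gr (x : I R B) : TrivSqZeroExt.fst (gr k x) = (x : R) := by
  simp [gr]

lemma snd_gr (x : I R B) : TrivSqZeroExt.snd (gr k x) = -(k x) := by
  simp [gr]

/-- the ideal of relations -/
noncomputable def relIdeal : Ideal (TrivSqZeroExt R M) where
  carrier := {t | ∃ x : I R B, t = gr k x}
  add_mem' := by
    rintro _ _ ⟨x, rfl⟩ ⟨x', rfl⟩
    refine ⟨x + x', ?_⟩
    apply TrivSqZeroExt.ext
    · simp [fst_gr]
    · simp only [TrivSqZeroExt.snd_add, snd_gr, map_add]; abel
  zero_mem' := ⟨0, by
    apply TrivSqZeroExt.ext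
    · simp [fst_gr]
    · simp [snd_gr]⟩
  smul_mem' := by
    rintro t _ ⟨x, rfl⟩
    refine ⟨TrivSqZeroExt.fst t • x, ?_⟩
    apply TrivSqZeroExt.ext
    · simp [fst_gr]
    · rw [smul_eq_mul, TrivSqZeroExt.snd_mul, snd_gr, fst_gr, snd_gr, op_smul_eq_smul,
        smul_eq_zero_of_mem x.2, add_zero, map_smul, smul_neg]

lemma mem_relIdeal (t : TrivSqZeroExt R M) : t ∈ relIdeal k ↔ ∃ x : I R B, t = gr k x := Iff.rfl

/-- carrier of the model extension -/
def EK : Type v := TrivSqZeroExt R M ⧸ relIdeal k

noncomputable instance : CommRing (EK k) := Ideal.Quotient.commRing (relIdeal k)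

/-- the quotient map -/
noncomputable def mkK : TrivSqZeroExt R M →+* EK k := Ideal.Quotient.mk (relIdeal k)

lemma mkK_surjective : Function.Surjective (mkK k) := Ideal.Quotient.mk_surjective

lemma mkK_eq_zero_iff (t : TrivSqZeroExt R M) : mkK k t = 0 ↔ t ∈ relIdeal k :=
  Ideal.Quotient.eq_zero_iff_mem

noncomputable instance : Algebra A (EK k) :=
  RingHom.toAlgebra ((mkK k).comp ((TrivSqZeroExt.inlHom R M).comp (algebraMap A R)))

lemma algebraMap_EK (a : A) :
    algebraMap A (EK k) a = mkK k (TrivSqZeroExt.inl (algebraMap A R a)) := rfl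

/-- projection, as a ring hom -/
noncomputable def projKR : EK k →+* B :=
  Ideal.Quotient.lift (relIdeal k)
    ((algebraMap R B).comp (TrivSqZeroExt.fstHom R R M).toRingHom) (by
      rintro _ ⟨x, rfl⟩
      change algebraMap R B (TrivSqZeroExt.fst (gr k x)) = 0
      rw [fst_gr]
      exact x.2)

lemma projKR_mk (t : TrivSqZeroExt R M) :
    projKR k (mkK k t) = algebraMap R B (TrivSqZeroExt.fst t) := rfl

variable (A) in
/-- projection -/
noncomputable def projK : EK k →ₐ[A] B :=
  { projKR k with
    commutes' := fun a => by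
      change projKR k (mkK k (TrivSqZeroExt.inl (algebraMap A R a))) = algebraMap A B a
      rw [projKR_mk, TrivSqZeroExt.fst_inl, ← IsScalarTower.algebraMap_apply A R B] }

lemma projK_mk (t : TrivSqZeroExt R M) :
    projK A k (mkK k t) = algebraMap R B (TrivSqZeroExt.fst t) := rfl

/-- inclusion -/
noncomputable def inclK : M →+ EK k :=
  (mkK k).toAddMonoidHom.comp (TrivSqZeroExt.inrHom R M).toAddMonoidHom

lemma inclK_apply (m : M) : inclK k m = mkK k (TrivSqZeroExt.inr m) := rfl

variable (hπ : Function.Surjective (algebraMap R B))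

variable (A) in
/-- the model extension -/
noncomputable def extK : Exal.Ext A B M where
  E := EK k
  proj := projK A k
  incl := inclK k
  isExtension :=
    { proj_surjective := fun c => by
        obtain ⟨r, rfl⟩ := hπ c
        exact ⟨mkK k (TrivSqZeroExt.inl r), by rw [projK_mk, TrivSqZeroExt.fst_inl]⟩
      incl_injective := by
        rw [injective_iff_map_eq_zero]
        intro m hm
        rw [inclK_apply, mkK_eq_zero_iff, mem_relIdeal] at hm
        obtain ⟨x, hx⟩ := hm
        have h1 := congrArg TrivSqZeroExt.fst hx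
        rw [TrivSqZeroExt.fst_inr, fst_gr] at h1
        have h2 := congrArg TrivSqZeroExt.snd hx
        rw [TrivSqZeroExt.snd_inr, snd_gr] at h2
        have hx0 : x = 0 := Subtype.ext h1.symm
        rw [h2, hx0, map_zero, neg_zero]
      exact := fun y => by
        obtain ⟨t, rfl⟩ := mkK_surjective k y
        rw [projK_mk]
        constructor
        · intro ht
          have ht' : TrivSqZeroExt.fst t ∈ I R B := ht
          refine ⟨TrivSqZeroExt.snd t + k ⟨_, ht'⟩, ?_⟩
          rw [inclK_apply, eq_comm, ← sub_eq_zero, ← map_sub, mkK_eq_zero_iff, mem_relIdeal]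
          refine ⟨⟨_, ht'⟩, ?_⟩
          apply TrivSqZeroExt.ext
          · simp [fst_gr]
          · simp [snd_gr]
        · rintro ⟨m, hm⟩
          rw [inclK_apply, ← sub_eq_zero, ← map_sub, mkK_eq_zero_iff, mem_relIdeal] at hm
          obtain ⟨x, hx⟩ := hm
          have h1 := congrArg TrivSqZeroExt.fst hx
          rw [TrivSqZeroExt.fst_sub, TrivSqZeroExt.fst_inr, fst_gr, zero_sub] at h1
          have : TrivSqZeroExt.fst t = -(x : R) := by rw [← h1, neg_neg]
          rw [this, map_neg, neg_eq_zero]
          exact x.2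
      mul_incl := fun y m => by
        obtain ⟨t, rfl⟩ := mkK_surjective k y
        rw [inclK_apply, inclK_apply, ← map_mul, projK_mk]
        congr 1
        apply TrivSqZeroExt.ext
        · simp
        · rw [TrivSqZeroExt.snd_mul, TrivSqZeroExt.snd_inr, TrivSqZeroExt.fst_inr,
            MulOpposite.op_zero, zero_smul, add_zero, TrivSqZeroExt.snd_inr,
            IsScalarTower.algebraMap_smul] }

variable (A) in
/-- the canonical framing of the model -/
noncomputable def uK : R →ₐ[A] (extK A k hπ).E :=
  { ((mkK k).comp (TrivSqZeroExt.inlHom R M) : R →+* EK k) with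
    commutes' := fun a => rfl }

lemma uK_apply (r : R) : uK A k hπ r = mkK k (TrivSqZeroExt.inl r) := rfl

lemma proj_uK (r : R) : (extK A k hπ).proj (uK A k hπ r) = algebraMap R B r := by
  change projK A k (mkK k (TrivSqZeroExt.inl r)) = _
  rw [projK_mk, TrivSqZeroExt.fst_inl]

lemma uK_mem (x : I R B) : uK A k hπ x = (extK A k hπ).incl (k x) := by
  change mkK k (TrivSqZeroExt.inl (x : R)) = inclK k (k x)
  rw [inclK_apply, ← sub_eq_zero, ← map_sub, mkK_eq_zero_iff, mem_relIdeal]
  refine ⟨x, ?_⟩
  apply TrivSqZeroExt.ext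
  · simp [fst_gr]
  · simp [snd_gr]

end Model

section Framing

variable (X : Exal.Ext A B M) (u : R →ₐ[A] X.E) (hu : ∀ r, X.proj (u r) = algebraMap R B r)

include hu in
lemma proj_u_mem (x : I R B) : X.proj (u x) = 0 := by
  rw [hu]; exact x.2

include hu in
lemma incl_smul_R (r : R) (m : M) : X.incl (r • m) = u r * X.incl m := by
  rw [X.isExtension.mul_incl, hu, IsScalarTower.algebraMap_smul]

/-- the element of `M` under `u x`, `x ∈ I` -/
noncomputable def kfun (x : I R B) : M := X.kerLift (u x) (proj_u_mem X u hu x)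

lemma incl_kfun (x : I R B) : X.incl (kfun X u hu x) = u x := X.incl_kerLift _ _

/-- the conormal datum of a framed extension -/
noncomputable def kOf : I R B →ₗ[R] M where
  toFun := kfun X u hu
  map_add' x y := by
    apply X.isExtension.incl_injective
    rw [map_add, incl_kfun, incl_kfun, incl_kfun, Submodule.coe_add, map_add]
  map_smul' r x := by
    apply X.isExtension.incl_injective
    rw [RingHom.id_apply, incl_smul_R X u hu, incl_kfun, incl_kfun,
      Submodule.coe_smul, smul_eq_mul, map_mul]

lemma incl_kOf (x : I R B) : X.incl (kOf X u hu x) = u x := incl_kfun X u hu x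

/-- the map `R ⊕ M → E` -/
noncomputable def psiU : TrivSqZeroExt R M →+* X.E where
  toFun y := u (TrivSqZeroExt.fst y) + X.incl (TrivSqZeroExt.snd y)
  map_one' := by
    rw [TrivSqZeroExt.fst_one, TrivSqZeroExt.snd_one, map_one, map_zero, add_zero]
  map_mul' y y' := by
    rw [TrivSqZeroExt.fst_mul, TrivSqZeroExt.snd_mul, map_mul, map_add, op_smul_eq_smul,
      incl_smul_R X u hu, incl_smul_R X u hu]
    have h3 := incl_mul_incl X (TrivSqZeroExt.snd y) (TrivSqZeroExt.snd y')
    have e : (u (TrivSqZeroExt.fst y) + X.incl (TrivSqZeroExt.snd y)) *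
        (u (TrivSqZeroExt.fst y') + X.incl (TrivSqZeroExt.snd y')) =
        u (TrivSqZeroExt.fst y) * u (TrivSqZeroExt.fst y') +
          (u (TrivSqZeroExt.fst y) * X.incl (TrivSqZeroExt.snd y') +
            u (TrivSqZeroExt.fst y') * X.incl (TrivSqZeroExt.snd y)) +
          X.incl (TrivSqZeroExt.snd y) * X.incl (TrivSqZeroExt.snd y') := by ring
    rw [e, h3, add_zero]
  map_zero' := by
    rw [TrivSqZeroExt.fst_zero, TrivSqZeroExt.snd_zero, map_zero, map_zero, add_zero]
  map_add' y y' := by
    rw [TrivSqZeroExt.fst_add, TrivSqZeroExt.snd_add, map_add, map_add]; abel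

lemma psiU_apply (y : TrivSqZeroExt R M) :
    psiU X u hu y = u (TrivSqZeroExt.fst y) + X.incl (TrivSqZeroExt.snd y) := rfl

lemma psiU_gr (x : I R B) : psiU X u hu (gr (kOf X u hu) x) = 0 := by
  rw [psiU_apply, fst_gr, snd_gr, map_neg, incl_kOf, add_neg_cancel]

/-- the induced map from the model -/
noncomputable def fromKR : EK (kOf X u hu) →+* X.E :=
  Ideal.Quotient.lift (relIdeal (kOf X u hu)) (psiU X u hu) (by
    rintro _ ⟨x, rfl⟩
    exact psiU_gr X u hu x)

lemma fromKR_mk (t : TrivSqZeroExt R M) :
    fromKR X u hu (mkK (kOf X u hu) t) = psiU X u hu t := rfl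

/-- the induced map from the model, as an algebra map -/
noncomputable def fromK : EK (kOf X u hu) →ₐ[A] X.E :=
  { fromKR X u hu with
    commutes' := fun a => by
      change fromKR X u hu (mkK _ (TrivSqZeroExt.inl (algebraMap A R a))) = algebraMap A X.E a
      rw [fromKR_mk, psiU_apply, TrivSqZeroExt.fst_inl, TrivSqZeroExt.snd_inl, map_zero, add_zero,
        AlgHom.commutes] }

lemma fromK_mk (t : TrivSqZeroExt R M) :
    fromK X u hu (mkK (kOf X u hu) t) = psiU X u hu t := rfl

variable (hπ : Function.Surjective (algebraMap R B))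

include hπ in
lemma fromK_bijective : Function.Bijective (fromK X u hu) := by
  constructor
  · rw [injective_iff_map_eq_zero]
    intro y hy
    obtain ⟨t, rfl⟩ := mkK_surjective _ y
    rw [fromK_mk, psiU_apply] at hy
    have h1 : X.proj (u (TrivSqZeroExt.fst t) + X.incl (TrivSqZeroExt.snd t)) = 0 := by
      rw [hy, map_zero]
    rw [map_add, proj_incl, add_zero, hu] at h1
    have h1' : TrivSqZeroExt.fst t ∈ I R B := h1
    rw [mkK_eq_zero_iff, mem_relIdeal]
    refine ⟨⟨_, h1'⟩, ?_⟩
    apply TrivSqZeroExt.ext
    · rw [fst_gr]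
    · rw [snd_gr]
      apply X.isExtension.incl_injective
      rw [map_neg, incl_kOf]
      exact eq_neg_of_add_eq_zero_right hy
  · intro e
    obtain ⟨r, hr⟩ := hπ (X.proj e)
    have h1 : X.proj (e - u r) = 0 := by
      rw [map_sub, hu, hr, sub_self]
    obtain ⟨m, hm⟩ := (X.isExtension.exact _).1 h1
    refine ⟨mkK _ (TrivSqZeroExt.inl r + TrivSqZeroExt.inr m), ?_⟩
    rw [fromK_mk, psiU_apply, TrivSqZeroExt.fst_add, TrivSqZeroExt.fst_inl, TrivSqZeroExt.fst_inr,
      add_zero, TrivSqZeroExt.snd_add, TrivSqZeroExt.snd_inl, TrivSqZeroExt.snd_inr, zero_add, hm]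
    abel

/-- every framed extension is equivalent to the model with the same conormal datum -/
noncomputable def equivK : (extK A (kOf X u hu) hπ).Equiv X where
  toAlgEquiv := AlgEquiv.ofBijective (fromK X u hu) (fromK_bijective X u hu hπ)
  proj_apply y := by
    obtain ⟨t, rfl⟩ := mkK_surjective _ y
    change X.proj (fromK X u hu (mkK _ t)) = projK A _ (mkK _ t)
    rw [fromK_mk, psiU_apply, map_add, proj_incl, add_zero, hu, projK_mk]
  apply_incl m := by
    change fromK X u hu (inclK _ m) = X.incl m
    rw [inclK_apply, fromK_mk, psiU_apply, TrivSqZeroExt.fst_inr, TrivSqZeroExt.snd_inr, map_zero,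
      zero_add]

include hπ in
theorem equiv_of_kOf_eq {X X' : Exal.Ext A B M} (u : R →ₐ[A] X.E)
    (hu : ∀ r, X.proj (u r) = algebraMap R B r) (u' : R →ₐ[A] X'.E)
    (hu' : ∀ r, X'.proj (u' r) = algebraMap R B r) (h : kOf X u hu = kOf X' u' hu') :
    Nonempty (X.Equiv X') := by
  have e1 := equivK X u hu hπ
  have e2 := equivK X' u' hu' hπ
  rw [← h] at e2
  exact ⟨e1.symm.trans e2⟩

lemma kOf_extK (k : I R B →ₗ[R] M) :
    kOf (extK A k hπ) (uK A k hπ) (proj_uK k hπ) = k := by
  ext x
  apply (extK A k hπ).isExtension.incl_injective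
  rw [incl_kOf, uK_mem]

/-- equivalent extensions with transported framings have the same conormal datum -/
lemma kOf_equiv {X X' : Exal.Ext A B M} (θ : X.Equiv X') (u : R →ₐ[A] X.E)
    (hu : ∀ r, X.proj (u r) = algebraMap R B r) :
    kOf X' (θ.toAlgEquiv.toAlgHom.comp u) (fun r => by
      change X'.proj (θ.toAlgEquiv (u r)) = _
      rw [θ.proj_apply, hu]) = kOf X u hu := by
  ext x
  apply X'.isExtension.incl_injective
  rw [incl_kOf, ← θ.apply_incl, incl_kOf]
  rfl

end Framing

section Twist

variable [Module A M] [IsScalarTower A B M]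
variable (X : Exal.Ext A B M) (u : R →ₐ[A] X.E) (hu : ∀ r, X.proj (u r) = algebraMap R B r)

/-- twisting a framing by a derivation -/
noncomputable def twist (D : Derivation A R M) : R →ₐ[A] X.E where
  toFun r := u r + X.incl (D r)
  map_one' := by rw [map_one, Derivation.map_one_eq_zero, map_zero, add_zero]
  map_mul' r s := by
    rw [map_mul, Derivation.leibniz, map_add, incl_smul_R X u hu, incl_smul_R X u hu]
    have h3 := incl_mul_incl X (D r) (D s)
    linear_combination (-1 : X.E) * h3
  map_zero' := by rw [map_zero, map_zero, map_zero, add_zero]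
  map_add' r s := by rw [map_add, map_add, map_add]; abel
  commutes' a := by
    rw [AlgHom.commutes, Derivation.map_algebraMap, map_zero, add_zero]

lemma twist_apply (D : Derivation A R M) (r : R) : twist X u hu D r = u r + X.incl (D r) := rfl

lemma proj_twist (D : Derivation A R M) (r : R) :
    X.proj (twist X u hu D r) = algebraMap R B r := by
  rw [twist_apply, map_add, proj_incl, add_zero, hu]

lemma kOf_twist (D : Derivation A R M) (x : I R B) :
    kOf X (twist X u hu D) (proj_twist X u hu D) x = kOf X u hu x + D x := by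
  apply X.isExtension.incl_injective
  rw [incl_kOf, map_add, incl_kOf, twist_apply]

include hu in
/-- two framings differ by a derivation -/
lemma exists_der (u' : R →ₐ[A] X.E) (hu' : ∀ r, X.proj (u' r) = algebraMap R B r) :
    ∃ D : Derivation A R M, ∀ r, u' r = u r + X.incl (D r) := by
  have hp : ∀ r, ∃ m, X.incl m = u' r - u r := fun r => by
    have h0 : X.proj (u' r - u r) = 0 := by rw [map_sub, hu, hu', sub_self]
    obtain ⟨m, hm⟩ := (X.isExtension.exact _).1 h0
    exact ⟨m, hm⟩
  choose d hd using hp
  refine ⟨{ toFun := d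
            map_add' := fun r s => ?_
            map_smul' := fun a r => ?_
            map_one_eq_zero' := ?_
            leibniz' := fun r s => ?_ }, fun r => ?_⟩
  · apply X.isExtension.incl_injective
    rw [map_add, hd, hd, hd, map_add, map_add]; abel
  · apply X.isExtension.incl_injective
    rw [RingHom.id_apply, hd]
    have h1 : a • d r = algebraMap A B a • d r := by
      rw [algebraMap_smul]
    rw [h1, ← X.proj.commutes a, ← X.isExtension.mul_incl, hd, map_smul, map_smul,
      Algebra.smul_def, Algebra.smul_def]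
    ring
  · apply X.isExtension.incl_injective
    change X.incl (d 1) = _
    rw [hd, map_one, map_one, sub_self, map_zero]
  · apply X.isExtension.incl_injective
    change X.incl (d (r * s)) = X.incl (r • d s + s • d r)
    rw [map_add, incl_smul_R X u' hu', incl_smul_R X u hu, hd, hd, hd, map_mul, map_mul]
    ring
  · change u' r = u r + X.incl (d r)
    rw [hd]; ring

end Twist

end Groth.Agent.Helper9.Framed
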