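import Mathlib
import Groth.Prelude.Def_CotT2
import Groth.Prelude.Def_Exal
import Groth.Agent.Lib.Helper9.CotLib1
import Groth.Agent.Lib.Helper9.Framed
import Groth.Agent.Lib.Helper9.ExalBaer2

set_option autoImplicit false
set_option linter.unusedSectionVars false
set_option linter.style.haveILetI false
universe u t

namespace Groth.Agent.Helper9.CotLib

open CotT TensorProduct Exal Groth.Agent.Helper9.Framed

variable {A B : Type u} {ι : Type u} {σ : Type t} [CommRing A] [CommRing B] [Algebra A B]
variable (P : Algebra.Presentation A B ι σ)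
variable (M : Type u) [AddCommGroup M] [Module B M]
variable [Module P.toExtension.Ring M] [IsScalarTower P.toExtension.Ring B M]

/-- the cochain attached to a conormal datum -/
noncomputable def cocK (k : I P.toExtension.Ring B →ₗ[P.toExtension.Ring] M) : L1 P →ₗ[B] M :=
  LinearMap.liftBaseChange B (k ∘ₗ jker P)

variable {M}

lemma cocK_tmul (k : I P.toExtension.Ring B →ₗ[P.toExtension.Ring] M) (b : B) (f : relMod P) :
    cocK P M k (b ⊗ₜ f) = b • k (jker P f) := by
  simp [cocK]

lemma cocK_mem (k : I P.toExtension.Ring B →ₗ[P.toExtension.Ring] M) :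
    cocK P M k ∈ cocycles1 P M := by
  rw [LinearMap.mem_ker, d2Star_apply]
  refine Submodule.linearMap_qext _ ?_
  refine TensorProduct.AlgebraTensorModule.ext fun b q => ?_
  have hq : jmap P (q : relMod P) = 0 := q.2
  have : jker P (q : relMod P) = 0 := Subtype.ext hq
  simp only [LinearMap.coe_comp, Function.comp_apply, Submodule.mkQ_apply, LinearMap.zero_apply]
  erw [d2_mk_tmul]
  rw [cocK_tmul, this, map_zero, smul_zero]

lemma cocK_add (k k' : I P.toExtension.Ring B →ₗ[P.toExtension.Ring] M) :
    cocK P M (k + k') = cocK P M k + cocK P M k' := by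
  refine TensorProduct.AlgebraTensorModule.ext fun b f => ?_
  simp only [LinearMap.add_apply, cocK_tmul, smul_add]

lemma cocK_injective {k k' : I P.toExtension.Ring B →ₗ[P.toExtension.Ring] M}
    (h : cocK P M k = cocK P M k') : k = k' := by
  ext x
  have hx : (x : P.toExtension.Ring) ∈ LinearMap.range (jmap P) := by
    rw [range_jmap]; exact x.2
  obtain ⟨f, hf⟩ := hx
  have hx' : jker P f = x := Subtype.ext hf
  have := LinearMap.congr_fun h ((1 : B) ⊗ₜ f)
  rw [cocK_tmul, cocK_tmul, one_smul, one_smul, hx'] at this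
  exact this

lemma exists_cocK (c : L1 P →ₗ[B] M) (hc : c ∈ cocycles1 P M) :
    ∃ k : I P.toExtension.Ring B →ₗ[P.toExtension.Ring] M, cocK P M k = c := by
  rw [LinearMap.mem_ker, d2Star_apply] at hc
  obtain ⟨φ, hφ⟩ := exists_factor_of_cocycle P M c hc
  refine ⟨(φ.restrictScalars P.toExtension.Ring) ∘ₗ Algebra.Extension.Cotangent.mk, ?_⟩
  refine TensorProduct.AlgebraTensorModule.ext fun b f => ?_
  rw [cocK_tmul, ← hφ]
  simp only [LinearMap.coe_comp, Function.comp_apply, LinearMap.coe_restrictScalars, toCot_tmul,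
    map_smul]

/-- class of a conormal datum in `T¹` -/
noncomputable def clK (k : I P.toExtension.Ring B →ₗ[P.toExtension.Ring] M) : T1 P M :=
  Submodule.Quotient.mk ⟨cocK P M k, cocK_mem P k⟩

lemma clK_surjective : Function.Surjective (clK P (M := M)) := by
  intro t
  obtain ⟨⟨c, hc⟩, rfl⟩ := Submodule.Quotient.mk_surjective _ t
  obtain ⟨k, rfl⟩ := exists_cocK P c hc
  exact ⟨k, rfl⟩

variable (M)
variable [Module A M] [IsScalarTower A B M]

lemma isScalarTower_ARM : IsScalarTower A P.toExtension.Ring M := ⟨fun a r x => by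
  rw [← IsScalarTower.algebraMap_smul B (a • r) x, Algebra.smul_def, map_mul,
    ← IsScalarTower.algebraMap_apply, mul_smul, IsScalarTower.algebraMap_smul,
    IsScalarTower.algebraMap_smul]⟩

variable {M}

/-- restriction of a derivation to the kernel ideal is `R`-linear -/
noncomputable def derRes (D : Derivation A P.toExtension.Ring M) :
    I P.toExtension.Ring B →ₗ[P.toExtension.Ring] M where
  toFun x := D x
  map_add' x y := by rw [Submodule.coe_add, map_add]
  map_smul' r x := by
    rw [Submodule.coe_smul, smul_eq_mul, Derivation.leibniz, RingHom.id_apply,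
      smul_eq_zero_of_mem x.2, add_zero]

lemma derRes_apply (D : Derivation A P.toExtension.Ring M) (x : I P.toExtension.Ring B) :
    derRes P D x = D x := rfl

/-- the `B`-linear map on `L₀` attached to a derivation -/
noncomputable def psiD (D : Derivation A P.toExtension.Ring M) : L0 P →ₗ[B] M :=
  haveI := isScalarTower_ARM P M
  LinearMap.liftBaseChange B D.liftKaehlerDifferential

lemma psiD_tmul (D : Derivation A P.toExtension.Ring M) (b : B) (r : P.toExtension.Ring) :
    psiD P D (b ⊗ₜ KaehlerDifferential.D A P.toExtension.Ring r) = b • D r := by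
  haveI := isScalarTower_ARM P M
  simp only [psiD, LinearMap.liftBaseChange_tmul, Derivation.liftKaehlerDifferential_comp_D]

lemma psiD_comp_d1 (D : Derivation A P.toExtension.Ring M) :
    psiD P D ∘ₗ d1 P = cocK P M (derRes P D) := by
  refine TensorProduct.AlgebraTensorModule.ext fun b f => ?_
  rw [LinearMap.comp_apply, d1_tmul, map_smul, psiD_tmul, one_smul, cocK_tmul, derRes_apply]
  rfl

/-- the derivation attached to a `B`-linear map on `L₀` -/
noncomputable def derOf (ψ : L0 P →ₗ[B] M) : Derivation A P.toExtension.Ring M where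
  toFun r := ψ ((1 : B) ⊗ₜ KaehlerDifferential.D A P.toExtension.Ring r)
  map_add' r s := by rw [map_add, tmul_add, map_add]
  map_smul' a r := by
    rw [Derivation.map_smul, RingHom.id_apply, tmul_smul, ← algebraMap_smul B a, map_smul,
      algebraMap_smul]
  map_one_eq_zero' := by
    change ψ ((1 : B) ⊗ₜ KaehlerDifferential.D A P.toExtension.Ring 1) = 0
    rw [Derivation.map_one_eq_zero, tmul_zero, map_zero]
  leibniz' r s := by
    change ψ ((1 : B) ⊗ₜ KaehlerDifferential.D A P.toExtension.Ring (r * s)) =
      r • ψ ((1 : B) ⊗ₜ KaehlerDifferential.D A P.toExtension.Ring s) +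
      s • ψ ((1 : B) ⊗ₜ KaehlerDifferential.D A P.toExtension.Ring r)
    rw [Derivation.leibniz, tmul_add, map_add, tmul_smul, tmul_smul,
      ← IsScalarTower.algebraMap_smul B r, ← IsScalarTower.algebraMap_smul B s, map_smul, map_smul,
      IsScalarTower.algebraMap_smul, IsScalarTower.algebraMap_smul]


lemma derOf_apply (ψ : L0 P →ₗ[B] M) (r : P.toExtension.Ring) :
    derOf P ψ r = ψ ((1 : B) ⊗ₜ KaehlerDifferential.D A P.toExtension.Ring r) := rfl

lemma clK_add_derRes (k : I P.toExtension.Ring B →ₗ[P.toExtension.Ring] M)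
    (D : Derivation A P.toExtension.Ring M) : clK P (k + derRes P D) = clK P k := by
  rw [clK, clK, Submodule.Quotient.eq]
  refine ⟨psiD P D, ?_⟩
  rw [d1Star_apply, psiD_comp_d1]
  change _ = cocK P M (k + derRes P D) - cocK P M k
  rw [cocK_add, add_sub_cancel_left]

lemma exists_der_of_clK_eq {k k' : I P.toExtension.Ring B →ₗ[P.toExtension.Ring] M}
    (h : clK P k = clK P k') : ∃ D : Derivation A P.toExtension.Ring M, k = k' + derRes P D := by
  rw [clK, clK, Submodule.Quotient.eq] at h
  obtain ⟨ψ, hψ⟩ := h
  rw [d1Star_apply] at hψ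
  have hψ' : ψ ∘ₗ d1 P = cocK P M k - cocK P M k' := hψ
  refine ⟨derOf P ψ, ?_⟩
  ext x
  have hx : (x : P.toExtension.Ring) ∈ LinearMap.range (jmap P) := by
    rw [range_jmap]; exact x.2
  obtain ⟨f, hf⟩ := hx
  have hx' : jker P f = x := Subtype.ext hf
  have := LinearMap.congr_fun hψ' ((1 : B) ⊗ₜ f)
  rw [LinearMap.comp_apply, d1_tmul, one_smul, LinearMap.sub_apply, cocK_tmul, cocK_tmul, one_smul,
    one_smul, hx', hf] at this
  rw [LinearMap.add_apply, derRes_apply, derOf_apply, this]
  abel


section Frame

variable (X : Exal.Ext A B M)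

/-- a framing of an extension -/
noncomputable def frame : P.toExtension.Ring →ₐ[A] X.E :=
  MvPolynomial.aeval (fun i => Function.surjInv X.isExtension.proj_surjective (P.val i))

lemma proj_frame_aux (r : MvPolynomial ι A) :
    X.proj ((MvPolynomial.aeval (R := A)
      (fun i => Function.surjInv X.isExtension.proj_surjective (P.val i)) :
        MvPolynomial ι A →ₐ[A] X.E) r) = (MvPolynomial.aeval P.val : MvPolynomial ι A →ₐ[A] B) r := by
  rw [← AlgHom.comp_apply]
  congr 1
  apply MvPolynomial.algHom_ext
  intro i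
  rw [AlgHom.comp_apply, MvPolynomial.aeval_X, MvPolynomial.aeval_X]
  exact Function.surjInv_eq X.isExtension.proj_surjective (P.val i)

lemma proj_frame (r : P.toExtension.Ring) :
    X.proj (frame P X r) = algebraMap P.toExtension.Ring B r := by
  rw [algebraMap_toExtension]
  exact proj_frame_aux P X r

end Frame

lemma clK_kOf_eq {X X' : Exal.Ext A B M} (θ : X.Equiv X') (u : P.toExtension.Ring →ₐ[A] X.E)
    (hu : ∀ r, X.proj (u r) = algebraMap P.toExtension.Ring B r)
    (u' : P.toExtension.Ring →ₐ[A] X'.E)
    (hu' : ∀ r, X'.proj (u' r) = algebraMap P.toExtension.Ring B r) :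
    clK P (kOf X u hu) = clK P (kOf X' u' hu') := by
  have hu2 : ∀ r, X'.proj ((θ.toAlgEquiv.toAlgHom.comp u) r) = algebraMap P.toExtension.Ring B r := by
    intro r
    change X'.proj (θ.toAlgEquiv (u r)) = _
    rw [θ.proj_apply, hu]
  obtain ⟨D, hD⟩ := exists_der X' (θ.toAlgEquiv.toAlgHom.comp u) hu2 u' hu'
  have : kOf X' u' hu' = kOf X u hu + derRes P D := by
    ext x
    apply X'.isExtension.incl_injective
    rw [incl_kOf, LinearMap.add_apply, map_add, derRes_apply, hD, ← kOf_equiv θ u hu, incl_kOf]
  rw [this, clK_add_derRes]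

variable (M) in
/-- the comparison map from classes of extensions to `T¹` -/
noncomputable def Phi : Exal.Exalcom A B M → T1 P M :=
  Quotient.lift (fun X => clK P (kOf X (frame P X) (proj_frame P X))) (by
    rintro X X' ⟨θ⟩
    exact clK_kOf_eq P θ _ _ _ _)

lemma Phi_cl (X : Exal.Ext A B M) (u : P.toExtension.Ring →ₐ[A] X.E)
    (hu : ∀ r, X.proj (u r) = algebraMap P.toExtension.Ring B r) :
    Phi P M X.cl = clK P (kOf X u hu) :=
  clK_kOf_eq P (Exal.Ext.Equiv.refl X) _ _ _ _

lemma Phi_injective : Function.Injective (Phi P M) := by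
  intro a b h
  induction a using Quotient.inductionOn with | _ X => ?_
  induction b using Quotient.inductionOn with | _ X' => ?_
  change Phi P M X.cl = Phi P M X'.cl at h
  rw [Phi_cl P X _ (proj_frame P X), Phi_cl P X' _ (proj_frame P X')] at h
  obtain ⟨D, hD⟩ := exists_der_of_clK_eq P h
  apply Quotient.sound
  refine equiv_of_kOf_eq P.toExtension.algebraMap_surjective (frame P X) (proj_frame P X)
    (twist X' (frame P X') (proj_frame P X') D) (proj_twist X' _ (proj_frame P X') D) ?_
  rw [hD]
  ext x
  rw [kOf_twist, LinearMap.add_apply, derRes_apply]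

lemma Phi_surjective : Function.Surjective (Phi P M) := by
  intro t
  obtain ⟨k, rfl⟩ := clK_surjective P t
  refine ⟨(extK A k P.toExtension.algebraMap_surjective).cl, ?_⟩
  rw [Phi_cl P _ (uK A k P.toExtension.algebraMap_surjective)
    (proj_uK k P.toExtension.algebraMap_surjective), kOf_extK]

lemma Phi_zero : Phi P M 0 = 0 := by
  change Phi P M (Exal.Ext.trivial A B M).cl = 0
  obtain ⟨s, hs⟩ := ExalBaer.trivial_isTrivial (A := A) (B := B) (L := M)
  have hu : ∀ r, (Exal.Ext.trivial A B M).proj
      ((s.comp (IsScalarTower.toAlgHom A P.toExtension.Ring B)) r) =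
      algebraMap P.toExtension.Ring B r := fun r => hs _
  rw [Phi_cl P _ _ hu]
  have : kOf (Exal.Ext.trivial A B M) _ hu = 0 := by
    ext x
    apply (Exal.Ext.trivial A B M).isExtension.incl_injective
    rw [incl_kOf, LinearMap.zero_apply, map_zero]
    change s (algebraMap P.toExtension.Ring B x) = 0
    have hx : algebraMap P.toExtension.Ring B x = 0 := x.2
    rw [hx, map_zero]
  rw [this, clK, Submodule.Quotient.mk_eq_zero]
  have h0 : cocK P M 0 = 0 := by
    refine TensorProduct.AlgebraTensorModule.ext fun b f => ?_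
    rw [cocK_tmul, LinearMap.zero_apply, smul_zero, LinearMap.zero_apply]
  have h1 : (⟨cocK P M 0, cocK_mem P 0⟩ : cocycles1 P M) = 0 := Subtype.ext h0
  rw [h1]
  exact zero_mem _


end Groth.Agent.Helper9.CotLib

namespace Groth.Agent.Helper9.CotLib

open CotT Exal

/-- classes of extensions of `B` by `M` are in pointed bijection with `T¹` of any presentation
(with index type of the generators in the universe of the rings) -/
theorem main12292 (A B : Type u) [CommRing A] [CommRing B] [Algebra A B] (M : Type u)
    [AddCommGroup M] [Module B M] {ι : Type u} {σ : Type t} (P : Algebra.Presentation A B ι σ) :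
    ∃ e : Exal.Exalcom A B M ≃ CotT.T1 P M, e 0 = 0 := by
  letI : Module P.toExtension.Ring M := Module.compHom M (algebraMap P.toExtension.Ring B)
  haveI : IsScalarTower P.toExtension.Ring B M := IsScalarTower.of_compHom _ _ _
  letI : Module A M := Module.compHom M (algebraMap A B)
  haveI : IsScalarTower A B M := IsScalarTower.of_compHom _ _ _
  exact ⟨Equiv.ofBijective (Phi P M) ⟨Phi_injective P, Phi_surjective P⟩, Phi_zero P⟩

end Groth.Agent.Helper9.CotLib
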