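import Mathlib
import Groth.Agent.Lib.Helper9.OrbitLib

/-!
The action of the group of rational points `WithConv (A →ₐ[k] k)` on a comodule, as a
representation; density of rational points for reduced algebras of finite type over an
algebraically closed field.
-/

set_option autoImplicit false

namespace Groth.Agent.Helper9.ActRep

open TensorProduct Groth.Agent.Helper9 WithConv

universe u v w

section Act
variable {k : Type u} [Field k] {A : Type v} [CommRing A] [Bialgebra k A]
  {V : Type w} [AddCommGroup V] [Module k V] [HopfRep.Comod k A V]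

lemma act_eq_slice (g : A →ₐ[k] k) (v : V) :
    HopfRep.Comod.act k A V g v = slice g.toLinearMap (HopfRep.Comod.coact (k := k) (A := A) v) :=
  rfl

omit [HopfRep.Comod k A V] in
lemma slice_slice_assoc (g h : A →ₗ[k] k) (z : V ⊗[k] (A ⊗[k] A)) :
    slice g (slice h ((TensorProduct.assoc k V A A).symm z)) =
      slice (LinearMap.mul' k k ∘ₗ TensorProduct.map g h) z := by
  induction z using TensorProduct.induction_on with
  | zero => simp
  | tmul v y =>
    induction y using TensorProduct.induction_on with
    | zero => simp
    | tmul a b =>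
      simp only [TensorProduct.assoc_symm_tmul, slice_tmul, map_smul, LinearMap.comp_apply,
        TensorProduct.map_tmul, LinearMap.mul'_apply, smul_smul]
      rw [mul_comm]
    | add x y hx hy =>
      rw [TensorProduct.tmul_add, map_add, map_add, map_add, map_add, hx, hy]
  | add x y hx hy => rw [map_add, map_add, map_add, map_add, hx, hy]

omit [HopfRep.Comod k A V] in
lemma slice_lTensor_comul (φ : A ⊗[k] A →ₗ[k] k) (y : V ⊗[k] A) :
    slice φ ((CoalgebraStruct.comul (R := k) (A := A)).lTensor V y) =
      slice (φ ∘ₗ CoalgebraStruct.comul (R := k) (A := A)) y := by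
  induction y using TensorProduct.induction_on with
  | zero => simp
  | tmul v a => simp
  | add x y hx hy => rw [map_add, map_add, map_add, hx, hy]

theorem act_mul (g h : WithConv (A →ₐ[k] k)) :
    HopfRep.Comod.act k A V (g * h).ofConv =
      HopfRep.Comod.act k A V g.ofConv ∘ₗ HopfRep.Comod.act k A V h.ofConv := by
  apply LinearMap.ext
  intro v
  rw [LinearMap.comp_apply, act_eq_slice, act_eq_slice, act_eq_slice, ← slice_rTensor]
  have hco := LinearMap.congr_fun (HopfRep.Comod.coassoc (k := k) (A := A) (V := V)) v
  simp only [LinearMap.comp_apply, LinearEquiv.coe_coe] at hco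
  have h1 : (HopfRep.Comod.coact (k := k) (A := A) (V := V)).rTensor A
      (HopfRep.Comod.coact (k := k) (A := A) v) =
      (TensorProduct.assoc k V A A).symm ((CoalgebraStruct.comul (R := k) (A := A)).lTensor V
        (HopfRep.Comod.coact (k := k) (A := A) v)) := by
    rw [← hco, LinearEquiv.symm_apply_apply]
  rw [h1, slice_slice_assoc, slice_lTensor_comul]
  rfl

theorem act_one :
    HopfRep.Comod.act k A V (1 : WithConv (A →ₐ[k] k)).ofConv = LinearMap.id := by
  apply LinearMap.ext
  intro v
  rw [act_eq_slice]
  have hcu := LinearMap.congr_fun (HopfRep.Comod.counit_comp (k := k) (A := A) (V := V)) v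
  simp only [LinearMap.comp_apply, LinearMap.flip_apply, TensorProduct.mk_apply] at hcu
  have h1 : slice ((1 : WithConv (A →ₐ[k] k)).ofConv.toLinearMap)
      (HopfRep.Comod.coact (k := k) (A := A) v) =
      TensorProduct.rid k V ((CoalgebraStruct.counit (R := k) (A := A)).lTensor V
        (HopfRep.Comod.coact (k := k) (A := A) v)) := rfl
  rw [h1, hcu]
  simp

variable (k A V) in
/-- the representation of the group of rational points on a comodule -/
noncomputable def actRep : Representation k (WithConv (A →ₐ[k] k)) V where
  toFun g := HopfRep.Comod.act k A V g.ofConv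
  map_one' := act_one
  map_mul' g h := act_mul g h

lemma actRep_apply (g : WithConv (A →ₐ[k] k)) :
    actRep k A V g = HopfRep.Comod.act k A V g.ofConv := rfl

end Act

section Dense
variable {k : Type u} [Field k] [IsAlgClosed k] {A : Type v} [CommRing A] [Algebra k A]
  [Algebra.FiniteType k A] [IsReduced A]

/-- rational points are dense -/
theorem eq_zero_of_forall_point (a : A) (h : ∀ g : A →ₐ[k] k, g a = 0) : a = 0 := by
  have hJ : IsJacobsonRing A := isJacobsonRing_of_finiteType (A := k)
  have hrad : (⊥ : Ideal A).IsRadical := by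
    intro x hx
    obtain ⟨n, hn⟩ := hx
    rw [Ideal.mem_bot] at hn ⊢
    exact IsReduced.eq_zero _ ⟨n, hn⟩
  have hjac : (⊥ : Ideal A).jacobson = ⊥ := hJ.out hrad
  have : a ∈ (⊥ : Ideal A).jacobson := by
    rw [Ideal.jacobson, Ideal.mem_sInf]
    rintro m ⟨_, hm⟩
    obtain ⟨z, hz⟩ := OrbitLib.exists_algHom_of_ne_top (k := k) m hm.ne_top
    have hmz : m = RingHom.ker z := hm.eq_of_le (RingHom.ker_ne_top _) hz
    rw [hmz, RingHom.mem_ker]
    exact h z
  rw [hjac] at this
  exact this

end Dense

section Fixed
variable {k : Type u} [Field k] [IsAlgClosed k] {A : Type v} [CommRing A] [Bialgebra k A]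
  [Algebra.FiniteType k A] [IsReduced A]
  {V : Type w} [AddCommGroup V] [Module k V] [HopfRep.Comod k A V]

omit [IsAlgClosed k] [Bialgebra k A] [Algebra.FiniteType k A] [IsReduced A]
  [HopfRep.Comod k A V] in
lemma key [Algebra k A] (g : A →ₐ[k] k) (f : V →ₗ[k] k) (y : V ⊗[k] A) :
    g (slice f (TensorProduct.comm k V A y)) = f (slice g.toLinearMap y) := by
  induction y using TensorProduct.induction_on with
  | zero => simp
  | tmul v a => simp [mul_comm]
  | add x y hx hy => simp only [map_add, hx, hy]

omit [Bialgebra k A] [HopfRep.Comod k A V] in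
/-- an element of `V ⊗ A` all of whose slices by rational points vanish is zero -/
theorem eq_zero_of_forall_slice [Algebra k A] [Algebra.FiniteType k A] (x : V ⊗[k] A)
    (hx : ∀ g : A →ₐ[k] k, slice g.toLinearMap x = 0) : x = 0 := by
  apply (TensorProduct.comm k V A).injective
  rw [map_zero]
  apply eq_zero_of_slice_eq_zero
  intro f
  apply eq_zero_of_forall_point (k := k)
  intro g
  rw [key, hx g, map_zero]

theorem mem_fixedPts_of_forall_act (v : V)
    (h : ∀ g : A →ₐ[k] k, HopfRep.Comod.act k A V g v = v) : v ∈ HopfRep.fixedPts k A V := by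
  show HopfRep.Comod.coact (k := k) (A := A) v = v ⊗ₜ[k] (1 : A)
  rw [← sub_eq_zero]
  apply eq_zero_of_forall_slice
  intro g
  rw [map_sub, ← act_eq_slice, h g, slice_tmul]
  simp

end Fixed

end Groth.Agent.Helper9.ActRep
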