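import Mathlib

/-!
# Cartier-type lemma: abstract commutative algebra part

`A` a commutative algebra over a field `k`, `I` an ideal meeting `k` trivially, elements
`x i ∈ I` and derivations `D i` with `D i (x j) ≡ δ_ij mod I`.  Then a homogeneous polynomial
`F` of degree `n` with `n! ≠ 0` and `F(x) ∈ I^(n+1)` vanishes.
-/

namespace Groth.Agent.Helper9.CartierLib

open MvPolynomial

universe u v w

section Abstract

variable {k : Type u} [Field k] {A : Type v} [CommRing A] [Algebra k A]
variable {σ : Type w} [Fintype σ] [DecidableEq σ]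

/-- chain rule -/
lemma chain (D : Derivation k A A) (x : σ → A) (F : MvPolynomial σ k) :
    D (aeval x F) = ∑ j, aeval x (pderiv j F) * D (x j) := by
  induction F using MvPolynomial.induction_on with
  | C a => simp
  | add p q hp hq => simp only [map_add, hp, hq, add_mul, Finset.sum_add_distrib]
  | mul_X p i hp =>
    have h1 : ∀ j, aeval x (pderiv j (p * X i)) =
        aeval x p * (if j = i then 1 else 0) + x i * aeval x (pderiv j p) := by
      intro j
      rw [Derivation.leibniz, pderiv_X]
      simp only [smul_eq_mul, map_add, map_mul, aeval_X, Pi.single_apply]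
      by_cases h : j = i
      · subst h; simp
      · rw [if_neg (Ne.symm h), if_neg h]; simp
    rw [map_mul, aeval_X, Derivation.leibniz, hp]
    simp only [h1, add_mul, Finset.sum_add_distrib, smul_eq_mul]
    rw [Finset.mul_sum]
    congr 1
    · rw [Finset.sum_eq_single i]
      · simp
      · intro j _ hj; simp [hj]
      · intro h; exact absurd (Finset.mem_univ i) h
    · apply Finset.sum_congr rfl
      intro j _
      ring

/-- a derivation maps `I^(n+1)` into `I^n` -/
lemma deriv_mem_pow (D : Derivation k A A) (I : Ideal A) (n : ℕ) {a : A} (ha : a ∈ I ^ (n + 1)) :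
    D a ∈ I ^ n := by
  induction n generalizing a with
  | zero => simp
  | succ n ih =>
    rw [pow_succ] at ha
    refine Submodule.mul_induction_on ha ?_ ?_
    · intro b hb c hc
      rw [Derivation.leibniz]
      refine Ideal.add_mem _ ?_ ?_
      · rw [smul_eq_mul]
        exact Ideal.mul_mem_right _ _ hb
      · rw [smul_eq_mul, pow_succ, mul_comm c]
        exact Ideal.mul_mem_mul (ih hb) hc
    · intro y z hy hz
      rw [map_add]
      exact Ideal.add_mem _ hy hz

omit [Fintype σ] [DecidableEq σ] in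
lemma aeval_monomial_mem (I : Ideal A) (x : σ → A) (hx : ∀ i, x i ∈ I) (d : σ →₀ ℕ) (c : k) :
    aeval x (monomial d c) ∈ I ^ d.degree := by
  rw [aeval_monomial]
  apply Ideal.mul_mem_left
  rw [Finsupp.prod, Finsupp.degree_apply, ← Finset.prod_pow_eq_pow_sum]
  apply Ideal.prod_mem_prod
  intro i _
  exact Ideal.pow_mem_pow (hx i) _

omit [Fintype σ] [DecidableEq σ] in
lemma aeval_mem_pow (I : Ideal A) (x : σ → A) (hx : ∀ i, x i ∈ I) {n : ℕ}
    {F : MvPolynomial σ k} (hF : F.IsHomogeneous n) : aeval x F ∈ I ^ n := by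
  rw [← F.support_sum_monomial_coeff, map_sum]
  apply Ideal.sum_mem
  intro d hd
  have h1 : d.degree = n := by
    by_contra h
    exact (MvPolynomial.mem_support_iff.mp hd) (hF.coeff_eq_zero h)
  rw [← h1]
  exact aeval_monomial_mem I x hx d _

/-- The key lemma. -/
theorem homog_eq_zero (I : Ideal A) (hI : ∀ c : k, algebraMap k A c ∈ I → c = 0)
    (x : σ → A) (hx : ∀ i, x i ∈ I) (D : σ → Derivation k A A)
    (hD : ∀ i j, D i (x j) - (if i = j then 1 else 0) ∈ I) :
    ∀ (n : ℕ), (n.factorial : k) ≠ 0 → ∀ F : MvPolynomial σ k, F.IsHomogeneous n →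
      aeval x F ∈ I ^ (n + 1) → F = 0 := by
  intro n
  induction n with
  | zero =>
    intro _ F hF hFI
    have h1 := (MvPolynomial.totalDegree_zero_iff_isHomogeneous (p := F)).mpr hF
    rw [totalDegree_eq_zero_iff_eq_C] at h1
    rw [h1, aeval_C, zero_add, pow_one] at hFI
    rw [h1, hI _ hFI, map_zero]
  | succ m ih =>
    intro hm F hF hFI
    rw [Nat.factorial_succ, Nat.cast_mul] at hm
    have hm1 : ((m + 1 : ℕ) : k) ≠ 0 := left_ne_zero_of_mul hm
    have hm2 : (m.factorial : k) ≠ 0 := right_ne_zero_of_mul hm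
    have hpd : ∀ i, pderiv i F = 0 := by
      intro i
      apply ih hm2 _ (by simpa using hF.pderiv (i := i))
      have h1 : D i (aeval x F) ∈ I ^ (m + 1) := deriv_mem_pow (D i) I (m + 1) hFI
      rw [chain] at h1
      have h2 : ∑ j, aeval x (pderiv j F) * D i (x j) =
          aeval x (pderiv i F) +
            ∑ j, aeval x (pderiv j F) * (D i (x j) - (if i = j then 1 else 0)) := by
        simp only [mul_sub, Finset.sum_sub_distrib, mul_ite, mul_one, mul_zero,
          Finset.sum_ite_eq, Finset.mem_univ, if_true]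
        ring
      rw [h2] at h1
      have h3 : ∑ j, aeval x (pderiv j F) * (D i (x j) - (if i = j then 1 else 0)) ∈
          I ^ (m + 1) := by
        apply Ideal.sum_mem
        intro j _
        rw [pow_succ]
        apply Ideal.mul_mem_mul _ (hD i j)
        exact aeval_mem_pow I x hx (by simpa using hF.pderiv (i := j))
      exact (Ideal.add_mem_iff_left _ h3).mp h1
    have hE := hF.sum_X_mul_pderiv
    simp only [hpd, mul_zero, Finset.sum_const_zero] at hE
    have h4 : ((m + 1 : ℕ) : k) • F = 0 := by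
      rw [Nat.cast_smul_eq_nsmul]
      exact hE.symm
    exact (smul_eq_zero.mp h4).resolve_left hm1

omit [DecidableEq σ] in
/-- `I^n ⊆ H_n(x) + I^(n+1)`. -/
theorem exists_homog (I : Ideal A) (hsplit : ∀ a : A, ∃ c : k, a - algebraMap k A c ∈ I)
    (x : σ → A) (hx : ∀ i, x i ∈ I)
    (hspan : ∀ b ∈ I, ∃ c : σ → k, b - ∑ j, c j • x j ∈ I ^ 2) :
    ∀ (n : ℕ) (a : A), a ∈ I ^ n →
      ∃ F : MvPolynomial σ k, F.IsHomogeneous n ∧ a - aeval x F ∈ I ^ (n + 1) := by
  intro n
  induction n with
  | zero =>
    intro a _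
    obtain ⟨c, hc⟩ := hsplit a
    refine ⟨C c, isHomogeneous_C _ _, ?_⟩
    rw [aeval_C, zero_add, pow_one]
    exact hc
  | succ n ih =>
    intro a ha
    rw [pow_succ] at ha
    refine Submodule.mul_induction_on ha ?_ ?_
    · intro b hb c hc
      obtain ⟨F, hF, hbF⟩ := ih b hb
      obtain ⟨e, he⟩ := hspan c hc
      refine ⟨F * ∑ j, C (e j) * X j, ?_, ?_⟩
      · apply hF.mul
        apply IsHomogeneous.sum
        intro j _
        exact isHomogeneous_C_mul_X _ _
      · have h1 : aeval x (F * ∑ j, C (e j) * X j) = aeval x F * ∑ j, e j • x j := by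
          rw [map_mul, map_sum]
          congr 1
          apply Finset.sum_congr rfl
          intro j _
          rw [map_mul, aeval_C, aeval_X, Algebra.smul_def]
        rw [h1]
        have h2 : b * c - aeval x F * ∑ j, e j • x j =
            aeval x F * (c - ∑ j, e j • x j) + (b - aeval x F) * c := by ring
        rw [h2]
        refine Ideal.add_mem _ ?_ ?_
        · have h3 : aeval x F * (c - ∑ j, e j • x j) ∈ I ^ n * I ^ 2 :=
            Ideal.mul_mem_mul (aeval_mem_pow I x hx hF) he
          rwa [← pow_add] at h3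
        · have h3 : (b - aeval x F) * c ∈ I ^ (n + 1) * I := Ideal.mul_mem_mul hbF hc
          rwa [← pow_succ] at h3
    · rintro y z ⟨F, hF, hyF⟩ ⟨G, hG, hzG⟩
      refine ⟨F + G, hF.add hG, ?_⟩
      rw [map_add]
      have : y + z - (aeval x F + aeval x G) = (y - aeval x F) + (z - aeval x G) := by ring
      rw [this]
      exact Ideal.add_mem _ hyF hzG

end Abstract

end Groth.Agent.Helper9.CartierLib

namespace Groth.Agent.Helper9.CartierLib

open MvPolynomial

universe u v w

section Dim

variable {k : Type u} [Field k] {A : Type v} [CommRing A] [Algebra k A]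
variable {σ : Type w} [Fintype σ] [DecidableEq σ]

omit [DecidableEq σ] in
lemma finrank_homogeneousSubmodule (n : ℕ) :
    Module.finrank k (homogeneousSubmodule σ k n) = (Fintype.card σ + n - 1).choose n := by
  classical
  let T := (Finset.univ : Finset σ).finsuppAntidiag n
  let b : T → MvPolynomial σ k := fun d => monomial d.1 1
  have hli : LinearIndependent k b := by
    have := (basisMonomials σ k).linearIndependent.comp (Subtype.val : T → (σ →₀ ℕ))
      Subtype.val_injective
    exact this
  have hmemT : ∀ d : σ →₀ ℕ, d ∈ T ↔ d.degree = n := by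
    intro d
    rw [Finset.mem_finsuppAntidiag, Finsupp.degree_eq_sum]
    simp
  have hspan : homogeneousSubmodule σ k n = Submodule.span k (Set.range b) := by
    apply le_antisymm
    · intro F hF
      rw [mem_homogeneousSubmodule] at hF
      rw [← F.support_sum_monomial_coeff]
      apply Submodule.sum_mem
      intro d hd
      have h1 : d.degree = n := by
        by_contra h
        exact (MvPolynomial.mem_support_iff.mp hd) (hF.coeff_eq_zero h)
      have h2 : monomial d (coeff d F) = coeff d F • b ⟨d, (hmemT d).mpr h1⟩ := by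
        simp only [b]
        rw [smul_monomial, smul_eq_mul, mul_one]
      rw [h2]
      exact Submodule.smul_mem _ _ (Submodule.subset_span ⟨_, rfl⟩)
    · rw [Submodule.span_le]
      rintro _ ⟨d, rfl⟩
      exact isHomogeneous_monomial _ ((hmemT d.1).mp d.2)
  rw [hspan, finrank_span_eq_card hli, Fintype.card_coe,
    Finset.card_finsuppAntidiag_nat_eq_choose, Finset.card_univ]

variable (I : Ideal A) (x : σ → A)

/-- the map from homogeneous polynomials of degree `n` to `A ⧸ I^(n+1)` -/
noncomputable def Psi (n : ℕ) : homogeneousSubmodule σ k n →ₗ[k] A ⧸ I ^ (n + 1) :=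
  (Ideal.Quotient.mkₐ k (I ^ (n + 1))).toLinearMap ∘ₗ (aeval x).toLinearMap ∘ₗ
    (homogeneousSubmodule σ k n).subtype

/-- the transition map -/
noncomputable def trans (n : ℕ) : A ⧸ I ^ (n + 1) →ₗ[k] A ⧸ I ^ n :=
  (Ideal.Quotient.factorₐ k (Ideal.pow_le_pow_right (Nat.le_succ n))).toLinearMap

omit [Fintype σ] [DecidableEq σ] in
lemma trans_surjective (n : ℕ) : Function.Surjective (trans (k := k) I n) := by
  intro y
  obtain ⟨a, rfl⟩ := Ideal.Quotient.mk_surjective y
  exact ⟨Ideal.Quotient.mk _ a, rfl⟩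

omit [DecidableEq σ] in
lemma ker_trans (hsplit : ∀ a : A, ∃ c : k, a - algebraMap k A c ∈ I)
    (hx : ∀ i, x i ∈ I)
    (hspan : ∀ b ∈ I, ∃ c : σ → k, b - ∑ j, c j • x j ∈ I ^ 2) (n : ℕ) :
    LinearMap.ker (trans (k := k) I n) = LinearMap.range (Psi I x n) := by
  apply le_antisymm
  · intro y hy
    obtain ⟨a, rfl⟩ := Ideal.Quotient.mk_surjective y
    rw [LinearMap.mem_ker] at hy
    have ha : a ∈ I ^ n := by
      have : (Ideal.Quotient.mk (I ^ n)) a = 0 := hy
      rwa [Ideal.Quotient.eq_zero_iff_mem] at this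
    obtain ⟨F, hF, haF⟩ := exists_homog I hsplit x hx hspan n a ha
    refine ⟨⟨F, hF⟩, ?_⟩
    show Ideal.Quotient.mk (I ^ (n + 1)) (aeval x F) = Ideal.Quotient.mk (I ^ (n + 1)) a
    rw [eq_comm, Ideal.Quotient.eq]
    exact haF
  · rintro _ ⟨⟨F, hF⟩, rfl⟩
    rw [LinearMap.mem_ker]
    show Ideal.Quotient.mk (I ^ n) (aeval x F) = 0
    rw [Ideal.Quotient.eq_zero_iff_mem]
    exact aeval_mem_pow I x hx hF

lemma Psi_injective (hI : ∀ c : k, algebraMap k A c ∈ I → c = 0)
    (hx : ∀ i, x i ∈ I) (D : σ → Derivation k A A)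
    (hD : ∀ i j, D i (x j) - (if i = j then 1 else 0) ∈ I) (n : ℕ) (hn : (n.factorial : k) ≠ 0) :
    Function.Injective (Psi (k := k) I x n) := by
  rw [← LinearMap.ker_eq_bot, LinearMap.ker_eq_bot']
  rintro ⟨F, hF⟩ h
  have h1 : Ideal.Quotient.mk (I ^ (n + 1)) (aeval x F) = 0 := h
  rw [Ideal.Quotient.eq_zero_iff_mem] at h1
  have := homog_eq_zero I hI x hx D hD n hn F hF h1
  subst this
  rfl

omit [DecidableEq σ] in
theorem finite_quot_pow (hsplit : ∀ a : A, ∃ c : k, a - algebraMap k A c ∈ I)
    (hx : ∀ i, x i ∈ I)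
    (hspan : ∀ b ∈ I, ∃ c : σ → k, b - ∑ j, c j • x j ∈ I ^ 2) (n : ℕ) :
    Module.Finite k (A ⧸ I ^ n) := by
  induction n with
  | zero =>
    have : Subsingleton (A ⧸ I ^ 0) := by
      rw [Ideal.Quotient.subsingleton_iff, pow_zero, Ideal.one_eq_top]
    infer_instance
  | succ n ih =>
    have hfg : Module.Finite k (homogeneousSubmodule σ k n) :=
      Module.Finite.iff_fg.mpr (homogeneousSubmodule_fg σ k n)
    have h1 : Module.Finite k (LinearMap.ker (trans (k := k) I n)) := by
      rw [ker_trans I x hsplit hx hspan n]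
      infer_instance
    have h2 : Module.Finite k ((A ⧸ I ^ (n + 1)) ⧸ LinearMap.ker (trans (k := k) I n)) :=
      Module.Finite.equiv
        ((trans (k := k) I n).quotKerEquivOfSurjective (trans_surjective I n)).symm
    exact Module.Finite.of_submodule_quotient (LinearMap.ker (trans (k := k) I n))

theorem finrank_quot_pow_succ (hI : ∀ c : k, algebraMap k A c ∈ I → c = 0)
    (hsplit : ∀ a : A, ∃ c : k, a - algebraMap k A c ∈ I)
    (hx : ∀ i, x i ∈ I)
    (hspan : ∀ b ∈ I, ∃ c : σ → k, b - ∑ j, c j • x j ∈ I ^ 2)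
    (D : σ → Derivation k A A)
    (hD : ∀ i j, D i (x j) - (if i = j then 1 else 0) ∈ I) (n : ℕ) (hn : (n.factorial : k) ≠ 0) :
    Module.finrank k (A ⧸ I ^ (n + 1)) =
      Module.finrank k (A ⧸ I ^ n) + (Fintype.card σ + n - 1).choose n := by
  have hfin := finite_quot_pow I x hsplit hx hspan (n + 1)
  have h1 := LinearMap.finrank_range_add_finrank_ker (trans (k := k) I n)
  rw [LinearMap.range_eq_top.mpr (trans_surjective I n), finrank_top,
    ker_trans I x hsplit hx hspan n,
    LinearMap.finrank_range_of_inj (Psi_injective I x hI hx D hD n hn),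
    finrank_homogeneousSubmodule] at h1
  exact h1.symm

end Dim

end Groth.Agent.Helper9.CartierLib
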