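import Mathlib
import Groth.Agent.Lib.Helper9.Cartier1

/-!
# Cartier-type lemma: the Hopf algebra part

Left-invariant derivations of a commutative bialgebra attached to `ε`-derivations, and the data
needed to apply `CartierLib.homog_eq_zero` to the augmentation ideal.
-/

namespace Groth.Agent.Helper9.CartierLib

open TensorProduct

universe u v

section Hopf

variable {k : Type u} [Field k] {A : Type v} [CommRing A] [Bialgebra k A]

/-- contraction with a functional on the right factor -/
noncomputable def contr (ξ : A →ₗ[k] k) : A ⊗[k] A →ₗ[k] A :=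
  (TensorProduct.rid k A).toLinearMap ∘ₗ ξ.lTensor A

@[simp] lemma contr_tmul (ξ : A →ₗ[k] k) (a b : A) : contr ξ (a ⊗ₜ[k] b) = ξ b • a := by
  simp [contr]

lemma contr_mul (ξ : A →ₗ[k] k)
    (hξ : ∀ a b, ξ (a * b) = Coalgebra.counit (R := k) a * ξ b + ξ a * Coalgebra.counit (R := k) b)
    (u v : A ⊗[k] A) :
    contr ξ (u * v) = contr (Coalgebra.counit (R := k) (A := A)) u * contr ξ v +
      contr ξ u * contr (Coalgebra.counit (R := k) (A := A)) v := by
  induction u using TensorProduct.induction_on with
  | zero => simp
  | add u₁ u₂ h₁ h₂ => simp only [add_mul, map_add, h₁, h₂]; ring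
  | tmul a b =>
    induction v using TensorProduct.induction_on with
    | zero => simp
    | add v₁ v₂ h₁ h₂ => simp only [mul_add, map_add, h₁, h₂]; ring
    | tmul c d =>
      simp only [Algebra.TensorProduct.tmul_mul_tmul, contr_tmul, hξ, add_smul]
      simp only [Algebra.smul_def, map_mul]
      ring

lemma contr_counit_comul (a : A) :
    contr (Coalgebra.counit (R := k) (A := A)) (Coalgebra.comul (R := k) a) = a := by
  have := Coalgebra.lTensor_counit_comul (R := k) a
  simp only [contr, LinearMap.comp_apply]
  rw [this]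
  simp

/-- the left-invariant operator attached to a functional -/
noncomputable def Dlin (ξ : A →ₗ[k] k) : A →ₗ[k] A := contr ξ ∘ₗ Coalgebra.comul

lemma Dlin_mul (ξ : A →ₗ[k] k)
    (hξ : ∀ a b, ξ (a * b) = Coalgebra.counit (R := k) a * ξ b + ξ a * Coalgebra.counit (R := k) b)
    (a b : A) : Dlin ξ (a * b) = a * Dlin ξ b + Dlin ξ a * b := by
  simp only [Dlin, LinearMap.comp_apply]
  rw [Bialgebra.comul_mul, contr_mul ξ hξ, contr_counit_comul, contr_counit_comul]

/-- the left-invariant derivation attached to an `ε`-derivation -/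
noncomputable def Dder (ξ : A →ₗ[k] k)
    (hξ : ∀ a b, ξ (a * b) = Coalgebra.counit (R := k) a * ξ b + ξ a * Coalgebra.counit (R := k) b) :
    Derivation k A A :=
  Derivation.mk' (Dlin ξ) (fun a b => by
    rw [Dlin_mul ξ hξ, smul_eq_mul, smul_eq_mul]; ring)

lemma Dder_apply (ξ : A →ₗ[k] k)
    (hξ : ∀ a b, ξ (a * b) = Coalgebra.counit (R := k) a * ξ b + ξ a * Coalgebra.counit (R := k) b)
    (a : A) : Dder ξ hξ a = Dlin ξ a := rfl

lemma counit_contr (ξ : A →ₗ[k] k) (u : A ⊗[k] A) :
    Coalgebra.counit (R := k) (contr ξ u) =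
      ξ ((TensorProduct.lid k A) ((Coalgebra.counit (R := k) (A := A)).rTensor A u)) := by
  induction u using TensorProduct.induction_on with
  | zero => simp
  | add u₁ u₂ h₁ h₂ => simp only [map_add, h₁, h₂]
  | tmul a b => simp [mul_comm]

lemma counit_Dlin (ξ : A →ₗ[k] k) (a : A) : Coalgebra.counit (R := k) (Dlin ξ a) = ξ a := by
  simp only [Dlin, LinearMap.comp_apply]
  rw [counit_contr, Coalgebra.rTensor_counit_comul]
  simp

variable (k A) in
/-- the augmentation ideal -/
abbrev augI : Ideal A := RingHom.ker (Bialgebra.counitAlgHom k A)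

lemma mem_augI (a : A) : a ∈ augI k A ↔ Coalgebra.counit (R := k) a = 0 := by
  rw [RingHom.mem_ker]; rfl

lemma augI_algebraMap (c : k) (h : algebraMap k A c ∈ augI k A) : c = 0 := by
  rw [mem_augI, Bialgebra.counit_algebraMap] at h
  simpa using h

lemma sub_counit_mem (a : A) : a - algebraMap k A (Coalgebra.counit (R := k) a) ∈ augI k A := by
  rw [mem_augI, map_sub, Bialgebra.counit_algebraMap]
  simp

/-- projection onto the augmentation ideal -/
noncomputable def projI : A →ₗ[k] augI k A where
  toFun a := ⟨a - algebraMap k A (Coalgebra.counit (R := k) a), sub_counit_mem a⟩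
  map_add' a b := by
    apply Subtype.ext
    simp only [map_add, Submodule.coe_add]
    ring
  map_smul' c a := by
    apply Subtype.ext
    simp only [map_smul, RingHom.id_apply, Submodule.coe_smul_of_tower, smul_sub, smul_eq_mul,
      map_mul]
    rw [Algebra.smul_def, Algebra.smul_def]

lemma projI_coe (a : A) : ((projI (k := k) a : augI k A) : A) =
    a - algebraMap k A (Coalgebra.counit (R := k) a) := rfl

lemma projI_of_mem (a : A) (ha : a ∈ augI k A) : projI (k := k) a = ⟨a, ha⟩ := by
  apply Subtype.ext
  rw [projI_coe, (mem_augI a).mp ha, map_zero, sub_zero]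

/-- the `ε`-derivation attached to a functional on the cotangent space -/
noncomputable def xi (ℓ : (augI k A).Cotangent →ₗ[k] k) : A →ₗ[k] k :=
  ℓ ∘ₗ ((augI k A).toCotangent.restrictScalars k) ∘ₗ projI

lemma xi_of_mem (ℓ : (augI k A).Cotangent →ₗ[k] k) (a : A) (ha : a ∈ augI k A) :
    xi ℓ a = ℓ ((augI k A).toCotangent ⟨a, ha⟩) := by
  simp only [xi, LinearMap.comp_apply, projI_of_mem a ha]
  rfl

lemma xi_mul (ℓ : (augI k A).Cotangent →ₗ[k] k) (a b : A) :
    xi ℓ (a * b) = Coalgebra.counit (R := k) a * xi ℓ b + xi ℓ a * Coalgebra.counit (R := k) b := by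
  have h1 : (augI k A).toCotangent (projI (k := k) (a * b)) =
      (augI k A).toCotangent (Coalgebra.counit (R := k) a • projI (k := k) b +
        Coalgebra.counit (R := k) b • projI (k := k) a) := by
    rw [Ideal.toCotangent_eq]
    have h2 : ((projI (k := k) (a * b) : augI k A) : A) -
        ((Coalgebra.counit (R := k) a • projI (k := k) b +
          Coalgebra.counit (R := k) b • projI (k := k) a : augI k A) : A) =
        ((projI (k := k) a : augI k A) : A) * ((projI (k := k) b : augI k A) : A) := by
      simp only [Submodule.coe_add, Submodule.coe_smul_of_tower, projI_coe, Algebra.smul_def,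
        map_mul, Bialgebra.counit_mul]
      ring
    rw [h2, pow_two]
    exact Ideal.mul_mem_mul (projI a).2 (projI b).2
  have h3 : xi ℓ (a * b) = ℓ ((augI k A).toCotangent (projI (k := k) (a * b))) := rfl
  rw [h3, h1]
  have h4 : (augI k A).toCotangent (Coalgebra.counit (R := k) a • projI (k := k) b +
        Coalgebra.counit (R := k) b • projI (k := k) a) =
      Coalgebra.counit (R := k) a • (augI k A).toCotangent (projI (k := k) b) +
        Coalgebra.counit (R := k) b • (augI k A).toCotangent (projI (k := k) a) := by
    rw [map_add]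
    exact congrArg₂ (· + ·) (((augI k A).toCotangent.restrictScalars k).map_smul _ _)
      (((augI k A).toCotangent.restrictScalars k).map_smul _ _)
  rw [h4, map_add, map_smul, map_smul, smul_eq_mul, smul_eq_mul]
  have h5 : xi ℓ a = ℓ ((augI k A).toCotangent (projI (k := k) a)) := rfl
  have h6 : xi ℓ b = ℓ ((augI k A).toCotangent (projI (k := k) b)) := rfl
  rw [h5, h6]
  ring

/-- the main packaging: coordinates and derivations at the identity -/
theorem exists_data [Module.Finite k (augI k A).Cotangent] :
    ∃ (x : Fin (Module.finrank k (augI k A).Cotangent) → A)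
      (D : Fin (Module.finrank k (augI k A).Cotangent) → Derivation k A A),
      (∀ i, x i ∈ augI k A) ∧
      (∀ i j, D i (x j) - (if i = j then 1 else 0) ∈ augI k A) ∧
      (∀ b ∈ augI k A, ∃ c : Fin (Module.finrank k (augI k A).Cotangent) → k,
        b - ∑ j, c j • x j ∈ (augI k A) ^ 2) := by
  classical
  let bs := Module.finBasis k (augI k A).Cotangent
  have hsurj := (augI k A).toCotangent_surjective
  let y : Fin (Module.finrank k (augI k A).Cotangent) → augI k A := fun i => (hsurj (bs i)).choose
  have hy : ∀ i, (augI k A).toCotangent (y i) = bs i := fun i => (hsurj (bs i)).choose_spec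
  refine ⟨fun i => (y i : A), fun i => Dder (xi (bs.coord i)) (xi_mul _), fun i => (y i).2, ?_, ?_⟩
  · intro i j
    rw [mem_augI, map_sub, Dder_apply, counit_Dlin, xi_of_mem _ _ (y j).2]
    have h1 : (⟨(y j : A), (y j).2⟩ : augI k A) = y j := rfl
    rw [h1, hy, Module.Basis.coord_apply, Module.Basis.repr_self, Finsupp.single_apply]
    by_cases h : i = j
    · subst h; simp
    · rw [if_neg (Ne.symm h), if_neg h]; simp
  · intro b hb
    refine ⟨fun j => bs.repr ((augI k A).toCotangent ⟨b, hb⟩) j, ?_⟩
    have h1 : (augI k A).toCotangent ⟨b, hb⟩ = (augI k A).toCotangent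
        (∑ j, bs.repr ((augI k A).toCotangent ⟨b, hb⟩) j • y j) := by
      rw [map_sum]
      conv_lhs => rw [← bs.sum_repr ((augI k A).toCotangent ⟨b, hb⟩)]
      apply Finset.sum_congr rfl
      intro j _
      rw [← hy j]
      exact (((augI k A).toCotangent.restrictScalars k).map_smul _ _).symm
    rw [Ideal.toCotangent_eq] at h1
    simpa only [Submodule.coe_sum, Submodule.coe_smul_of_tower] using h1

end Hopf

end Groth.Agent.Helper9.CartierLib

namespace Groth.Agent.Helper9.CartierLib

universe u v

section Fin

variable {k : Type u} [Field k] {A : Type v} [CommRing A] [Bialgebra k A]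

lemma smul_cotangent (a : A) (m : (augI k A).Cotangent) :
    a • m = Coalgebra.counit (R := k) a • m := by
  have h1 : (a - algebraMap k A (Coalgebra.counit (R := k) a)) • m = 0 :=
    Ideal.Cotangent.smul_eq_zero_of_mem (sub_counit_mem a) m
  rw [sub_smul, sub_eq_zero, algebraMap_smul] at h1
  exact h1

instance finite_cotangent [Algebra.FiniteType k A] : Module.Finite k (augI k A).Cotangent := by
  have hN : IsNoetherianRing A := Algebra.FiniteType.isNoetherianRing k A
  have hNI : IsNoetherian A (augI k A) := isNoetherian_submodule' _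
  have hfin : Module.Finite A (augI k A).Cotangent :=
    Module.Finite.of_surjective (augI k A).toCotangent (augI k A).toCotangent_surjective
  obtain ⟨S, hS⟩ := hfin.fg_top
  refine ⟨⟨S, ?_⟩⟩
  rw [eq_top_iff]
  intro m _
  have hm : m ∈ Submodule.span A (S : Set (augI k A).Cotangent) := by rw [hS]; trivial
  induction hm using Submodule.span_induction with
  | mem x hx => exact Submodule.subset_span hx
  | zero => exact Submodule.zero_mem _
  | add x y _ _ hx hy => exact Submodule.add_mem _ (hx trivial) (hy trivial)
  | smul a x _ hx =>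
    rw [smul_cotangent]
    exact Submodule.smul_mem _ _ (hx trivial)

end Fin

end Groth.Agent.Helper9.CartierLib
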