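import Mathlib
import Groth.Agent.Lib.Helper9.Cartier1
import Groth.Agent.Lib.Helper9.Cartier2
import Groth.Agent.Lib.Helper9.ActRep

/-!
# Cartier's theorem: a finitely generated commutative Hopf algebra over a field of
characteristic zero is reduced.
-/

namespace Groth.Agent.Helper9.CartierLib

open TensorProduct MvPolynomial

universe u v

section Nil

variable {k : Type u} [Field k] {A : Type v} [CommRing A]

lemma pow_sub_pow_mem (I : Ideal A) (n e : ℕ) (he : 0 < e) (w y : A) (hw : w ∈ I ^ n)
    (hy : y ∈ I ^ n) (hwy : w - y ∈ I ^ (n + 1)) : w ^ e - y ^ e ∈ I ^ (n * e + 1) := by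
  rw [← geom_sum₂_mul w y e]
  have h1 : ∑ i ∈ Finset.range e, w ^ i * y ^ (e - 1 - i) ∈ I ^ (n * (e - 1)) := by
    apply Ideal.sum_mem
    intro i hi
    have hi' : i < e := Finset.mem_range.mp hi
    have h2 : w ^ i * y ^ (e - 1 - i) ∈ I ^ (n * i) * I ^ (n * (e - 1 - i)) := by
      apply Ideal.mul_mem_mul
      · rw [pow_mul]; exact Ideal.pow_mem_pow hw i
      · rw [pow_mul]; exact Ideal.pow_mem_pow hy _
    rw [← pow_add, ← mul_add] at h2
    have h3 : i + (e - 1 - i) = e - 1 := by omega
    rwa [h3] at h2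
  have h4 := Ideal.mul_mem_mul h1 hwy
  rw [← pow_add] at h4
  have h5 : n * (e - 1) + (n + 1) = n * e + 1 := by
    obtain ⟨e', rfl⟩ : ∃ e', e = e' + 1 := ⟨e - 1, by omega⟩
    simp only [Nat.add_sub_cancel]
    ring
  rwa [h5] at h4

variable [CharZero k] [Bialgebra k A] [Module.Finite k (augI k A).Cotangent]

/-- nilpotent elements lie in all powers of the augmentation ideal -/
theorem nilpotent_mem_pow (y : A) (hy : IsNilpotent y) : ∀ n, y ∈ (augI k A) ^ n := by
  classical
  obtain ⟨x, D, hx, hD, hspan⟩ := exists_data (k := k) (A := A)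
  obtain ⟨e₀, he₀⟩ := hy
  have he : y ^ (e₀ + 1) = 0 := by rw [pow_succ, he₀, zero_mul]
  intro n
  induction n with
  | zero => simp
  | succ n ih =>
    obtain ⟨F, hF, hyF⟩ := exists_homog (augI k A) (fun a => ⟨_, sub_counit_mem a⟩) x hx hspan n y ih
    have hw : aeval x F ∈ (augI k A) ^ n := aeval_mem_pow _ x hx hF
    have hwy : aeval x F - y ∈ (augI k A) ^ (n + 1) := by
      have := Ideal.neg_mem_iff _ |>.mpr hyF
      rwa [neg_sub] at this
    have h1 := pow_sub_pow_mem (augI k A) n (e₀ + 1) (Nat.succ_pos _) _ _ hw ih hwy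
    rw [he, sub_zero, ← map_pow] at h1
    have h2 : F ^ (e₀ + 1) = 0 :=
      homog_eq_zero (augI k A) augI_algebraMap x hx D hD (n * (e₀ + 1))
        (Nat.cast_ne_zero.mpr (Nat.factorial_ne_zero _)) _ (hF.pow _) h1
    have h3 : F = 0 := pow_eq_zero_iff (Nat.succ_ne_zero _) |>.mp h2
    rw [h3, map_zero, sub_zero] at hyF
    exact hyF

end Nil

section Trans

variable {k : Type u} [Field k] {A : Type v} [CommRing A] [HopfAlgebra k A]

lemma act_eq_Dlin (g : A →ₐ[k] k) (a : A) :
    HopfRep.Comod.act k A A g a = Dlin g.toLinearMap a := rfl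

omit [HopfAlgebra k A] in
lemma contr_mul_algHom [Bialgebra k A] (g : A →ₐ[k] k) (u v : A ⊗[k] A) :
    contr g.toLinearMap (u * v) = contr g.toLinearMap u * contr g.toLinearMap v := by
  induction u using TensorProduct.induction_on with
  | zero => simp
  | add u₁ u₂ h₁ h₂ => simp only [add_mul, map_add, h₁, h₂]
  | tmul a b =>
    induction v using TensorProduct.induction_on with
    | zero => simp
    | add v₁ v₂ h₁ h₂ => simp only [mul_add, map_add, h₁, h₂]
    | tmul c d =>
      simp only [Algebra.TensorProduct.tmul_mul_tmul, contr_tmul, AlgHom.toLinearMap_apply, map_mul]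
      simp only [Algebra.smul_def, map_mul]
      ring

lemma act_mul' (g : A →ₐ[k] k) (a b : A) :
    HopfRep.Comod.act k A A g (a * b) =
      HopfRep.Comod.act k A A g a * HopfRep.Comod.act k A A g b := by
  simp only [act_eq_Dlin, Dlin, LinearMap.comp_apply]
  rw [Bialgebra.comul_mul, contr_mul_algHom]

lemma act_one' (g : A →ₐ[k] k) : HopfRep.Comod.act k A A g 1 = 1 := by
  simp only [act_eq_Dlin, Dlin, LinearMap.comp_apply]
  rw [Bialgebra.comul_one, Algebra.TensorProduct.one_def, contr_tmul]
  simp

/-- right translation by a rational point, as an algebra endomorphism -/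
noncomputable def actAlg (g : A →ₐ[k] k) : A →ₐ[k] A :=
  AlgHom.ofLinearMap (HopfRep.Comod.act k A A g) (act_one' g) (act_mul' g)

lemma actAlg_apply (g : A →ₐ[k] k) (a : A) : actAlg g a = HopfRep.Comod.act k A A g a := rfl

lemma counit_act (g : A →ₐ[k] k) (a : A) :
    Coalgebra.counit (R := k) (HopfRep.Comod.act k A A g a) = g a := by
  rw [act_eq_Dlin, counit_Dlin]
  rfl

lemma act_inv_act (g : WithConv (A →ₐ[k] k)) (a : A) :
    HopfRep.Comod.act k A A (g⁻¹).ofConv (HopfRep.Comod.act k A A g.ofConv a) = a := by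
  have h := ActRep.act_mul (V := A) g⁻¹ g
  rw [inv_mul_cancel, ActRep.act_one] at h
  have := LinearMap.congr_fun h a
  simpa using this.symm

lemma point_act_inv (g : WithConv (A →ₐ[k] k)) (a : A) :
    g.ofConv (HopfRep.Comod.act k A A (g⁻¹).ofConv a) = Coalgebra.counit (R := k) a := by
  rw [← counit_act g.ofConv]
  have h := ActRep.act_mul (V := A) g g⁻¹
  rw [mul_inv_cancel, ActRep.act_one] at h
  have := LinearMap.congr_fun h a
  simp only [LinearMap.comp_apply, LinearMap.id_apply] at this
  rw [← this]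

variable [CharZero k] [Module.Finite k (augI k A).Cotangent]

/-- nilpotent elements lie in all powers of the maximal ideal of every rational point -/
theorem nilpotent_mem_ker_pow (y : A) (hy : IsNilpotent y) (g : A →ₐ[k] k) (n : ℕ) :
    y ∈ (RingHom.ker g) ^ n := by
  let g' : WithConv (A →ₐ[k] k) := WithConv.toConv g
  have h1 : IsNilpotent (actAlg g y) := hy.map (actAlg g)
  have h2 : actAlg g y ∈ (augI k A) ^ n := nilpotent_mem_pow _ h1 n
  have h3 : (augI k A).map (actAlg (g'⁻¹).ofConv) ≤ RingHom.ker g := by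
    rw [Ideal.map_le_iff_le_comap]
    intro a ha
    rw [Ideal.mem_comap, RingHom.mem_ker, actAlg_apply]
    have := point_act_inv g' a
    rw [(mem_augI a).mp ha] at this
    exact this
  have h4 : actAlg (g'⁻¹).ofConv (actAlg g y) ∈ ((augI k A) ^ n).map (actAlg (g'⁻¹).ofConv) :=
    Ideal.mem_map_of_mem _ h2
  rw [Ideal.map_pow] at h4
  have h5 : actAlg (g'⁻¹).ofConv (actAlg g y) = y := act_inv_act g' y
  rw [h5] at h4
  exact Ideal.pow_right_mono h3 n h4

end Trans

section Krull

variable {A : Type v} [CommRing A] [IsNoetherianRing A]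

/-- an element lying in all powers of all maximal ideals of a noetherian ring is zero -/
theorem eq_zero_of_forall_maximal (y : A)
    (h : ∀ m : Ideal A, m.IsMaximal → ∀ n, y ∈ m ^ n) : y = 0 := by
  let J : Ideal A := LinearMap.ker (LinearMap.toSpanSingleton A A y)
  have hJ : ∀ a, a ∈ J ↔ a * y = 0 := by
    intro a
    simp [J, LinearMap.mem_ker, LinearMap.toSpanSingleton_apply]
  by_cases hJtop : J = ⊤
  · have : (1 : A) ∈ J := by rw [hJtop]; trivial
    rw [hJ, one_mul] at this
    exact this
  · exfalso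
    obtain ⟨m, hm, hJm⟩ := Ideal.exists_le_maximal J hJtop
    have h1 : y ∈ (⨅ i : ℕ, m ^ i • ⊤ : Submodule A A) := by
      rw [Submodule.mem_iInf]
      intro i
      rw [smul_eq_mul, ← Ideal.one_eq_top, mul_one]
      exact h m hm i
    obtain ⟨r, hr⟩ := (Ideal.mem_iInf_smul_pow_eq_bot_iff m y).mp h1
    have h2 : (1 - (r : A)) ∈ J := by
      rw [hJ, sub_mul, one_mul, sub_eq_zero]
      exact hr.symm
    have h3 : (1 : A) ∈ m := by
      have := Ideal.add_mem m (hJm h2) r.2
      simpa using this
    exact hm.ne_top ((Ideal.eq_top_iff_one m).mpr h3)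

end Krull

section Main

variable (k : Type u) [Field k] [CharZero k] (A : Type v) [CommRing A] [HopfAlgebra k A]
  [Algebra.FiniteType k A]

/-- Cartier's theorem over an algebraically closed field -/
theorem isReduced_of_algClosed [IsAlgClosed k] : IsReduced A := by
  have hN : IsNoetherianRing A := Algebra.FiniteType.isNoetherianRing k A
  refine ⟨fun y hy => ?_⟩
  apply eq_zero_of_forall_maximal y
  intro m hm n
  obtain ⟨g, hg⟩ := OrbitLib.exists_algHom_of_ne_top (k := k) m hm.ne_top
  have hker : RingHom.ker g ≠ ⊤ := RingHom.ker_ne_top _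
  have hmg : m = RingHom.ker g := hm.eq_of_le hker hg
  rw [hmg]
  exact nilpotent_mem_ker_pow y hy g n

/-- Cartier's theorem: a finitely generated commutative Hopf algebra over a field of
characteristic zero is reduced -/
theorem isReduced (k : Type u) [Field k] [CharZero k] (A : Type v) [CommRing A] [HopfAlgebra k A]
    [Algebra.FiniteType k A] : IsReduced A := by
  let K := AlgebraicClosure k
  have h1 : IsReduced (K ⊗[k] A) := isReduced_of_algClosed K (K ⊗[k] A)
  have hinj : Function.Injective (Algebra.TensorProduct.includeRight : A →ₐ[k] K ⊗[k] A) :=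
    Algebra.TensorProduct.includeRight_injective (algebraMap k K).injective
  exact isReduced_of_injective (Algebra.TensorProduct.includeRight : A →ₐ[k] K ⊗[k] A) hinj

end Main

end Groth.Agent.Helper9.CartierLib
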