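import Mathlib
import Groth.Prelude.Def_Hoch

/-!
Vanishing of the higher comodule cohomology of an induced comodule.
-/

universe u v

open TensorProduct

namespace Groth.Agent.Helper9
namespace HochInd

variable (k : Type u) [CommRing k] (A : Type v) [Ring A] [Bialgebra k A]

/-- Naturality of `Hoch.tail`. -/
theorem tail_natural {M N : Type v} [AddCommGroup M] [Module k M] [AddCommGroup N] [Module k N]
    (f : M →ₗ[k] N) :
    Hoch.tail k A N ∘ₗ f.rTensor A = (f.rTensor A).rTensor A ∘ₗ Hoch.tail k A M := by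
  apply TensorProduct.ext'
  intro m a
  simp only [LinearMap.comp_apply, LinearMap.rTensor_tmul, Hoch.tail_tmul]
  generalize (Coalgebra.comul (R := k) a - a ⊗ₜ[k] 1 - 1 ⊗ₜ[k] a) = t
  induction t using TensorProduct.induction_on with
  | zero => simp
  | tmul x y => simp
  | add t t' ht ht' => simp only [tmul_add, map_add, ht, ht']

variable (P : Type v) [AddCommGroup P] [Module k P]

/-- Inductive step for a contracting homotopy of the shape `sₙ₊₁ = sₙ ⊗ id`. -/
theorem homotopy_step (V : Type v) [AddCommGroup V] [Module k V] [HopfRep.Comod k A V] (n : ℕ)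
    (sn : (Hoch.cochain k A V (n + 1) : Type v) →ₗ[k] (Hoch.cochain k A V n : Type v))
    (h : sn.rTensor A ∘ₗ Hoch.d k A V (n + 1) + Hoch.d k A V n ∘ₗ sn = LinearMap.id) :
    (sn.rTensor A).rTensor A ∘ₗ Hoch.d k A V (n + 2) + Hoch.d k A V (n + 1) ∘ₗ sn.rTensor A =
      LinearMap.id := by
  have hnat := tail_natural k A sn
  have h1 : (sn.rTensor A).rTensor A ∘ₗ Hoch.d k A V (n + 2) =
      (sn.rTensor A ∘ₗ Hoch.d k A V (n + 1)).rTensor A +
        ((-1 : k) ^ (n + 1 + 1)) •
          ((sn.rTensor A).rTensor A ∘ₗ Hoch.tail k A (Hoch.cochain k A V (n + 1))) := by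
    rw [Hoch.d_succ k A V (n + 1), LinearMap.comp_add, LinearMap.comp_smul,
      LinearMap.rTensor_comp]
  have h2 : Hoch.d k A V (n + 1) ∘ₗ sn.rTensor A =
      (Hoch.d k A V n ∘ₗ sn).rTensor A +
        ((-1 : k) ^ (n + 1)) • (Hoch.tail k A (Hoch.cochain k A V n) ∘ₗ sn.rTensor A) := by
    rw [Hoch.d_succ k A V n, LinearMap.add_comp, LinearMap.smul_comp, LinearMap.rTensor_comp]
  rw [h1, h2, hnat]
  have e : ((-1 : k) ^ (n + 1 + 1)) = - ((-1 : k) ^ (n + 1)) := by rw [pow_succ]; ring
  refine Eq.trans ?_ (LinearMap.rTensor_id A (Hoch.cochain k A V (n + 1)))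
  rw [e, ← h, LinearMap.rTensor_add]
  module

/-- The plain counit map `P ⊗ A → P`. -/
noncomputable def c : P ⊗[k] A →ₗ[k] P :=
  (TensorProduct.rid k P).toLinearMap ∘ₗ (Coalgebra.counit (R := k) (A := A)).lTensor P

theorem c_tmul (p : P) (a : A) : c k A P (p ⊗ₜ a) = Coalgebra.counit (R := k) a • p := by
  simp [c]

theorem c_rTensor_assoc_symm (p : P) (t : A ⊗[k] A) :
    (c k A P).rTensor A ((TensorProduct.assoc k P A A).symm (p ⊗ₜ[k] t)) =
      p ⊗ₜ[k] (TensorProduct.lid k A ((Coalgebra.counit (R := k) (A := A)).rTensor A t)) := by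
  induction t using TensorProduct.induction_on with
  | zero => simp
  | tmul y z =>
    rw [TensorProduct.assoc_symm_tmul, LinearMap.rTensor_tmul, LinearMap.rTensor_tmul,
      TensorProduct.lid_tmul, c_tmul, TensorProduct.smul_tmul]
  | add t t' ht ht' => simp only [tmul_add, map_add, ht, ht']

theorem c_rTensor_coactAux (x : P ⊗[k] A) :
    (c k A P).rTensor A (Hoch.Ind.coactAux k A P x) = x := by
  induction x using TensorProduct.induction_on with
  | zero => simp
  | tmul p a =>
    rw [Hoch.Ind.coactAux_tmul, c_rTensor_assoc_symm, Coalgebra.rTensor_counit_comul,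
      TensorProduct.lid_tmul, one_smul]
  | add x y hx hy => simp only [map_add, hx, hy]

/-- The base case of the homotopy identity, on plain tensor products. -/
theorem base_plain :
    (((c k A P).rTensor A).rTensor A) ∘ₗ
        ((Hoch.Ind.coactAux k A P - (TensorProduct.mk k (P ⊗[k] A) A).flip 1).rTensor A +
          ((-1 : k) ^ (0 + 1)) • Hoch.tail k A (P ⊗[k] A)) +
      (Hoch.Ind.coactAux k A P - (TensorProduct.mk k (P ⊗[k] A) A).flip 1) ∘ₗ
        ((c k A P).rTensor A) = LinearMap.id := by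
  apply TensorProduct.ext'
  intro x a
  have hnat := LinearMap.congr_fun (tail_natural k A (c k A P)) (x ⊗ₜ[k] a)
  simp only [LinearMap.comp_apply, LinearMap.rTensor_tmul] at hnat
  simp only [LinearMap.add_apply, LinearMap.comp_apply, LinearMap.smul_apply,
    LinearMap.rTensor_tmul, LinearMap.sub_apply, LinearMap.flip_apply, TensorProduct.mk_apply,
    map_add, map_smul, map_sub, LinearMap.id_apply, zero_add, pow_one, neg_smul, one_smul,
    sub_tmul]
  rw [← hnat, c_rTensor_coactAux, Hoch.tail_tmul, Hoch.Ind.coactAux_tmul]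
  simp only [tmul_sub, map_sub, TensorProduct.assoc_symm_tmul]
  module

/-- The contracting homotopy. -/
noncomputable def s : (n : ℕ) →
    ((Hoch.cochain k A (Hoch.Ind k A P) (n + 1) : Type v) →ₗ[k]
      (Hoch.cochain k A (Hoch.Ind k A P) n : Type v))
  | 0 => (c k A P).rTensor A
  | n + 1 => (s n).rTensor A

theorem homotopy (n : ℕ) :
    s k A P (n + 1) ∘ₗ Hoch.d k A (Hoch.Ind k A P) (n + 1) +
      Hoch.d k A (Hoch.Ind k A P) n ∘ₗ s k A P n = LinearMap.id := by
  induction n with
  | zero => exact base_plain k A P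
  | succ n ih => exact homotopy_step k A (Hoch.Ind k A P) n (s k A P n) ih

theorem cocycles_le_coboundaries (n : ℕ) :
    Hoch.cocycles k A (Hoch.Ind k A P) (n + 1) ≤ Hoch.coboundaries k A (Hoch.Ind k A P) (n + 1) := by
  intro z hz
  have hz' : Hoch.d k A (Hoch.Ind k A P) (n + 1) z = 0 := hz
  have h := LinearMap.congr_fun (homotopy k A P n) z
  rw [LinearMap.add_apply, LinearMap.comp_apply, LinearMap.comp_apply, hz', map_zero, zero_add,
    LinearMap.id_apply] at h
  exact ⟨s k A P n z, h⟩

end HochInd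
end Groth.Agent.Helper9
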