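import Mathlib
import Groth.Agent.Lib.Helper9.HochInd
import Groth.Agent.Lib.Helper9.Comod5

/-!
Functoriality of the comodule cochain complex; vanishing of cohomology for retracts of
induced comodules; the linearly reductive case.
-/

set_option autoImplicit false

universe u v

open TensorProduct

namespace Groth.Agent.Helper9
namespace HochFunct

variable (k : Type u) [CommRing k] (A : Type v) [Ring A] [Bialgebra k A]
variable {V W U : Type v} [AddCommGroup V] [Module k V] [AddCommGroup W] [Module k W]
  [AddCommGroup U] [Module k U]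

/-- The map induced on cochains by a linear map. -/
noncomputable def cmap (f : V →ₗ[k] W) : (n : ℕ) →
    ((Hoch.cochain k A V n : Type v) →ₗ[k] (Hoch.cochain k A W n : Type v))
  | 0 => f
  | n + 1 => (cmap f n).rTensor A

theorem cmap_zero (f : V →ₗ[k] W) : cmap k A f 0 = f := rfl

theorem cmap_succ (f : V →ₗ[k] W) (n : ℕ) : cmap k A f (n + 1) = (cmap k A f n).rTensor A := rfl

theorem cmap_comp (g : W →ₗ[k] U) (f : V →ₗ[k] W) (n : ℕ) :
    cmap k A (g ∘ₗ f) n = cmap k A g n ∘ₗ cmap k A f n := by
  induction n with
  | zero => rfl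
  | succ n ih => rw [cmap_succ, ih, LinearMap.rTensor_comp]; rfl

theorem cmap_id (n : ℕ) : cmap k A (LinearMap.id : V →ₗ[k] V) n = LinearMap.id := by
  induction n with
  | zero => rfl
  | succ n ih => rw [cmap_succ, ih]; exact LinearMap.rTensor_id A _

variable [HopfRep.Comod k A V] [HopfRep.Comod k A W]

theorem d_cmap (f : V →ₗ[k] W) (hf : Hoch.IsComodHom A f) (n : ℕ) :
    Hoch.d k A W n ∘ₗ cmap k A f n = cmap k A f (n + 1) ∘ₗ Hoch.d k A V n := by
  induction n with
  | zero =>
    apply LinearMap.ext
    intro v
    have h := LinearMap.congr_fun hf v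
    simp only [LinearMap.comp_apply] at h
    change Hoch.d k A W 0 (f v) = f.rTensor A (Hoch.d k A V 0 v)
    rw [Hoch.d_zero_apply, Hoch.d_zero_apply, map_sub, LinearMap.rTensor_tmul, h]
  | succ n ih =>
    have hnat := HochInd.tail_natural k A (cmap k A f n)
    rw [Hoch.d_succ k A W n, Hoch.d_succ k A V n, cmap_succ k A f (n + 1), LinearMap.add_comp,
      LinearMap.comp_add, LinearMap.smul_comp, LinearMap.comp_smul]
    congr 1
    · rw [cmap_succ, ← LinearMap.rTensor_comp, ih, LinearMap.rTensor_comp]
      rfl
    · rw [cmap_succ, hnat]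


/-- The coaction, viewed as a map into the induced comodule, is a comodule map. -/
theorem isComodHom_toInd : Hoch.IsComodHom A (Hoch.toInd k A V) := by
  apply LinearMap.ext
  intro v
  have h := LinearMap.congr_fun (HopfRep.Comod.coassoc (k := k) (A := A) (V := V)) v
  simp only [LinearMap.comp_apply, LinearEquiv.coe_coe] at h
  change Hoch.Ind.coactAux k A V (HopfRep.Comod.coact (k := k) (A := A) v) =
    (HopfRep.Comod.coact (k := k) (A := A) (V := V)).rTensor A
      (HopfRep.Comod.coact (k := k) (A := A) v)
  change (TensorProduct.assoc k V A A).symm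
      ((Coalgebra.comul (R := k) (A := A)).lTensor V (HopfRep.Comod.coact (k := k) (A := A) v)) = _
  rw [← h, LinearEquiv.symm_apply_apply]

theorem toInd_injective : Function.Injective (Hoch.toInd k A V) := by
  intro v w hvw
  have hv := LinearMap.congr_fun (HopfRep.Comod.counit_comp (k := k) (A := A) (V := V)) v
  have hw := LinearMap.congr_fun (HopfRep.Comod.counit_comp (k := k) (A := A) (V := V)) w
  simp only [LinearMap.comp_apply, LinearMap.flip_apply, TensorProduct.mk_apply] at hv hw
  have h : HopfRep.Comod.coact (k := k) (A := A) v = HopfRep.Comod.coact (k := k) (A := A) w :=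
    hvw
  rw [h, hw] at hv
  have := congrArg (TensorProduct.rid k V) hv
  simpa using this.symm

variable {k A}

/-- If the coaction `V → Ind V` has a comodule retraction, the higher cohomology vanishes. -/
theorem cocycles_le_coboundaries_of_retraction (π : Hoch.Ind k A V →ₗ[k] V)
    (hπ : Hoch.IsComodHom A π) (hπρ : π ∘ₗ Hoch.toInd k A V = LinearMap.id) (n : ℕ) :
    Hoch.cocycles k A V (n + 1) ≤ Hoch.coboundaries k A V (n + 1) := by
  intro z hz
  have hz' : Hoch.d k A V (n + 1) z = 0 := hz
  have h1 : cmap k A (Hoch.toInd k A V) (n + 1) z ∈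
      Hoch.cocycles k A (Hoch.Ind k A V) (n + 1) := by
    change Hoch.d k A (Hoch.Ind k A V) (n + 1) (cmap k A (Hoch.toInd k A V) (n + 1) z) = 0
    have := LinearMap.congr_fun (d_cmap k A (Hoch.toInd k A V) (isComodHom_toInd k A) (n + 1)) z
    simp only [LinearMap.comp_apply] at this
    rw [this, hz', map_zero]
  obtain ⟨y, hy⟩ := HochInd.cocycles_le_coboundaries k A V n h1
  refine ⟨cmap k A π n y, ?_⟩
  have h2 := LinearMap.congr_fun (d_cmap k A π hπ n) y
  simp only [LinearMap.comp_apply] at h2
  rw [h2, hy, ← LinearMap.comp_apply, ← cmap_comp, hπρ, cmap_id, LinearMap.id_apply]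

end HochFunct
end Groth.Agent.Helper9
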