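import Mathlib
import Groth.Agent.Lib.Helper9.Comod

/-!
Vanishing of the first Hochschild cohomology of a bialgebra admitting a normalized left integral
(a functional `c` with `c 1 = 1` and `(id ⊗ c) ∘ Δ = c(·) 1`).
-/

set_option autoImplicit false

namespace Groth.Agent.Helper9

open TensorProduct

universe u v

section
variable (k : Type u) [CommRing k] (A : Type v) [Ring A] [Bialgebra k A]

lemma slice_assoc_symm (M : Type v) [AddCommGroup M] [Module k M] (c : A →ₗ[k] k) (m : M)
    (w : A ⊗[k] A) :
    slice c ((TensorProduct.assoc k M A A).symm (m ⊗ₜ[k] w)) = m ⊗ₜ[k] slice c w := by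
  induction w using TensorProduct.induction_on with
  | zero => simp
  | tmul a b => simp [TensorProduct.tmul_smul]
  | add x y hx hy => simp only [TensorProduct.tmul_add, map_add, hx, hy]

lemma slice_tail (M : Type v) [AddCommGroup M] [Module k M] (c : A →ₗ[k] k) (hc1 : c 1 = 1)
    (hc : ∀ a, slice c (Coalgebra.comul (R := k) a) = c a • (1 : A)) (z : M ⊗[k] A) :
    slice c (Hoch.tail k A M z) = - z := by
  induction z using TensorProduct.induction_on with
  | zero => simp
  | tmul m a =>
    rw [Hoch.tail_tmul, slice_assoc_symm, map_sub, map_sub, hc, slice_tmul, slice_tmul, hc1,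
      one_smul]
    rw [sub_sub, add_comm, ← sub_sub, sub_self, zero_sub, TensorProduct.tmul_neg]
  | add x y hx hy => simp only [map_add, hx, hy, neg_add]

theorem cocycles_one_le_coboundaries_of_integral
    (V : Type v) [AddCommGroup V] [Module k V] [HopfRep.Comod k A V]
    (c : A →ₗ[k] k) (hc1 : c 1 = 1)
    (hc : ∀ a, slice c (Coalgebra.comul (R := k) a) = c a • (1 : A)) :
    Hoch.cocycles k A V 1 ≤ Hoch.coboundaries k A V 1 := by
  intro z hz
  have hz' : Hoch.d k A V 1 z = 0 := hz
  rw [Hoch.d_succ k A V 0] at hz'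
  have hz2 : (Hoch.d k A V 0).rTensor A z + ((-1 : k) ^ (0 + 1)) • Hoch.tail k A V z = 0 := hz'
  have h1 := congrArg (slice (V := V ⊗[k] A) c) hz2
  rw [map_add, map_smul, slice_tail k A V c hc1 hc, map_zero] at h1
  have h2 : slice (V := V ⊗[k] A) c ((Hoch.d k A V 0).rTensor A z) =
      Hoch.d k A V 0 (slice c z) := slice_rTensor (Hoch.d k A V 0) c z
  rw [h2] at h1
  simp only [zero_add, pow_one, neg_smul, one_smul, neg_neg] at h1
  refine ⟨- slice c z, ?_⟩
  rw [map_neg]
  exact (eq_neg_of_add_eq_zero_left h1).symm ▸ (by simp)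

end

end Groth.Agent.Helper9
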