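import Mathlib
import Groth.Agent.Lib.Helper9.HomComod2
import Groth.Agent.Lib.Helper9.Comod4
import Groth.Agent.Lib.Helper2.ComodDual

/-!
If fixed vectors lift along surjective maps of finite-dimensional comodules, the Hopf algebra is
linearly reductive.
-/

set_option autoImplicit false

namespace Groth.Agent.Helper9.LinRedLift

open TensorProduct Groth.Agent.Helper9 Groth.Agent.Helper9.HomComod

universe u v w w' w'' w'''

section T1
variable {k : Type u} [CommRing k] {A : Type v} [CommRing A] [Bialgebra k A]
variable {V : Type w} [AddCommGroup V] [Module k V] {W : Type w'} [AddCommGroup W] [Module k W]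
variable {V' : Type w''} [AddCommGroup V'] [Module k V'] {W' : Type w'''} [AddCommGroup W'] [Module k W']

lemma tensor_aux (f : V →ₗ[k] V') (g : W →ₗ[k] W') (z : V ⊗[k] A) (u : W ⊗[k] A) :
    TensorProduct.map LinearMap.id (LinearMap.mul' k A)
      (AlgebraTensorModule.tensorTensorTensorComm k k k k V' A W' A
        ((f.rTensor A z) ⊗ₜ[k] (g.rTensor A u))) =
    (TensorProduct.map f g).rTensor A (TensorProduct.map LinearMap.id (LinearMap.mul' k A)
      (AlgebraTensorModule.tensorTensorTensorComm k k k k V A W A (z ⊗ₜ[k] u))) := by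
  induction z using TensorProduct.induction_on with
  | zero => simp
  | tmul v a =>
    induction u using TensorProduct.induction_on with
    | zero => simp
    | tmul w a' => simp
    | add x y hx hy => simp only [map_add, TensorProduct.tmul_add, hx, hy]
  | add x y hx hy => simp only [map_add, TensorProduct.add_tmul, hx, hy]

/-- tensor product of comodule maps -/
theorem tensor_map_coact (cV : HopfRep.Comod k A V) (cW : HopfRep.Comod k A W)
    (cV' : HopfRep.Comod k A V') (cW' : HopfRep.Comod k A W')
    (f : V →ₗ[k] V') (g : W →ₗ[k] W')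
    (hf : ∀ v, cV'.coact (f v) = f.rTensor A (cV.coact v))
    (hg : ∀ w, cW'.coact (g w) = g.rTensor A (cW.coact w)) (x : V ⊗[k] W) :
    (ComodTens.Comod.tensor cV' cW').coact (TensorProduct.map f g x) =
      (TensorProduct.map f g).rTensor A ((ComodTens.Comod.tensor cV cW).coact x) := by
  induction x using TensorProduct.induction_on with
  | zero => simp
  | tmul v w =>
    rw [TensorProduct.map_tmul, ComodTens.tensor_coact_tmul, ComodTens.tensor_coact_tmul, hf, hg,
      tensor_aux]
  | add x y hx hy => simp only [map_add, hx, hy]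

end T1

section T2
variable {k : Type u} [CommRing k] {A : Type v} [CommRing A] [HopfAlgebra k A]
variable {V : Type w} [AddCommGroup V] [Module k V] {W : Type w'} [AddCommGroup W] [Module k W]

/-- the transpose of a comodule map is a comodule map for the contragredient structures -/
theorem dualMap_coact [Module.Finite k W] [Module.Projective k W]
    (cV : HopfRep.Comod k A V) (cW : HopfRep.Comod k A W)
    (dV : HopfRep.Comod k A (Module.Dual k V)) (hdV : ComodTens.Comod.IsDual cV dV)
    (dW : HopfRep.Comod k A (Module.Dual k W)) (hdW : ComodTens.Comod.IsDual cW dW)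
    (ι : W →ₗ[k] V) (hι : ∀ w, cV.coact (ι w) = ι.rTensor A (cW.coact w)) (φ : Module.Dual k V) :
    dW.coact (ι.dualMap φ) = ι.dualMap.rTensor A (dV.coact φ) := by
  apply (dualTensorHom_bijective (R := k) (M := W) (N := A)).1
  rw [hdW, dualTensorHom_rTensor_dualMap, hdV]
  apply LinearMap.ext
  intro w
  rw [ComodTens.dualCoactFun_apply, LinearMap.comp_apply, ComodTens.dualCoactFun_apply, hι]
  generalize cW.coact w = y
  induction y using TensorProduct.induction_on with
  | zero => simp
  | tmul m a => simp
  | add x y hx hy => simp only [map_add, hx, hy]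

/-- naturality of `ΦL` -/
lemma ΦL_lTensor_dualMap {B : Type w''} [AddCommGroup B] [Module k B] (ι : W →ₗ[k] V)
    (z : B ⊗[k] Module.Dual k V) :
    ΦL k B W (ι.dualMap.lTensor B z) = ΦL k B V z ∘ₗ ι := by
  induction z using TensorProduct.induction_on with
  | zero => simp
  | tmul b φ =>
    apply LinearMap.ext
    intro m
    simp
  | add x y hx hy => rw [map_add, map_add, hx, hy, map_add, LinearMap.add_comp]

end T2

section T4
variable {k : Type u} [CommRing k] {A : Type v} [Ring A] [Bialgebra k A]
variable {V : Type w} [AddCommGroup V] [Module k V] {W : Type w'} [AddCommGroup W] [Module k W]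

lemma mem_fixedPts_ofEquiv (e : V ≃ₗ[k] W) (c : HopfRep.Comod k A V) (x : W) :
    x ∈ @HopfRep.fixedPts k A _ _ _ W _ _ (ComodTens.Comod.ofEquiv e c) ↔
      e.symm x ∈ @HopfRep.fixedPts k A _ _ _ V _ _ c := by
  show (ComodTens.Comod.ofEquiv e c).coact x = x ⊗ₜ[k] (1 : A) ↔
    c.coact (e.symm x) = e.symm x ⊗ₜ[k] (1 : A)
  rw [ComodTens.ofEquiv_coact]
  constructor
  · intro h
    have h2 := congrArg ((e.symm : W →ₗ[k] V).rTensor A) h
    rw [← LinearMap.comp_apply, ← LinearMap.rTensor_comp] at h2
    have : (e.symm : W →ₗ[k] V) ∘ₗ (e : V →ₗ[k] W) = LinearMap.id := by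
      apply LinearMap.ext; intro v; simp
    rw [this, LinearMap.rTensor_id, LinearMap.id_apply, LinearMap.rTensor_tmul] at h2
    exact h2
  · intro h
    rw [h, LinearMap.rTensor_tmul]
    simp

end T4

end Groth.Agent.Helper9.LinRedLift
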