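import Mathlib
import Groth.Agent.Lib.Helper9.LinRedLift

/-!
If fixed vectors lift along surjective maps of finite-dimensional comodules, the Hopf algebra is
linearly reductive.
-/

set_option autoImplicit false

namespace Groth.Agent.Helper9.LinRedLift

open TensorProduct Groth.Agent.Helper9 Groth.Agent.Helper9.HomComod

universe u v

theorem isLinearlyReductive_of_lifting {k : Type u} [Field k] {A : Type v} [CommRing A]
    [HopfAlgebra k A]
    (hlift : ∀ (X Y : Type v) [AddCommGroup X] [Module k X] [HopfRep.Comod k A X]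
        [AddCommGroup Y] [Module k Y] [HopfRep.Comod k A Y] (φ : X →ₗ[k] Y),
        Module.Finite k X → Module.Finite k Y → Hoch.IsComodHom A φ → Function.Surjective φ →
        ∀ y ∈ HopfRep.fixedPts k A Y, ∃ x ∈ HopfRep.fixedPts k A X, φ x = y) :
    HopfRep.IsLinearlyReductive k A := by
  intro V _ _ cV hfin W₀ hW₀
  haveI : Module.FinitePresentation k V := Module.finitePresentation_of_projective k V
  haveI : Module.FinitePresentation k W₀ := Module.finitePresentation_of_projective k W₀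
  -- structures
  let cW : HopfRep.Comod k A W₀ := subComod W₀ hW₀
  let ι : W₀ →ₗ[k] V := W₀.subtype
  have hι : ∀ w, cV.coact (ι w) = ι.rTensor A (cW.coact w) := by
    intro w
    have := isComodHom_subtype W₀ hW₀
    exact LinearMap.congr_fun this w
  obtain ⟨dV, hdV⟩ := Groth.Agent.Helper2.ComodDual.exists_isDual k A V cV
  obtain ⟨dW, hdW⟩ := Groth.Agent.Helper2.ComodDual.exists_isDual k A W₀ cW
  let TX := ComodTens.Comod.tensor cW dV
  let TY := ComodTens.Comod.tensor cW dW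
  let φB : W₀ ⊗[k] Module.Dual k V →ₗ[k] W₀ ⊗[k] Module.Dual k W₀ := ι.dualMap.lTensor W₀
  have hφBsurj : Function.Surjective φB :=
    LinearMap.lTensor_surjective _ (LinearMap.dualMap_surjective_of_injective W₀.injective_subtype)
  have hφBcomod : ∀ x, TY.coact (φB x) = φB.rTensor A (TX.coact x) := by
    intro x
    exact tensor_map_coact cW dV cW dW LinearMap.id ι.dualMap (fun v => by simp)
      (fun φ => dualMap_coact cV cW dV hdV dW hdW ι hι φ) x
  -- transport to the universe of `V`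
  let bV := Module.finBasis k V
  let bW := Module.finBasis k W₀
  let EX : W₀ ⊗[k] V ≃ₗ[k] W₀ ⊗[k] Module.Dual k V :=
    TensorProduct.congr (LinearEquiv.refl k W₀) bV.toDualEquiv
  let EY : W₀ ⊗[k] W₀ ≃ₗ[k] W₀ ⊗[k] Module.Dual k W₀ :=
    TensorProduct.congr (LinearEquiv.refl k W₀) bW.toDualEquiv
  let cX : HopfRep.Comod k A (W₀ ⊗[k] V) := ComodTens.Comod.ofEquiv EX.symm TX
  let cY : HopfRep.Comod k A (W₀ ⊗[k] W₀) := ComodTens.Comod.ofEquiv EY.symm TY
  let φ : W₀ ⊗[k] V →ₗ[k] W₀ ⊗[k] W₀ := (EY.symm : _ →ₗ[k] _) ∘ₗ φB ∘ₗ (EX : _ →ₗ[k] _)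
  have hφsurj : Function.Surjective φ := by
    intro y
    obtain ⟨xB, hxB⟩ := hφBsurj (EY y)
    refine ⟨EX.symm xB, ?_⟩
    simp [φ, hxB]
  have hφcomod : @Hoch.IsComodHom k _ A _ _ _ (W₀ ⊗[k] V) _ _ cX (W₀ ⊗[k] W₀) _ _ cY φ := by
    apply LinearMap.ext
    intro x
    show cY.coact (φ x) = φ.rTensor A (cX.coact x)
    show (ComodTens.Comod.ofEquiv EY.symm TY).coact (EY.symm (φB (EX x))) =
      φ.rTensor A ((ComodTens.Comod.ofEquiv EX.symm TX).coact x)
    rw [ComodTens.ofEquiv_coact_apply, ComodTens.ofEquiv_coact, hφBcomod]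
    have key : ∀ t, ((EY.symm : _ →ₗ[k] _)).rTensor A (φB.rTensor A t) =
        φ.rTensor A (((EX.symm : _ →ₗ[k] _)).rTensor A t) := by
      intro t
      rw [← LinearMap.comp_apply, ← LinearMap.comp_apply, ← LinearMap.rTensor_comp,
        ← LinearMap.rTensor_comp]
      congr 2
      apply LinearMap.ext
      intro z
      simp [φ]
    rw [LinearEquiv.symm_symm]
    exact key _
  -- the fixed vector corresponding to the identity of W
  obtain ⟨y₀B, hy₀B⟩ := (ΦL_bijective (k := k) (B := W₀) (M := W₀)).2 LinearMap.id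
  have hy₀Bfix : y₀B ∈ @HopfRep.fixedPts k A _ _ _ _ _ _ TY := by
    apply (HomComod.mem_fixedPts_iff cW cW dW hdW y₀B).mpr
    rw [hy₀B]
    simp
  have hy₀fix : EY.symm y₀B ∈ @HopfRep.fixedPts k A _ _ _ _ _ _ cY := by
    apply (mem_fixedPts_ofEquiv EY.symm TY _).mpr
    simpa using hy₀Bfix
  obtain ⟨x, hxfix, hx⟩ := @hlift (W₀ ⊗[k] V) (W₀ ⊗[k] W₀) _ _ cX _ _ cY φ inferInstance inferInstance
    hφcomod hφsurj _ hy₀fix
  have hxBfix : EX x ∈ @HopfRep.fixedPts k A _ _ _ _ _ _ TX := by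
    have := (mem_fixedPts_ofEquiv EX.symm TX x).mp hxfix
    simpa using this
  have hxB : φB (EX x) = y₀B := by
    have h1 : EY.symm (φB (EX x)) = EY.symm y₀B := hx
    exact EY.symm.injective h1
  -- the retraction
  let r : V →ₗ[k] W₀ := ΦL k W₀ V (EX x)
  have hr : cW.coact ∘ₗ r = r.rTensor A ∘ₗ cV.coact :=
    (HomComod.mem_fixedPts_iff cV cW dV hdV (EX x)).mp hxBfix
  have hrι : r ∘ₗ ι = LinearMap.id := by
    rw [← ΦL_lTensor_dualMap, hxB, hy₀B]
  have hrcomod : @Hoch.IsComodHom k _ A _ _ _ V _ _ cV W₀ _ _ cW r := hr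
  refine ⟨LinearMap.ker r, ?_, ?_⟩
  · exact @isSubcomod_ker_of_isComodHom k _ A _ _ _ V _ _ cV _ W₀ _ _ cW r hrcomod
  · constructor
    · rw [disjoint_iff, eq_bot_iff]
      rintro v ⟨hvW, hvK⟩
      have h1 : r v = 0 := hvK
      have h2 : r (ι ⟨v, hvW⟩) = ⟨v, hvW⟩ := LinearMap.congr_fun hrι ⟨v, hvW⟩
      have h3 : (⟨v, hvW⟩ : W₀) = 0 := by rw [← h2]; exact h1
      rw [Submodule.mem_bot]
      exact congrArg Subtype.val h3
    · rw [codisjoint_iff, eq_top_iff]
      intro v _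
      have h1 : v = ι (r v) + (v - ι (r v)) := by abel
      rw [h1]
      apply Submodule.add_mem_sup (r v).2
      rw [LinearMap.mem_ker, map_sub]
      have h2 : r (ι (r v)) = r v := LinearMap.congr_fun hrι (r v)
      rw [h2, sub_self]

end Groth.Agent.Helper9.LinRedLift
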