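import Mathlib
import Groth.Agent.Lib.Helper9.Bal.TorApp

/-!
# Tor: linearity in the second variable and dimension shifting along ideals (helper9)
-/

universe u

open CategoryTheory Limits MonoidalCategory TensorProduct
open Groth.Agent.Helper1.TorL Groth.Agent.Helper1.TorNat Groth.Agent.Helper9.Bal

namespace Groth.Agent.Helper9.TorSecond

variable {R : Type u} [CommRing R]

/-- maps in the second variable, through the balancing isomorphism -/
theorem tor_obj_map_eq (X : ModuleCat.{u} R) {Y Y' : ModuleCat.{u} R} (g : Y ⟶ Y') (n : ℕ) :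
    ((Tor (ModuleCat.{u} R) n).obj X).map g =
      (torSymmIso X n).inv.app Y ≫ ((Tor (ModuleCat.{u} R) n).map g).app X ≫
        (torSymmIso X n).hom.app Y' := by
  have h := (torSymmIso X n).hom.naturality g
  rw [← cancel_epi ((torSymmIso X n).hom.app Y), ← h, Iso.hom_inv_id_app_assoc]
  rfl

/-- Tor is linear in the second variable -/
theorem tor_obj_map_smul_id (X Y : ModuleCat.{u} R) (r : R) (n : ℕ) :
    ((Tor (ModuleCat.{u} R) n).obj X).map (r • 𝟙 Y) = r • 𝟙 (T n X Y) := by
  rw [tor_obj_map_eq, tor_map_smul_id, Linear.smul_comp, Linear.comp_smul]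
  congr 1
  erw [Category.id_comp]
  exact Iso.inv_hom_id_app _ _

/-- an element killing the second variable kills Tor -/
theorem smul_tor_eq_zero (X Y : ModuleCat.{u} R) (r : R) (h : ∀ y : Y, r • y = 0) (n : ℕ)
    (ξ : T n X Y) : r • ξ = 0 := by
  have h0 : r • 𝟙 Y = (0 : R) • 𝟙 Y := by
    ext y
    simp [h y]
  have h1 := tor_obj_map_smul_id X Y r n
  rw [h0, tor_obj_map_smul_id, zero_smul] at h1
  have h2 : ((0 : T n X Y ⟶ T n X Y)).hom ξ = (r • 𝟙 (T n X Y)).hom ξ := by rw [h1]
  exact h2.symm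

/-- the short complex `0 → J → R → R/J → 0` -/
noncomputable abbrev idealSC (J : Ideal R) : ShortComplex (ModuleCat.{u} R) :=
  ModuleCat.shortComplexOfCompEqZero (Submodule.subtype J) (Submodule.mkQ J)
    (by ext x; simp [Ideal.Quotient.eq_zero_iff_mem])

lemma idealSC_shortExact (J : Ideal R) : (idealSC J).ShortExact :=
  shortExact_subtype_mkQ (M := R) J

lemma isZero_tor_succ_ring (Y : ModuleCat.{u} R) (J : Ideal R) (n : ℕ) :
    IsZero (T (n + 1) (idealSC J).X₂ Y) := by
  have : Module.Flat R (idealSC J).X₂ := inferInstanceAs (Module.Flat R R)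
  exact isZero_tor_succ_of_flat _ _ n

/-- if `J` kills `Y` then `J ⊗ Y → R ⊗ Y` is zero -/
lemma whiskerRight_subtype_eq_zero (J : Ideal R) (Y : ModuleCat.{u} R)
    (h : ∀ a ∈ J, ∀ y : Y, a • y = 0) : (idealSC J).f ▷ Y = 0 := by
  apply ModuleCat.hom_ext
  rw [ModuleCat.hom_whiskerRight]
  apply TensorProduct.ext'
  intro a y
  show ((a : R) ⊗ₜ[R] y : R ⊗[R] Y) = 0
  have : ((a : R) ⊗ₜ[R] y : R ⊗[R] Y) = ((a : R) • (1 : R)) ⊗ₜ[R] y := by simp
  rw [this, TensorProduct.smul_tmul, h a a.2 y, tmul_zero]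

/-- **Dimension shift along an ideal killing the second variable**:
`Tor_{i+1}(R/J, Y) ≅ Tor_i(J, Y)` for all `i ≥ 0`. -/
noncomputable def torIdealShift (J : Ideal R) (Y : ModuleCat.{u} R)
    (h : ∀ a ∈ J, ∀ y : Y, a • y = 0) (i : ℕ) :
    T (i + 1) (ModuleCat.of R (R ⧸ J)) Y ≅ T i (ModuleCat.of R J) Y := by
  have hS := idealSC_shortExact J
  have hm : Mono (torδ (idealSC J) hS Y i) :=
    (tor_exact₃ (idealSC J) hS Y i).mono_g ((isZero_tor_succ_ring Y J i).eq_of_src _ _)
  have he : Epi (torδ (idealSC J) hS Y i) := by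
    cases i with
    | zero =>
      refine (tor_exact₁ (idealSC J) hS Y 0).epi_f ?_
      have e := tor0Iso_naturality (idealSC J).f Y
      rw [whiskerRight_subtype_eq_zero J Y h, comp_zero] at e
      have e2 := congrArg (· ≫ (tor0Iso (idealSC J).X₂ Y).inv) e
      simp only [Category.assoc, Iso.hom_inv_id, Category.comp_id, zero_comp] at e2
      exact e2
    | succ n =>
      exact (tor_exact₁ (idealSC J) hS Y (n + 1)).epi_f ((isZero_tor_succ_ring Y J n).eq_of_tgt _ _)
  haveI : IsIso (torδ (idealSC J) hS Y i) := isIso_of_mono_of_epi _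
  exact asIso (torδ (idealSC J) hS Y i)

end Groth.Agent.Helper9.TorSecond
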