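import Mathlib
import Groth.Agent.Lib.Helper9.TorSecond
import Groth.Agent.Lib.Helper9.Bal.TorBi

/-!
# Pro-vanishing of `Tor_i(M, R/I^n)` (helper9)

* `natTrans_app_sigma_eq_zero`: a natural transformation vanishing on each summand vanishes on a
  coproduct (source functor preserving finite coproducts and filtered colimits).
* `tor_map_add`, `torFlipObjAdditive`: `Tor_n(-, Y)` is additive.
* `tor_obj_sigma_map_eq_zero`: second-variable maps on `Tor_n(∐ f, -)`.
* `kerSC p`, `kerSC_shortExact`.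
* `ARTensor.main`: uniform Artin–Rees for `I^b ⊗ M → I^a ⊗ M`.
* `pi h : R/J ⟶ R/J'`, `tor_first_zero`, `tor_second_zero`.
* `lemmaA I i N`: for finite `N`, `∃ c`, `Tor_{i+1}(N, R/I^b) → Tor_{i+1}(N, R/I^a)` is zero for `a + c ≤ b`.
* `exists_c I m i`: uniform `c` for all modules killed by `I^m`.
-/

universe u
open CategoryTheory CategoryTheory.Limits TensorProduct MonoidalCategory
namespace Groth.Agent.Helper9.TorPow
open Groth.Agent.Helper1.TorL Groth.Agent.Helper1.TorNat Groth.Agent.Helper1.TorBalNat Groth.Agent.Helper9.Bal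
  Groth.Agent.Helper9.TorSecond

section generic
open CoproductsFromFiniteFiltered

variable {C : Type*} [Category C] {D : Type*} [Category D] [HasZeroMorphisms D]

/-- a natural transformation vanishing on each summand vanishes on a coproduct -/
theorem natTrans_app_sigma_eq_zero [HasFiniteCoproducts C] {F G : C ⥤ D} (τ : F ⟶ G)
    {α : Type*} (f : α → C) [HasCoproduct f] [HasColimitsOfShape (Finset (Discrete α)) C]
    [PreservesColimitsOfShape (Finset (Discrete α)) F] [PreservesFiniteCoproducts F]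
    (h : ∀ a, τ.app (f a) = 0) : τ.app (∐ f) = 0 := by
  have hfin : ∀ S : Finset (Discrete α), τ.app (∐ fun x : S => f x.1.as) = 0 := by
    intro S
    apply (isColimitOfPreserves F (coproductIsCoproduct (fun x : S => f x.1.as))).hom_ext
    rintro ⟨s⟩
    show F.map (Sigma.ι (fun x : S => f x.1.as) s) ≫ τ.app _ = F.map _ ≫ 0
    rw [τ.naturality, h, zero_comp, comp_zero]
  apply (isColimitOfPreserves F (isColimitFiniteSubproductsCocone f)).hom_ext
  intro S
  show F.map ((finiteSubcoproductsCocone f).ι.app S) ≫ τ.app _ = F.map _ ≫ 0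
  rw [τ.naturality, comp_zero]
  have := hfin S
  erw [this, zero_comp]

end generic

variable {R : Type u} [CommRing R]

section additive

theorem tensCxMap_add {X X' : ModuleCat.{u} R} (f g : X ⟶ X')
    (Q : ChainComplex (ModuleCat.{u} R) ℕ) : tensCxMap (f + g) Q = tensCxMap f Q + tensCxMap g Q := by
  ext i : 1
  show (f + g) ▷ Q.X i = f ▷ Q.X i + g ▷ Q.X i
  exact MonoidalPreadditive.add_whiskerRight f g

theorem tor_map_add {X X' : ModuleCat.{u} R} (f g : X ⟶ X') (Y : ModuleCat.{u} R) (n : ℕ) :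
    ((Tor (ModuleCat.{u} R) n).map (f + g)).app Y =
      ((Tor (ModuleCat.{u} R) n).map f).app Y + ((Tor (ModuleCat.{u} R) n).map g).app Y := by
  rw [tor_map_eq (f + g) (projectiveResolution Y) n, tor_map_eq f (projectiveResolution Y) n,
    tor_map_eq g (projectiveResolution Y) n, tensCxMap_add, HomologicalComplex.homologyMap_add,
    Preadditive.add_comp, Preadditive.comp_add]

instance torFlipObjAdditive (Y : ModuleCat.{u} R) (n : ℕ) :
    ((Tor (ModuleCat.{u} R) n).flip.obj Y).Additive where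
  map_add {_ _ f g} := tor_map_add f g Y n

instance torFlipObjPreservesFinset (Y : ModuleCat.{u} R) (n : ℕ) (α : Type u) :
    PreservesColimitsOfShape (Finset (Discrete α)) ((Tor (ModuleCat.{u} R) n).flip.obj Y) :=
  Groth.Agent.Helper1.TorFilt.main Y n (Finset (Discrete α))

/-- second-variable maps vanishing on each summand vanish on a coproduct (first variable) -/
theorem tor_obj_sigma_map_eq_zero {α : Type u} (f : α → ModuleCat.{u} R) {Y Y' : ModuleCat.{u} R}
    (g : Y ⟶ Y') (n : ℕ) (h : ∀ a, ((Tor (ModuleCat.{u} R) n).obj (f a)).map g = 0) :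
    ((Tor (ModuleCat.{u} R) n).obj (∐ f)).map g = 0 :=
  natTrans_app_sigma_eq_zero ((Tor (ModuleCat.{u} R) n).flip.map g) f h

end additive

section kerSC

/-- the short complex `0 → ker p → F → M → 0` -/
noncomputable def kerSC {F M : ModuleCat.{u} R} (p : F ⟶ M) : ShortComplex (ModuleCat.{u} R) :=
  ShortComplex.mk (X₁ := ModuleCat.of R (LinearMap.ker p.hom))
    (ModuleCat.ofHom (LinearMap.ker p.hom).subtype) p (by
      apply ModuleCat.hom_ext
      apply LinearMap.ext
      intro x
      exact x.2)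

lemma kerSC_shortExact {F M : ModuleCat.{u} R} (p : F ⟶ M) (hp : Function.Surjective p.hom) :
    (kerSC p).ShortExact := by
  apply ModuleCat.shortComplex_shortExact
  · intro x
    constructor
    · intro hx
      exact ⟨⟨x, hx⟩, rfl⟩
    · rintro ⟨y, rfl⟩
      exact y.2
  · exact Submodule.injective_subtype _
  · exact hp

end kerSC

namespace ARTensor

/-- multiplication `J ⊗ F → F` -/
noncomputable def mu (J : Ideal R) (F : Type*) [AddCommGroup F] [Module R F] : J ⊗[R] F →ₗ[R] F :=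
  (TensorProduct.lid R F).toLinearMap ∘ₗ LinearMap.rTensor F J.subtype

lemma mu_tmul (J : Ideal R) (F : Type*) [AddCommGroup F] [Module R F] (a : J) (f : F) :
    mu J F (a ⊗ₜ f) = (a : R) • f := by
  simp [mu]

lemma mu_injective (J : Ideal R) (F : Type*) [AddCommGroup F] [Module R F] [Module.Flat R F] :
    Function.Injective (mu J F) := by
  unfold mu
  rw [LinearMap.coe_comp]
  exact (TensorProduct.lid R F).injective.comp
    (Module.Flat.rTensor_preserves_injective_linearMap _ Subtype.val_injective)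

lemma mu_mem (J : Ideal R) (F : Type*) [AddCommGroup F] [Module R F] (η : J ⊗[R] F) :
    mu J F η ∈ J • (⊤ : Submodule R F) := by
  induction η using TensorProduct.induction_on with
  | zero => rw [map_zero]; exact zero_mem _
  | tmul a f => rw [mu_tmul]; exact Submodule.smul_mem_smul a.2 Submodule.mem_top
  | add x y hx hy => rw [map_add]; exact add_mem hx hy

lemma mu_inclusion {J J' : Ideal R} (h : J ≤ J') (F : Type*) [AddCommGroup F] [Module R F]
    (η : J ⊗[R] F) : mu J' F (LinearMap.rTensor F (Submodule.inclusion h) η) = mu J F η := by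
  induction η using TensorProduct.induction_on with
  | zero => simp
  | tmul a f => simp [mu_tmul]
  | add x y hx hy => simp only [map_add, hx, hy]

lemma map_mu {J : Ideal R} {F M : Type*} [AddCommGroup F] [Module R F] [AddCommGroup M]
    [Module R M] (π : F →ₗ[R] M) (η : J ⊗[R] F) :
    π (mu J F η) = mu J M (LinearMap.lTensor J π η) := by
  induction η using TensorProduct.induction_on with
  | zero => simp
  | tmul a f => simp [mu_tmul]
  | add x y hx hy => simp only [map_add, hx, hy]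

lemma exists_of_mem_smul_ker {J : Ideal R} {F M : Type*} [AddCommGroup F] [Module R F]
    [AddCommGroup M] [Module R M] (π : F →ₗ[R] M) (x : F)
    (hx : x ∈ J • LinearMap.ker π) :
    ∃ η' : J ⊗[R] F, LinearMap.lTensor J π η' = 0 ∧ mu J F η' = x := by
  refine Submodule.smul_induction_on hx ?_ ?_
  · intro b hb k hk
    refine ⟨(⟨b, hb⟩ : J) ⊗ₜ k, ?_, ?_⟩
    · rw [LinearMap.lTensor_tmul, LinearMap.mem_ker.1 hk, tmul_zero]
    · rw [mu_tmul]
  · rintro x y ⟨a, ha1, ha2⟩ ⟨b, hb1, hb2⟩
    exact ⟨a + b, by rw [map_add, ha1, hb1, add_zero], by rw [map_add, ha2, hb2]⟩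

/-- Artin–Rees for `Tor₁`, uniform form -/
theorem main [IsNoetherianRing R] (I : Ideal R) (M : Type u) [AddCommGroup M] [Module R M]
    [Module.Finite R M] :
    ∃ c, ∀ a b, a + c ≤ b → ∀ (h : I ^ b ≤ I ^ a) (ξ : (I ^ b : Ideal R) ⊗[R] M),
      LinearMap.rTensor M (I ^ b).subtype ξ = 0 →
        LinearMap.rTensor M (Submodule.inclusion h) ξ = 0 := by
  obtain ⟨r, π, hπ⟩ := Module.Finite.exists_fin' R M
  obtain ⟨c, hc⟩ := Ideal.exists_pow_inf_eq_pow_smul I (LinearMap.ker π)
  refine ⟨c, fun a b hab h ξ hξ => ?_⟩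
  obtain ⟨η, rfl⟩ := LinearMap.lTensor_surjective (I ^ b : Ideal R) hπ ξ
  have h1 : mu (I ^ b) (Fin r → R) η ∈ LinearMap.ker π := by
    rw [LinearMap.mem_ker, map_mu]
    unfold mu
    rw [LinearMap.comp_apply, hξ, map_zero]
  have h2 := mu_mem (I ^ b) (Fin r → R) η
  have h3 : mu (I ^ b) (Fin r → R) η ∈ I ^ a • LinearMap.ker π := by
    have h4 : mu (I ^ b) (Fin r → R) η ∈ I ^ b • (⊤ : Submodule R (Fin r → R)) ⊓
        LinearMap.ker π := ⟨h2, h1⟩
    rw [hc b (by omega)] at h4
    exact Submodule.smul_mono (Ideal.pow_le_pow_right (by omega)) inf_le_right h4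
  obtain ⟨η', hη1, hη2⟩ := exists_of_mem_smul_ker π _ h3
  have h5 : LinearMap.rTensor (Fin r → R) (Submodule.inclusion h) η = η' := by
    apply mu_injective (I ^ a) (Fin r → R)
    rw [mu_inclusion, hη2]
  have h6 : LinearMap.rTensor M (Submodule.inclusion h) (LinearMap.lTensor _ π η) =
      LinearMap.lTensor _ π (LinearMap.rTensor (Fin r → R) (Submodule.inclusion h) η) := by
    rw [← LinearMap.comp_apply, ← LinearMap.comp_apply, LinearMap.rTensor_comp_lTensor,
      LinearMap.lTensor_comp_rTensor]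
  rw [h6, h5, hη1]

end ARTensor

/-- projection `R/J → R/J'` -/
noncomputable abbrev pi {J J' : Ideal R} (h : J ≤ J') :
    ModuleCat.of R (R ⧸ J) ⟶ ModuleCat.of R (R ⧸ J') :=
  ModuleCat.ofHom (Submodule.factor h)

lemma pi_comp {J J' J'' : Ideal R} (h : J ≤ J') (h' : J' ≤ J'') :
    pi h ≫ pi h' = pi (h.trans h') := by
  apply ModuleCat.hom_ext
  exact Submodule.factor_comp h h'

/-- morphism of short complexes induced by `J ≤ J'` -/
noncomputable def idealSCMap {J J' : Ideal R} (h : J ≤ J') : idealSC J ⟶ idealSC J' where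
  τ₁ := ModuleCat.ofHom (Submodule.inclusion h)
  τ₂ := 𝟙 _
  τ₃ := pi h
  comm₁₂ := by
    ext x
    rfl
  comm₂₃ := by
    ext
    rfl

theorem tor_first_zero (Y : ModuleCat.{u} R) {J J' : Ideal R} (h : J ≤ J')
    (hz : ∀ ξ : (J ⊗[R] Y), LinearMap.rTensor Y J.subtype ξ = 0 →
      LinearMap.rTensor Y (Submodule.inclusion h) ξ = 0) :
    ((Tor (ModuleCat.{u} R) 1).map (pi h)).app Y = 0 := by
  have hS := idealSC_shortExact J
  have hS' := idealSC_shortExact J'
  have hnat := torδ_naturality (idealSCMap h) hS hS' Y 0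
  have hflat : IsZero (T 1 (idealSC J').X₂ Y) := isZero_tor_succ_ring Y J' 0
  have hmono : Mono (torδ (idealSC J') hS' Y 0) :=
    (tor_exact₃ (idealSC J') hS' Y 0).mono_g (hflat.eq_of_src _ _)
  have hzero : torδ (idealSC J) hS Y 0 ≫ ((Tor (ModuleCat.{u} R) 0).map (idealSCMap h).τ₁).app Y = 0 := by
    ext z
    set y := torδ (idealSC J) hS Y 0 z with hy
    have e1 := tor0Iso_naturality (idealSCMap h).τ₁ Y
    have e2 := tor0Iso_naturality (idealSC J).f Y
    have e3 := tor_δ_comp (idealSC J) hS Y 0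
    set ξ := (tor0Iso (idealSC J).X₁ Y).hom y with hξ
    have h1 : ((idealSC J).f ▷ Y) ξ = 0 := by
      rw [hξ, ← ModuleCat.comp_apply, ← e2, ModuleCat.comp_apply, hy, ← ModuleCat.comp_apply
        (torδ (idealSC J) hS Y 0), e3]
      simp
    have h2 : ((idealSCMap h).τ₁ ▷ Y) ξ = 0 := hz ξ h1
    have h3 : (tor0Iso (idealSC J').X₁ Y).hom
        ((((Tor (ModuleCat.{u} R) 0).map (idealSCMap h).τ₁).app Y) y) = 0 := by
      rw [← ModuleCat.comp_apply, e1, ModuleCat.comp_apply]
      exact h2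
    have h4 := congrArg (tor0Iso (idealSC J').X₁ Y).inv h3
    rw [← ModuleCat.comp_apply, Iso.hom_inv_id, ModuleCat.id_apply, map_zero] at h4
    exact h4
  rw [hzero] at hnat
  rw [← cancel_mono (torδ (idealSC J') hS' Y 0), Limits.zero_comp]
  exact hnat.symm

/-- second-variable version -/
theorem tor_second_zero (Y : ModuleCat.{u} R) {J J' : Ideal R} (h : J ≤ J')
    (hz : ∀ ξ : (J ⊗[R] Y), LinearMap.rTensor Y J.subtype ξ = 0 →
      LinearMap.rTensor Y (Submodule.inclusion h) ξ = 0) :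
    ((Tor (ModuleCat.{u} R) 1).obj Y).map (pi h) = 0 := by
  rw [tor_obj_map_eq, tor_first_zero Y h hz, zero_comp, comp_zero]

/-- Lemma A for `Tor₁` -/
theorem lemmaA_one [IsNoetherianRing R] (I : Ideal R) (N : Type u) [AddCommGroup N] [Module R N]
    [Module.Finite R N] :
    ∃ c, ∀ a b, a + c ≤ b → ∀ h : I ^ b ≤ I ^ a,
      ((Tor (ModuleCat.{u} R) 1).obj (ModuleCat.of R N)).map (pi h) = 0 := by
  obtain ⟨c, H⟩ := ARTensor.main I N
  exact ⟨c, fun a b hab h => tor_second_zero (ModuleCat.of R N) h (H a b hab h)⟩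

/-- Lemma A: for a finite module `N` and `i ≥ 1`, the pro-system `Tor_i(N, R/I^n)` is
essentially zero with uniform shift. -/
theorem lemmaA [IsNoetherianRing R] (I : Ideal R) (i : ℕ) :
    ∀ (N : Type u) [AddCommGroup N] [Module R N] [Module.Finite R N],
    ∃ c, ∀ a b, a + c ≤ b → ∀ h : I ^ b ≤ I ^ a,
      ((Tor (ModuleCat.{u} R) (i + 1)).obj (ModuleCat.of R N)).map (pi h) = 0 := by
  induction i with
  | zero => exact fun N => lemmaA_one I N
  | succ i ih =>
    intro N _ _ _
    obtain ⟨r, π, hπ⟩ := Module.Finite.exists_fin' R N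
    let p : ModuleCat.of R (Fin r → R) ⟶ ModuleCat.of R N := ModuleCat.ofHom π
    have : Module.Finite R (LinearMap.ker p.hom) := by
      have : IsNoetherian R (Fin r → R) := inferInstance
      infer_instance
    obtain ⟨c, hc⟩ := ih (LinearMap.ker p.hom)
    refine ⟨c, fun a b hab h => ?_⟩
    have hS : (kerSC p).ShortExact := kerSC_shortExact p hπ
    have hflat : IsZero (T (i + 1 + 1) (kerSC p).X₂ (ModuleCat.of R (R ⧸ I ^ a))) := by
      have : Module.Flat R (kerSC p).X₂ := inferInstanceAs (Module.Flat R (Fin r → R))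
      exact isZero_tor_succ_of_flat _ _ (i + 1)
    have hmono : Mono (torδ (kerSC p) hS (ModuleCat.of R (R ⧸ I ^ a)) (i + 1)) :=
      (tor_exact₃ (kerSC p) hS _ (i + 1)).mono_g (hflat.eq_of_src _ _)
    have hnat := torδ_naturality₂ (kerSC p) hS (pi h) (i + 1)
    have h0 : ((Tor (ModuleCat.{u} R) (i + 1)).obj (kerSC p).X₁).map (pi h) = 0 := hc a b hab h
    rw [h0, comp_zero] at hnat
    show ((Tor (ModuleCat.{u} R) (i + 1 + 1)).obj (kerSC p).X₃).map (pi h) = 0
    rw [← cancel_mono (torδ (kerSC p) hS (ModuleCat.of R (R ⧸ I ^ a)) (i + 1)), zero_comp]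
    exact hnat.symm

/-- if `I^m` kills `M` then `I^b ⊗ M → I^a ⊗ M` vanishes for `a + m ≤ b` -/
theorem rTensor_inclusion_eq_zero (I : Ideal R) (m : ℕ) (M : Type u) [AddCommGroup M] [Module R M]
    (hM : ∀ r ∈ I ^ m, ∀ x : M, r • x = 0) (a b : ℕ) (hab : a + m ≤ b) (h : I ^ b ≤ I ^ a) :
    LinearMap.rTensor M (Submodule.inclusion h) = 0 := by
  let S : Ideal R := Submodule.map (I ^ a).subtype (LinearMap.ker (TensorProduct.mk R (I ^ a : Ideal R) M))
  have hS : I ^ a * I ^ m ≤ S := by
    rw [Ideal.mul_le]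
    intro u hu v hv
    refine ⟨v • (⟨u, hu⟩ : (I ^ a : Ideal R)), ?_, ?_⟩
    · rw [SetLike.mem_coe, LinearMap.mem_ker]
      apply LinearMap.ext
      intro y
      show (v • (⟨u, hu⟩ : (I ^ a : Ideal R))) ⊗ₜ[R] y = 0
      rw [TensorProduct.smul_tmul, hM v hv y, tmul_zero]
    · show v • u = u * v
      rw [smul_eq_mul, mul_comm]
  apply TensorProduct.ext'
  intro x y
  have hx : (x : R) ∈ S := hS (by
    rw [← pow_add]
    exact Ideal.pow_le_pow_right hab x.2)
  obtain ⟨x', hx', hxx⟩ := hx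
  have : Submodule.inclusion h x = x' := Subtype.ext hxx.symm
  rw [LinearMap.rTensor_tmul, this]
  exact LinearMap.congr_fun (LinearMap.mem_ker.1 hx') y

/-- base case `i = 1`, `c = m` -/
theorem base (I : Ideal R) (m : ℕ) (M : ModuleCat.{u} R) (hM : ∀ r ∈ I ^ m, ∀ x : M, r • x = 0)
    (a b : ℕ) (hab : a + m ≤ b) (h : I ^ b ≤ I ^ a) :
    ((Tor (ModuleCat.{u} R) 1).obj M).map (pi h) = 0 := by
  apply tor_second_zero M h
  intro ξ _
  rw [rTensor_inclusion_eq_zero I m M hM a b hab h]
  rfl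

section cover
variable (I : Ideal R) (m : ℕ) (M : ModuleCat.{u} R) (hM : ∀ r ∈ I ^ m, ∀ x : M, r • x = 0)

/-- `R/I^m → M`, `1 ↦ y` -/
noncomputable def toM (y : M) : R ⧸ I ^ m →ₗ[R] M :=
  Submodule.liftQ (I ^ m) (LinearMap.toSpanSingleton R M y) (by
    intro r hr
    rw [LinearMap.mem_ker, LinearMap.toSpanSingleton_apply]
    exact hM r hr y)

include hM in
lemma toM_one (y : M) : toM I m M hM y (Submodule.Quotient.mk 1) = y := by
  unfold toM
  rw [Submodule.liftQ_apply, LinearMap.toSpanSingleton_apply, one_smul]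

/-- the summands of the cover -/
noncomputable abbrev cf : M → ModuleCat.{u} R := fun _ => ModuleCat.of R (R ⧸ I ^ m)

/-- the cover `⨁_{y ∈ M} R/I^m → M` -/
noncomputable def cover : (∐ cf I m M) ⟶ M :=
  Sigma.desc (fun y => ModuleCat.ofHom (toM I m M hM y))

lemma cover_surjective : Function.Surjective (cover I m M hM).hom := by
  intro y
  refine ⟨(Sigma.ι (cf I m M) y).hom (Submodule.Quotient.mk 1), ?_⟩
  have h := Sigma.ι_desc (f := cf I m M) (fun y => ModuleCat.ofHom (toM I m M hM y)) y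
  have h2 := congrArg (fun φ => φ.hom (Submodule.Quotient.mk 1 : R ⧸ I ^ m)) h
  simp only [ModuleCat.hom_comp, LinearMap.comp_apply, ModuleCat.hom_ofHom] at h2
  rw [toM_one] at h2
  exact h2

lemma smul_quot_eq_zero (r : R) (hr : r ∈ I ^ m) : r • 𝟙 (ModuleCat.of R (R ⧸ I ^ m)) = 0 := by
  apply ModuleCat.hom_ext
  apply LinearMap.ext
  intro x
  obtain ⟨x, rfl⟩ := Submodule.mkQ_surjective _ x
  show r • (I ^ m).mkQ x = 0
  rw [← map_smul, Submodule.mkQ_apply, Submodule.Quotient.mk_eq_zero, smul_eq_mul]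
  exact Ideal.mul_mem_right _ _ hr

lemma smul_cover_eq_zero (r : R) (hr : r ∈ I ^ m) (z : (∐ cf I m M : ModuleCat.{u} R)) :
    r • z = 0 := by
  have h : r • 𝟙 (∐ cf I m M) = 0 := by
    apply Sigma.hom_ext
    intro y
    rw [Linear.comp_smul, Category.comp_id, comp_zero]
    have : r • Sigma.ι (cf I m M) y = (r • 𝟙 _) ≫ Sigma.ι (cf I m M) y := by
      rw [Linear.smul_comp, Category.id_comp]
    rw [this, smul_quot_eq_zero I m r hr, zero_comp]
  have h2 := congrArg (fun φ => φ.hom z) h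
  exact h2

end cover

/-- the main induction -/
theorem exists_c [IsNoetherianRing R] (I : Ideal R) (m : ℕ) (i : ℕ) :
    ∃ c, ∀ (M : ModuleCat.{u} R), (∀ r ∈ I ^ m, ∀ x : M, r • x = 0) →
      ∀ a b, a + c ≤ b → ∀ h : I ^ b ≤ I ^ a,
        ((Tor (ModuleCat.{u} R) (i + 1)).obj M).map (pi h) = 0 := by
  induction i with
  | zero => exact ⟨m, base I m⟩
  | succ i ih =>
    obtain ⟨c, hc⟩ := ih
    obtain ⟨c', hc'⟩ := lemmaA I (i + 1) (R ⧸ I ^ m)
    refine ⟨c + c', fun M hM a b hab h => ?_⟩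
    let p := cover I m M hM
    have hp : Function.Surjective p.hom := cover_surjective I m M hM
    have hS : (kerSC p).ShortExact := kerSC_shortExact p hp
    -- the kernel is killed by `I^m`
    have hK : ∀ r ∈ I ^ m, ∀ x : (kerSC p).X₁, r • x = 0 := by
      intro r hr x
      have hx : r • (x : LinearMap.ker p.hom) = 0 := by
        apply Subtype.ext
        exact smul_cover_eq_zero I m M r hr x.1
      exact hx
    have h1 : I ^ b ≤ I ^ (a + c') := Ideal.pow_le_pow_right (by omega)
    have h2 : I ^ (a + c') ≤ I ^ a := Ideal.pow_le_pow_right (by omega)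
    -- vanishing on the kernel
    have hz1 : ((Tor (ModuleCat.{u} R) (i + 1)).obj (kerSC p).X₁).map (pi h1) = 0 :=
      hc (kerSC p).X₁ hK (a + c') b (by omega) h1
    -- vanishing on the cover
    have hz2 : ((Tor (ModuleCat.{u} R) (i + 1 + 1)).obj (kerSC p).X₂).map (pi h2) = 0 :=
      tor_obj_sigma_map_eq_zero (cf I m M) (pi h2) (i + 1 + 1)
        (fun _ => hc' a (a + c') le_rfl h2)
    show ((Tor (ModuleCat.{u} R) (i + 1 + 1)).obj (kerSC p).X₃).map (pi h) = 0
    rw [← pi_comp h1 h2, Functor.map_comp]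
    have hnat := torδ_naturality₂ (kerSC p) hS (pi h1) (i + 1)
    rw [hz1, comp_zero] at hnat
    apply ModuleCat.hom_ext
    apply LinearMap.ext
    intro ξ
    have hδ : (torδ (kerSC p) hS (ModuleCat.of R (R ⧸ I ^ (a + c'))) (i + 1)).hom
        ((((Tor (ModuleCat.{u} R) (i + 1 + 1)).obj (kerSC p).X₃).map (pi h1)).hom ξ) = 0 := by
      have := congrArg (fun φ => φ.hom ξ) hnat
      exact this.symm
    have hex := (ShortComplex.ShortExact.moduleCat_exact_iff_function_exact _).1
      (tor_exact₃ (kerSC p) hS (ModuleCat.of R (R ⧸ I ^ (a + c'))) (i + 1))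
    obtain ⟨η, hη⟩ := (hex _).1 hδ
    have hn2 := ((Tor (ModuleCat.{u} R) (i + 1 + 1)).map (kerSC p).g).naturality (pi h2)
    rw [hz2, zero_comp] at hn2
    have := congrArg (fun φ => φ.hom η) hn2
    rw [ModuleCat.hom_comp, LinearMap.comp_apply]
    erw [← hη]
    exact this.symm


end Groth.Agent.Helper9.TorPow
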