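import Mathlib.RingTheory.Bialgebra.MonoidAlgebra

set_option autoImplicit false
universe u

namespace Groth.Agent.Helper9.GLConn
open MonoidAlgebra Coalgebra TensorProduct

variable {C : Type u} [CommRing C] {M : Type u}

/-- coefficient functional -/
noncomputable def ev (m : M) : MonoidAlgebra C M →ₗ[C] C :=
  Finsupp.lapply m ∘ₗ (coeffLinearEquiv C).toLinearMap

lemma ev_apply (m : M) (x : MonoidAlgebra C M) : ev m x = x.coeff m := rfl

open Classical in
lemma ev_single (m g : M) (a : C) : ev m (single g a) = if g = m then a else 0 := by
  simp [ev_apply, Finsupp.single_apply]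

open Classical in
lemma psi_comul (m m' : M) (y : MonoidAlgebra C M) :
    (LinearMap.mul' C C) ((TensorProduct.map (ev m) (ev m')) (comul (R := C) y))
      = if m = m' then y.coeff m else 0 := by
  have key : (LinearMap.mul' C C ∘ₗ TensorProduct.map (ev m) (ev m')) ∘ₗ (comul (R := C) (A := MonoidAlgebra C M))
      = if m = m' then ev m else 0 := by
    ext g
    simp only [LinearMap.coe_comp, Function.comp_apply, lsingle_apply, comul_single]
    rw [CommSemiring.comul_apply]
    simp only [TensorProduct.map_tmul, lsingle_apply, ev_single, LinearMap.mul'_apply]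
    by_cases h : m = m'
    · subst h; simp [ev_single]; intro h1 h2; exact absurd h2 h1
    · simp only [h, if_false, LinearMap.zero_apply]
      by_cases h1 : g = m
      · subst h1; simp [h]
      · simp [h1]
  have := congrArg (fun f => f y) key
  simp only [LinearMap.coe_comp, Function.comp_apply] at this
  rw [this]
  split_ifs <;> simp [ev_apply]

end Groth.Agent.Helper9.GLConn

namespace Groth.Agent.Helper9.GLConn
open MonoidAlgebra Coalgebra TensorProduct

variable {C : Type u} [CommRing C] {M : Type u}

open Classical in
lemma coeff_mul_coeff {x : MonoidAlgebra C M} (hx : IsGroupLikeElem C x) (m m' : M) :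
    x.coeff m * x.coeff m' = if m = m' then x.coeff m else 0 := by
  have h1 := psi_comul m m' x
  rw [hx.comul_eq_tmul_self] at h1
  simpa [ev_apply] using h1

lemma sum_coeff {x : MonoidAlgebra C M} (hx : IsGroupLikeElem C x) :
    x.coeff.sum (fun _ a => a) = 1 := by
  have h := hx.counit_eq_one
  have key : ∀ y : MonoidAlgebra C M, counit (R := C) y = y.coeff.sum (fun _ a => a) := by
    intro y
    induction y using MonoidAlgebra.induction_linear with
    | zero => simp
    | add f g hf hg => rw [map_add, hf, hg, coeff_add, Finsupp.sum_add_index'] <;> simp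
    | single g a => simp
  rw [← key]; exact h

theorem exists_eq_single [Nontrivial C] (hconn : ∀ e : C, IsIdempotentElem e → e = 0 ∨ e = 1)
    {x : MonoidAlgebra C M} (hx : IsGroupLikeElem C x) : ∃ m : M, x = single m 1 := by
  classical
  have hidem : ∀ m, x.coeff m = 0 ∨ x.coeff m = 1 := fun m => hconn _ (by
    have := coeff_mul_coeff hx m m; simpa [IsIdempotentElem] using this)
  have hex : ∃ m, x.coeff m = 1 := by
    by_contra hne
    simp only [not_exists] at hne
    have h0 : ∀ m, x.coeff m = 0 := fun m => (hidem m).resolve_right (hne m)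
    have := sum_coeff hx
    rw [Finsupp.sum, Finset.sum_eq_zero (fun m _ => h0 m)] at this
    exact zero_ne_one this
  obtain ⟨m, hm⟩ := hex
  refine ⟨m, ?_⟩
  apply coeff_injective
  ext m'
  rw [coeff_single, Finsupp.single_apply]
  split_ifs with h
  · subst h; exact hm
  · have := coeff_mul_coeff hx m m'
    rw [hm, one_mul, if_neg h] at this
    exact this

end Groth.Agent.Helper9.GLConn

namespace Groth.Agent.Helper9.GLConn
open MonoidAlgebra Coalgebra TensorProduct

variable {C : Type u} [CommRing C] {M N : Type u} [Group M] [Group N]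

theorem exists_monoidHom [Nontrivial C] (hconn : ∀ e : C, IsIdempotentElem e → e = 0 ∨ e = 1)
    (φ : MonoidAlgebra C N →ₐc[C] MonoidAlgebra C M) :
    ∃ f : N →* M, φ = MonoidAlgebra.mapDomainBialgHom (R := C) f := by
  have hex : ∀ n : N, ∃ m : M, φ (single n 1) = single m 1 := fun n =>
    exists_eq_single hconn ((isGroupLikeElem_single_one (R := C) (A := C) n).map φ)
  choose f hf using hex
  have hinj := single_left_injective (R := C) (M := M) (one_ne_zero (α := C))
  refine ⟨⟨⟨f, ?_⟩, ?_⟩, ?_⟩
  · apply hinj
    simp only
    rw [← hf, ← one_def, ← one_def, map_one]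
  · intro a b
    apply hinj
    simp only
    rw [← hf, ← mul_one (1 : C), ← single_mul_single, ← single_mul_single, map_mul, hf, hf]
  · ext x : 1
    · rw [hf, mapDomainBialgHom_single]; rfl
    · ext

end Groth.Agent.Helper9.GLConn
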