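import Mathlib

/-!
# Lengths of subquotients `B / (A ⊓ B)` of a module

`sqLen A B` is the length of `↥B ⧸ A.submoduleOf B`.  Additivity along chains, the second
isomorphism theorem and invariance under images/preimages.
-/

set_option autoImplicit false
universe u v

namespace Groth.Agent.Helper9.SubQuotLen

variable {R : Type u} [CommRing R] {M : Type v} [AddCommGroup M] [Module R M]

/-- the length of the subquotient `B/(A ⊓ B)` -/
noncomputable def sqLen (A B : Submodule R M) : ℕ∞ :=
  Module.length R (↥B ⧸ A.submoduleOf B)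

theorem sqLen_def (A B : Submodule R M) :
    sqLen A B = Module.length R (↥B ⧸ A.submoduleOf B) := rfl

/-- additivity along `A ≤ B ≤ C` -/
theorem sqLen_add {A B C : Submodule R M} (hAB : A ≤ B) (hBC : B ≤ C) :
    sqLen A C = sqLen A B + sqLen B C := by
  unfold sqLen
  have h1 : A.submoduleOf B ≤ (A.submoduleOf C).comap (Submodule.inclusion hBC) := by
    intro x hx
    exact hx
  have h2 : A.submoduleOf C ≤ (B.submoduleOf C).comap (LinearMap.id : ↥C →ₗ[R] ↥C) := by
    intro x hx
    exact hAB hx
  refine Module.length_eq_add_of_exact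
    (Submodule.mapQ (A.submoduleOf B) (A.submoduleOf C) (Submodule.inclusion hBC) h1)
    (Submodule.mapQ (A.submoduleOf C) (B.submoduleOf C) LinearMap.id h2) ?_ ?_ ?_
  · rw [← LinearMap.ker_eq_bot, LinearMap.ker_eq_bot']
    intro x hx
    obtain ⟨b, rfl⟩ := Submodule.Quotient.mk_surjective _ x
    rw [Submodule.mapQ_apply, Submodule.Quotient.mk_eq_zero] at hx
    rw [Submodule.Quotient.mk_eq_zero]
    exact hx
  · intro x
    obtain ⟨c, rfl⟩ := Submodule.Quotient.mk_surjective _ x
    exact ⟨Submodule.Quotient.mk c, by rw [Submodule.mapQ_apply]; rfl⟩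
  · intro x
    obtain ⟨c, rfl⟩ := Submodule.Quotient.mk_surjective _ x
    rw [Submodule.mapQ_apply, Submodule.Quotient.mk_eq_zero]
    constructor
    · intro hc
      have hc' : (c : M) ∈ B := hc
      refine ⟨Submodule.Quotient.mk ⟨c, hc'⟩, ?_⟩
      rw [Submodule.mapQ_apply]
      rfl
    · rintro ⟨y, hy⟩
      obtain ⟨b, rfl⟩ := Submodule.Quotient.mk_surjective _ y
      rw [Submodule.mapQ_apply, Submodule.Quotient.eq] at hy
      have h3 : ((Submodule.inclusion hBC b - c : ↥C) : M) ∈ A := hy
      have h4 : (c : M) = (b : M) - ((Submodule.inclusion hBC b - c : ↥C) : M) := by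
        simp
      show (c : M) ∈ B
      rw [h4]
      exact B.sub_mem b.2 (hAB h3)

/-- second isomorphism theorem -/
theorem sqLen_sup (X Y : Submodule R M) : sqLen Y (X ⊔ Y) = sqLen (X ⊓ Y) X := by
  unfold sqLen
  exact (LinearMap.quotientInfEquivSupQuotient X Y).length_eq.symm

theorem sqLen_congr {A A' B B' : Submodule R M} (hA : A = A') (hB : B = B') :
    sqLen A B = sqLen A' B' := by rw [hA, hB]

/-- only `A ⊓ B` matters -/
theorem sqLen_inf (A B : Submodule R M) : sqLen (A ⊓ B) B = sqLen A B := by
  unfold sqLen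
  have : (A ⊓ B).submoduleOf B = A.submoduleOf B := by
    ext x
    simp only [Submodule.submoduleOf, Submodule.mem_comap, Submodule.subtype_apply,
      Submodule.mem_inf, x.2, and_true]
  rw [this]

variable {N : Type v} [AddCommGroup N] [Module R N]

/-- invariance under images -/
theorem sqLen_map (h : M →ₗ[R] N) {A B : Submodule R M} (hAB : A ≤ B)
    (hk : LinearMap.ker h ⊓ B ≤ A) : sqLen (A.map h) (B.map h) = sqLen A B := by
  unfold sqLen
  let u : ↥B →ₗ[R] ↥(B.map h) := h.restrict (fun b hb => Submodule.mem_map_of_mem hb)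
  let v : ↥B →ₗ[R] (↥(B.map h) ⧸ (A.map h).submoduleOf (B.map h)) :=
    (Submodule.mkQ _).comp u
  have hsurj : Function.Surjective v := by
    intro y
    obtain ⟨⟨y, hy⟩, rfl⟩ := Submodule.Quotient.mk_surjective _ y
    obtain ⟨b, hb, rfl⟩ := hy
    exact ⟨⟨b, hb⟩, rfl⟩
  have hker : LinearMap.ker v = A.submoduleOf B := by
    ext b
    rw [LinearMap.mem_ker]
    show Submodule.Quotient.mk (u b) = 0 ↔ _
    rw [Submodule.Quotient.mk_eq_zero]
    show h (b : M) ∈ A.map h ↔ (b : M) ∈ A
    constructor
    · rintro ⟨a, ha, hab⟩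
      have h1 : (b : M) - a ∈ LinearMap.ker h ⊓ B := by
        refine ⟨?_, B.sub_mem b.2 (hAB ha)⟩
        show (b : M) - a ∈ LinearMap.ker h
        rw [LinearMap.mem_ker, map_sub, hab, sub_self]
      have h2 := hk h1
      have : (b : M) = ((b : M) - a) + a := by abel
      rw [this]
      exact A.add_mem h2 ha
    · intro hb
      exact Submodule.mem_map_of_mem hb
  exact ((Submodule.quotEquivOfEq _ _ hker).symm.trans
    (LinearMap.quotKerEquivOfSurjective v hsurj)).length_eq.symm

/-- invariance under preimages along a surjection -/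
theorem sqLen_comap (h : M →ₗ[R] N) (hs : Function.Surjective h) {A B : Submodule R N}
    (hAB : A ≤ B) : sqLen (A.comap h) (B.comap h) = sqLen A B := by
  have h1 := sqLen_map h (A := A.comap h) (B := B.comap h) (Submodule.comap_mono hAB) (by
    intro x hx
    rw [Submodule.mem_comap, (LinearMap.mem_ker.mp hx.1)]
    exact zero_mem _)
  rw [Submodule.map_comap_eq_of_surjective hs, Submodule.map_comap_eq_of_surjective hs] at h1
  exact h1.symm

theorem sqLen_self (A : Submodule R M) : sqLen A A = 0 := by
  unfold sqLen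
  rw [Module.length_eq_zero_iff]
  constructor
  intro x y
  obtain ⟨a, rfl⟩ := Submodule.Quotient.mk_surjective _ x
  obtain ⟨b, rfl⟩ := Submodule.Quotient.mk_surjective _ y
  rw [Submodule.Quotient.eq]
  show ((a - b : ↥A) : M) ∈ A
  exact (a - b).2

theorem sqLen_of_le {A B : Submodule R M} (h : B ≤ A) : sqLen A B = 0 := by
  rw [← sqLen_inf, inf_eq_right.mpr h, sqLen_self]

end Groth.Agent.Helper9.SubQuotLen
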