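import Mathlib
import Groth.Agent.Lib.Helper9.SubQuotLen

/-!
# More on lengths of subquotients
-/

set_option autoImplicit false
universe u v

namespace Groth.Agent.Helper9.SubQuotLen

variable {R : Type u} [CommRing R] {M : Type v} [AddCommGroup M] [Module R M]

theorem sqLen_bot_left (A : Submodule R M) : sqLen ⊥ A = Module.length R A := by
  unfold sqLen
  have : (⊥ : Submodule R M).submoduleOf A = ⊥ := by
    ext x
    simp only [Submodule.submoduleOf, Submodule.mem_comap, Submodule.subtype_apply,
      Submodule.mem_bot]
    exact ⟨fun h => Subtype.ext h, fun h => by rw [h]; rfl⟩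
  exact (Submodule.quotEquivOfEqBot _ this).length_eq

/-- rank-nullity for length -/
theorem length_ker_add_range {N : Type v} [AddCommGroup N] [Module R N] (φ : M →ₗ[R] N) :
    Module.length R M = Module.length R (LinearMap.ker φ) + Module.length R (LinearMap.range φ) :=
  Module.length_eq_add_of_exact (LinearMap.ker φ).subtype φ.rangeRestrict
    (Submodule.subtype_injective _) φ.surjective_rangeRestrict (by
      rw [LinearMap.exact_iff, LinearMap.ker_rangeRestrict, Submodule.range_subtype])

theorem sqLen_le_of_le {A A' B B' : Submodule R M} (h1 : A ≤ A') (h2 : A' ≤ B') (h3 : B' ≤ B) :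
    sqLen A' B' ≤ sqLen A B := by
  rw [sqLen_add (h1.trans h2) h3, sqLen_add h1 h2]
  exact le_trans le_add_self le_self_add

end Groth.Agent.Helper9.SubQuotLen
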