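import Mathlib
import Groth.Agent.Lib.Helper9.Cartier5

/-!
# Unipotent groups in characteristic zero: invariance is detected by the Lie algebra

`k` algebraically closed of characteristic zero, `A` a finitely generated unipotent commutative
Hopf algebra.  A subset of the augmentation ideal stable under the left invariant derivations is
zero; consequences for comodules: vectors killed by the Lie algebra are invariant, subspaces stable
under the Lie algebra are subcomodules, linear maps commuting with the Lie algebra are comodule maps.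
An `ε`-derivation is a `k`-linear map `ξ : A → k` with `ξ (ab) = ε(a) ξ(b) + ξ(a) ε(b)`.
-/

namespace Groth.Agent.Helper9.CartierLib

open TensorProduct

universe u v w w'

section Core

variable {k : Type u} [Field k] {A : Type v} [CommRing A] [HopfAlgebra k A]

/-- the Leibniz condition for an `ε`-derivation -/
def IsEpsDer (ξ : A →ₗ[k] k) : Prop :=
  ∀ a b, ξ (a * b) = Coalgebra.counit (R := k) a * ξ b + ξ a * Coalgebra.counit (R := k) b

theorem stable_eq_zero [IsAlgClosed k] [CharZero k] [Algebra.FiniteType k A]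
    (hU : HopfRep.IsUnipotent k A) (C : Set A)
    (hCI : ∀ c ∈ C, Coalgebra.counit (R := k) c = 0)
    (hCD : ∀ ξ : A →ₗ[k] k, IsEpsDer ξ → ∀ c ∈ C, Dlin ξ c ∈ C) :
    ∀ c ∈ C, c = 0 := fun c hc =>
  eq_zero_of_mem_iInf_pow hU c (fun n =>
    stable_le_pow C (fun c hc => (mem_augI c).mpr (hCI c hc)) hCD n c hc)

lemma epsDer_one (ξ : A →ₗ[k] k) (hξ : IsEpsDer ξ) : ξ 1 = 0 := by
  have h := hξ 1 1
  rw [mul_one, Bialgebra.counit_one, one_mul, mul_one] at h
  simpa using h

lemma Dlin_algebraMap (ξ : A →ₗ[k] k) (hξ : IsEpsDer ξ) (c : k) :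
    Dlin ξ (algebraMap k A c) = 0 := by
  rw [Algebra.algebraMap_eq_smul_one, map_smul]
  simp only [Dlin, LinearMap.comp_apply]
  rw [Bialgebra.comul_one, Algebra.TensorProduct.one_def, contr_tmul, epsDer_one ξ hξ, zero_smul,
    smul_zero]

end Core

section Comod

variable {k : Type u} [Field k] {A : Type v} [CommRing A] [HopfAlgebra k A]
variable {V : Type w} [AddCommGroup V] [Module k V] [HopfRep.Comod k A V]
variable {V' : Type w'} [AddCommGroup V'] [Module k V'] [HopfRep.Comod k A V']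

/-- the infinitesimal action commutes with comodule maps -/
lemma slice_coact_comodHom (f : V →ₗ[k] V') (hf : Hoch.IsComodHom A f) (ξ : A →ₗ[k] k) (v : V) :
    slice ξ (HopfRep.Comod.coact (k := k) (A := A) (f v)) =
      f (slice ξ (HopfRep.Comod.coact (k := k) (A := A) v)) := by
  rw [(isComodHom_iff f).mp hf, slice_rTensor]

lemma Dlin_coeff (φ : V →ₗ[k] k) (ξ : A →ₗ[k] k) (v : V) :
    Dlin ξ (coeff (A := A) φ v) =
      coeff (A := A) φ (slice ξ (HopfRep.Comod.coact (k := k) (A := A) v)) :=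
  slice_coact_comodHom (coeff (A := A) φ) (isComodHom_coeff φ) ξ v

omit [HopfAlgebra k A] [HopfRep.Comod k A V] in
lemma apply_slice [Module k A] (φ : V →ₗ[k] k) (g : A →ₗ[k] k) (u : V ⊗[k] A) :
    φ (slice g u) = g (TensorProduct.lid k A (φ.rTensor A u)) := by
  induction u using TensorProduct.induction_on with
  | zero => simp
  | add u₁ u₂ h₁ h₂ => simp only [map_add, h₁, h₂]
  | tmul v a => simp [mul_comm]

omit [HopfAlgebra k A] [HopfRep.Comod k A V] in
/-- separation by functionals on the left factor -/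
lemma eq_zero_of_lid_rTensor_eq_zero [Module k A] (u : V ⊗[k] A)
    (h : ∀ φ : V →ₗ[k] k, TensorProduct.lid k A (φ.rTensor A u) = 0) : u = 0 := by
  apply eq_zero_of_slice_eq_zero
  intro g
  by_contra hne
  obtain ⟨φ, hφ⟩ : ∃ φ : V →ₗ[k] k, φ (slice g u) ≠ 0 := by
    by_contra hall
    push Not at hall
    exact hne ((Module.forall_dual_apply_eq_zero_iff k _).mp hall)
  rw [apply_slice, h φ, map_zero] at hφ
  exact hφ rfl

variable [IsAlgClosed k] [CharZero k] [Algebra.FiniteType k A]

/-- a vector killed by the Lie algebra of a unipotent group is invariant -/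
theorem coact_eq_of_forall_epsDer (hU : HopfRep.IsUnipotent k A) (v : V)
    (h : ∀ ξ : A →ₗ[k] k, IsEpsDer ξ →
      slice ξ (HopfRep.Comod.coact (k := k) (A := A) v) = 0) :
    HopfRep.Comod.coact (k := k) (A := A) v = v ⊗ₜ[k] (1 : A) := by
  let C : Set A := {c | ∃ φ : V →ₗ[k] k, c = coeff (A := A) φ v - algebraMap k A (φ v)}
  have hC : ∀ c ∈ C, c = 0 := by
    apply stable_eq_zero hU C
    · rintro c ⟨φ, rfl⟩
      rw [map_sub, counit_coeff, Bialgebra.counit_algebraMap]
      simp
    · rintro ξ hξ c ⟨φ, rfl⟩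
      refine ⟨0, ?_⟩
      rw [map_sub, Dlin_algebraMap ξ hξ, Dlin_coeff, h ξ hξ]
      simp [coeff]
  rw [← sub_eq_zero]
  apply eq_zero_of_lid_rTensor_eq_zero
  intro φ
  have h1 := hC _ ⟨φ, rfl⟩
  rw [map_sub, map_sub, LinearMap.rTensor_tmul, TensorProduct.lid_tmul]
  rw [← Algebra.algebraMap_eq_smul_one]
  exact h1

/-- a subspace stable under the Lie algebra of a unipotent group is a subcomodule -/
theorem isSubcomod_of_forall_epsDer (hU : HopfRep.IsUnipotent k A) (W : Submodule k V)
    (h : ∀ ξ : A →ₗ[k] k, IsEpsDer ξ → ∀ w ∈ W,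
      slice ξ (HopfRep.Comod.coact (k := k) (A := A) w) ∈ W) :
    HopfRep.IsSubcomod (k := k) (A := A) W := by
  let C : Set A := {c | ∃ φ : V →ₗ[k] k, φ ∈ W.dualAnnihilator ∧ ∃ w ∈ W, c = coeff (A := A) φ w}
  have hC : ∀ c ∈ C, c = 0 := by
    apply stable_eq_zero hU C
    · rintro c ⟨φ, hφ, w, hw, rfl⟩
      rw [counit_coeff]
      exact (Submodule.mem_dualAnnihilator φ).mp hφ w hw
    · rintro ξ hξ c ⟨φ, hφ, w, hw, rfl⟩
      exact ⟨φ, hφ, _, h ξ hξ w hw, Dlin_coeff φ ξ w⟩
  intro w hw
  apply mem_range_rTensor_subtype_of_slice_mem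
  intro g
  rw [← Subspace.forall_mem_dualAnnihilator_apply_eq_zero_iff]
  intro φ hφ
  rw [apply_slice]
  have h1 := hC _ ⟨φ, hφ, w, hw, rfl⟩
  have h2 : coeff (A := A) φ w =
      TensorProduct.lid k A (φ.rTensor A (HopfRep.Comod.coact (k := k) (A := A) w)) := rfl
  rw [← h2, h1, map_zero]

/-- a linear map commuting with the Lie algebra of a unipotent group is a comodule map -/
theorem comodHom_of_forall_epsDer (hU : HopfRep.IsUnipotent k A) (e : V →ₗ[k] V')
    (h : ∀ ξ : A →ₗ[k] k, IsEpsDer ξ → ∀ v : V,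
      slice ξ (HopfRep.Comod.coact (k := k) (A := A) (e v)) =
        e (slice ξ (HopfRep.Comod.coact (k := k) (A := A) v))) (v : V) :
    HopfRep.Comod.coact (k := k) (A := A) (e v) =
      e.rTensor A (HopfRep.Comod.coact (k := k) (A := A) v) := by
  let C : Set A := {c | ∃ (φ : V' →ₗ[k] k) (v : V),
    c = coeff (A := A) φ (e v) - coeff (A := A) (φ ∘ₗ e) v}
  have hC : ∀ c ∈ C, c = 0 := by
    apply stable_eq_zero hU C
    · rintro c ⟨φ, v, rfl⟩
      rw [map_sub, counit_coeff, counit_coeff]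
      simp
    · rintro ξ hξ c ⟨φ, v, rfl⟩
      refine ⟨φ, slice ξ (HopfRep.Comod.coact (k := k) (A := A) v), ?_⟩
      rw [map_sub, Dlin_coeff, Dlin_coeff, h ξ hξ]
  rw [← sub_eq_zero]
  apply eq_zero_of_lid_rTensor_eq_zero
  intro φ
  have h1 := hC _ ⟨φ, v, rfl⟩
  rw [map_sub, map_sub, ← LinearMap.comp_apply (φ.rTensor A) (e.rTensor A),
    ← LinearMap.rTensor_comp]
  exact h1

end Comod

end Groth.Agent.Helper9.CartierLib
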