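import Mathlib
import Groth.Agent.Lib.Helper9.AdicLim9

set_option autoImplicit false
set_option linter.unusedSectionVars false
universe u v w

namespace Groth.Agent.Helper9.AdicLim9

section abstractStep
variable {A : Type u} [CommRing A] (I : Ideal A)
variable {P : Type w} [AddCommGroup P] [Module A P]
variable {M : ℕ → Type v} [∀ n, AddCommGroup (M n)] [∀ n, Module A (M n)]
variable (ψ : ∀ n, P →ₗ[A] M n)

/-- `X` is a level-`n` section lift -/
def IsSec (n : ℕ) (X : P →ₗ[A] P) : Prop :=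
  (∀ p, ψ n p = 0 → X p ∈ I ^ (n + 1) • (⊤ : Submodule A P)) ∧ ∀ p, ψ n (X p) = ψ n p

lemma map_mem_smul_top (X : P →ₗ[A] P) (k : ℕ) {p : P}
    (hp : p ∈ I ^ k • (⊤ : Submodule A P)) : X p ∈ I ^ k • (⊤ : Submodule A P) := by
  have h1 : X p ∈ (I ^ k • (⊤ : Submodule A P)).map X := Submodule.mem_map_of_mem hp
  rw [Submodule.map_smul''] at h1
  exact Submodule.smul_mono le_rfl le_top h1

variable {I ψ}
variable (f : ∀ n, M (n + 1) →ₗ[A] M n) (hψ : ∀ n, f n ∘ₗ ψ (n + 1) = ψ n)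
  (hψsurj : ∀ n, Function.Surjective (ψ n))
  (hk : ∀ n, I ^ (n + 1) • (⊤ : Submodule A (M n)) = ⊥)
  (hker : ∀ n, LinearMap.ker (f n) = I ^ (n + 1) • (⊤ : Submodule A (M (n + 1))))

include hψ in
lemma f_psi (n : ℕ) (p : P) : f n (ψ (n + 1) p) = ψ n p := by
  rw [← hψ n]; rfl

include hk in
lemma psi_smul_top (n : ℕ) {p : P} (hp : p ∈ I ^ (n + 1) • (⊤ : Submodule A P)) :
    ψ n p = 0 := by
  have h1 : ψ n p ∈ (I ^ (n + 1) • (⊤ : Submodule A P)).map (ψ n) := Submodule.mem_map_of_mem hp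
  rw [Submodule.map_smul''] at h1
  have h2 : ψ n p ∈ I ^ (n + 1) • (⊤ : Submodule A (M n)) := Submodule.smul_mono le_rfl le_top h1
  rw [hk n] at h2
  exact (Submodule.mem_bot A).1 h2

include hψ hψsurj hker in
/-- `K_n = K_{n+1} + J_n` -/
lemma ker_decomp (n : ℕ) {p : P} (hp : ψ n p = 0) :
    ∃ q j : P, ψ (n + 1) q = 0 ∧ j ∈ I ^ (n + 1) • (⊤ : Submodule A P) ∧ p = q + j := by
  have h1 : ψ (n + 1) p ∈ LinearMap.ker (f n) := by
    rw [LinearMap.mem_ker, f_psi f hψ]; exact hp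
  rw [hker n] at h1
  have h2 : I ^ (n + 1) • (⊤ : Submodule A (M (n + 1))) =
      (I ^ (n + 1) • (⊤ : Submodule A P)).map (ψ (n + 1)) := by
    rw [Submodule.map_smul'', Submodule.map_top, LinearMap.range_eq_top.2 (hψsurj (n + 1))]
  rw [h2] at h1
  obtain ⟨j, hj, hjp⟩ := h1
  exact ⟨p - j, j, by rw [map_sub, hjp, sub_self], hj, by abel⟩

include hψ hψsurj hk hker in
lemma isSec_of_succ {n : ℕ} {X : P →ₗ[A] P} (h : IsSec I ψ (n + 1) X) : IsSec I ψ n X := by
  refine ⟨fun p hp => ?_, fun p => ?_⟩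
  · obtain ⟨q, j, hq, hj, rfl⟩ := ker_decomp f hψ hψsurj hker n hp
    rw [map_add]
    refine add_mem ?_ (map_mem_smul_top I X _ hj)
    exact Submodule.smul_mono (Ideal.pow_le_pow_right (Nat.le_succ _)) le_rfl (h.1 q hq)
  · rw [← f_psi f hψ, h.2 p, f_psi f hψ]

/-- the corrected section -/
def stepMap (S T : P →ₗ[A] P) : P →ₗ[A] P := T + (LinearMap.id - T) ∘ₗ (S - T) ∘ₗ T

lemma stepMap_apply (S T : P →ₗ[A] P) (p : P) :
    stepMap S T p = T p + ((S (T p) - T (T p)) - T (S (T p) - T (T p))) := by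
  simp only [stepMap, LinearMap.add_apply, LinearMap.comp_apply, LinearMap.sub_apply,
    LinearMap.id_apply]

include hψ hψsurj hk hker in
lemma step_sec {n : ℕ} {S T : P →ₗ[A] P} (hS : IsSec I ψ n S) (hT : IsSec I ψ (n + 1) T) :
    IsSec I ψ (n + 1) (stepMap S T) ∧
      ∀ p, stepMap S T p - S p ∈ I ^ (n + 1) • (⊤ : Submodule A P) := by
  have hT' := isSec_of_succ f hψ hψsurj hk hker hT
  refine ⟨⟨fun p hp => ?_, fun p => ?_⟩, fun p => ?_⟩
  · have h1 := hT.1 p hp
    rw [stepMap_apply]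
    refine add_mem h1 (sub_mem ?_ ?_)
    · exact sub_mem (map_mem_smul_top I S _ h1) (map_mem_smul_top I T _ h1)
    · exact map_mem_smul_top I T _
        (sub_mem (map_mem_smul_top I S _ h1) (map_mem_smul_top I T _ h1))
  · rw [stepMap_apply]
    simp only [map_add, map_sub, hT.2]
    abel
  · have e1 : stepMap S T p - S p =
        -((S (p - T p)) - T (p - T p)) - T (S (T p) - T (T p)) := by
      rw [stepMap_apply]
      simp only [map_sub]
      abel
    rw [e1]
    have h2 : ψ n (p - T p) = 0 := by rw [map_sub, hT'.2 p, sub_self]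
    have h3 : ψ n (S (T p) - T (T p)) = 0 := by
      rw [map_sub, hS.2 (T p), hT'.2 (T p), sub_self]
    exact sub_mem (neg_mem (sub_mem (hS.1 _ h2) (hT'.1 _ h2))) (hT'.1 _ h3)

end abstractStep

section free
variable {A : Type u} [CommRing A]

lemma mem_smul_top_pi {m : ℕ} (J : Ideal A) (p : Fin m → A) :
    p ∈ J • (⊤ : Submodule A (Fin m → A)) ↔ ∀ j, p j ∈ J := by
  constructor
  · intro hp j
    refine Submodule.smul_induction_on (p := fun x => x j ∈ J) hp ?_ ?_
    · intro a ha x _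
      simpa using J.mul_mem_right _ ha
    · intro x y hx hy
      simpa using add_mem hx hy
  · intro h
    have h1 : p = ∑ j, p j • (Pi.single j 1 : Fin m → A) := by
      funext k
      simp [Finset.sum_apply, Pi.single_apply]
    rw [h1]
    exact Submodule.sum_mem _ fun j _ => Submodule.smul_mem_smul (h j) Submodule.mem_top

/-- quotient map on free modules -/
def qMap (J : Ideal A) (m : ℕ) : (Fin m → A) →ₗ[A] (Fin m → A ⧸ J) :=
  LinearMap.pi fun j => (Submodule.mkQ J) ∘ₗ LinearMap.proj j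

lemma qMap_surjective (J : Ideal A) (m : ℕ) : Function.Surjective (qMap J m) := by
  intro y
  choose x hx using fun j => Submodule.mkQ_surjective J (y j)
  exact ⟨x, funext hx⟩

lemma qMap_eq_zero (J : Ideal A) (m : ℕ) (x : Fin m → A) (h : qMap J m x = 0) :
    x ∈ J • (⊤ : Submodule A (Fin m → A)) := by
  rw [mem_smul_top_pi]
  intro j
  have := congrFun h j
  exact Ideal.Quotient.eq_zero_iff_mem.1 (by simpa [qMap] using this)

lemma map_mem_smul_top' {P Q : Type*} [AddCommGroup P] [Module A P] [AddCommGroup Q] [Module A Q]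
    (J : Ideal A) (X : P →ₗ[A] Q) {p : P}
    (hp : p ∈ J • (⊤ : Submodule A P)) : X p ∈ J • (⊤ : Submodule A Q) := by
  have h1 : X p ∈ (J • (⊤ : Submodule A P)).map X := Submodule.mem_map_of_mem hp
  rw [Submodule.map_smul''] at h1
  exact Submodule.smul_mono le_rfl le_top h1

lemma exists_level_sec {P : Type*} [AddCommGroup P] [Module A P] [Module.Projective A P]
    {N : Type*} [AddCommGroup N] [Module A N] (ψ : P →ₗ[A] N) (hψ : Function.Surjective ψ)
    (J : Ideal A) (m : ℕ) (i : N →ₗ[A] (Fin m → A ⧸ J)) (ρ : (Fin m → A ⧸ J) →ₗ[A] N)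
    (h : ρ ∘ₗ i = LinearMap.id) :
    ∃ T : P →ₗ[A] P, (∀ p, ψ p = 0 → T p ∈ J • (⊤ : Submodule A P)) ∧ ∀ p, ψ (T p) = ψ p := by
  obtain ⟨α, hα⟩ := Module.projective_lifting_property (qMap J m) (i ∘ₗ ψ) (qMap_surjective J m)
  obtain ⟨β, hβ⟩ := Module.projective_lifting_property ψ (ρ ∘ₗ qMap J m) hψ
  refine ⟨β ∘ₗ α, fun p hp => ?_, fun p => ?_⟩
  · have h1 : qMap J m (α p) = 0 := by
      have := LinearMap.congr_fun hα p
      simp only [LinearMap.comp_apply] at this
      rw [this, hp, map_zero]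
    exact map_mem_smul_top' J β (qMap_eq_zero J m _ h1)
  · have h1 := LinearMap.congr_fun hβ (α p)
    have h2 := LinearMap.congr_fun hα p
    have h3 := LinearMap.congr_fun h (ψ p)
    simp only [LinearMap.comp_apply, LinearMap.id_apply] at h1 h2 h3 ⊢
    rw [h1, h2, h3]

end free

section seqlim
variable {A : Type u} [CommRing A] (I : Ideal A)
variable {P : Type w} [AddCommGroup P] [Module A P]
variable {M : ℕ → Type v} [∀ n, AddCommGroup (M n)] [∀ n, Module A (M n)]
variable (ψ : ∀ n, P →ₗ[A] M n)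

/-- the corrected sequence of sections -/
noncomputable def sseq (T : ℕ → (P →ₗ[A] P)) : ℕ → (P →ₗ[A] P)
  | 0 => T 0
  | n + 1 => stepMap (sseq T n) (T (n + 1))

variable {I ψ}
variable (f : ∀ n, M (n + 1) →ₗ[A] M n) (hψ : ∀ n, f n ∘ₗ ψ (n + 1) = ψ n)
  (hψsurj : ∀ n, Function.Surjective (ψ n))
  (hk : ∀ n, I ^ (n + 1) • (⊤ : Submodule A (M n)) = ⊥)
  (hker : ∀ n, LinearMap.ker (f n) = I ^ (n + 1) • (⊤ : Submodule A (M (n + 1))))

include hψ hψsurj hk hker in
lemma sseq_isSec (T : ℕ → (P →ₗ[A] P)) (hT : ∀ n, IsSec I ψ n (T n)) (n : ℕ) :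
    IsSec I ψ n (sseq T n) := by
  induction n with
  | zero => exact hT 0
  | succ n ih => exact (step_sec f hψ hψsurj hk hker ih (hT (n + 1))).1

include hψ hψsurj hk hker in
lemma sseq_succ_sub (T : ℕ → (P →ₗ[A] P)) (hT : ∀ n, IsSec I ψ n (T n)) (n : ℕ) (p : P) :
    sseq T (n + 1) p - sseq T n p ∈ I ^ (n + 1) • (⊤ : Submodule A P) :=
  (step_sec f hψ hψsurj hk hker (sseq_isSec f hψ hψsurj hk hker T hT n) (hT (n + 1))).2 p

end seqlim

section limit
variable {A : Type u} [CommRing A] (I : Ideal A) [IsAdicComplete I A]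

lemma exists_limit {r : ℕ} (Sq : ℕ → (Fin r → A) →ₗ[A] (Fin r → A))
    (hS : ∀ n p, Sq (n + 1) p - Sq n p ∈ I ^ (n + 1) • (⊤ : Submodule A (Fin r → A))) :
    ∃ S : (Fin r → A) →ₗ[A] (Fin r → A),
      ∀ n p, S p - Sq n p ∈ I ^ n • (⊤ : Submodule A (Fin r → A)) := by
  have hC : ∀ m d p, Sq (m + d) p - Sq m p ∈ I ^ (m + 1) • (⊤ : Submodule A (Fin r → A)) := by
    intro m d p
    induction d with
    | zero => simp
    | succ d ih =>
      have h1 := hS (m + d) p
      have h2 : Sq (m + (d + 1)) p - Sq m p =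
          (Sq (m + d + 1) p - Sq (m + d) p) + (Sq (m + d) p - Sq m p) := by
        rw [← add_assoc]; abel
      rw [h2]
      exact add_mem (Submodule.smul_mono (Ideal.pow_le_pow_right (by omega)) le_rfl h1) ih
  let e : Fin r → (Fin r → A) := fun k j => if k = j then 1 else 0
  have hcauchy : ∀ k j, ∀ {m m' : ℕ}, m ≤ m' →
      Sq m (e k) j ≡ Sq m' (e k) j [SMOD (I ^ m • ⊤ : Submodule A A)] := by
    intro k j m m' hmm'
    obtain ⟨d, rfl⟩ := Nat.exists_eq_add_of_le hmm'
    refine SModEq.symm ?_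
    rw [SModEq.sub_mem, smul_eq_mul, Ideal.mul_top]
    have h1 := (mem_smul_top_pi _ _).1 (hC m d (e k)) j
    exact Ideal.pow_le_pow_right (by omega) h1
  choose l hl using fun k j => IsPrecomplete.prec (I := I) (M := A) inferInstance (hcauchy k j)
  have hl' : ∀ k j n, l k j - Sq n (e k) j ∈ I ^ n := by
    intro k j n
    have := (hl k j n).symm
    rw [SModEq.sub_mem, smul_eq_mul, Ideal.mul_top] at this
    exact this
  refine ⟨Fintype.linearCombination A (fun k => (fun j => l k j)), fun n p => ?_⟩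
  rw [Fintype.linearCombination_apply, LinearMap.pi_apply_eq_sum_univ (Sq n) p,
    ← Finset.sum_sub_distrib]
  refine Submodule.sum_mem _ fun k _ => ?_
  rw [← smul_sub]
  refine Submodule.smul_mem _ _ ?_
  rw [mem_smul_top_pi]
  intro j
  exact hl' k j n

end limit

section final
variable {A : Type u} [CommRing A] (I : Ideal A) [IsAdicComplete I A]
    (M : ℕ → Type v) [∀ n, AddCommGroup (M n)] [∀ n, Module A (M n)]
    (f : ∀ n, M (n + 1) →ₗ[A] M n) (hf : ∀ n, Function.Surjective (f n))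
    (hk : ∀ n, I ^ (n + 1) • (⊤ : Submodule A (M n)) = ⊥)
    (hker : ∀ n, LinearMap.ker (f n) = I ^ (n + 1) • (⊤ : Submodule A (M (n + 1))))
    (L : Type v) [AddCommGroup L] [Module A L] (π : ∀ n, L →ₗ[A] M n)
    (hπ : ∀ n, f n ∘ₗ π (n + 1) = π n)
    (hinj : ∀ x : L, (∀ n, π n x = 0) → x = 0)
    (hlift : ∀ y : (∀ n, M n), (∀ n, f n (y (n + 1)) = y n) → ∃ x : L, ∀ n, π n x = y n)
    (hproj : ∀ n, ∃ (m : ℕ) (i : M n →ₗ[A] (Fin m → A ⧸ I ^ (n + 1)))
      (r : (Fin m → A ⧸ I ^ (n + 1)) →ₗ[A] M n), r ∘ₗ i = LinearMap.id)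

include hf hk hker hπ hinj hlift hproj in
theorem proj_main :
    Module.Finite A L ∧ Module.Projective A L ∧
      ∀ n, Function.Surjective (π n) ∧
        LinearMap.ker (π n) = I ^ (n + 1) • (⊤ : Submodule A L) := by
  have hfin0 : Module.Finite A (M 0) := by
    obtain ⟨m, i, ρ, h⟩ := hproj 0
    exact Module.Finite.of_surjective ρ (fun y => ⟨i y, LinearMap.congr_fun h y⟩)
  obtain ⟨hfin, hcomp, hrest⟩ := main I M f hf hk hker L π hπ hinj hlift hfin0
  refine ⟨hfin, ?_, hrest⟩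
  obtain ⟨r, x, hx⟩ := Module.Finite.exists_fin (R := A) (M := L)
  let φ : (Fin r → A) →ₗ[A] L := Fintype.linearCombination A x
  have hφ : Function.Surjective φ := by
    rw [← LinearMap.range_eq_top, Fintype.range_linearCombination, hx]
  let ψ : ∀ n, (Fin r → A) →ₗ[A] M n := fun n => π n ∘ₗ φ
  have hψ : ∀ n, f n ∘ₗ ψ (n + 1) = ψ n := fun n => by
    rw [← LinearMap.comp_assoc, hπ n]
  have hψsurj : ∀ n, Function.Surjective (ψ n) := fun n => (hrest n).1.comp hφ
  have hT : ∀ n, ∃ T, IsSec I ψ n T := fun n => by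
    obtain ⟨m, i, ρ, h⟩ := hproj n
    exact exists_level_sec (ψ n) (hψsurj n) (I ^ (n + 1)) m i ρ h
  choose T hT using hT
  have hsec := sseq_isSec f hψ hψsurj hk hker T hT
  obtain ⟨S, hS⟩ := exists_limit I (sseq T) (sseq_succ_sub f hψ hψsurj hk hker T hT)
  -- S kills ker φ
  have hS0 : ∀ p, φ p = 0 → S p = 0 := by
    intro p hp
    have h1 : ∀ n, S p ∈ I ^ n • (⊤ : Submodule A (Fin r → A)) := by
      intro n
      have h2 : ψ n p = 0 := by
        change π n (φ p) = 0
        rw [hp, map_zero]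
      have h3 := (hsec n).1 p h2
      have h4 : S p = (S p - sseq T n p) + sseq T n p := by abel
      rw [h4]
      exact add_mem (hS n p)
        (Submodule.smul_mono (Ideal.pow_le_pow_right (Nat.le_succ n)) le_rfl h3)
    funext j
    have h5 : ∀ n, S p j ∈ I ^ n := fun n => (mem_smul_top_pi _ _).1 (h1 n) j
    have := IsHausdorff.haus (I := I) (M := A) inferInstance (S p j) (fun n => by
      rw [SModEq.zero, smul_eq_mul, Ideal.mul_top]; exact h5 n)
    exact this
  have hS1 : ∀ p, φ (S p) = φ p := by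
    intro p
    have h0 : φ (S p) - φ p = 0 := by
      apply hinj
      intro n
      have h1 : ψ n (S p - sseq T (n + 1) p) = 0 :=
        psi_smul_top hk n (hS (n + 1) p)
      have h2 : ψ n (sseq T (n + 1) p) = ψ n p :=
        (isSec_of_succ f hψ hψsurj hk hker (hsec (n + 1))).2 p
      have h3 : ψ n (S p) = ψ n p := by
        rw [map_sub, h2, sub_eq_zero] at h1
        exact h1
      rw [map_sub]
      exact sub_eq_zero.2 h3
    exact sub_eq_zero.1 h0
  let s : L →ₗ[A] (Fin r → A) :=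
    (LinearMap.ker φ).liftQ S (fun p hp => hS0 p hp) ∘ₗ
      (φ.quotKerEquivOfSurjective hφ).symm.toLinearMap
  refine Module.Projective.of_split s φ ?_
  ext y
  obtain ⟨p, rfl⟩ := hφ y
  have h1 : (φ.quotKerEquivOfSurjective hφ).symm (φ p) = Submodule.Quotient.mk p := by
    rw [LinearEquiv.symm_apply_eq]
    rfl
  simp only [LinearMap.comp_apply, LinearMap.id_apply, LinearEquiv.coe_coe, s, h1]
  exact hS1 p

end final

end Groth.Agent.Helper9.AdicLim9
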