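import Mathlib
import Groth.Agent.Lib.Helper9.AdicProj

set_option autoImplicit false
universe u v

namespace Groth.Agent.Lib.Helper9.IdemLift

open Groth.Agent.Helper9.AdicLim9

section complete
variable {A : Type u} [CommRing A] (I : Ideal A)
variable (M : Type v) [AddCommGroup M] [Module A M]

theorem isHausdorff_of_projective [IsHausdorff I A] [Module.Finite A M] [Module.Projective A M] :
    IsHausdorff I M := by
  obtain ⟨n, f, g, -, -, hfg⟩ := Module.Finite.exists_comp_eq_id_of_projective A M
  refine ⟨fun x hx => ?_⟩
  have h1 : g x = 0 := by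
    funext j
    apply IsHausdorff.haus (inferInstance : IsHausdorff I A)
    intro k
    rw [SModEq.zero]
    have h0 := hx k
    rw [SModEq.zero] at h0
    have h2 := map_mem_smul_top' (I ^ k) g h0
    have h3 := (mem_smul_top_pi (I ^ k) (g x)).mp h2 j
    simpa using h3
  have h2 : f (g x) = x := by
    have := LinearMap.congr_fun hfg x
    simpa using this
  rw [← h2, h1, map_zero]

theorem isPrecomplete_of_projective [IsPrecomplete I A] [Module.Finite A M]
    [Module.Projective A M] : IsPrecomplete I M := by
  obtain ⟨n, f, g, -, -, hfg⟩ := Module.Finite.exists_comp_eq_id_of_projective A M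
  refine ⟨fun s hs => ?_⟩
  have hfgx : ∀ x, f (g x) = x := fun x => by
    have := LinearMap.congr_fun hfg x
    simpa using this
  -- coordinates are Cauchy
  have h1 : ∀ j : Fin n, ∃ L : A, ∀ k, g (s k) j ≡ L [SMOD (I ^ k • ⊤ : Submodule A A)] := by
    intro j
    apply IsPrecomplete.prec (inferInstance : IsPrecomplete I A)
    intro a b hab
    have h0 := hs hab
    rw [SModEq.sub_mem] at h0 ⊢
    have h2 := map_mem_smul_top' (I ^ a) g h0
    have h3 := (mem_smul_top_pi (I ^ a) _).mp h2 j
    rw [map_sub] at h3
    simpa using h3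
  choose L hL using h1
  refine ⟨f L, fun k => ?_⟩
  rw [SModEq.sub_mem]
  have h4 : g (s k) - L ∈ I ^ k • (⊤ : Submodule A (Fin n → A)) := by
    rw [mem_smul_top_pi]
    intro j
    have := hL j k
    rw [SModEq.sub_mem] at this
    simpa using this
  have h5 := map_mem_smul_top' (I ^ k) f h4
  rw [map_sub, hfgx] at h5
  exact h5

end complete

section newton
variable {A : Type u} [CommRing A] (I : Ideal A)
variable {M : Type v} [AddCommGroup M] [Module A M]

/-- `f` maps `M` into `I^j M`. -/
def Small (j : ℕ) (f : Module.End A M) : Prop :=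
  ∀ m : M, f m ∈ I ^ j • (⊤ : Submodule A M)

variable {I}

lemma Small.mono {i j : ℕ} (hij : i ≤ j) {f : Module.End A M} (h : Small I j f) : Small I i f :=
  fun m => Submodule.smul_mono_left (Ideal.pow_le_pow_right hij) (h m)

lemma Small.map {j : ℕ} {f : Module.End A M} (i : ℕ) (h : Small I j f) {m : M}
    (hm : m ∈ I ^ i • (⊤ : Submodule A M)) : f m ∈ I ^ (i + j) • (⊤ : Submodule A M) := by
  refine Submodule.smul_induction_on hm ?_ ?_
  · intro a ha x _
    rw [map_smul, pow_add, mul_smul]
    exact Submodule.smul_mem_smul ha (h x)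
  · intro x y hx hy
    rw [map_add]; exact Submodule.add_mem _ hx hy

lemma Small.mul {i j : ℕ} {f g : Module.End A M} (hf : Small I i f) (hg : Small I j g) :
    Small I (i + j) (f * g) := by
  intro m
  rw [Module.End.mul_apply, add_comm]
  exact hf.map j (hg m)

lemma Small.mul_right {j : ℕ} {f : Module.End A M} (hf : Small I j f) (g : Module.End A M) :
    Small I j (f * g) := fun m => hf (g m)

lemma Small.mul_left {j : ℕ} {f : Module.End A M} (hf : Small I j f) (g : Module.End A M) :
    Small I j (g * f) := by
  intro m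
  rw [Module.End.mul_apply]
  exact map_mem_smul_top' (I ^ j) g (hf m)

lemma Small.sub {j : ℕ} {f g : Module.End A M} (hf : Small I j f) (hg : Small I j g) :
    Small I j (f - g) := fun m => by
  rw [LinearMap.sub_apply]; exact Submodule.sub_mem _ (hf m) (hg m)

/-- Newton step -/
def step (e : Module.End A M) : Module.End A M := 3 * e ^ 2 - 2 * e ^ 3

lemma step_sub (e : Module.End A M) : step e - e = (e ^ 2 - e) * (1 - 2 * e) := by
  unfold step; noncomm_ring

lemma step_sq_sub (e : Module.End A M) :
    step e ^ 2 - step e = (e ^ 2 - e) * (e ^ 2 - e) * (4 * (e ^ 2 - e) - 3) := by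
  unfold step; noncomm_ring

/-- the Newton sequence -/
def seq (f : Module.End A M) : ℕ → Module.End A M
  | 0 => f
  | n + 1 => step (seq f n)

lemma seq_small (f : Module.End A M) (hf : Small I 1 (f ^ 2 - f)) (n : ℕ) :
    Small I (n + 1) (seq f n ^ 2 - seq f n) := by
  induction n with
  | zero => exact hf
  | succ n ih =>
    show Small I (n + 1 + 1) (step (seq f n) ^ 2 - step (seq f n))
    rw [step_sq_sub]
    have h1 : Small I (n + 1 + (n + 1)) ((seq f n ^ 2 - seq f n) * (seq f n ^ 2 - seq f n)) :=
      ih.mul ih
    exact (h1.mul_right _).mono (by omega)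

lemma seq_succ_sub (f : Module.End A M) (hf : Small I 1 (f ^ 2 - f)) (n : ℕ) :
    Small I (n + 1) (seq f (n + 1) - seq f n) := by
  show Small I (n + 1) (step (seq f n) - seq f n)
  rw [step_sub]
  exact (seq_small f hf n).mul_right _

lemma seq_sub_of_le (f : Module.End A M) (hf : Small I 1 (f ^ 2 - f)) {a b : ℕ} (hab : a ≤ b) :
    Small I (a + 1) (seq f b - seq f a) := by
  induction b, hab using Nat.le_induction with
  | base => rw [sub_self]; intro m; exact Submodule.zero_mem _
  | succ b hab ih =>
    have h1 : seq f (b + 1) - seq f a = (seq f (b + 1) - seq f b) + (seq f b - seq f a) := by abel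
    rw [h1]
    intro m
    rw [LinearMap.add_apply]
    exact Submodule.add_mem _ ((seq_succ_sub f hf b).mono (by omega) m) (ih m)

theorem exists_idem_lift [IsHausdorff I M] [IsPrecomplete I M] (f : Module.End A M)
    (hf : ∀ m, f (f m) - f m ∈ I • (⊤ : Submodule A M)) :
    ∃ e : Module.End A M, (∀ m, e (e m) = e m) ∧ ∀ m, e m - f m ∈ I • (⊤ : Submodule A M) := by
  have hf' : Small I 1 (f ^ 2 - f) := by
    intro m
    rw [pow_one, LinearMap.sub_apply, pow_two, Module.End.mul_apply]
    exact hf m
  -- pointwise limits
  have hlim : ∀ m : M, ∃ L : M, ∀ n, seq f n m ≡ L [SMOD (I ^ n • ⊤ : Submodule A M)] := by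
    intro m
    apply IsPrecomplete.prec (inferInstance : IsPrecomplete I M)
    intro a b hab
    rw [SModEq.sub_mem]
    have h1 := (seq_sub_of_le f hf' hab).mono (Nat.le_succ a) m
    rw [LinearMap.sub_apply] at h1
    have h2 : seq f a m - seq f b m = -(seq f b m - seq f a m) := by abel
    rw [h2]
    exact Submodule.neg_mem _ h1
  choose E hE using hlim
  have hE' : ∀ m n, seq f n m - E m ∈ I ^ n • (⊤ : Submodule A M) := fun m n => by
    have := hE m n; rwa [SModEq.sub_mem] at this
  have haus : ∀ x : M, (∀ n, x ∈ I ^ n • (⊤ : Submodule A M)) → x = 0 := by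
    intro x hx
    apply IsHausdorff.haus (inferInstance : IsHausdorff I M)
    intro n; rw [SModEq.zero]; exact hx n
  have hadd : ∀ x y, E (x + y) = E x + E y := by
    intro x y
    rw [← sub_eq_zero]
    apply haus
    intro n
    have h1 : E (x + y) - (E x + E y) =
        (seq f n x - E x) + (seq f n y - E y) - (seq f n (x + y) - E (x + y)) := by
      rw [map_add]; abel
    rw [h1]
    exact Submodule.sub_mem _ (Submodule.add_mem _ (hE' x n) (hE' y n)) (hE' _ n)
  have hsmul : ∀ (c : A) x, E (c • x) = c • E x := by
    intro c x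
    rw [← sub_eq_zero]
    apply haus
    intro n
    have h1 : E (c • x) - c • E x = c • (seq f n x - E x) - (seq f n (c • x) - E (c • x)) := by
      rw [map_smul, smul_sub]; abel
    rw [h1]
    exact Submodule.sub_mem _ (Submodule.smul_mem _ c (hE' x n)) (hE' _ n)
  let e : Module.End A M :=
    { toFun := E
      map_add' := hadd
      map_smul' := hsmul }
  have he : ∀ m, e m = E m := fun m => rfl
  refine ⟨e, ?_, ?_⟩
  · intro m
    rw [← sub_eq_zero]
    apply haus
    intro n
    -- e (e m) - e m = -(s (e m) - E(e m)) + s (E m - s m) + (s (s m) - s m) + (s m - E m)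
    have h1 : e (e m) - e m = -(seq f n (E m) - E (E m)) - seq f n (seq f n m - E m)
        + (seq f n (seq f n m) - seq f n m) + (seq f n m - E m) := by
      rw [he, he, map_sub]; abel
    rw [h1]
    refine Submodule.add_mem _ (Submodule.add_mem _ (Submodule.sub_mem _
      (Submodule.neg_mem _ (hE' _ n)) ?_) ?_) (hE' m n)
    · exact map_mem_smul_top' (I ^ n) _ (hE' m n)
    · have h2 := (seq_small f hf' n).mono (Nat.le_succ n) m
      rw [LinearMap.sub_apply, pow_two, Module.End.mul_apply] at h2
      exact h2
  · intro m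
    have h1 := hE' m 1
    have h2 := (seq_succ_sub f hf' 0) m
    rw [LinearMap.sub_apply] at h2
    have h3 : e m - f m = -(seq f 1 m - E m) + (seq f (0 + 1) m - seq f 0 m) := by
      rw [he]; show E m - f m = -(seq f 1 m - E m) + (seq f 1 m - f m); abel
    rw [h3]
    have h4 := Submodule.add_mem _ (Submodule.neg_mem _ h1) h2
    rwa [pow_one] at h4

end newton

section normal
variable {A : Type u} [CommRing A] (I : Ideal A)
variable {M : Type v} [AddCommGroup M] [Module A M]

/-- Normal decomposition from an approximately idempotent endomorphism whose kernel mod `I` is `Q`. -/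
theorem normal_decomp [IsHausdorff I M] [IsPrecomplete I M] (Q : Submodule A M)
    (f : Module.End A M) (hf : ∀ m, f (f m) - f m ∈ I • (⊤ : Submodule A M))
    (hQ : ∀ m, f m ∈ I • (⊤ : Submodule A M) ↔ m ∈ Q) :
    ∃ L T : Submodule A M, IsCompl L T ∧ Q = L ⊔ I • T := by
  obtain ⟨e, he, hef⟩ := exists_idem_lift (I := I) f hf
  have hQ' : ∀ m, e m ∈ I • (⊤ : Submodule A M) ↔ m ∈ Q := by
    intro m
    rw [← hQ m]
    constructor
    · intro h
      have h1 : f m = e m - (e m - f m) := by abel
      rw [h1]; exact Submodule.sub_mem _ h (hef m)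
    · intro h
      have h1 : e m = (e m - f m) + f m := by abel
      rw [h1]; exact Submodule.add_mem _ (hef m) h
  have hidem : IsIdempotentElem e := by
    apply LinearMap.ext; intro m
    rw [Module.End.mul_apply]; exact he m
  refine ⟨LinearMap.ker e, LinearMap.range e, (LinearMap.IsIdempotentElem.isCompl hidem).symm, ?_⟩
  apply le_antisymm
  · intro m hm
    have h1 : m = (m - e m) + e m := by abel
    rw [h1]
    refine Submodule.add_mem_sup ?_ ?_
    · rw [LinearMap.mem_ker, map_sub, he, sub_self]
    · have h2 : e m ∈ I • (⊤ : Submodule A M) := (hQ' m).mpr hm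
      have h3 : e (e m) ∈ (I • (⊤ : Submodule A M)).map e := Submodule.mem_map_of_mem h2
      rw [Submodule.map_smul'', Submodule.map_top, he] at h3
      exact h3
  · apply sup_le
    · intro m hm
      rw [LinearMap.mem_ker] at hm
      rw [← hQ' m, hm]
      exact Submodule.zero_mem _
    · intro m hm
      rw [← hQ' m]
      exact map_mem_smul_top' I e (Submodule.smul_mono le_rfl le_top hm)

end normal

end Groth.Agent.Lib.Helper9.IdemLift
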