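import Mathlib
universe u
namespace Groth.Agent.Helper9.NagataCrit
open PrimeSpectrum

/-- the topological Nagata criterion for openness in the spectrum of a Noetherian ring -/
theorem isOpen_of_nagata {A : Type u} [CommRing A] [IsNoetherianRing A]
    (E : Set (PrimeSpectrum A))
    (hgen : ∀ p q : PrimeSpectrum A, q ≤ p → p ∈ E → q ∈ E)
    (hloc : ∀ p ∈ E, ∃ U : Set (PrimeSpectrum A), IsOpen U ∧
      (U ∩ zeroLocus (p.asIdeal : Set A)).Nonempty ∧ U ∩ zeroLocus (p.asIdeal : Set A) ⊆ E) :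
    IsOpen E := by
  classical
  rw [← isClosed_compl_iff]
  set Z := Eᶜ with hZ
  set I := vanishingIdeal Z with hI
  have hIle : ∀ z ∈ Z, I ≤ z.asIdeal := by
    intro z hz f hf
    exact (mem_vanishingIdeal Z f).mp hf z hz
  -- key: minimal primes over I are in Z
  have key : ∀ t : PrimeSpectrum A, t.asIdeal ∈ I.minimalPrimes → t ∈ Z := by
    intro t ht
    by_contra htZ
    have htE : t ∈ E := by
      rw [hZ, Set.mem_compl_iff, not_not] at htZ
      exact htZ
    obtain ⟨U, hU, ⟨x, hxU, hxt⟩, hUE⟩ := hloc t htE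
    obtain ⟨J, hJ⟩ := (isClosed_iff_zeroLocus_ideal _).mp hU.isClosed_compl
    obtain ⟨M', hMa, hMb⟩ : ∃ M' : Ideal A,
        (∀ t' ∈ I.minimalPrimes, t' ≠ t.asIdeal → M' ≤ t') ∧
        (M' ≤ t.asIdeal → ∃ t' ∈ I.minimalPrimes, t' ≠ t.asIdeal ∧ t' ≤ t.asIdeal) := by
      let S := (I.finite_minimalPrimes_of_isNoetherianRing).toFinset
      refine ⟨∏ t' ∈ S.erase t.asIdeal, t', ?_, ?_⟩
      · intro t' ht' heq
        have hmem : t' ∈ S.erase t.asIdeal :=
          Finset.mem_erase.mpr ⟨heq, (Set.Finite.mem_toFinset _).mpr ht'⟩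
        exact Ideal.prod_le_inf.trans (Finset.inf_le hmem)
      · intro h2
        obtain ⟨t', ht', ht't⟩ := (t.isPrime.prod_le).mp h2
        obtain ⟨hne, hmem⟩ := Finset.mem_erase.mp ht'
        exact ⟨t', (Set.Finite.mem_toFinset _).mp hmem, hne, ht't⟩
    have hJM : J * M' ≤ I := by
      intro f hf
      rw [hI, mem_vanishingIdeal]
      intro z hz
      obtain ⟨t', ht', ht'z⟩ := Ideal.exists_minimalPrimes_le (hIle z hz)
      by_cases heq : t' = t.asIdeal
      · have hzt : z ∈ zeroLocus (t.asIdeal : Set A) := by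
          rw [mem_zeroLocus, SetLike.coe_subset_coe, ← heq]; exact ht'z
        have hzU : z ∈ Uᶜ := fun hzU => hz (hUE ⟨hzU, hzt⟩)
        rw [hJ, mem_zeroLocus, SetLike.coe_subset_coe] at hzU
        have hfJ : f ∈ J := (Ideal.mul_le_left : J * M' ≤ J) hf
        exact hzU hfJ
      · have hfM : f ∈ M' := (Ideal.mul_le_right : J * M' ≤ M') hf
        exact ht'z (hMa t' ht' heq hfM)
    have hle : J * M' ≤ t.asIdeal := hJM.trans ht.1.2
    rcases (t.isPrime.mul_le).mp hle with h1 | h2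
    · have hxJ : x ∈ zeroLocus (J : Set A) := by
        rw [mem_zeroLocus, SetLike.coe_subset_coe]
        rw [mem_zeroLocus, SetLike.coe_subset_coe] at hxt
        exact h1.trans hxt
      rw [← hJ] at hxJ
      exact hxJ hxU
    · obtain ⟨t', hmin, hne, ht't⟩ := hMb h2
      exact hne (le_antisymm ht't (ht.2 hmin.1 ht't))
  rw [← closure_subset_iff_isClosed, ← zeroLocus_vanishingIdeal_eq_closure]
  intro q hq
  rw [mem_zeroLocus, SetLike.coe_subset_coe] at hq
  obtain ⟨t', ht', ht'q⟩ := Ideal.exists_minimalPrimes_le hq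
  have ht'prime : t'.IsPrime := ht'.1.1
  have htZ := key ⟨t', ht'prime⟩ ht'
  intro hqE
  exact htZ (hgen q ⟨t', ht'prime⟩ ht'q hqE)

end Groth.Agent.Helper9.NagataCrit
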