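import Mathlib
import Groth.Prelude.Def_CAlg
import Groth.Prelude.Def_EGA4b
import Groth.Agent.Lib.Helper8.RegularLocal6
universe u
namespace Groth.Agent.Helper9.RegQuotOpen
open PrimeSpectrum IsLocalRing

section gen
variable {A : Type u} [CommRing A] [IsNoetherianRing A]

/-- if `A_p` is regular then `p` is generated, away from some `f ∉ p`, by `ht p` elements -/
theorem exists_gen (p : Ideal A) [p.IsPrime] [hreg : IsRegularLocalRing (Localization.AtPrime p)] :
    ∃ (X : Set A) (f : A), X.Finite ∧ (X.ncard : ℕ∞) ≤ p.height ∧ X ⊆ p ∧ f ∉ p ∧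
      ∀ y ∈ p, f * y ∈ Ideal.span X := by
  classical
  set Ap := Localization.AtPrime p
  set m := maximalIdeal Ap with hm
  have hmap : p.map (algebraMap A Ap) = m := IsLocalization.AtPrime.map_eq_maximalIdeal p Ap
  have hfg : (m : Submodule Ap Ap).FG := IsNoetherian.noetherian _
  set G := Submodule.generators (m : Submodule Ap Ap) with hG
  have hGfin : G.Finite := Submodule.FG.finite_generators hfg
  have hGcard : G.ncard = Submodule.spanFinrank (m : Submodule Ap Ap) :=
    Submodule.FG.generators_ncard hfg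
  have hGspan : Ideal.span G = m := Submodule.span_generators _
  have hdim : ((Submodule.spanFinrank (m : Submodule Ap Ap) : ℕ) : WithBot ℕ∞) = ringKrullDim Ap :=
    hreg.spanFinrank_maximalIdeal
  have hht : ringKrullDim Ap = (p.height : WithBot ℕ∞) :=
    IsLocalization.AtPrime.ringKrullDim_eq_height p Ap
  have hcard : (G.ncard : ℕ∞) = p.height := by
    rw [hGcard]
    have := hdim.trans hht
    exact_mod_cast this
  -- choose numerators
  have hch : ∀ g ∈ G, ∃ x : A, x ∈ p ∧ ∃ s : A, s ∉ p ∧ g * algebraMap A Ap s = algebraMap A Ap x := by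
    intro g hg
    have hgm : g ∈ p.map (algebraMap A Ap) := by
      rw [hmap, ← hGspan]; exact Ideal.subset_span hg
    obtain ⟨⟨x, s⟩, hxs⟩ := (IsLocalization.mem_map_algebraMap_iff p.primeCompl Ap).mp hgm
    exact ⟨x.1, x.2, s.1, s.2, hxs⟩
  choose! xg hxg1 hxg2 using hch
  set X := xg '' G with hX
  have hXfin : X.Finite := hGfin.image _
  have hXcard : (X.ncard : ℕ∞) ≤ p.height := by
    rw [← hcard]
    exact_mod_cast Set.ncard_image_le hGfin
  have hXp : X ⊆ p := by
    rintro _ ⟨g, hg, rfl⟩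
    exact hxg1 g hg
  -- the map of span X is m
  have hmapX : (Ideal.span X).map (algebraMap A Ap) = m := by
    apply le_antisymm
    · rw [← hmap]
      exact Ideal.map_mono (Ideal.span_le.mpr hXp)
    · rw [← hGspan, Ideal.span_le]
      intro g hg
      obtain ⟨s, hs, hgs⟩ := hxg2 g hg
      have hunit : IsUnit (algebraMap A Ap s) :=
        IsLocalization.map_units Ap (⟨s, hs⟩ : p.primeCompl)
      have : g = algebraMap A Ap (xg g) * ↑hunit.unit⁻¹ := by
        rw [← hgs, mul_assoc, IsUnit.mul_val_inv, mul_one]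
      rw [SetLike.mem_coe, this]
      exact Ideal.mul_mem_right _ _ (Ideal.mem_map_of_mem _ (Ideal.subset_span ⟨g, hg, rfl⟩))
  -- each y ∈ p is multiplied into span X
  have hmult : ∀ y ∈ p, ∃ s : A, s ∉ p ∧ s * y ∈ Ideal.span X := by
    intro y hy
    have hym : algebraMap A Ap y ∈ (Ideal.span X).map (algebraMap A Ap) := by
      rw [hmapX, ← hmap]; exact Ideal.mem_map_of_mem _ hy
    obtain ⟨⟨a, s⟩, has⟩ := (IsLocalization.mem_map_algebraMap_iff p.primeCompl Ap).mp hym
    rw [← map_mul] at has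
    obtain ⟨c, hc⟩ := (IsLocalization.eq_iff_exists p.primeCompl Ap).mp has
    refine ⟨c.1 * s.1, ?_, ?_⟩
    · exact fun h => (‹p.IsPrime›.mem_or_mem h).elim c.2 s.2
    · have : c.1 * s.1 * y = c.1 * a.1 := by rw [← hc]; ring
      rw [this]
      exact Ideal.mul_mem_left _ _ a.2
  obtain ⟨Y, hY⟩ := (IsNoetherian.noetherian p : (p : Submodule A A).FG)
  have hYp : ∀ y ∈ Y, y ∈ p := fun y hy => by
    have : (y : A) ∈ Submodule.span A (Y : Set A) := Submodule.subset_span hy
    rwa [hY] at this
  choose! σ hσ1 hσ2 using hmult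
  refine ⟨X, ∏ y ∈ Y, σ y, hXfin, hXcard, hXp, ?_, ?_⟩
  · intro h
    obtain ⟨y, hy, h'⟩ := (‹p.IsPrime›.prod_mem_iff).mp h
    exact hσ1 y (hYp y hy) h'
  · intro y hy
    have : (p : Submodule A A) ≤ Submodule.comap
        (LinearMap.mulLeft A (∏ y ∈ Y, σ y) : A →ₗ[A] A) (Ideal.span X) := by
      rw [← hY, Submodule.span_le]
      intro y hy
      show (∏ y ∈ Y, σ y) * y ∈ Ideal.span X
      rw [← Finset.prod_erase_mul Y σ hy, mul_assoc]
      exact Ideal.mul_mem_left _ _ (hσ2 y (hYp y hy))
    exact this hy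


theorem submonoid_eq (p q : Ideal A) [q.IsPrime] (hpq : p ≤ q)
    [(q.map (Ideal.Quotient.mk p)).IsPrime] :
    Algebra.algebraMapSubmonoid (A ⧸ p) q.primeCompl = (q.map (Ideal.Quotient.mk p)).primeCompl := by
  have hcomap : (q.map (Ideal.Quotient.mk p)).comap (Ideal.Quotient.mk p) = q := by
    rw [Ideal.comap_map_of_surjective _ Ideal.Quotient.mk_surjective, ← RingHom.ker_eq_comap_bot,
      Ideal.mk_ker, sup_eq_left]
    exact hpq
  ext z
  constructor
  · rintro ⟨x, hx, rfl⟩
    intro hz
    have : x ∈ (q.map (Ideal.Quotient.mk p)).comap (Ideal.Quotient.mk p) := hz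
    rw [hcomap] at this
    exact hx this
  · intro hz
    obtain ⟨x, rfl⟩ := Ideal.Quotient.mk_surjective z
    refine ⟨x, ?_, rfl⟩
    intro hx
    exact hz (Ideal.mem_map_of_mem _ hx)

theorem reg_of_quotient (p q : Ideal A) [p.IsPrime] [q.IsPrime] (hpq : p ≤ q)
    (X : Set A) (f : A) (hXfin : X.Finite) (hXcard : (X.ncard : ℕ∞) ≤ p.height) (hXp : X ⊆ p)
    (hfq : f ∉ q) (hmul : ∀ y ∈ p, f * y ∈ Ideal.span X)
    [hqbar : (q.map (Ideal.Quotient.mk p)).IsPrime]
    (hreg : IsRegularLocalRing (Localization.AtPrime (q.map (Ideal.Quotient.mk p)))) :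
    IsRegularLocalRing (Localization.AtPrime q) := by
  set Aq := Localization.AtPrime q
  set P := p.map (algebraMap A Aq) with hP
  have hdisj : Disjoint (q.primeCompl : Set A) (p : Set A) := by
    rw [Set.disjoint_left]
    intro a ha hap
    exact ha (hpq hap)
  have hPprime : P.IsPrime :=
    IsLocalization.isPrime_of_isPrime_disjoint q.primeCompl _ p ‹p.IsPrime› hdisj
  have hcomap : P.comap (algebraMap A Aq) = p :=
    IsLocalization.under_map_of_isPrime_disjoint q.primeCompl _ ‹p.IsPrime› hdisj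
  have hht : P.height = p.height := by
    rw [← IsLocalization.height_under q.primeCompl P]
    exact congrArg Ideal.height hcomap
  have hPX : P = Ideal.span (algebraMap A Aq '' X) := by
    rw [← Ideal.map_span]
    apply le_antisymm
    · rw [hP, Ideal.map_le_iff_le_comap]
      intro y hy
      have hunit : IsUnit (algebraMap A Aq f) :=
        IsLocalization.map_units Aq (⟨f, hfq⟩ : q.primeCompl)
      have h1 : algebraMap A Aq y = ↑hunit.unit⁻¹ * algebraMap A Aq (f * y) := by
        rw [map_mul, ← mul_assoc, IsUnit.val_inv_mul, one_mul]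
      rw [Ideal.mem_comap, h1]
      exact Ideal.mul_mem_left _ _ (Ideal.mem_map_of_mem _ (hmul y hy))
    · exact Ideal.map_mono (Ideal.span_le.mpr hXp)
  have hsf : (Submodule.spanFinrank (P : Submodule Aq Aq) : ℕ∞) ≤ X.ncard := by
    have h1 : Submodule.spanFinrank (P : Submodule Aq Aq) ≤ (algebraMap A Aq '' X).ncard := by
      rw [hPX]
      exact Submodule.spanFinrank_span_le_ncard_of_finite (hXfin.image _)
    have h2 : (algebraMap A Aq '' X).ncard ≤ X.ncard := Set.ncard_image_le hXfin
    exact_mod_cast h1.trans h2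
  have hgen : (Submodule.spanFinrank (P : Submodule Aq Aq) : ℕ∞) = P.height := by
    apply le_antisymm
    · rw [hht]; exact hsf.trans hXcard
    · exact Ideal.height_le_spanFinrank P hPprime.ne_top
  have hloc : IsLocalization (q.map (Ideal.Quotient.mk p)).primeCompl (Aq ⧸ P) := by
    rw [← submonoid_eq p q hpq]
    infer_instance
  have e := IsLocalization.algEquiv (q.map (Ideal.Quotient.mk p)).primeCompl
    (Localization.AtPrime (q.map (Ideal.Quotient.mk p))) (Aq ⧸ P)
  have hregQ : IsRegularLocalRing (Aq ⧸ P) := IsRegularLocalRing.of_ringEquiv e.toRingEquiv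
  exact Groth.Agent.Helper8.RLR.of_prime_quotient_regular Aq P hgen

end gen

end Groth.Agent.Helper9.RegQuotOpen
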