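import Mathlib

set_option autoImplicit false
universe u

namespace Groth.Agent.Helper9.CotNine

/-- cochain-level data for the connecting map `H¹(Z) → H²(X)` of a short exact sequence
`0 → X → Y → Z → 0` of (three-term) cochain complexes with additive splittings. Plain functions, to make
instantiation cheap. -/
structure ChaseD (X1 X2 Y0 Y1 Y2 Z0 Z1 Z2 : Type*) [AddCommGroup X1] [AddCommGroup X2]
    [AddCommGroup Y0] [AddCommGroup Y1] [AddCommGroup Y2] [AddCommGroup Z0] [AddCommGroup Z1]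
    [AddCommGroup Z2] where
  dX : X1 → X2
  dY1 : Y0 → Y1
  dY : Y1 → Y2
  dZ1 : Z0 → Z1
  dZ : Z1 → Z2
  b1 : X1 → Y1
  b2 : X2 → Y2
  a0 : Y0 → Z0
  a1 : Y1 → Z1
  a2 : Y2 → Z2
  s0 : Z0 → Y0
  s1 : Z1 → Y1
  dY_add : ∀ x y, dY (x + y) = dY x + dY y
  b2_add : ∀ x y, b2 (x + y) = b2 x + b2 y
  a1_add : ∀ x y, a1 (x + y) = a1 x + a1 y
  s1_add : ∀ x y, s1 (x + y) = s1 x + s1 y
  b2_inj : Function.Injective b2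
  b2_dX : ∀ χ, b2 (dX χ) = dY (b1 χ)
  a2_dY : ∀ e, a2 (dY e) = dZ (a1 e)
  a1_dY1 : ∀ θ, a1 (dY1 θ) = dZ1 (a0 θ)
  dY_dY1 : ∀ θ, dY (dY1 θ) = 0
  a1_s1 : ∀ c, a1 (s1 c) = c
  a0_s0 : ∀ ψ, a0 (s0 ψ) = ψ
  a1_b1 : ∀ χ, a1 (b1 χ) = 0
  a2_b2 : ∀ ω, a2 (b2 ω) = 0
  b1_factor : ∀ e, a1 e = 0 → ∃ χ, b1 χ = e
  b2_factor : ∀ φ, a2 φ = 0 → ∃ ω, b2 ω = φ

namespace ChaseD

variable {X1 X2 Y0 Y1 Y2 Z0 Z1 Z2 : Type*} [AddCommGroup X1] [AddCommGroup X2]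
    [AddCommGroup Y0] [AddCommGroup Y1] [AddCommGroup Y2] [AddCommGroup Z0] [AddCommGroup Z1]
    [AddCommGroup Z2] (D : ChaseD X1 X2 Y0 Y1 Y2 Z0 Z1 Z2)

lemma fun_sub {G H : Type*} [AddGroup G] [AddGroup H] (f : G → H)
    (hf : ∀ x y, f (x + y) = f x + f y) (x y : G) : f (x - y) = f x - f y :=
  map_sub (AddMonoidHom.mk' f hf) x y

lemma key (e : Y1) : ∃ χ, D.dY (D.s1 (D.a1 e)) = D.dY e + D.b2 (D.dX χ) := by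
  have h1 : D.a1 (D.s1 (D.a1 e) - e) = 0 := by
    rw [fun_sub D.a1 D.a1_add, D.a1_s1, sub_self]
  obtain ⟨χ, hχ⟩ := D.b1_factor _ h1
  refine ⟨χ, ?_⟩
  have h2 : D.s1 (D.a1 e) = e + D.b1 χ := by rw [hχ]; abel
  rw [h2, D.dY_add, D.b2_dX]

lemma exists_g (c : Z1) (hc : D.dZ c = 0) : ∃ ω, D.b2 ω = D.dY (D.s1 c) := by
  refine D.b2_factor _ ?_
  rw [D.a2_dY, D.a1_s1, hc]

lemma g_add (c c' : Z1) (ω ω' ω'' : X2) (h : D.b2 ω = D.dY (D.s1 c))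
    (h' : D.b2 ω' = D.dY (D.s1 c')) (h'' : D.b2 ω'' = D.dY (D.s1 (c + c'))) : ω'' = ω + ω' := by
  apply D.b2_inj
  rw [h'', D.s1_add, D.dY_add, D.b2_add, h, h']

lemma aux0 (c : Z1) (ω : X2) (hω : D.b2 ω = D.dY (D.s1 c)) (ψ : Z0) (hψ : D.dZ1 ψ = c) :
    ∃ χ, D.dX χ = ω := by
  obtain ⟨χ, hχ⟩ := D.key (D.dY1 (D.s0 ψ))
  refine ⟨χ, D.b2_inj ?_⟩
  rw [D.a1_dY1, D.a0_s0, hψ, D.dY_dY1, zero_add] at hχ
  rw [hω, hχ]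

lemma aux1 (e : Y1) (he : D.dY e = 0) (ω : X2) (hω : D.b2 ω = D.dY (D.s1 (D.a1 e))) :
    ∃ χ, D.dX χ = ω := by
  obtain ⟨χ, hχ⟩ := D.key e
  refine ⟨χ, D.b2_inj ?_⟩
  rw [he, zero_add] at hχ
  rw [hω, hχ]

lemma aux2 (c : Z1) (ω : X2) (hω : D.b2 ω = D.dY (D.s1 c)) (χ : X1) (hχ : D.dX χ = ω) :
    D.dY (D.s1 c - D.b1 χ) = 0 ∧ D.a1 (D.s1 c - D.b1 χ) = c := by
  constructor
  · rw [fun_sub D.dY D.dY_add, ← D.b2_dX, hχ, hω, sub_self]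
  · rw [fun_sub D.a1 D.a1_add, D.a1_s1, D.a1_b1, sub_zero]

lemma aux4 (ω : X2) (e : Y1) (he : D.dY e = D.b2 ω) :
    D.dZ (D.a1 e) = 0 ∧ ∀ ω', D.b2 ω' = D.dY (D.s1 (D.a1 e)) → ∃ χ, D.dX χ = ω' - ω := by
  constructor
  · rw [← D.a2_dY, he, D.a2_b2]
  · intro ω' hω'
    obtain ⟨χ, hχ⟩ := D.key e
    refine ⟨χ, D.b2_inj ?_⟩
    rw [fun_sub D.b2 D.b2_add, hω', hχ, he]
    abel

end ChaseD

end Groth.Agent.Helper9.CotNine
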