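import Mathlib

set_option autoImplicit false
universe u v w

namespace Groth.Agent.Helper9.CotNine

open TensorProduct

section FlatKer

variable {R : Type u} {S : Type v} [CommRing R] [CommRing S] [Algebra R S] [Module.Flat R S]
variable {σ : Type w} [DecidableEq σ]

omit [DecidableEq σ] in
lemma exact_lTensor_ker {N' N'' : Type*} [AddCommGroup N'] [Module R N'] [AddCommGroup N'']
    [Module R N''] (J : N' →ₗ[R] N'') :
    Function.Exact ((LinearMap.ker J).subtype.lTensor S) (J.lTensor S) :=
  Module.Flat.lTensor_exact S (LinearMap.exact_subtype_ker_map J)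

lemma rid_lTensor_symm (rel : σ → R) (b : σ →₀ S) :
    TensorProduct.rid R S (((Finsupp.linearCombination R rel).lTensor S)
      ((finsuppScalarRight R S S σ).symm b)) =
      b.sum (fun s r => r * algebraMap R S (rel s)) := by
  induction b using Finsupp.induction_linear with
  | zero => simp
  | add x y hx hy =>
    rw [map_add, map_add, map_add, hx, hy, Finsupp.sum_add_index' (by simp) (by intros; ring)]
  | single s c =>
    rw [finsuppScalarRight_symm_apply_single, LinearMap.lTensor_tmul,
      Finsupp.linearCombination_single, one_smul, TensorProduct.rid_tmul,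
      Finsupp.sum_single_index (by simp), Algebra.smul_def, mul_comm]

/-- flat base change of the kernel of a linear combination map -/
lemma flat_ker (rel : σ → R) (b : σ →₀ S)
    (hb : b.sum (fun s r => r * algebraMap R S (rel s)) = 0) :
    b ∈ Submodule.span S ((fun f : σ →₀ R => Finsupp.mapRange (algebraMap R S) (map_zero (algebraMap R S)) f) ''
          {f | Finsupp.linearCombination R rel f = 0}) := by
  let J : (σ →₀ R) →ₗ[R] R := Finsupp.linearCombination R rel
  let K : Submodule R (σ →₀ R) := LinearMap.ker J
  have hex : Function.Exact (K.subtype.lTensor S) (J.lTensor S) := exact_lTensor_ker J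
  have h0 : (J.lTensor S) ((finsuppScalarRight R S S σ).symm b) = 0 := by
    apply (TensorProduct.rid R S).injective
    rw [rid_lTensor_symm, hb, map_zero]
  obtain ⟨v, hv⟩ := (hex _).1 h0
  have hb' : b = finsuppScalarRight R S S σ ((K.subtype.lTensor S) v) := by
    rw [hv, LinearEquiv.apply_symm_apply]
  rw [hb']
  clear hb' hv h0 hb
  induction v using TensorProduct.induction_on with
  | zero => simp
  | add x y hx hy =>
    rw [map_add, map_add]; exact Submodule.add_mem _ hx hy
  | tmul y q =>
    rw [LinearMap.lTensor_tmul]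
    have h1 : finsuppScalarRight R S S σ (y ⊗ₜ[R] (K.subtype q)) =
        y • Finsupp.mapRange (algebraMap R S) (map_zero (algebraMap R S)) (q : σ →₀ R) := by
      ext s
      rw [finsuppScalarRight_apply_tmul_apply, Finsupp.smul_apply, Finsupp.mapRange_apply,
        Algebra.smul_def, smul_eq_mul, mul_comm]
      rfl
    rw [h1]
    exact Submodule.smul_mem _ _ (Submodule.subset_span ⟨q.1, q.2, rfl⟩)

end FlatKer

end Groth.Agent.Helper9.CotNine

namespace Groth.Agent.Helper9.CotNine

open MvPolynomial

lemma rename_inr_flat (A : Type u) [CommRing A] (ι' : Type v) (ι : Type w) :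
    (rename Sum.inr : MvPolynomial ι A →ₐ[A] MvPolynomial (ι' ⊕ ι) A).toRingHom.Flat := by
  letI : Algebra (MvPolynomial ι A) (MvPolynomial (ι' ⊕ ι) A) :=
    (rename Sum.inr : MvPolynomial ι A →ₐ[A] MvPolynomial (ι' ⊕ ι) A).toRingHom.toAlgebra
  change Module.Flat (MvPolynomial ι A) (MvPolynomial (ι' ⊕ ι) A)
  have hC : ∀ r : MvPolynomial ι A, sumAlgEquiv A ι' ι (rename Sum.inr r) = C r := fun r => by
    have := DFunLike.congr_fun (sumAlgEquiv_comp_rename_inr (R := A) (S₁ := ι') (S₂ := ι)) r
    exact this
  let e : MvPolynomial (ι' ⊕ ι) A ≃ₗ[MvPolynomial ι A] MvPolynomial ι' (MvPolynomial ι A) :=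
    { (sumAlgEquiv A ι' ι).toAddEquiv with
      map_smul' := fun r x => by
        change sumAlgEquiv A ι' ι (rename Sum.inr r * x) = r • sumAlgEquiv A ι' ι x
        rw [map_mul, hC, MvPolynomial.smul_eq_C_mul] }
  exact Module.Flat.of_linearEquiv e

end Groth.Agent.Helper9.CotNine
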