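import Mathlib
import Groth.Prelude.Def_CotT2
import Groth.Agent.Lib.Helper9.CotHom3
import Groth.Agent.Lib.Helper9.FlatKer

set_option autoImplicit false
set_option linter.unusedSectionVars false
universe u v w t

namespace Groth.Agent.Helper9.CotNine

open CotT TensorProduct MvPolynomial

section Setup

variable {A B C : Type u} [CommRing A] [CommRing B] [CommRing C]
variable [Algebra A B] [Algebra B C] [Algebra A C] [IsScalarTower A B C]
variable {ι σ ι' σ' : Type u}
variable (P : Algebra.Presentation A B ι σ) (Q : Algebra.Presentation B C ι' σ')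

/-- the composite presentation -/
noncomputable abbrev RR : Algebra.Presentation A C (ι' ⊕ ι) (σ' ⊕ σ) := Q.comp P

/-- `P → Q.comp P` over `A = A`, `B → C` -/
noncomputable def f2 : PresHom P (RR P Q) where
  hom := Q.toGenerators.toComp P.toGenerators
  relVal s := Finsupp.single (Sum.inr s) 1
  jmap_relVal s := by
    rw [jmap_single, one_mul]
    change rename Sum.inr (P.relation s) = (Q.toGenerators.toComp P.toGenerators).toAlgHom (P.relation s)
    rw [Algebra.Generators.toComp_toAlgHom]

/-- `Q.comp P → Q` over `A → B`, `C = C` -/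
noncomputable def f1 : PresHom (RR P Q) Q where
  hom := Q.toGenerators.ofComp P.toGenerators
  relVal := Sum.elim (fun t => Finsupp.single t 1) (fun _ => 0)
  jmap_relVal s := by
    rcases s with t | s
    · rw [Sum.elim_inl, jmap_single, one_mul]
      exact (Q.comp_aeval_relation_inl P t).symm
    · rw [Sum.elim_inr, map_zero]
      change 0 = (Q.toGenerators.ofComp P.toGenerators).toAlgHom (rename Sum.inr (P.relation s))
      rw [Algebra.Generators.toAlgHom_ofComp_rename]
      have : algebraMap P.Ring B (P.relation s) = 0 := P.relation_mem_ker s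
      rw [this, map_zero]


lemma f2_ringHom_apply (x : P.toExtension.Ring) :
    (f2 P Q).ringHom x = rename Sum.inr x := by
  change (Q.toGenerators.toComp P.toGenerators).toAlgHom x = _
  rw [Algebra.Generators.toComp_toAlgHom]

lemma f1_ringHom_surjective : Function.Surjective (f1 P Q).ringHom :=
  Algebra.Generators.toAlgHom_ofComp_surjective Q.toGenerators P.toGenerators

lemma f1_ringHom_f2_ringHom (x : P.toExtension.Ring) :
    (f1 P Q).ringHom ((f2 P Q).ringHom x) = MvPolynomial.C (algebraMap P.toExtension.Ring B x) := by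
  rw [f2_ringHom_apply]
  exact Algebra.Generators.toAlgHom_ofComp_rename Q.toGenerators P.toGenerators x

lemma ker_f1_ringHom :
    RingHom.ker (f1 P Q).ringHom = Ideal.map (f2 P Q).ringHom P.toExtension.ker :=
  (Algebra.Generators.map_toComp_ker Q.toGenerators P.toGenerators).symm

/-- inclusion of the `σ'`-part -/
noncomputable def iL : (σ' →₀ (RR P Q).toExtension.Ring) →ₗ[(RR P Q).toExtension.Ring] relMod (RR P Q) :=
  Finsupp.lmapDomain _ _ Sum.inl

/-- inclusion of the `σ`-part -/
noncomputable def iR : (σ →₀ (RR P Q).toExtension.Ring) →ₗ[(RR P Q).toExtension.Ring] relMod (RR P Q) :=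
  Finsupp.lmapDomain _ _ Sum.inr

lemma iL_single (t : σ') (r : (RR P Q).toExtension.Ring) :
    iL P Q (Finsupp.single t r) = Finsupp.single (Sum.inl t) r := by
  simp [iL, Finsupp.lmapDomain_apply, Finsupp.mapDomain_single]

lemma iR_single (s : σ) (r : (RR P Q).toExtension.Ring) :
    iR P Q (Finsupp.single s r) = Finsupp.single (Sum.inr s) r := by
  simp [iR, Finsupp.lmapDomain_apply, Finsupp.mapDomain_single]

lemma exists_decomp (x : relMod (RR P Q)) : ∃ a b, x = iL P Q a + iR P Q b := by
  induction x using Finsupp.induction_linear with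
  | zero => exact ⟨0, 0, by simp⟩
  | add x y hx hy =>
    obtain ⟨a, b, rfl⟩ := hx
    obtain ⟨a', b', rfl⟩ := hy
    exact ⟨a + a', b + b', by rw [map_add, map_add]; abel⟩
  | single i r =>
    rcases i with t | s
    · exact ⟨Finsupp.single t r, 0, by rw [iL_single, map_zero, add_zero]⟩
    · exact ⟨0, Finsupp.single s r, by rw [iR_single, map_zero, zero_add]⟩

lemma f1_relModMap_iL (a : σ' →₀ (RR P Q).toExtension.Ring) :
    (f1 P Q).relModMap (iL P Q a) = Finsupp.mapRange (f1 P Q).ringHom (map_zero _) a := by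
  induction a using Finsupp.induction_linear with
  | zero => simp
  | add x y hx hy => rw [map_add, map_add, hx, hy, Finsupp.mapRange_add (map_add _)]
  | single t r =>
    rw [iL_single, PresHom.relModMap_single, Finsupp.mapRange_single]
    change (f1 P Q).ringHom r • Finsupp.single t 1 = _
    rw [Finsupp.smul_single, smul_eq_mul, mul_one]

lemma f1_relModMap_iR (b : σ →₀ (RR P Q).toExtension.Ring) :
    (f1 P Q).relModMap (iR P Q b) = 0 := by
  induction b using Finsupp.induction_linear with
  | zero => simp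
  | add x y hx hy => rw [map_add, map_add, hx, hy, add_zero]
  | single s r =>
    rw [iR_single, PresHom.relModMap_single]
    change (f1 P Q).ringHom r • (0 : relMod Q) = 0
    rw [smul_zero]

lemma f2_relModMap (f : relMod P) :
    (f2 P Q).relModMap f = iR P Q (Finsupp.mapRange (f2 P Q).ringHom (map_zero _) f) := by
  induction f using Finsupp.induction_linear with
  | zero => simp
  | add x y hx hy => rw [map_add, hx, hy, Finsupp.mapRange_add (map_add _), map_add]
  | single s r =>
    rw [PresHom.relModMap_single, Finsupp.mapRange_single, iR_single]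
    change (f2 P Q).ringHom r • Finsupp.single (Sum.inr s) 1 = _
    rw [Finsupp.smul_single, smul_eq_mul, mul_one]

/-- (K1) -/
lemma f1_f2_relModMap (f : relMod P) : (f1 P Q).relModMap ((f2 P Q).relModMap f) = 0 := by
  rw [f2_relModMap, f1_relModMap_iR]


lemma jmap_iR (b : σ →₀ (RR P Q).toExtension.Ring) :
    jmap (RR P Q) (iR P Q b) = b.sum (fun s r => r * (f2 P Q).ringHom (rel P s)) := by
  induction b using Finsupp.induction_linear with
  | zero => simp
  | add x y hx hy =>
    rw [map_add, map_add, hx, hy, Finsupp.sum_add_index' (by simp) (by intros; ring)]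
  | single s r =>
    rw [iR_single, jmap_single, Finsupp.sum_single_index (by simp), f2_ringHom_apply]
    rfl

lemma jmap_iL_f1 (a : σ' →₀ (RR P Q).toExtension.Ring) :
    (f1 P Q).ringHom (jmap (RR P Q) (iL P Q a)) =
      jmap Q (Finsupp.mapRange (f1 P Q).ringHom (map_zero _) a) := by
  rw [← f1_relModMap_iL, PresHom.jmap_relModMap]

/-- every element of `ker τ1` is `j` of something in the `σ`-part -/
lemma exists_iR_of_mem_ker (x : (RR P Q).toExtension.Ring) (hx : (f1 P Q).ringHom x = 0) :
    ∃ b, jmap (RR P Q) (iR P Q b) = x := by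
  have h1 : x ∈ Ideal.map (f2 P Q).ringHom P.toExtension.ker := by
    rw [← ker_f1_ringHom]; exact hx
  have h2 : P.toExtension.ker = Ideal.span (Set.range (rel P)) := P.span_range_relation_eq_ker.symm
  rw [h2, Ideal.map_span, ← Set.range_comp] at h1
  obtain ⟨c, hc⟩ := Finsupp.mem_span_range_iff_exists_finsupp.1 h1
  exact ⟨c, by rw [jmap_iR]; exact hc⟩

/-- (K3) the map on relation modules is surjective -/
lemma exists_relKer_lift (q : relKer Q) : ∃ q' : relKer (RR P Q), (f1 P Q).relKerMap q' = q := by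
  obtain ⟨a, ha⟩ := Finsupp.mapRange_surjective (f1 P Q).ringHom (map_zero _)
    (f1_ringHom_surjective P Q) (q : relMod Q)
  have h1 : (f1 P Q).ringHom (jmap (RR P Q) (iL P Q a)) = 0 := by
    rw [jmap_iL_f1, ha]; exact q.2
  obtain ⟨b, hb⟩ := exists_iR_of_mem_ker P Q _ h1
  refine ⟨⟨iL P Q a - iR P Q b, ?_⟩, ?_⟩
  · change jmap (RR P Q) (iL P Q a - iR P Q b) = 0
    rw [map_sub, hb, sub_self]
  · apply Subtype.ext
    rw [PresHom.relKerMap_coe]
    change (f1 P Q).relModMap (iL P Q a - iR P Q b) = _
    rw [map_sub, f1_relModMap_iL, f1_relModMap_iR, sub_zero, ha]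

lemma exists_relMod_lift (x : relMod Q) : ∃ x' : relMod (RR P Q), (f1 P Q).relModMap x' = x := by
  obtain ⟨a, ha⟩ := Finsupp.mapRange_surjective (f1 P Q).ringHom (map_zero _)
    (f1_ringHom_surjective P Q) x
  exact ⟨iL P Q a, by rw [f1_relModMap_iL, ha]⟩

/-- (K6) trivial relations lift -/
lemma exists_trivRel_lift (y : relMod Q) (hy : y ∈ trivRel Q) :
    ∃ y' ∈ trivRel (RR P Q), (f1 P Q).relModMap y' = y := by
  induction hy using Submodule.span_induction with
  | mem x hx =>
    obtain ⟨a, b, rfl⟩ := hx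
    obtain ⟨a', rfl⟩ := exists_relMod_lift P Q a
    obtain ⟨b', rfl⟩ := exists_relMod_lift P Q b
    refine ⟨jmap (RR P Q) a' • b' - jmap (RR P Q) b' • a', Submodule.subset_span ⟨a', b', rfl⟩, ?_⟩
    rw [map_sub, LinearMap.map_smulₛₗ, LinearMap.map_smulₛₗ, PresHom.jmap_relModMap,
      PresHom.jmap_relModMap]
  | zero => exact ⟨0, Submodule.zero_mem _, map_zero _⟩
  | add x y _ _ hx hy =>
    obtain ⟨x', hx', rfl⟩ := hx
    obtain ⟨y', hy', rfl⟩ := hy
    exact ⟨x' + y', Submodule.add_mem _ hx' hy', map_add _ _ _⟩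
  | smul r x _ hx =>
    obtain ⟨x', hx', rfl⟩ := hx
    obtain ⟨r', rfl⟩ := f1_ringHom_surjective P Q r
    exact ⟨r' • x', Submodule.smul_mem _ _ hx', LinearMap.map_smulₛₗ _ _ _⟩


lemma single_inl_sub_mem (t : σ') (c : (RR P Q).toExtension.Ring) (hc : (f1 P Q).ringHom c = 0) :
    ∃ b', (Finsupp.single (Sum.inl t) c : relMod (RR P Q)) - iR P Q b' ∈ trivRel (RR P Q) := by
  obtain ⟨b, hb⟩ := exists_iR_of_mem_ker P Q c hc
  set e : relMod (RR P Q) := Finsupp.single (Sum.inl t) 1 with he
  refine ⟨jmap (RR P Q) e • b, ?_⟩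
  have h1 : (Finsupp.single (Sum.inl t) c : relMod (RR P Q)) = jmap (RR P Q) (iR P Q b) • e := by
    rw [hb, he, Finsupp.smul_single, smul_eq_mul, mul_one]
  rw [h1, map_smul]
  exact Submodule.subset_span ⟨iR P Q b, e, rfl⟩

lemma sum_single_inl_sub_mem (s : Finset σ') (g : σ' → (RR P Q).toExtension.Ring)
    (hg : ∀ t ∈ s, (f1 P Q).ringHom (g t) = 0) :
    ∃ b', (∑ t ∈ s, (Finsupp.single (Sum.inl t) (g t) : relMod (RR P Q))) - iR P Q b' ∈
      trivRel (RR P Q) := by
  classical
  induction s using Finset.induction_on with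
  | empty => exact ⟨0, by simp⟩
  | insert t s ht ih =>
    obtain ⟨b1, hb1⟩ := ih (fun t' ht' => hg t' (Finset.mem_insert_of_mem ht'))
    obtain ⟨b2, hb2⟩ := single_inl_sub_mem P Q t (g t) (hg t (Finset.mem_insert_self _ _))
    refine ⟨b2 + b1, ?_⟩
    rw [Finset.sum_insert ht, map_add]
    have := Submodule.add_mem _ hb2 hb1
    convert this using 1
    abel

/-- (S23) -/
lemma iL_sub_mem (a : σ' →₀ (RR P Q).toExtension.Ring)
    (ha : Finsupp.mapRange (f1 P Q).ringHom (map_zero _) a = 0) :
    ∃ b', iL P Q a - iR P Q b' ∈ trivRel (RR P Q) := by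
  have h1 : ∀ t, (f1 P Q).ringHom (a t) = 0 := fun t => by
    have := DFunLike.congr_fun ha t
    rwa [Finsupp.mapRange_apply] at this
  obtain ⟨b', hb'⟩ := sum_single_inl_sub_mem P Q a.support (fun t => a t) (fun t _ => h1 t)
  refine ⟨b', ?_⟩
  have h2 : iL P Q a = ∑ t ∈ a.support, (Finsupp.single (Sum.inl t) (a t) : relMod (RR P Q)) := by
    conv_lhs => rw [← Finsupp.sum_single a]
    rw [Finsupp.sum, map_sum]
    exact Finset.sum_congr rfl fun t _ => iL_single P Q t (a t)
  rw [h2]
  exact hb'


lemma f2_ringHom_flat : (f2 P Q).ringHom.Flat := by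
  have h : (f2 P Q).ringHom =
      (rename Sum.inr : MvPolynomial ι A →ₐ[A] MvPolynomial (ι' ⊕ ι) A).toRingHom :=
    RingHom.ext (f2_ringHom_apply P Q)
  rw [h]
  exact rename_inr_flat A ι' ι

/-- Step 4 (flatness) -/
lemma iR_mem_span (b : σ →₀ (RR P Q).toExtension.Ring) (hb : jmap (RR P Q) (iR P Q b) = 0) :
    iR P Q b ∈ Submodule.span (RR P Q).toExtension.Ring
      ((f2 P Q).relModMap '' (relKer P : Set (relMod P))) := by
  classical
  let _ : Algebra P.toExtension.Ring (RR P Q).toExtension.Ring := (f2 P Q).ringHom.toAlgebra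
  have _ : Module.Flat P.toExtension.Ring (RR P Q).toExtension.Ring := f2_ringHom_flat P Q
  rw [jmap_iR] at hb
  have h1 := flat_ker (R := P.toExtension.Ring) (S := (RR P Q).toExtension.Ring) (rel P) b hb
  have h2 := Submodule.apply_mem_span_image_of_mem_span (iR P Q) h1
  refine Submodule.span_mono ?_ h2
  rintro _ ⟨_, ⟨f, hf, rfl⟩, rfl⟩
  refine ⟨f, hf, ?_⟩
  rw [f2_relModMap]
  rfl


/-- (K4) exactness on relation modules modulo trivial relations -/
lemma relKer_exact (q : relMod (RR P Q)) (hq : q ∈ relKer (RR P Q))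
    (h : (f1 P Q).relModMap q ∈ trivRel Q) :
    q ∈ trivRel (RR P Q) ⊔ Submodule.span (RR P Q).toExtension.Ring
      ((f2 P Q).relModMap '' (relKer P : Set (relMod P))) := by
  obtain ⟨t, ht, htq⟩ := exists_trivRel_lift P Q _ h
  obtain ⟨a, b, hab⟩ := exists_decomp P Q (q - t)
  have h1 : Finsupp.mapRange (f1 P Q).ringHom (map_zero _) a = 0 := by
    have : (f1 P Q).relModMap (q - t) = 0 := by rw [map_sub, htq, sub_self]
    rw [hab, map_add, f1_relModMap_iL, f1_relModMap_iR, add_zero] at this
    exact this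
  obtain ⟨b', hb'⟩ := iL_sub_mem P Q a h1
  have hq' : q = (t + (iL P Q a - iR P Q b')) + iR P Q (b' + b) := by
    have : q = t + (q - t) := by abel
    rw [this, hab, map_add]; abel
  have h2 : jmap (RR P Q) (iR P Q (b' + b)) = 0 := by
    have e1 : jmap (RR P Q) q = 0 := hq
    have e2 : jmap (RR P Q) t = 0 := trivRel_le_relKer _ ht
    have e3 : jmap (RR P Q) (iL P Q a - iR P Q b') = 0 := trivRel_le_relKer _ hb'
    have := congrArg (jmap (RR P Q)) hq'
    rw [map_add, map_add, e1, e2, e3, zero_add, zero_add] at this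
    exact this.symm
  rw [hq']
  exact Submodule.add_mem_sup (Submodule.add_mem _ ht hb') (iR_mem_span P Q _ h2)

end Setup

end Groth.Agent.Helper9.CotNine
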