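import Mathlib
import Groth.Prelude.Def_CotT2
import Groth.Agent.Lib.Helper9.CotNine1
import Groth.Agent.Lib.Helper9.TensKer

set_option autoImplicit false
set_option linter.unusedSectionVars false
universe u v w t

namespace Groth.Agent.Helper9.CotNine

open CotT TensorProduct MvPolynomial

section Levels

variable {A B C : Type u} [CommRing A] [CommRing B] [CommRing C]
variable [Algebra A B] [Algebra B C] [Algebra A C] [IsScalarTower A B C]
variable {ι σ ι' σ' : Type u}
variable (P : Algebra.Presentation A B ι σ) (Q : Algebra.Presentation B C ι' σ')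

/-! ### degree 1 -/

lemma f2_L1map_basis (s : σ) :
    (f2 P Q).L1map (L1basis P s) = L1basis (RR P Q) (Sum.inr s) := by
  rw [L1basis_apply, L1basis_apply, PresHom.L1map_tmul, PresHom.relModMap_single, map_one, map_one,
    one_smul]
  rfl

lemma f1_L1map_basis_inl (t : σ') :
    (f1 P Q).L1map (L1basis (RR P Q) (Sum.inl t)) = L1basis Q t := by
  rw [L1basis_apply, L1basis_apply, PresHom.L1map_tmul, PresHom.relModMap_single, map_one, map_one,
    one_smul]
  rfl

lemma f1_L1map_basis_inr (s : σ) :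
    (f1 P Q).L1map (L1basis (RR P Q) (Sum.inr s)) = 0 := by
  rw [L1basis_apply, PresHom.L1map_tmul, PresHom.relModMap_single, map_one, map_one, one_smul]
  exact tmul_zero _ _

/-! ### degree 0 -/

lemma f2_L0map_basis (i : ι) :
    (f2 P Q).L0map (P.cotangentSpaceBasis i) = (RR P Q).cotangentSpaceBasis (Sum.inr i) := by
  rw [PresHom.L0map_apply]
  erw [Algebra.Generators.cotangentSpaceBasis_apply, Algebra.Generators.cotangentSpaceBasis_apply,
    Algebra.Extension.CotangentSpace.map_tmul]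
  rw [map_one]
  congr 2
  exact (f2_ringHom_apply P Q (X i)).trans (rename_X _ _)

lemma f1_L0map_basis_inl (j : ι') :
    (f1 P Q).L0map ((RR P Q).cotangentSpaceBasis (Sum.inl j)) = Q.cotangentSpaceBasis j := by
  rw [PresHom.L0map_apply]
  erw [Algebra.Generators.cotangentSpaceBasis_apply, Algebra.Generators.cotangentSpaceBasis_apply,
    Algebra.Extension.CotangentSpace.map_tmul]
  rw [map_one]
  congr 2
  change (Q.toGenerators.ofComp P.toGenerators).toAlgHom (X (Sum.inl j)) = X j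
  rw [Algebra.Generators.Hom.toAlgHom_X]
  rfl

lemma f1_L0map_basis_inr (i : ι) :
    (f1 P Q).L0map ((RR P Q).cotangentSpaceBasis (Sum.inr i)) = 0 := by
  rw [PresHom.L0map_apply]
  erw [Algebra.Generators.cotangentSpaceBasis_apply, Algebra.Extension.CotangentSpace.map_tmul]
  rw [map_one]
  have : (f1 P Q).hom.toExtensionHom.toAlgHom (X (Sum.inr i)) = MvPolynomial.C (P.val i) := by
    change (Q.toGenerators.ofComp P.toGenerators).toAlgHom (X (Sum.inr i)) = MvPolynomial.C (P.val i)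
    rw [Algebra.Generators.Hom.toAlgHom_X]
    rfl
  rw [this]
  have h2 : KaehlerDifferential.D B Q.toExtension.Ring (MvPolynomial.C (P.val i)) = 0 := by
    have := (KaehlerDifferential.D B Q.toExtension.Ring).map_algebraMap (P.val i)
    exact this
  rw [h2, tmul_zero]


/-! ### degree 2 -/

section L2Gen

variable {A' B' : Type u} [CommRing A'] [CommRing B'] [Algebra A' B'] {κ τ : Type u}
  (X : Algebra.Presentation A' B' κ τ)

lemma L2_exists_rep (z : L2 X) :
    ∃ q : relKer X, z = Submodule.Quotient.mk ((1 : B') ⊗ₜ[X.toExtension.Ring] q) := by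
  obtain ⟨w, rfl⟩ := Submodule.Quotient.mk_surjective _ z
  obtain ⟨q, rfl⟩ := exists_one_tmul' X.toExtension.algebraMap_surjective (relKer X) w
  exact ⟨q, rfl⟩

lemma ker_smul_mem_trivRel (r : X.toExtension.Ring) (hr : algebraMap X.toExtension.Ring B' r = 0)
    (q : relKer X) : r • (q : relMod X) ∈ trivRel X := by
  have h1 : r ∈ LinearMap.range (jmap X) := by
    rw [range_jmap]; exact hr
  obtain ⟨f, rfl⟩ := h1
  have h2 : jmap X f • (q : relMod X) - jmap X (q : relMod X) • f ∈ trivRel X :=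
    Submodule.subset_span ⟨f, q, rfl⟩
  have h3 : jmap X (q : relMod X) = 0 := q.2
  rwa [h3, zero_smul, sub_zero] at h2

lemma L2_mk_eq_zero_iff (q : relKer X) :
    (Submodule.Quotient.mk ((1 : B') ⊗ₜ[X.toExtension.Ring] q) : L2 X) = 0 ↔
      (q : relMod X) ∈ trivRel X := by
  rw [Submodule.Quotient.mk_eq_zero]
  constructor
  · intro h
    exact mem_of_one_tmul_mem' X.toExtension.algebraMap_surjective (relKer X) (trivRelKer X)
      (fun r hr n => ker_smul_mem_trivRel X r hr n) q h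
  · intro h
    exact ⟨(1 : B') ⊗ₜ ⟨q, h⟩, rfl⟩

end L2Gen

lemma f1_L2map_mk (q : relKer (RR P Q)) :
    (f1 P Q).L2map (Submodule.Quotient.mk ((1 : C) ⊗ₜ q)) =
      Submodule.Quotient.mk ((1 : C) ⊗ₜ (f1 P Q).relKerMap q) := by
  rw [PresHom.L2map_mk_tmul, map_one]

lemma f2_L2map_mk (q : relKer P) :
    (f2 P Q).L2map (Submodule.Quotient.mk ((1 : B) ⊗ₜ q)) =
      Submodule.Quotient.mk ((1 : C) ⊗ₜ (f2 P Q).relKerMap q) := by
  rw [PresHom.L2map_mk_tmul, map_one]

/-- (E2a) -/
lemma f1_L2map_surjective : Function.Surjective (f1 P Q).L2map := by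
  intro z
  obtain ⟨q, rfl⟩ := L2_exists_rep Q z
  obtain ⟨q', rfl⟩ := exists_relKer_lift P Q q
  exact ⟨Submodule.Quotient.mk ((1 : C) ⊗ₜ q'), f1_L2map_mk P Q q'⟩

/-- (K1) on `L₂` -/
lemma f1_f2_L2map (x : L2 P) : (f1 P Q).L2map ((f2 P Q).L2map x) = 0 := by
  obtain ⟨q, rfl⟩ := L2_exists_rep P x
  rw [f2_L2map_mk, f1_L2map_mk]
  have : (f1 P Q).relKerMap ((f2 P Q).relKerMap q) = 0 :=
    Subtype.ext (f1_f2_relModMap P Q q)
  rw [this, tmul_zero, Submodule.Quotient.mk_zero]

/-- (E2b) in the form used below -/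
lemma L2_exact {M : Type u} [AddCommGroup M] [Module C M] (φ : L2 (RR P Q) →ₗ[C] M)
    (hφ : ∀ x, φ ((f2 P Q).L2map x) = 0) (z : L2 (RR P Q)) (hz : (f1 P Q).L2map z = 0) :
    φ z = 0 := by
  obtain ⟨q, rfl⟩ := L2_exists_rep (RR P Q) z
  rw [f1_L2map_mk, L2_mk_eq_zero_iff, PresHom.relKerMap_coe] at hz
  have h1 := relKer_exact P Q q q.2 hz
  -- the submodule of relations killed by φ
  let W : Submodule (RR P Q).toExtension.Ring (relKer (RR P Q)) :=
    ((LinearMap.ker φ).restrictScalars (RR P Q).toExtension.Ring).comap (CotHom.rhoK (RR P Q))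
  have hW : trivRel (RR P Q) ⊔ Submodule.span (RR P Q).toExtension.Ring
      ((f2 P Q).relModMap '' (relKer P : Set (relMod P))) ≤ W.map (relKer (RR P Q)).subtype := by
    refine sup_le ?_ (Submodule.span_le.2 ?_)
    · intro x hx
      refine ⟨⟨x, trivRel_le_relKer _ hx⟩, ?_, rfl⟩
      change φ (Submodule.Quotient.mk ((1 : C) ⊗ₜ _)) = 0
      rw [(L2_mk_eq_zero_iff (RR P Q) _).2 hx, map_zero]
    · rintro _ ⟨p, hp, rfl⟩
      refine ⟨(f2 P Q).relKerMap ⟨p, hp⟩, ?_, rfl⟩
      change φ (Submodule.Quotient.mk ((1 : C) ⊗ₜ _)) = 0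
      rw [← f2_L2map_mk]
      exact hφ _
  obtain ⟨q0, hq0, hq0q⟩ := hW h1
  have : q0 = q := Subtype.ext hq0q
  rw [this] at hq0
  exact hq0

end Levels

end Groth.Agent.Helper9.CotNine
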