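import Mathlib
import Groth.Prelude.Def_CotT2
import Groth.Agent.Lib.Helper9.CotNine2

set_option autoImplicit false
set_option linter.unusedSectionVars false
universe u v w t

namespace Groth.Agent.Helper9.CotNine

open CotT TensorProduct MvPolynomial

section Cochains

variable {A B C : Type u} [CommRing A] [CommRing B] [CommRing C]
variable [Algebra A B] [Algebra B C] [Algebra A C] [IsScalarTower A B C]
variable {ι σ ι' σ' : Type u}
variable (P : Algebra.Presentation A B ι σ) (Q : Algebra.Presentation B C ι' σ')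
variable (M : Type u) [AddCommGroup M] [Module C M] [Module B M] [IsScalarTower B C M]

/-! ### (B-a) injectivity -/

lemma b0_inj {ω ω' : L0 Q →ₗ[C] M} (h : (f1 P Q).pull0 M ω = (f1 P Q).pull0 M ω') : ω = ω' := by
  refine Q.cotangentSpaceBasis.ext fun j => ?_
  rw [← f1_L0map_basis_inl P Q j]
  exact LinearMap.congr_fun h _

lemma b1_inj {ω ω' : L1 Q →ₗ[C] M} (h : (f1 P Q).pull1 M ω = (f1 P Q).pull1 M ω') : ω = ω' := by
  refine (L1basis Q).ext fun t => ?_
  rw [← f1_L1map_basis_inl P Q t]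
  exact LinearMap.congr_fun h _

lemma b2_inj {ω ω' : L2 Q →ₗ[C] M} (h : (f1 P Q).pull2 M ω = (f1 P Q).pull2 M ω') : ω = ω' := by
  refine LinearMap.ext fun z => ?_
  obtain ⟨y, rfl⟩ := f1_L2map_surjective P Q z
  exact LinearMap.congr_fun h y

/-! ### (B-c) composites vanish -/

lemma a0_b0 (ω : L0 Q →ₗ[C] M) : (f2 P Q).pull0 M ((f1 P Q).pull0 M ω) = 0 := by
  refine P.cotangentSpaceBasis.ext fun i => ?_
  rw [PresHom.pull0_apply, PresHom.pull0_apply, f2_L0map_basis, f1_L0map_basis_inr, map_zero]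
  rfl

lemma a1_b1 (ω : L1 Q →ₗ[C] M) : (f2 P Q).pull1 M ((f1 P Q).pull1 M ω) = 0 := by
  refine (L1basis P).ext fun s => ?_
  rw [PresHom.pull1_apply, PresHom.pull1_apply, f2_L1map_basis, f1_L1map_basis_inr, map_zero]
  rfl

lemma a2_b2 (ω : L2 Q →ₗ[C] M) : (f2 P Q).pull2 M ((f1 P Q).pull2 M ω) = 0 := by
  refine LinearMap.ext fun x => ?_
  rw [PresHom.pull2_apply, PresHom.pull2_apply, f1_f2_L2map, map_zero]
  rfl

/-! ### (B-b) factorization -/

lemma b0_factor (φ : L0 (RR P Q) →ₗ[C] M) (h : (f2 P Q).pull0 M φ = 0) :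
    ∃ ω, (f1 P Q).pull0 M ω = φ := by
  refine ⟨Q.cotangentSpaceBasis.constr C (fun j => φ ((RR P Q).cotangentSpaceBasis (Sum.inl j))), ?_⟩
  refine (RR P Q).cotangentSpaceBasis.ext fun k => ?_
  rcases k with j | i
  · rw [PresHom.pull0_apply, f1_L0map_basis_inl, Module.Basis.constr_basis]
  · rw [PresHom.pull0_apply, f1_L0map_basis_inr, map_zero, ← f2_L0map_basis, ← PresHom.pull0_apply, h]
    rfl

lemma b1_factor (φ : L1 (RR P Q) →ₗ[C] M) (h : (f2 P Q).pull1 M φ = 0) :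
    ∃ ω, (f1 P Q).pull1 M ω = φ := by
  refine ⟨(L1basis Q).constr C (fun t => φ (L1basis (RR P Q) (Sum.inl t))), ?_⟩
  refine (L1basis (RR P Q)).ext fun k => ?_
  rcases k with t | s
  · rw [PresHom.pull1_apply, f1_L1map_basis_inl, Module.Basis.constr_basis]
  · rw [PresHom.pull1_apply, f1_L1map_basis_inr, map_zero, ← f2_L1map_basis, ← PresHom.pull1_apply, h]
    rfl

lemma b2_factor (φ : L2 (RR P Q) →ₗ[C] M) (h : (f2 P Q).pull2 M φ = 0) :
    ∃ ω, (f1 P Q).pull2 M ω = φ := by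
  have hφ : ∀ x, φ ((f2 P Q).L2map x) = 0 := fun x => by
    rw [← PresHom.pull2_apply, h]; rfl
  obtain ⟨ω, hω⟩ := CotHom.exists_desc (R := C) (c := PresHom.linOfSemilinear (L2 Q) (f1 P Q).L2map)
    (f1_L2map_surjective P Q) φ (fun z hz => L2_exact P Q φ hφ z hz)
  exact ⟨ω, LinearMap.ext fun z => hω z⟩


/-! ### (B-d) additive sections -/

lemma exists_s0 : ∃ s : (L0 P →ₗ[B] M) →+ (L0 (RR P Q) →ₗ[C] M),
    ∀ ψ, (f2 P Q).pull0 M (s ψ) = ψ := by
  refine ⟨AddMonoidHom.mk' (fun ψ => (RR P Q).cotangentSpaceBasis.constr C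
    (Sum.elim (fun _ => (0 : M)) (fun i => ψ (P.cotangentSpaceBasis i)))) ?_, ?_⟩
  · intro ψ ψ'
    rw [← map_add]
    congr 1
    funext k
    rcases k with j | i
    · simp
    · simp
  · intro ψ
    refine P.cotangentSpaceBasis.ext fun i => ?_
    rw [PresHom.pull0_apply, f2_L0map_basis, AddMonoidHom.mk'_apply, Module.Basis.constr_basis,
      Sum.elim_inr]

lemma exists_s1 : ∃ s : (L1 P →ₗ[B] M) →+ (L1 (RR P Q) →ₗ[C] M),
    ∀ ψ, (f2 P Q).pull1 M (s ψ) = ψ := by
  refine ⟨AddMonoidHom.mk' (fun ψ => (L1basis (RR P Q)).constr C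
    (Sum.elim (fun _ => (0 : M)) (fun i => ψ (L1basis P i)))) ?_, ?_⟩
  · intro ψ ψ'
    rw [← map_add]
    congr 1
    funext k
    rcases k with j | i
    · simp
    · simp
  · intro ψ
    refine (L1basis P).ext fun i => ?_
    rw [PresHom.pull1_apply, f2_L1map_basis, AddMonoidHom.mk'_apply, Module.Basis.constr_basis,
      Sum.elim_inr]

end Cochains

end Groth.Agent.Helper9.CotNine
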