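import Mathlib
import Groth.Prelude.Def_CotT2
import Groth.Agent.Lib.Helper9.CotNine3

set_option autoImplicit false
set_option linter.unusedSectionVars false
universe u v w t u' v' w' t' m

namespace Groth.Agent.Helper9.CotNine

open CotT TensorProduct MvPolynomial

lemma mem_of_mkQ_eq_zero {B : Type u} [Ring B] {X : Type v} [AddCommGroup X] [Module B X]
    (W : Submodule B X) (x : X) (h : W.mkQ x = 0) : x ∈ W :=
  (Submodule.Quotient.mk_eq_zero W).1 h

lemma mkQ_eq_zero_of_mem {B : Type u} [Ring B] {X : Type v} [AddCommGroup X] [Module B X]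
    (W : Submodule B X) (x : X) (h : x ∈ W) : W.mkQ x = 0 :=
  (Submodule.Quotient.mk_eq_zero W).2 h

lemma mkQ_eq_mkQ_of_sub_mem {B : Type u} [Ring B] {X : Type v} [AddCommGroup X] [Module B X]
    (W : Submodule B X) (x y : X) (h : x - y ∈ W) : W.mkQ x = W.mkQ y :=
  (Submodule.Quotient.eq W).2 h

lemma exists_addHom_lift {B : Type u} [Ring B] {X : Type v} [AddCommGroup X] [Module B X]
    (W : Submodule B X) {Y : Type w} [AddCommGroup Y] (f : X →+ Y) (hf : ∀ x ∈ W, f x = 0) :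
    ∃ g : X ⧸ W →+ Y, ∀ x, g (W.mkQ x) = f x :=
  ⟨QuotientAddGroup.lift W.toAddSubgroup f (fun x hx => hf x hx), fun _ => rfl⟩

lemma exact_of_surj {X X' Y Y' Z : Type*} [Zero Z] (f : X → Y) (g : Y → Z) (p : Y' → Y) (q : X' → X)
    (hp : Function.Surjective p) (hq : Function.Surjective q)
    (h1 : ∀ y', g (p y') = 0 → ∃ x, f x = p y') (h2 : ∀ x', g (f (q x')) = 0) :
    Function.Exact f g := by
  intro y
  obtain ⟨y', rfl⟩ := hp y
  constructor
  · exact h1 y'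
  · rintro ⟨x, hx⟩
    obtain ⟨x', rfl⟩ := hq x
    rw [← hx]
    exact h2 x'

section GenT1

variable {A : Type u} {B : Type v} {ι : Type w} {σ : Type t}
variable [CommRing A] [CommRing B] [Algebra A B]
variable (P : Algebra.Presentation A B ι σ)
variable (M : Type m) [AddCommGroup M] [Module B M]

/-- the class of a 1-cocycle -/
noncomputable def toT1 : cocycles1 P M →ₗ[B] T1 P M := (coboundaries1 P M).mkQ

lemma toT1_surjective : Function.Surjective (toT1 P M) := (coboundaries1 P M).mkQ_surjective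

lemma toT2_surjective : Function.Surjective (toT2 P M) :=
  (LinearMap.range (d2Star P M)).mkQ_surjective

lemma toT1_eq_zero (c : cocycles1 P M) (h : toT1 P M c = 0) : ∃ ψ, d1Star P M ψ = c.1 :=
  mem_of_mkQ_eq_zero (coboundaries1 P M) c h

lemma toT1_eq_zero_of (c : cocycles1 P M) (ψ : L0 P →ₗ[B] M) (h : d1Star P M ψ = c.1) :
    toT1 P M c = 0 :=
  mkQ_eq_zero_of_mem (coboundaries1 P M) c ⟨ψ, h⟩

lemma toT1_eq_of (c c' : cocycles1 P M) (ψ : L0 P →ₗ[B] M) (h : d1Star P M ψ = c.1 - c'.1) :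
    toT1 P M c = toT1 P M c' :=
  mkQ_eq_mkQ_of_sub_mem (coboundaries1 P M) c c' ⟨ψ, h⟩

lemma toT2_eq_zero (φ : L2 P →ₗ[B] M) (h : toT2 P M φ = 0) : ∃ c, d2Star P M c = φ :=
  LinearMap.mem_range.1 (mem_of_mkQ_eq_zero (LinearMap.range (d2Star P M)) φ h)

lemma toT2_eq_zero_of (φ : L2 P →ₗ[B] M) (c : L1 P →ₗ[B] M) (h : d2Star P M c = φ) :
    toT2 P M φ = 0 :=
  mkQ_eq_zero_of_mem (LinearMap.range (d2Star P M)) φ ⟨c, h⟩

lemma toT2_eq_of (φ φ' : L2 P →ₗ[B] M) (c : L1 P →ₗ[B] M) (h : d2Star P M c = φ - φ') :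
    toT2 P M φ = toT2 P M φ' :=
  mkQ_eq_mkQ_of_sub_mem (LinearMap.range (d2Star P M)) φ φ' ⟨c, h⟩

end GenT1

section GenT

variable {A : Type u} {B : Type v} {ι : Type w} {σ : Type t}
variable {A' : Type u'} {B' : Type v'} {ι' : Type w'} {σ' : Type t'}
variable [CommRing A] [CommRing B] [Algebra A B] [CommRing A'] [CommRing B'] [Algebra A' B']
variable [Algebra A A'] [Algebra B B'] [Algebra A B'] [IsScalarTower A A' B'] [IsScalarTower A B B']
variable {P : Algebra.Presentation A B ι σ} {P' : Algebra.Presentation A' B' ι' σ'}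
variable (M' : Type m) [AddCommGroup M'] [Module B' M'] [Module B M'] [IsScalarTower B B' M']

lemma T1pull_mk (h : PresHom P P') (c : cocycles1 P' M') :
    h.T1pull M' (toT1 P' M' c) = toT1 P M' (h.cocycles1Pull M' c) :=
  CotHom.mapQ_restrict_mk _ _ _ _ _

lemma T0pull_coe (h : PresHom P P') (x : T0 P' M') :
    ((h.T0pull M' x : T0 P M') : L0 P →ₗ[B] M') = h.pull0 M' (x : L0 P' →ₗ[B'] M') := rfl

end GenT

section Chase

variable {A B C : Type u} [CommRing A] [CommRing B] [CommRing C]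
variable [Algebra A B] [Algebra B C] [Algebra A C] [IsScalarTower A B C]
variable {ι σ ι' σ' : Type u}
variable (P : Algebra.Presentation A B ι σ) (Q : Algebra.Presentation B C ι' σ')
variable (M : Type u) [AddCommGroup M] [Module C M] [Module B M] [IsScalarTower B C M]

theorem T0_injective : Function.Injective ((f1 P Q).T0pull M) := by
  intro x y h
  apply Subtype.ext
  apply b0_inj P Q M
  exact congrArg Subtype.val h

/-- a cochain of `Q` whose pullback is a cocycle is a cocycle (degree 0) -/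
lemma mem_T0_of_pull (ω : L0 Q →ₗ[C] M) (h : d1Star (RR P Q) M ((f1 P Q).pull0 M ω) = 0) :
    d1Star Q M ω = 0 := by
  apply b1_inj P Q M
  rw [PresHom.pull1_d1Star, h, map_zero]

/-- degree 1 -/
lemma mem_Z1_of_pull (χ : L1 Q →ₗ[C] M) (h : d2Star (RR P Q) M ((f1 P Q).pull1 M χ) = 0) :
    d2Star Q M χ = 0 := by
  apply b2_inj P Q M
  rw [PresHom.pull2_d2Star, h, map_zero]

theorem T0_exact : Function.Exact ((f1 P Q).T0pull M) ((f2 P Q).T0pull M) := by
  intro y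
  constructor
  · intro hy
    have h1 : (f2 P Q).pull0 M y.1 = 0 := congrArg Subtype.val hy
    obtain ⟨ω, hω⟩ := b0_factor P Q M y.1 h1
    have h2 : d1Star Q M ω = 0 := mem_T0_of_pull P Q M ω (by rw [hω]; exact y.2)
    exact ⟨⟨ω, h2⟩, Subtype.ext hω⟩
  · rintro ⟨x, rfl⟩
    exact Subtype.ext (a0_b0 P Q M x.1)

lemma dd_zero {κ τ : Type u} {A' B' : Type u} [CommRing A'] [CommRing B'] [Algebra A' B']
    (Y : Algebra.Presentation A' B' κ τ) (N : Type u) [AddCommGroup N] [Module B' N]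
    (ψ : L0 Y →ₗ[B'] N) : d2Star Y N (d1Star Y N ψ) = 0 :=
  LinearMap.congr_fun (d2Star_comp_d1Star Y N) ψ

/-! ### exactness at `T²(R)` -/

lemma T2_cochain (s1 : (L1 P →ₗ[B] M) →+ (L1 (RR P Q) →ₗ[C] M))
    (hs1 : ∀ ψ, (f2 P Q).pull1 M (s1 ψ) = ψ)
    (φ : L2 (RR P Q) →ₗ[C] M) (c : L1 P →ₗ[B] M) (hc : d2Star P M c = (f2 P Q).pull2 M φ) :
    ∃ ω : L2 Q →ₗ[C] M, (f1 P Q).pull2 M ω = φ - d2Star (RR P Q) M (s1 c) := by
  have h1 : (f2 P Q).pull2 M (φ - d2Star (RR P Q) M (s1 c)) = 0 := by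
    rw [map_sub, PresHom.pull2_d2Star, hs1, hc, sub_self]
  exact b2_factor P Q M _ h1

lemma T2_exact_aux1 (φ : L2 (RR P Q) →ₗ[C] M)
    (hy : (f2 P Q).T2pull M (toT2 (RR P Q) M φ) = 0) :
    ∃ x : T2 Q M, (f1 P Q).T2pull M x = toT2 (RR P Q) M φ := by
  have h0 : ∃ c, d2Star P M c = (f2 P Q).pull2 M φ :=
    toT2_eq_zero P M ((f2 P Q).pull2 M φ) ((CotHom.T2pull_mk M (f2 P Q) φ).symm.trans hy)
  clear hy
  have hs := exists_s1 P Q M
  obtain ⟨s1, hs1⟩ := hs
  obtain ⟨c, hc⟩ := h0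
  have h2 := T2_cochain P Q M s1 hs1 φ c hc
  obtain ⟨ω, hω⟩ := h2
  refine ⟨toT2 Q M ω, (CotHom.T2pull_mk M (f1 P Q) ω).trans ?_⟩
  refine toT2_eq_of (RR P Q) M ((f1 P Q).pull2 M ω) φ (-(s1 c)) ?_
  rw [hω, map_neg]; abel

lemma T2_exact_aux2 (ω : L2 Q →ₗ[C] M) :
    (f2 P Q).T2pull M ((f1 P Q).T2pull M (toT2 Q M ω)) = 0 := by
  refine (congrArg ((f2 P Q).T2pull M) (CotHom.T2pull_mk M (f1 P Q) ω)).trans ?_
  refine (CotHom.T2pull_mk M (f2 P Q) ((f1 P Q).pull2 M ω)).trans ?_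
  refine toT2_eq_zero_of P M _ 0 ?_
  rw [a2_b2, map_zero]

theorem T2_exact : Function.Exact ((f1 P Q).T2pull M) ((f2 P Q).T2pull M) :=
  exact_of_surj _ _ (toT2 (RR P Q) M) (toT2 Q M) (toT2_surjective (RR P Q) M) (toT2_surjective Q M)
    (fun φ hy => T2_exact_aux1 P Q M φ hy) (fun ω => T2_exact_aux2 P Q M ω)

end Chase

end Groth.Agent.Helper9.CotNine
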