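import Mathlib
import Groth.Prelude.Def_CotT2
import Groth.Agent.Lib.Helper9.CotNine4
import Groth.Agent.Lib.Helper9.ChaseGen

set_option autoImplicit false
set_option linter.unusedSectionVars false
universe u v w t u' v' w' t' m

namespace Groth.Agent.Helper9.CotNine

open CotT TensorProduct MvPolynomial

section Chase

variable {A B C : Type u} [CommRing A] [CommRing B] [CommRing C]
variable [Algebra A B] [Algebra B C] [Algebra A C] [IsScalarTower A B C]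
variable {ι σ ι' σ' : Type u}
variable (P : Algebra.Presentation A B ι σ) (Q : Algebra.Presentation B C ι' σ')
variable (M : Type u) [AddCommGroup M] [Module C M] [Module B M] [IsScalarTower B C M]

/-! ### cochain-level decompositions -/

lemma Y0_decomp (s0 : (L0 P →ₗ[B] M) →+ (L0 (RR P Q) →ₗ[C] M))
    (hs0 : ∀ ψ, (f2 P Q).pull0 M (s0 ψ) = ψ) (θ : L0 (RR P Q) →ₗ[C] M) :
    ∃ ω : L0 Q →ₗ[C] M, (f1 P Q).pull0 M ω = s0 ((f2 P Q).pull0 M θ) - θ := by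
  refine b0_factor P Q M _ ?_
  rw [map_sub, hs0, sub_self]

lemma Y1_decomp (s1 : (L1 P →ₗ[B] M) →+ (L1 (RR P Q) →ₗ[C] M))
    (hs1 : ∀ ψ, (f2 P Q).pull1 M (s1 ψ) = ψ) (e : L1 (RR P Q) →ₗ[C] M) :
    ∃ χ : L1 Q →ₗ[C] M, (f1 P Q).pull1 M χ = s1 ((f2 P Q).pull1 M e) - e := by
  refine b1_factor P Q M _ ?_
  rw [map_sub, hs1, sub_self]

lemma d1_s0 (s0 : (L0 P →ₗ[B] M) →+ (L0 (RR P Q) →ₗ[C] M))
    (hs0 : ∀ ψ, (f2 P Q).pull0 M (s0 ψ) = ψ) (θ : L0 (RR P Q) →ₗ[C] M) :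
    ∃ ω : L0 Q →ₗ[C] M, d1Star (RR P Q) M (s0 ((f2 P Q).pull0 M θ)) =
      d1Star (RR P Q) M θ + (f1 P Q).pull1 M (d1Star Q M ω) := by
  obtain ⟨ω, hω⟩ := Y0_decomp P Q M s0 hs0 θ
  refine ⟨ω, ?_⟩
  rw [PresHom.pull1_d1Star, hω, map_sub]
  abel

lemma d2_s1 (s1 : (L1 P →ₗ[B] M) →+ (L1 (RR P Q) →ₗ[C] M))
    (hs1 : ∀ ψ, (f2 P Q).pull1 M (s1 ψ) = ψ) (e : L1 (RR P Q) →ₗ[C] M) :
    ∃ χ : L1 Q →ₗ[C] M, d2Star (RR P Q) M (s1 ((f2 P Q).pull1 M e)) =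
      d2Star (RR P Q) M e + (f1 P Q).pull2 M (d2Star Q M χ) := by
  obtain ⟨χ, hχ⟩ := Y1_decomp P Q M s1 hs1 e
  refine ⟨χ, ?_⟩
  have h1 : s1 ((f2 P Q).pull1 M e) = e + (f1 P Q).pull1 M χ := by rw [hχ]; abel
  exact (congrArg (d2Star (RR P Q) M) h1).trans
    ((map_add (d2Star (RR P Q) M) e ((f1 P Q).pull1 M χ)).trans
      (congrArg (fun z => d2Star (RR P Q) M e + z) (PresHom.pull2_d2Star (f1 P Q) M χ).symm))

/-! ### exactness at `T¹(R)` -/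

lemma T1_cochain (s0 : (L0 P →ₗ[B] M) →+ (L0 (RR P Q) →ₗ[C] M))
    (hs0 : ∀ ψ, (f2 P Q).pull0 M (s0 ψ) = ψ)
    (e : cocycles1 (RR P Q) M) (ψ : L0 P →ₗ[B] M) (hψ : d1Star P M ψ = (f2 P Q).pull1 M e.1) :
    ∃ χ : cocycles1 Q M, (f1 P Q).pull1 M χ.1 = e.1 - d1Star (RR P Q) M (s0 ψ) := by
  have h1 : (f2 P Q).pull1 M (e.1 - d1Star (RR P Q) M (s0 ψ)) = 0 := by
    rw [map_sub, PresHom.pull1_d1Star, hs0, hψ, sub_self]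
  obtain ⟨χ, hχ⟩ := b1_factor P Q M _ h1
  have h2 : d2Star Q M χ = 0 := by
    refine mem_Z1_of_pull P Q M χ ?_
    rw [hχ, map_sub, dd_zero, sub_zero]
    exact e.2
  exact ⟨⟨χ, h2⟩, hχ⟩

lemma T1_exact_aux1 (e : cocycles1 (RR P Q) M)
    (hy : (f2 P Q).T1pull M (toT1 (RR P Q) M e) = 0) :
    ∃ x : T1 Q M, (f1 P Q).T1pull M x = toT1 (RR P Q) M e := by
  have h0 : ∃ ψ, d1Star P M ψ = ((f2 P Q).cocycles1Pull M e).1 :=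
    toT1_eq_zero P M ((f2 P Q).cocycles1Pull M e) ((T1pull_mk M (f2 P Q) e).symm.trans hy)
  clear hy
  have hs := exists_s0 P Q M
  obtain ⟨s0, hs0⟩ := hs
  obtain ⟨ψ, hψ⟩ := h0
  have h2 := T1_cochain P Q M s0 hs0 e ψ hψ
  obtain ⟨χ, hχ⟩ := h2
  refine ⟨toT1 Q M χ, (T1pull_mk M (f1 P Q) χ).trans ?_⟩
  refine toT1_eq_of (RR P Q) M ((f1 P Q).cocycles1Pull M χ) e (-(s0 ψ)) ?_
  rw [PresHom.cocycles1Pull_coe, hχ, map_neg]; abel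

lemma T1_exact_aux2 (χ : cocycles1 Q M) :
    (f2 P Q).T1pull M ((f1 P Q).T1pull M (toT1 Q M χ)) = 0 := by
  refine (congrArg ((f2 P Q).T1pull M) (T1pull_mk M (f1 P Q) χ)).trans ?_
  refine (T1pull_mk M (f2 P Q) ((f1 P Q).cocycles1Pull M χ)).trans ?_
  refine toT1_eq_zero_of P M _ 0 ?_
  rw [PresHom.cocycles1Pull_coe, PresHom.cocycles1Pull_coe, a1_b1, map_zero]

theorem T1_exact : Function.Exact ((f1 P Q).T1pull M) ((f2 P Q).T1pull M) :=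
  exact_of_surj _ _ (toT1 (RR P Q) M) (toT1 Q M) (toT1_surjective (RR P Q) M) (toT1_surjective Q M)
    (fun e hy => T1_exact_aux1 P Q M e hy) (fun χ => T1_exact_aux2 P Q M χ)

/-! ### the connecting map `δ₀` -/

lemma exists_g0 (s0 : (L0 P →ₗ[B] M) →+ (L0 (RR P Q) →ₗ[C] M))
    (hs0 : ∀ ψ, (f2 P Q).pull0 M (s0 ψ) = ψ) (ψ : T0 P M) :
    ∃ χ : cocycles1 Q M, (f1 P Q).pull1 M χ.1 = d1Star (RR P Q) M (s0 ψ.1) := by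
  have h1 : (f2 P Q).pull1 M (d1Star (RR P Q) M (s0 ψ.1)) = 0 := by
    rw [PresHom.pull1_d1Star, hs0]
    exact ψ.2
  obtain ⟨χ, hχ⟩ := b1_factor P Q M _ h1
  have h2 : d2Star Q M χ = 0 := by
    refine mem_Z1_of_pull P Q M χ ?_
    rw [hχ, dd_zero]
  exact ⟨⟨χ, h2⟩, hχ⟩

section D0

variable (s0 : (L0 P →ₗ[B] M) →+ (L0 (RR P Q) →ₗ[C] M))
  (hs0 : ∀ ψ, (f2 P Q).pull0 M (s0 ψ) = ψ)
  (g0 : T0 P M → cocycles1 Q M)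
  (hg0 : ∀ ψ : T0 P M, (f1 P Q).pull1 M (g0 ψ).1 = d1Star (RR P Q) M (s0 ψ.1))

include hg0 in
lemma g0_add (ψ ψ' : T0 P M) : g0 (ψ + ψ') = g0 ψ + g0 ψ' := by
  apply Subtype.ext
  apply b1_inj P Q M
  rw [hg0, Submodule.coe_add, map_add, Submodule.coe_add, map_add, map_add, hg0, hg0]

include hs0 hg0 in
lemma d0_aux1 (y : T0 (RR P Q) M) : toT1 Q M (g0 ((f2 P Q).T0pull M y)) = 0 := by
  obtain ⟨ω, hω⟩ := d1_s0 P Q M s0 hs0 y.1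
  refine toT1_eq_zero_of Q M _ ω ?_
  apply b1_inj P Q M
  rw [hg0, T0pull_coe, hω, show d1Star (RR P Q) M y.1 = 0 from y.2, zero_add]

include hs0 hg0 in
lemma d0_aux2 (ψ : T0 P M) (h : toT1 Q M (g0 ψ) = 0) : ∃ y, (f2 P Q).T0pull M y = ψ := by
  obtain ⟨ω, hω⟩ := toT1_eq_zero Q M (g0 ψ) h
  have h1 : d1Star (RR P Q) M (s0 ψ.1 - (f1 P Q).pull0 M ω) = 0 := by
    rw [map_sub, ← PresHom.pull1_d1Star, hω, hg0, sub_self]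
  refine ⟨⟨s0 ψ.1 - (f1 P Q).pull0 M ω, h1⟩, Subtype.ext ?_⟩
  rw [T0pull_coe]
  change (f2 P Q).pull0 M (s0 ψ.1 - (f1 P Q).pull0 M ω) = ψ.1
  rw [map_sub, hs0, a0_b0, sub_zero]

include hg0 in
lemma d0_aux3 (ψ : T0 P M) : (f1 P Q).T1pull M (toT1 Q M (g0 ψ)) = 0 := by
  refine (T1pull_mk M (f1 P Q) (g0 ψ)).trans ?_
  refine toT1_eq_zero_of (RR P Q) M _ (s0 ψ.1) ?_
  rw [PresHom.cocycles1Pull_coe, hg0]

include hs0 hg0 in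
lemma d0_aux4 (χ : cocycles1 Q M) (h : (f1 P Q).T1pull M (toT1 Q M χ) = 0) :
    ∃ ψ : T0 P M, toT1 Q M (g0 ψ) = toT1 Q M χ := by
  have h0 : ∃ θ, d1Star (RR P Q) M θ = ((f1 P Q).cocycles1Pull M χ).1 :=
    toT1_eq_zero (RR P Q) M ((f1 P Q).cocycles1Pull M χ) ((T1pull_mk M (f1 P Q) χ).symm.trans h)
  clear h
  obtain ⟨θ, hθ⟩ := h0
  rw [PresHom.cocycles1Pull_coe] at hθ
  have h1 : d1Star P M ((f2 P Q).pull0 M θ) = 0 := by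
    rw [← PresHom.pull1_d1Star, hθ, a1_b1]
  obtain ⟨ω, hω⟩ := d1_s0 P Q M s0 hs0 θ
  refine ⟨⟨(f2 P Q).pull0 M θ, h1⟩, ?_⟩
  refine toT1_eq_of Q M _ _ ω ?_
  apply b1_inj P Q M
  rw [map_sub, hg0]
  change _ = d1Star (RR P Q) M (s0 ((f2 P Q).pull0 M θ)) - _
  rw [hω, hθ]; abel

end D0

theorem exists_delta0 : ∃ δ₀ : T0 P M →+ T1 Q M,
    Function.Exact ((f2 P Q).T0pull M) δ₀ ∧ Function.Exact δ₀ ((f1 P Q).T1pull M) := by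
  obtain ⟨s0, hs0⟩ := exists_s0 P Q M
  choose g0 hg0 using exists_g0 P Q M s0 hs0
  refine ⟨(toT1 Q M).toAddMonoidHom.comp (AddMonoidHom.mk' g0 (g0_add P Q M s0 g0 hg0)), ?_, ?_⟩
  · exact exact_of_surj _ _ id id Function.surjective_id Function.surjective_id
      (fun ψ h => d0_aux2 P Q M s0 hs0 g0 hg0 ψ h) (fun y => d0_aux1 P Q M s0 hs0 g0 hg0 y)
  · exact exact_of_surj _ _ (toT1 Q M) id (toT1_surjective Q M) Function.surjective_id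
      (fun χ h => d0_aux4 P Q M s0 hs0 g0 hg0 χ h) (fun ψ => d0_aux3 P Q M s0 g0 hg0 ψ)

/-! ### the connecting map `δ₁` -/

section D1

variable (s0 : (L0 P →ₗ[B] M) →+ (L0 (RR P Q) →ₗ[C] M))
  (hs0 : ∀ ψ, (f2 P Q).pull0 M (s0 ψ) = ψ)
  (s1 : (L1 P →ₗ[B] M) →+ (L1 (RR P Q) →ₗ[C] M))
  (hs1 : ∀ ψ, (f2 P Q).pull1 M (s1 ψ) = ψ)

/-- the cochain level data -/
@[reducible] noncomputable def chaseD : ChaseD (L1 Q →ₗ[C] M) (L2 Q →ₗ[C] M) (L0 (RR P Q) →ₗ[C] M)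
    (L1 (RR P Q) →ₗ[C] M) (L2 (RR P Q) →ₗ[C] M) (L0 P →ₗ[B] M) (L1 P →ₗ[B] M) (L2 P →ₗ[B] M) where
  dX := d2Star Q M
  dY1 := d1Star (RR P Q) M
  dY := d2Star (RR P Q) M
  dZ1 := d1Star P M
  dZ := d2Star P M
  b1 := (f1 P Q).pull1 M
  b2 := (f1 P Q).pull2 M
  a0 := (f2 P Q).pull0 M
  a1 := (f2 P Q).pull1 M
  a2 := (f2 P Q).pull2 M
  s0 := s0
  s1 := s1
  dY_add := map_add (d2Star (RR P Q) M)
  b2_add := map_add ((f1 P Q).pull2 M)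
  a1_add := map_add ((f2 P Q).pull1 M)
  s1_add := map_add s1
  b2_inj := fun _ _ h => b2_inj P Q M h
  b2_dX := fun χ => PresHom.pull2_d2Star (f1 P Q) M χ
  a2_dY := fun e => PresHom.pull2_d2Star (f2 P Q) M e
  a1_dY1 := fun θ => PresHom.pull1_d1Star (f2 P Q) M θ
  dY_dY1 := fun θ => dd_zero (RR P Q) M θ
  a1_s1 := hs1
  a0_s0 := hs0
  a1_b1 := a1_b1 P Q M
  a2_b2 := a2_b2 P Q M
  b1_factor := b1_factor P Q M
  b2_factor := b2_factor P Q M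

variable (g1 : cocycles1 P M → (L2 Q →ₗ[C] M))
  (hg1 : ∀ c : cocycles1 P M, (f1 P Q).pull2 M (g1 c) = d2Star (RR P Q) M (s1 c.1))

include hs0 hs1 in
lemma exists_g1 (c : cocycles1 P M) :
    ∃ ω : L2 Q →ₗ[C] M, (f1 P Q).pull2 M ω = d2Star (RR P Q) M (s1 c.1) :=
  (chaseD P Q M s0 hs0 s1 hs1).exists_g c.1 c.2

include hs0 hs1 hg1 in
lemma g1_add (c c' : cocycles1 P M) : g1 (c + c') = g1 c + g1 c' :=
  (chaseD P Q M s0 hs0 s1 hs1).g_add c.1 c'.1 (g1 c) (g1 c') (g1 (c + c')) (hg1 c) (hg1 c')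
    (hg1 (c + c'))

include hs0 hs1 hg1 in
lemma d1_aux0 (c : cocycles1 P M) (hc : c ∈ coboundaries1 P M) : toT2 Q M (g1 c) = 0 := by
  obtain ⟨ψ, hψ⟩ := hc
  obtain ⟨χ, hχ⟩ := (chaseD P Q M s0 hs0 s1 hs1).aux0 c.1 (g1 c) (hg1 c) ψ hψ
  exact toT2_eq_zero_of Q M (g1 c) χ hχ

include hs0 hs1 hg1 in
lemma d1_aux1 (e : cocycles1 (RR P Q) M) : toT2 Q M (g1 ((f2 P Q).cocycles1Pull M e)) = 0 := by
  obtain ⟨χ, hχ⟩ := (chaseD P Q M s0 hs0 s1 hs1).aux1 e.1 e.2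
    (g1 ((f2 P Q).cocycles1Pull M e)) (hg1 ((f2 P Q).cocycles1Pull M e))
  exact toT2_eq_zero_of Q M (g1 ((f2 P Q).cocycles1Pull M e)) χ hχ

include hs0 hs1 hg1 in
lemma d1_aux2 (c : cocycles1 P M) (h : toT2 Q M (g1 c) = 0) :
    ∃ y : T1 (RR P Q) M, (f2 P Q).T1pull M y = toT1 P M c := by
  have h0 := toT2_eq_zero Q M (g1 c) h
  clear h
  obtain ⟨χ, hχ⟩ := h0
  obtain ⟨h1, h2⟩ := (chaseD P Q M s0 hs0 s1 hs1).aux2 c.1 (g1 c) (hg1 c) χ hχ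
  refine ⟨toT1 (RR P Q) M ⟨s1 c.1 - (f1 P Q).pull1 M χ, h1⟩, ?_⟩
  refine (T1pull_mk M (f2 P Q) _).trans ?_
  exact congrArg (toT1 P M) (Subtype.ext h2)

include hg1 in
lemma d1_aux3 (c : cocycles1 P M) : (f1 P Q).T2pull M (toT2 Q M (g1 c)) = 0 := by
  refine (CotHom.T2pull_mk M (f1 P Q) (g1 c)).trans ?_
  exact toT2_eq_zero_of (RR P Q) M _ (s1 c.1) (hg1 c).symm

include hs0 hs1 hg1 in
lemma d1_aux4 (ω : L2 Q →ₗ[C] M) (h : (f1 P Q).T2pull M (toT2 Q M ω) = 0) :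
    ∃ c : cocycles1 P M, toT2 Q M (g1 c) = toT2 Q M ω := by
  have h0 : ∃ e, d2Star (RR P Q) M e = (f1 P Q).pull2 M ω :=
    toT2_eq_zero (RR P Q) M ((f1 P Q).pull2 M ω) ((CotHom.T2pull_mk M (f1 P Q) ω).symm.trans h)
  clear h
  obtain ⟨e, he⟩ := h0
  obtain ⟨h1, h2⟩ := (chaseD P Q M s0 hs0 s1 hs1).aux4 ω e he
  obtain ⟨χ, hχ⟩ := h2 (g1 ⟨(f2 P Q).pull1 M e, h1⟩) (hg1 ⟨(f2 P Q).pull1 M e, h1⟩)
  exact ⟨⟨(f2 P Q).pull1 M e, h1⟩, toT2_eq_of Q M _ _ χ hχ⟩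

end D1

lemma exists_addHom_lift' {B' : Type*} [Ring B'] {X : Type*} [AddCommGroup X] [Module B' X]
    (W : Submodule B' X) {X2 Y : Type*} [AddCommGroup X2] [AddCommGroup Y] (g : X → X2)
    (hg : ∀ x y, g (x + y) = g x + g y) (π : X2 → Y) (hπ : ∀ x y, π (x + y) = π x + π y)
    (h : ∀ x ∈ W, π (g x) = 0) : ∃ δ : X ⧸ W →+ Y, ∀ x, δ (W.mkQ x) = π (g x) :=
  ⟨QuotientAddGroup.lift W.toAddSubgroup ((AddMonoidHom.mk' π hπ).comp (AddMonoidHom.mk' g hg))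
    (fun x hx => h x hx), fun _ => rfl⟩

lemma exists_delta1_map (g1 : cocycles1 P M → (L2 Q →ₗ[C] M))
    (hadd : ∀ c c', g1 (c + c') = g1 c + g1 c')
    (hzero : ∀ c ∈ coboundaries1 P M, toT2 Q M (g1 c) = 0) :
    ∃ δ₁ : T1 P M →+ T2 Q M, ∀ c, δ₁ (toT1 P M c) = toT2 Q M (g1 c) :=
  exists_addHom_lift' (coboundaries1 P M) g1 hadd (toT2 Q M) (map_add (toT2 Q M)) hzero

section
variable (s0 : (L0 P →ₗ[B] M) →+ (L0 (RR P Q) →ₗ[C] M))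
  (hs0 : ∀ ψ, (f2 P Q).pull0 M (s0 ψ) = ψ)
  (s1 : (L1 P →ₗ[B] M) →+ (L1 (RR P Q) →ₗ[C] M))
  (hs1 : ∀ ψ, (f2 P Q).pull1 M (s1 ψ) = ψ)
  (g1 : cocycles1 P M → (L2 Q →ₗ[C] M))
  (hg1 : ∀ c : cocycles1 P M, (f1 P Q).pull2 M (g1 c) = d2Star (RR P Q) M (s1 c.1))
  (δ₁ : T1 P M →+ T2 Q M) (hδ' : ∀ c, δ₁ (toT1 P M c) = toT2 Q M (g1 c))

include hs0 hs1 hg1 hδ' in
lemma delta1_exact1 : Function.Exact ((f2 P Q).T1pull M) δ₁ :=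
  exact_of_surj _ _ (toT1 P M) (toT1 (RR P Q) M) (toT1_surjective P M)
      (toT1_surjective (RR P Q) M)
      (fun c h => d1_aux2 P Q M s0 hs0 s1 hs1 g1 hg1 c ((hδ' c).symm.trans h))
      (fun e => (congrArg δ₁ (T1pull_mk M (f2 P Q) e)).trans
        ((hδ' _).trans (d1_aux1 P Q M s0 hs0 s1 hs1 g1 hg1 e)))

include hs0 hs1 hg1 hδ' in
lemma delta1_exact2 : Function.Exact δ₁ ((f1 P Q).T2pull M) :=
  exact_of_surj _ _ (toT2 Q M) (toT1 P M) (toT2_surjective Q M) (toT1_surjective P M)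
      (fun ω h => by
        obtain ⟨c, hc⟩ := d1_aux4 P Q M s0 hs0 s1 hs1 g1 hg1 ω h
        exact ⟨toT1 P M c, (hδ' c).trans hc⟩)
      (fun c => (congrArg ((f1 P Q).T2pull M) (hδ' c)).trans (d1_aux3 P Q M s1 g1 hg1 c))

end

section
variable (s0 : (L0 P →ₗ[B] M) →+ (L0 (RR P Q) →ₗ[C] M))
  (hs0 : ∀ ψ, (f2 P Q).pull0 M (s0 ψ) = ψ)
  (s1 : (L1 P →ₗ[B] M) →+ (L1 (RR P Q) →ₗ[C] M))
  (hs1 : ∀ ψ, (f2 P Q).pull1 M (s1 ψ) = ψ)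

include hs0 hs1 in
lemma exists_delta1_of : ∃ δ₁ : T1 P M →+ T2 Q M,
    Function.Exact ((f2 P Q).T1pull M) δ₁ ∧ Function.Exact δ₁ ((f1 P Q).T2pull M) := by
  choose g1 hg1 using exists_g1 P Q M s0 hs0 s1 hs1
  have h := exists_delta1_map P Q M g1 (g1_add P Q M s0 hs0 s1 hs1 g1 hg1)
    (fun c hc => d1_aux0 P Q M s0 hs0 s1 hs1 g1 hg1 c hc)
  exact Exists.elim h fun δ₁ hδ' => ⟨δ₁, delta1_exact1 P Q M s0 hs0 s1 hs1 g1 hg1 δ₁ hδ',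
    delta1_exact2 P Q M s0 hs0 s1 hs1 g1 hg1 δ₁ hδ'⟩

end

theorem exists_delta1 : ∃ δ₁ : T1 P M →+ T2 Q M,
    Function.Exact ((f2 P Q).T1pull M) δ₁ ∧ Function.Exact δ₁ ((f1 P Q).T2pull M) :=
  Exists.elim (exists_s0 P Q M) fun s0 hs0 => Exists.elim (exists_s1 P Q M) fun s1 hs1 =>
    exists_delta1_of P Q M s0 hs0 s1 hs1

/-- the nine-term sequence for `P`, `Q` and the composite presentation -/
theorem nine_core :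
    Function.Injective ((f1 P Q).T0pull M) ∧
    Function.Exact ((f1 P Q).T0pull M) ((f2 P Q).T0pull M) ∧
    Function.Exact ((f1 P Q).T1pull M) ((f2 P Q).T1pull M) ∧
    Function.Exact ((f1 P Q).T2pull M) ((f2 P Q).T2pull M) ∧
    ∃ (δ₀ : T0 P M →+ T1 Q M) (δ₁ : T1 P M →+ T2 Q M),
      Function.Exact ((f2 P Q).T0pull M) δ₀ ∧ Function.Exact δ₀ ((f1 P Q).T1pull M) ∧
      Function.Exact ((f2 P Q).T1pull M) δ₁ ∧ Function.Exact δ₁ ((f1 P Q).T2pull M) :=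
  Exists.elim (exists_delta0 P Q M) fun δ₀ h0 => Exists.elim (exists_delta1 P Q M) fun δ₁ h1 =>
    ⟨T0_injective P Q M, T0_exact P Q M, T1_exact P Q M, T2_exact P Q M, δ₀, δ₁, h0.1, h0.2,
      h1.1, h1.2⟩

end Chase

end Groth.Agent.Helper9.CotNine
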