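import Mathlib
import Groth.Prelude.Def_CotT2
import Groth.Agent.Lib.Helper9.CotNine5
import Groth.Agent.Lib.Helper9.CotHom3

set_option autoImplicit false
set_option linter.unusedSectionVars false
universe u v w t u' v' w' t' m

namespace Groth.Agent.Helper9.CotNine

open CotT TensorProduct MvPolynomial

/-! ### generic transfer lemmas -/

lemma exact_transfer {X Y Y' Z : Type*} [Zero Z] (f : X → Y) (g : Y → Z) (ε : Y → Y') (ε' : Y' → Y)
    (F : X → Y') (G : Y' → Z) (h1 : ∀ y, ε' (ε y) = y) (h2 : ∀ y', ε (ε' y') = y')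
    (hF : ∀ x, F x = ε (f x)) (hG : ∀ y', G y' = g (ε' y')) (h : Function.Exact f g) :
    Function.Exact F G := by
  intro y'
  rw [hG, h (ε' y')]
  constructor
  · rintro ⟨x, hx⟩
    exact ⟨x, by rw [hF, hx, h2]⟩
  · rintro ⟨x, hx⟩
    exact ⟨x, by rw [← hx, hF, h1]⟩

lemma exact_comp_surj {Y Y' Z W : Type*} [Zero W] (f : Y → Z) (g : Z → W) (ε' : Y' → Y)
    (F : Y' → Z) (hε : Function.Surjective ε') (hF : ∀ y', F y' = f (ε' y'))
    (h : Function.Exact f g) : Function.Exact F g := by
  intro z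
  rw [h z]
  constructor
  · rintro ⟨y, hy⟩
    obtain ⟨y', rfl⟩ := hε y
    exact ⟨y', by rw [hF, hy]⟩
  · rintro ⟨y', hy'⟩
    exact ⟨ε' y', by rw [← hF, hy']⟩

lemma exact_inj_comp {X Y Z Z' : Type*} [Zero Z] [Zero Z'] (f : X → Y) (g : Y → Z) (ε : Z → Z')
    (G : Y → Z') (hε : ∀ z, ε z = 0 → z = 0) (hε0 : ε 0 = 0) (hG : ∀ y, G y = ε (g y))
    (h : Function.Exact f g) : Function.Exact f G := by
  intro y
  rw [← h y, hG]
  constructor
  · exact hε _
  · intro h0
    rw [h0, hε0]

lemma inj_comp {X Y Y' : Type*} (f : X → Y) (ε : Y → Y') (F : X → Y') (hf : Function.Injective f)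
    (hε : Function.Injective ε) (hF : ∀ x, F x = ε (f x)) : Function.Injective F := by
  intro x x' h
  rw [hF, hF] at h
  exact hf (hε h)

lemma surj_of_inv {Y Y' : Type*} (ε : Y → Y') (ε' : Y' → Y) (h : ∀ y, ε' (ε y) = y) :
    Function.Surjective ε' := fun y => ⟨ε y, h y⟩

lemma inj_of_inv {Y Y' : Type*} (ε : Y → Y') (ε' : Y' → Y) (h : ∀ y, ε' (ε y) = y) :
    Function.Injective ε := fun y y' hy => by rw [← h y, hy, h]

section Transfer

variable (A B C : Type u) [CommRing A] [CommRing B] [CommRing C]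
variable [Algebra A B] [Algebra B C] [Algebra A C] [IsScalarTower A B C]
variable (M : Type u) [AddCommGroup M] [Module C M] [Module B M] [IsScalarTower B C M]

/-- the composite presentation of the canonical ones -/
noncomputable abbrev RC := RR (canon A B) (canon B C)

variable (e : PresHom (canon A C) (RC A B C)) (e' : PresHom (RC A B C) (canon A C))

lemma canon1_T0 (x : T0 (canon B C) M) :
    (canonHom A C B C).T0pull M x = e.T0pull M ((f1 (canon A B) (canon B C)).T0pull M x) :=
  (CotHom.T0pull_eq M (canonHom A C B C) (CotHom.comp (f1 (canon A B) (canon B C)) e) x).trans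
    (CotHom.T0pull_comp M (f1 (canon A B) (canon B C)) e x)

lemma canon1_T1 (x : T1 (canon B C) M) :
    (canonHom A C B C).T1pull M x = e.T1pull M ((f1 (canon A B) (canon B C)).T1pull M x) :=
  (CotHom.T1pull_eq M (canonHom A C B C) (CotHom.comp (f1 (canon A B) (canon B C)) e) x).trans
    (CotHom.T1pull_comp M (f1 (canon A B) (canon B C)) e x)

lemma canon1_T2 (x : T2 (canon B C) M) :
    (canonHom A C B C).T2pull M x = e.T2pull M ((f1 (canon A B) (canon B C)).T2pull M x) :=
  (CotHom.T2pull_eq M (canonHom A C B C) (CotHom.comp (f1 (canon A B) (canon B C)) e) x).trans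
    (CotHom.T2pull_comp M (f1 (canon A B) (canon B C)) e x)

lemma canon2_T0 (y : T0 (canon A C) M) :
    (canonHom A B A C).T0pull M y = (f2 (canon A B) (canon B C)).T0pull M (e'.T0pull M y) :=
  (CotHom.T0pull_eq M (canonHom A B A C) (CotHom.comp e' (f2 (canon A B) (canon B C))) y).trans
    (CotHom.T0pull_comp M e' (f2 (canon A B) (canon B C)) y)

lemma canon2_T1 (y : T1 (canon A C) M) :
    (canonHom A B A C).T1pull M y = (f2 (canon A B) (canon B C)).T1pull M (e'.T1pull M y) :=
  (CotHom.T1pull_eq M (canonHom A B A C) (CotHom.comp e' (f2 (canon A B) (canon B C))) y).trans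
    (CotHom.T1pull_comp M e' (f2 (canon A B) (canon B C)) y)

lemma canon2_T2 (y : T2 (canon A C) M) :
    (canonHom A B A C).T2pull M y = (f2 (canon A B) (canon B C)).T2pull M (e'.T2pull M y) :=
  (CotHom.T2pull_eq M (canonHom A B A C) (CotHom.comp e' (f2 (canon A B) (canon B C))) y).trans
    (CotHom.T2pull_comp M e' (f2 (canon A B) (canon B C)) y)

lemma i0 (y : T0 (RC A B C) M) : e'.T0pull M (e.T0pull M y) = y :=
  CotHom.T0pull_inv (RC A B C) (canon A C) M e' e y
lemma i0' (y : T0 (canon A C) M) : e.T0pull M (e'.T0pull M y) = y :=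
  CotHom.T0pull_inv (canon A C) (RC A B C) M e e' y
lemma i1 (y : T1 (RC A B C) M) : e'.T1pull M (e.T1pull M y) = y :=
  CotHom.T1pull_inv (RC A B C) (canon A C) M e' e y
lemma i1' (y : T1 (canon A C) M) : e.T1pull M (e'.T1pull M y) = y :=
  CotHom.T1pull_inv (canon A C) (RC A B C) M e e' y
lemma i2 (y : T2 (RC A B C) M) : e'.T2pull M (e.T2pull M y) = y :=
  CotHom.T2pull_inv (RC A B C) (canon A C) M e' e y
lemma i2' (y : T2 (canon A C) M) : e.T2pull M (e'.T2pull M y) = y :=
  CotHom.T2pull_inv (canon A C) (RC A B C) M e e' y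

include e e' in
lemma tr_inj (hinj : Function.Injective ((f1 (canon A B) (canon B C)).T0pull M)) :
    Function.Injective ((canonHom A C B C).T0pull M) :=
  inj_comp _ (e.T0pull M) _ hinj (inj_of_inv _ _ (i0 A B C M e e')) (canon1_T0 A B C M e)

include e e' in
lemma tr_E0 (h : Function.Exact ((f1 (canon A B) (canon B C)).T0pull M)
      ((f2 (canon A B) (canon B C)).T0pull M)) :
    Function.Exact ((canonHom A C B C).T0pull M) ((canonHom A B A C).T0pull M) :=
  exact_transfer _ _ (e.T0pull M) (e'.T0pull M) _ _ (i0 A B C M e e') (i0' A B C M e e')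
    (canon1_T0 A B C M e) (canon2_T0 A B C M e') h

include e e' in
lemma tr_E1 (h : Function.Exact ((f1 (canon A B) (canon B C)).T1pull M)
      ((f2 (canon A B) (canon B C)).T1pull M)) :
    Function.Exact ((canonHom A C B C).T1pull M) ((canonHom A B A C).T1pull M) :=
  exact_transfer _ _ (e.T1pull M) (e'.T1pull M) _ _ (i1 A B C M e e') (i1' A B C M e e')
    (canon1_T1 A B C M e) (canon2_T1 A B C M e') h

include e e' in
lemma tr_E2 (h : Function.Exact ((f1 (canon A B) (canon B C)).T2pull M)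
      ((f2 (canon A B) (canon B C)).T2pull M)) :
    Function.Exact ((canonHom A C B C).T2pull M) ((canonHom A B A C).T2pull M) :=
  exact_transfer _ _ (e.T2pull M) (e'.T2pull M) _ _ (i2 A B C M e e') (i2' A B C M e e')
    (canon1_T2 A B C M e) (canon2_T2 A B C M e') h

include e e' in
lemma tr_d1 (δ₀ : T0 (canon A B) M →+ T1 (canon B C) M)
    (h : Function.Exact ((f2 (canon A B) (canon B C)).T0pull M) δ₀) :
    Function.Exact ((canonHom A B A C).T0pull M) δ₀ :=
  exact_comp_surj _ _ (e'.T0pull M) _ (surj_of_inv _ _ (i0 A B C M e e')) (canon2_T0 A B C M e') h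

include e e' in
lemma tr_d2 (δ₀ : T0 (canon A B) M →+ T1 (canon B C) M)
    (h : Function.Exact δ₀ ((f1 (canon A B) (canon B C)).T1pull M)) :
    Function.Exact δ₀ ((canonHom A C B C).T1pull M) :=
  exact_inj_comp _ _ (e.T1pull M) _
    (fun _ hz => inj_of_inv _ _ (i1 A B C M e e') (hz.trans (map_zero (e.T1pull M)).symm))
    (map_zero (e.T1pull M)) (canon1_T1 A B C M e) h

include e e' in
lemma tr_d3 (δ₁ : T1 (canon A B) M →+ T2 (canon B C) M)
    (h : Function.Exact ((f2 (canon A B) (canon B C)).T1pull M) δ₁) :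
    Function.Exact ((canonHom A B A C).T1pull M) δ₁ :=
  exact_comp_surj _ _ (e'.T1pull M) _ (surj_of_inv _ _ (i1 A B C M e e')) (canon2_T1 A B C M e') h

include e e' in
lemma tr_d4 (δ₁ : T1 (canon A B) M →+ T2 (canon B C) M)
    (h : Function.Exact δ₁ ((f1 (canon A B) (canon B C)).T2pull M)) :
    Function.Exact δ₁ ((canonHom A C B C).T2pull M) :=
  exact_inj_comp _ _ (e.T2pull M) _
    (fun _ hz => inj_of_inv _ _ (i2 A B C M e e') (hz.trans (map_zero (e.T2pull M)).symm))
    (map_zero (e.T2pull M)) (canon1_T2 A B C M e) h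

include e e' in
theorem nine_canon_of :
    Function.Injective ((canonHom A C B C).T0pull M) ∧
    Function.Exact ((canonHom A C B C).T0pull M) ((canonHom A B A C).T0pull M) ∧
    Function.Exact ((canonHom A C B C).T1pull M) ((canonHom A B A C).T1pull M) ∧
    Function.Exact ((canonHom A C B C).T2pull M) ((canonHom A B A C).T2pull M) ∧
    ∃ (δ₀ : T0 (canon A B) M →+ T1 (canon B C) M)
      (δ₁ : T1 (canon A B) M →+ T2 (canon B C) M),
      Function.Exact ((canonHom A B A C).T0pull M) δ₀ ∧
      Function.Exact δ₀ ((canonHom A C B C).T1pull M) ∧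
      Function.Exact ((canonHom A B A C).T1pull M) δ₁ ∧
      Function.Exact δ₁ ((canonHom A C B C).T2pull M) :=
  have h := nine_core (canon A B) (canon B C) M
  ⟨tr_inj A B C M e e' h.1, tr_E0 A B C M e e' h.2.1, tr_E1 A B C M e e' h.2.2.1,
    tr_E2 A B C M e e' h.2.2.2.1,
    Exists.elim h.2.2.2.2 fun δ₀ h0 => Exists.elim h0 fun δ₁ h1 =>
      ⟨δ₀, δ₁, tr_d1 A B C M e e' δ₀ h1.1, tr_d2 A B C M e e' δ₀ h1.2.1,
        tr_d3 A B C M e e' δ₁ h1.2.2.1, tr_d4 A B C M e e' δ₁ h1.2.2.2⟩⟩

theorem nine_canon :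
    Function.Injective ((canonHom A C B C).T0pull M) ∧
    Function.Exact ((canonHom A C B C).T0pull M) ((canonHom A B A C).T0pull M) ∧
    Function.Exact ((canonHom A C B C).T1pull M) ((canonHom A B A C).T1pull M) ∧
    Function.Exact ((canonHom A C B C).T2pull M) ((canonHom A B A C).T2pull M) ∧
    ∃ (δ₀ : T0 (canon A B) M →+ T1 (canon B C) M)
      (δ₁ : T1 (canon A B) M →+ T2 (canon B C) M),
      Function.Exact ((canonHom A B A C).T0pull M) δ₀ ∧
      Function.Exact δ₀ ((canonHom A C B C).T1pull M) ∧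
      Function.Exact ((canonHom A B A C).T1pull M) δ₁ ∧
      Function.Exact δ₁ ((canonHom A C B C).T2pull M) :=
  nine_canon_of A B C M (Classical.choice inferInstance) (Classical.choice inferInstance)

end Transfer

end Groth.Agent.Helper9.CotNine
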