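import Mathlib

set_option autoImplicit false
set_option linter.unusedSectionVars false
universe u v

namespace Groth.Agent.Helper9.HochExt

variable {A : Type u} {B : Type v} [CommRing A] [CommRing B] [Algebra A B]
  {L : Type v} [AddCommGroup L] [Module B L] [Module A L] [IsScalarTower A B L]

/-- the extension of `B` by `L` defined by a symmetric Hochschild 2-cocycle -/
@[ext] structure E (f : B →ₗ[A] B →ₗ[A] L) where
  fst : B
  snd : L

variable (f : B →ₗ[A] B →ₗ[A] L)

namespace E

variable {f}

instance : Zero (E f) := ⟨⟨0, 0⟩⟩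
instance : Add (E f) := ⟨fun x y => ⟨x.fst + y.fst, x.snd + y.snd⟩⟩
instance : Neg (E f) := ⟨fun x => ⟨-x.fst, -x.snd⟩⟩
instance : Sub (E f) := ⟨fun x y => ⟨x.fst - y.fst, x.snd - y.snd⟩⟩
instance : SMul ℕ (E f) := ⟨fun n x => ⟨n • x.fst, n • x.snd⟩⟩
instance : SMul ℤ (E f) := ⟨fun n x => ⟨n • x.fst, n • x.snd⟩⟩
instance : SMul A (E f) := ⟨fun a x => ⟨a • x.fst, a • x.snd⟩⟩
instance : Mul (E f) := ⟨fun x y => ⟨x.fst * y.fst, x.fst • y.snd + y.fst • x.snd + f x.fst y.fst⟩⟩
instance : One (E f) := ⟨⟨1, -f 1 1⟩⟩

@[simp] lemma zero_fst : (0 : E f).fst = 0 := rfl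
@[simp] lemma zero_snd : (0 : E f).snd = 0 := rfl
@[simp] lemma add_fst (x y : E f) : (x + y).fst = x.fst + y.fst := rfl
@[simp] lemma add_snd (x y : E f) : (x + y).snd = x.snd + y.snd := rfl
@[simp] lemma neg_fst (x : E f) : (-x).fst = -x.fst := rfl
@[simp] lemma neg_snd (x : E f) : (-x).snd = -x.snd := rfl
@[simp] lemma sub_fst (x y : E f) : (x - y).fst = x.fst - y.fst := rfl
@[simp] lemma sub_snd (x y : E f) : (x - y).snd = x.snd - y.snd := rfl
@[simp] lemma nsmul_fst (n : ℕ) (x : E f) : (n • x).fst = n • x.fst := rfl
@[simp] lemma nsmul_snd (n : ℕ) (x : E f) : (n • x).snd = n • x.snd := rfl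
@[simp] lemma zsmul_fst (n : ℤ) (x : E f) : (n • x).fst = n • x.fst := rfl
@[simp] lemma zsmul_snd (n : ℤ) (x : E f) : (n • x).snd = n • x.snd := rfl
@[simp] lemma smul_fst (a : A) (x : E f) : (a • x).fst = a • x.fst := rfl
@[simp] lemma smul_snd (a : A) (x : E f) : (a • x).snd = a • x.snd := rfl
@[simp] lemma mul_fst (x y : E f) : (x * y).fst = x.fst * y.fst := rfl
@[simp] lemma mul_snd (x y : E f) :
    (x * y).snd = x.fst • y.snd + y.fst • x.snd + f x.fst y.fst := rfl
@[simp] lemma one_fst : (1 : E f).fst = 1 := rfl
@[simp] lemma one_snd : (1 : E f).snd = -f 1 1 := rfl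

/-- the underlying pair -/
def toProd (x : E f) : B × L := (x.fst, x.snd)

lemma toProd_injective : Function.Injective (toProd (f := f)) := by
  intro x y h
  ext
  · exact congrArg Prod.fst h
  · exact congrArg Prod.snd h

instance : AddCommGroup (E f) :=
  toProd_injective.addCommGroup toProd rfl (fun _ _ => rfl) (fun _ => rfl) (fun _ _ => rfl)
    (fun _ _ => rfl) (fun _ _ => rfl)

section Ring

variable (hsymm : ∀ x y : B, f x y = f y x)
  (hcoc : ∀ x y z : B, f (x * y) z + z • f x y = x • f y z + f x (y * z))

include hcoc in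
lemma f_one_left (b : B) : f 1 b = b • f 1 1 := by
  have h := hcoc 1 1 b
  rw [one_mul, one_mul, one_smul] at h
  exact (add_left_cancel h).symm

/-- the commutative ring structure -/
@[reducible] def commRing : CommRing (E f) :=
  { (inferInstance : AddCommGroup (E f)) with
    mul := (· * ·)
    one := 1
    left_distrib := fun x y z => by
      ext
      · simp [mul_add]
      · simp only [mul_snd, add_fst, add_snd, smul_add, add_smul, map_add]
        abel
    right_distrib := fun x y z => by
      ext
      · simp [add_mul]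
      · simp only [mul_snd, add_fst, add_snd, smul_add, add_smul, map_add, LinearMap.add_apply]
        abel
    zero_mul := fun x => by
      ext
      · simp
      · simp
    mul_zero := fun x => by
      ext
      · simp
      · simp
    mul_assoc := fun x y z => by
      ext
      · simp [mul_assoc]
      · simp only [mul_snd, mul_fst, smul_add, smul_smul]
        have h := hcoc x.fst y.fst z.fst
        rw [mul_comm z.fst x.fst, mul_comm z.fst y.fst]
        calc (x.fst * y.fst) • z.snd + ((x.fst * z.fst) • y.snd + (y.fst * z.fst) • x.snd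
              + z.fst • f x.fst y.fst) + f (x.fst * y.fst) z.fst
            = (x.fst * y.fst) • z.snd + (x.fst * z.fst) • y.snd + (y.fst * z.fst) • x.snd
              + (f (x.fst * y.fst) z.fst + z.fst • f x.fst y.fst) := by abel
          _ = (x.fst * y.fst) • z.snd + (x.fst * z.fst) • y.snd + (y.fst * z.fst) • x.snd
              + (x.fst • f y.fst z.fst + f x.fst (y.fst * z.fst)) := by rw [h]
          _ = _ := by abel
    one_mul := fun x => by
      ext
      · simp
      · simp only [mul_snd, one_fst, one_snd, one_smul, smul_neg]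
        rw [f_one_left hcoc x.fst]
        abel
    mul_one := fun x => by
      ext
      · simp
      · simp only [mul_snd, one_fst, one_snd, one_smul, smul_neg]
        rw [hsymm x.fst 1, f_one_left hcoc x.fst]
        abel
    mul_comm := fun x y => by
      ext
      · simp [mul_comm]
      · simp only [mul_snd, hsymm x.fst y.fst]
        abel }

end Ring

/-- the additive map to the product -/
def toProdHom : E f →+ B × L where
  toFun := toProd
  map_zero' := rfl
  map_add' _ _ := rfl

instance : Module A (E f) :=
  toProd_injective.module A toProdHom (fun _ _ => rfl)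

section Alg

variable (hsymm : ∀ x y : B, f x y = f y x)
  (hcoc : ∀ x y z : B, f (x * y) z + z • f x y = x • f y z + f x (y * z))

/-- the algebra structure -/
@[reducible] def algebra : @Algebra A (E f) _ (commRing hsymm hcoc).toSemiring :=
  letI := commRing hsymm hcoc
  Algebra.ofModule
    (fun a x y => by
      ext
      · simp
      · simp only [mul_snd, smul_fst, smul_snd, smul_add, map_smul, LinearMap.smul_apply]
        rw [smul_assoc a x.fst y.snd, smul_comm y.fst a x.snd])
    (fun a x y => by
      ext
      · simp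
      · simp only [mul_snd, smul_fst, smul_snd, smul_add, map_smul]
        rw [smul_assoc a y.fst x.snd, smul_comm x.fst a y.snd])

/-- the projection to `B` -/
def proj : letI := commRing hsymm hcoc; letI := algebra hsymm hcoc; E f →ₐ[A] B :=
  letI := commRing hsymm hcoc
  letI := algebra hsymm hcoc
  { toFun := fst
    map_one' := rfl
    map_mul' := fun _ _ => rfl
    map_zero' := rfl
    map_add' := fun _ _ => rfl
    commutes' := fun a => by
      change (a • (1 : E f)).fst = _
      rw [smul_fst, one_fst, Algebra.algebraMap_eq_smul_one] }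

end Alg

end E

section Main

variable [Algebra.FormallySmooth A B]
  (hsymm : ∀ x y : B, f x y = f y x)
  (hcoc : ∀ x y z : B, f (x * y) z + z • f x y = x • f y z + f x (y * z))

include hsymm hcoc in
theorem exists_cobound : ∃ g : B →ₗ[A] L, ∀ x y : B, f x y = x • g y - g (x * y) + y • g x := by
  letI := E.commRing hsymm hcoc
  letI := E.algebra hsymm hcoc
  have hsurj : Function.Surjective (E.proj hsymm hcoc) := fun b => ⟨⟨b, 0⟩, rfl⟩
  have hnil : IsNilpotent (RingHom.ker ((E.proj hsymm hcoc : E f →ₐ[A] B) : E f →+* B)) := by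
    refine ⟨2, ?_⟩
    rw [pow_two, Ideal.zero_eq_bot, ← le_bot_iff, Ideal.mul_le]
    intro x hx y hy
    have hx0 : x.fst = 0 := hx
    have hy0 : y.fst = 0 := hy
    rw [Ideal.mem_bot]
    ext
    · simp [hx0]
    · simp [hx0, hy0]
  let s := Algebra.FormallySmooth.liftOfSurjective (AlgHom.id A B) (E.proj hsymm hcoc) hsurj hnil
  have hs : ∀ b, (s b).fst = b := fun b =>
    Algebra.FormallySmooth.liftOfSurjective_apply (AlgHom.id A B) (E.proj hsymm hcoc) hsurj hnil b
  refine ⟨{ toFun := fun b => -(s b).snd
            map_add' := fun x y => by rw [map_add, E.add_snd, neg_add]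
            map_smul' := fun a x => by rw [map_smul, E.smul_snd, smul_neg, RingHom.id_apply] }, ?_⟩
  intro x y
  have h := congrArg E.snd (map_mul s x y)
  rw [E.mul_snd, hs, hs] at h
  change f x y = x • -(s y).snd - -(s (x * y)).snd + y • -(s x).snd
  rw [h]
  simp only [smul_neg]
  abel

end Main

end Groth.Agent.Helper9.HochExt
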