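import Mathlib
import Groth.Prelude.Def_CAlg
import Groth.Prelude.Def_EGA4b
universe u
namespace Groth.Agent.Helper9.RkLocus
open PrimeSpectrum

variable (A : Type u) [CommRing A]

/-- regularity of the local ring at a point -/
def Reg (q : PrimeSpectrum A) : Prop := IsRegularLocalRing (Localization.AtPrime q.asIdeal)

variable {A}

theorem reg_of_ideal_eq (q q' : Ideal A) [q.IsPrime] [q'.IsPrime] (h : q = q')
    (hq : IsRegularLocalRing (Localization.AtPrime q)) :
    IsRegularLocalRing (Localization.AtPrime q') := by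
  subst h
  exact hq

/-- `(R_k)` at `p` in terms of the generizations of `p` -/
theorem hasRkAt_iff (k : ℕ) (p : PrimeSpectrum A) :
    EGA4.HasRkAt k A p.asIdeal ↔
      ∀ q : PrimeSpectrum A, q ≤ p → q.asIdeal.height ≤ k → Reg A q := by
  constructor
  · intro h q hqp hht
    have hdisj : Disjoint (p.asIdeal.primeCompl : Set A) (q.asIdeal : Set A) := by
      rw [Set.disjoint_left]
      intro a ha haq
      exact ha (hqp haq)
    set 𝔮 := Ideal.map (algebraMap A (Localization.AtPrime p.asIdeal)) q.asIdeal with h𝔮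
    have h𝔮prime : 𝔮.IsPrime :=
      IsLocalization.isPrime_of_isPrime_disjoint p.asIdeal.primeCompl _ q.asIdeal q.isPrime hdisj
    have hcomap : 𝔮.comap (algebraMap A (Localization.AtPrime p.asIdeal)) = q.asIdeal :=
      IsLocalization.under_map_of_isPrime_disjoint p.asIdeal.primeCompl _ q.isPrime hdisj
    have hht' : 𝔮.height = q.asIdeal.height := by
      rw [← IsLocalization.height_under p.asIdeal.primeCompl 𝔮]
      exact congrArg Ideal.height hcomap
    have hreg : IsRegularLocalRing (Localization.AtPrime 𝔮) := h 𝔮 (hht' ▸ hht)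
    have e := (IsLocalization.localizationLocalizationAtPrimeIsoLocalization
      p.asIdeal.primeCompl 𝔮).toRingEquiv
    have hreg2 : IsRegularLocalRing (Localization.AtPrime
        (𝔮.comap (algebraMap A (Localization.AtPrime p.asIdeal)))) :=
      IsRegularLocalRing.of_ringEquiv e.symm
    exact reg_of_ideal_eq _ _ hcomap hreg2
  · intro h 𝔮 _ h𝔮
    set q := 𝔮.comap (algebraMap A (Localization.AtPrime p.asIdeal)) with hq
    have hht : q.height = 𝔮.height := IsLocalization.height_under p.asIdeal.primeCompl 𝔮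
    have hle : q ≤ p.asIdeal := by
      have h1 : 𝔮 ≤ IsLocalRing.maximalIdeal (Localization.AtPrime p.asIdeal) :=
        IsLocalRing.le_maximalIdeal (Ideal.IsPrime.ne_top ‹_›)
      have h2 := Ideal.comap_mono (f := algebraMap A (Localization.AtPrime p.asIdeal)) h1
      have h3 : Ideal.comap (algebraMap A (Localization.AtPrime p.asIdeal))
          (IsLocalRing.maximalIdeal (Localization.AtPrime p.asIdeal)) = p.asIdeal :=
        IsLocalization.AtPrime.under_maximalIdeal (Localization.AtPrime p.asIdeal) p.asIdeal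
      rw [h3] at h2
      exact h2
    have hreg : IsRegularLocalRing (Localization.AtPrime q) :=
      h ⟨q, inferInstance⟩ hle (hht ▸ h𝔮)
    exact IsRegularLocalRing.of_ringEquiv
      (IsLocalization.localizationLocalizationAtPrimeIsoLocalization
        p.asIdeal.primeCompl 𝔮).toRingEquiv

/-- the general openness criterion -/
theorem isOpen_of_finite (k : ℕ) (T : Set (PrimeSpectrum A)) (hT : T.Finite)
    (hT1 : ∀ t ∈ T, t.asIdeal.height ≤ k ∧ ¬ Reg A t)
    (hT2 : ∀ q : PrimeSpectrum A, q.asIdeal.height ≤ k → ¬ Reg A q → ∃ t ∈ T, t ≤ q) :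
    IsOpen {p : PrimeSpectrum A | EGA4.HasRkAt k A p.asIdeal} := by
  have : {p : PrimeSpectrum A | EGA4.HasRkAt k A p.asIdeal} =
      (⋃ t ∈ T, zeroLocus (t.asIdeal : Set A))ᶜ := by
    ext p
    simp only [Set.mem_ofPred_eq, Set.mem_compl_iff, Set.mem_iUnion, mem_zeroLocus, not_exists]
    rw [hasRkAt_iff]
    constructor
    · intro h t ht htp
      exact (hT1 t ht).2 (h t htp (hT1 t ht).1)
    · intro h q hqp hht
      by_contra hreg
      obtain ⟨t, ht, htq⟩ := hT2 q hht hreg
      exact h t ht (le_trans htq hqp)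
  rw [this, isOpen_compl_iff]
  exact hT.isClosed_biUnion fun t _ => isClosed_zeroLocus _

end Groth.Agent.Helper9.RkLocus
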