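import Mathlib
import Groth.Prelude.Def_CAlg
import Groth.Prelude.Def_EGA4b
import Groth.Agent.Lib.Helper8.ABS11
import Groth.Agent.Lib.Helper9.RkLocus
import Groth.Agent.Lib.Helper9.NagataCrit
universe u
namespace Groth.Agent.Helper9.RegGen
open PrimeSpectrum Groth.Agent.Helper9.RkLocus

/-- the regular locus is stable under generization (Serre) -/
theorem reg_generization {A : Type u} [CommRing A] (p q : PrimeSpectrum A) (hqp : q ≤ p)
    (hp : p ∈ EGA4.regLocus A) : q ∈ EGA4.regLocus A := by
  have hregp : IsRegularLocalRing (Localization.AtPrime p.asIdeal) := hp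
  have hdisj : Disjoint (p.asIdeal.primeCompl : Set A) (q.asIdeal : Set A) := by
    rw [Set.disjoint_left]
    intro a ha haq
    exact ha (hqp haq)
  set 𝔮 := Ideal.map (algebraMap A (Localization.AtPrime p.asIdeal)) q.asIdeal with h𝔮
  have h𝔮prime : 𝔮.IsPrime :=
    IsLocalization.isPrime_of_isPrime_disjoint p.asIdeal.primeCompl _ q.asIdeal q.isPrime hdisj
  have hcomap : 𝔮.comap (algebraMap A (Localization.AtPrime p.asIdeal)) = q.asIdeal :=
    IsLocalization.under_map_of_isPrime_disjoint p.asIdeal.primeCompl _ q.isPrime hdisj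
  have hreg : IsRegularLocalRing (Localization.AtPrime 𝔮) :=
    Groth.Agent.Helper8.ABS.isRegularLocalRing_localization _ 𝔮
  have e := (IsLocalization.localizationLocalizationAtPrimeIsoLocalization
    p.asIdeal.primeCompl 𝔮).toRingEquiv
  have hreg2 : IsRegularLocalRing (Localization.AtPrime
      (𝔮.comap (algebraMap A (Localization.AtPrime p.asIdeal)))) :=
    IsRegularLocalRing.of_ringEquiv e.symm
  exact reg_of_ideal_eq _ _ hcomap hreg2

end Groth.Agent.Helper9.RegGen
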