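import Mathlib

set_option autoImplicit false
universe u

namespace Groth.Agent.Lib.Helper9.MonicQuot

open MvPolynomial TensorProduct

section
variable {R : Type u} [CommRing R] {n : ℕ} (g : Fin n → Polynomial R)

/-- `g i` in the variable `X i` -/
noncomputable def G (i : Fin n) : MvPolynomial (Fin n) R := Polynomial.aeval (X i) (g i)

/-- the ideal generated by the `g i (X i)` -/
noncomputable def I : Ideal (MvPolynomial (Fin n) R) := Ideal.span (Set.range (G g))

/-- the quotient algebra -/
def A := MvPolynomial (Fin n) R ⧸ I g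

noncomputable instance : CommRing (A g) :=
  inferInstanceAs (CommRing (MvPolynomial (Fin n) R ⧸ I g))

noncomputable instance : Algebra R (A g) :=
  inferInstanceAs (Algebra R (MvPolynomial (Fin n) R ⧸ I g))

/-- the quotient map -/
noncomputable def mk : MvPolynomial (Fin n) R →ₐ[R] A g := Ideal.Quotient.mkₐ R (I g)

lemma mk_surjective : Function.Surjective (mk g) := Ideal.Quotient.mkₐ_surjective R (I g)

lemma mk_eq_zero_iff (f : MvPolynomial (Fin n) R) : mk g f = 0 ↔ f ∈ I g :=
  Ideal.Quotient.eq_zero_iff_mem

/-- the class of `X i` -/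
noncomputable def u (i : Fin n) : A g := mk g (X i)

lemma aeval_u (i : Fin n) : Polynomial.aeval (u g i) (g i) = 0 := by
  have h1 : Polynomial.aeval (u g i) (g i) =
      mk g (Polynomial.aeval (X i) (g i)) :=
    Polynomial.aeval_algHom_apply (mk g) (X i) (g i)
  rw [h1]
  exact (mk_eq_zero_iff g _).mpr (Ideal.subset_span ⟨i, rfl⟩)

/-- the tensor product of the `AdjoinRoot (g i)` -/
abbrev T := ⨂[R] i, AdjoinRoot (g i)

/-- comparison map to the tensor product -/
noncomputable def Φ : A g →ₐ[R] T g :=
  show (MvPolynomial (Fin n) R ⧸ I g) →ₐ[R] T g from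
  Ideal.Quotient.liftₐ (I g)
    (aeval fun i => PiTensorProduct.singleAlgHom i (AdjoinRoot.root (g i)))
    (by
      have hle : I g ≤ RingHom.ker
          (aeval (R := R) fun i => PiTensorProduct.singleAlgHom (R := R)
            (A := fun i => AdjoinRoot (g i)) i (AdjoinRoot.root (g i))) := by
        unfold I
        rw [Ideal.span_le]
        rintro _ ⟨i, rfl⟩
        rw [SetLike.mem_coe, RingHom.mem_ker]
        unfold G
        have h1 := Polynomial.aeval_algHom_apply
          (aeval (R := R) fun i => PiTensorProduct.singleAlgHom (R := R)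
            (A := fun i => AdjoinRoot (g i)) i (AdjoinRoot.root (g i))) (X i) (g i)
        rw [← h1, aeval_X]
        have h2 := Polynomial.aeval_algHom_apply
          (PiTensorProduct.singleAlgHom (R := R) (A := fun i => AdjoinRoot (g i)) i)
          (AdjoinRoot.root (g i)) (g i)
        rw [h2, AdjoinRoot.aeval_eq, AdjoinRoot.mk_self, map_zero]
      intro a ha
      exact hle ha)

lemma Φ_u (i : Fin n) :
    Φ g (u g i) = PiTensorProduct.singleAlgHom i (AdjoinRoot.root (g i)) := by
  unfold Φ u
  show (aeval (R := R) fun i => PiTensorProduct.singleAlgHom (R := R)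
    (A := fun i => AdjoinRoot (g i)) i (AdjoinRoot.root (g i))) (X i) = _
  rw [aeval_X]

/-- the index set of the monomial basis -/
abbrev ι := (i : Fin n) → Fin (g i).natDegree

/-- the monomials -/
noncomputable def mon (α : ι g) : A g := ∏ i, u g i ^ (α i : ℕ)

lemma prod_single (y : (i : Fin n) → AdjoinRoot (g i)) :
    ∏ i, PiTensorProduct.singleAlgHom (R := R) (A := fun i => AdjoinRoot (g i)) i (y i) =
      PiTensorProduct.tprod R y := by
  have h1 : ∀ i, PiTensorProduct.singleAlgHom (R := R) (A := fun i => AdjoinRoot (g i)) i (y i) =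
      PiTensorProduct.tprod R (Pi.mulSingle i (y i)) := fun i => rfl
  simp_rw [h1]
  rw [← PiTensorProduct.tprod_prod, Finset.univ_prod_mulSingle]

lemma Φ_mon (α : ι g) :
    Φ g (mon g α) = PiTensorProduct.tprod R (fun i => AdjoinRoot.root (g i) ^ (α i : ℕ)) := by
  unfold mon
  rw [map_prod]
  simp_rw [map_pow, Φ_u, ← map_pow]
  exact prod_single g _


section lift

variable {B : Type*} [CommRing B] [Algebra R B]

/-- universal property of `A g` -/
noncomputable def lift (y : Fin n → B) (hy : ∀ i, Polynomial.aeval (y i) (g i) = 0) :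
    A g →ₐ[R] B :=
  show (MvPolynomial (Fin n) R ⧸ I g) →ₐ[R] B from
  Ideal.Quotient.liftₐ (I g) (aeval y)
    (by
      have hle : I g ≤ RingHom.ker (aeval (R := R) y) := by
        unfold I
        rw [Ideal.span_le]
        rintro _ ⟨i, rfl⟩
        rw [SetLike.mem_coe, RingHom.mem_ker]
        unfold G
        have h1 := Polynomial.aeval_algHom_apply (aeval (R := R) y) (X i) (g i)
        rw [← h1, aeval_X]
        exact hy i
      intro a ha
      exact hle ha)

lemma lift_mk (y : Fin n → B) (hy : ∀ i, Polynomial.aeval (y i) (g i) = 0)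
    (f : MvPolynomial (Fin n) R) : lift g y hy (mk g f) = aeval y f := rfl

lemma lift_u (y : Fin n → B) (hy : ∀ i, Polynomial.aeval (y i) (g i) = 0) (i : Fin n) :
    lift g y hy (u g i) = y i := by
  unfold u
  rw [lift_mk, aeval_X]

lemma algHom_ext {φ ψ : A g →ₐ[R] B} (h : ∀ i, φ (u g i) = ψ (u g i)) : φ = ψ := by
  have h1 : φ.comp (mk g) = ψ.comp (mk g) := by
    apply MvPolynomial.algHom_ext
    intro i
    exact h i
  apply AlgHom.ext
  intro x
  obtain ⟨f, rfl⟩ := mk_surjective g x
  exact AlgHom.congr_fun h1 f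

end lift

lemma algebraMap_eq_mk (r : R) : algebraMap R (A g) r = mk g (C r) := by
  rw [← MvPolynomial.algebraMap_eq, AlgHom.commutes]

lemma span_u_eq_map :
    Ideal.span (Set.range (u g)) =
      Ideal.map (mk g) (Ideal.span (Set.range (X : Fin n → MvPolynomial (Fin n) R))) := by
  rw [Ideal.map_span, ← Set.range_comp]
  rfl

lemma sub_C_mem (f : MvPolynomial (Fin n) R) :
    f - C (MvPolynomial.coeff 0 f) ∈
      Ideal.span (Set.range (X : Fin n → MvPolynomial (Fin n) R)) := by
  induction f using MvPolynomial.induction_on with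
  | C r => simp
  | add p q hp hq =>
    have : p + q - C (MvPolynomial.coeff 0 (p + q)) =
        (p - C (MvPolynomial.coeff 0 p)) + (q - C (MvPolynomial.coeff 0 q)) := by
      rw [MvPolynomial.coeff_add, map_add]; ring
    rw [this]
    exact Ideal.add_mem _ hp hq
  | mul_X p i _ =>
    have h0 : MvPolynomial.coeff 0 (p * X i) = 0 := by
      rw [MvPolynomial.coeff_mul_X']
      simp
    rw [h0, map_zero, sub_zero]
    exact Ideal.mul_mem_left _ _ (Ideal.subset_span ⟨i, rfl⟩)

lemma exists_sub_algebraMap_mem (b : A g) :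
    ∃ r : R, b - algebraMap R (A g) r ∈ Ideal.span (Set.range (u g)) := by
  obtain ⟨f, rfl⟩ := mk_surjective g b
  refine ⟨MvPolynomial.coeff 0 f, ?_⟩
  rw [algebraMap_eq_mk, ← map_sub, span_u_eq_map]
  exact Ideal.mem_map_of_mem _ (sub_C_mem f)

variable (hg : ∀ i, (g i).Monic)

/-- the power bases -/
noncomputable def pb (i : Fin n) : Module.Basis (Fin (g i).natDegree) R (AdjoinRoot (g i)) :=
  (AdjoinRoot.powerBasis' (hg i)).basis

lemma pb_apply (i : Fin n) (j : Fin (g i).natDegree) :
    pb g hg i j = AdjoinRoot.root (g i) ^ (j : ℕ) := by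
  unfold pb
  refine ((AdjoinRoot.powerBasis' (hg i)).basis_eq_pow j).trans ?_
  rw [AdjoinRoot.powerBasis'_gen]

include hg in
lemma Φ_mon_eq_basis (α : ι g) :
    Φ g (mon g α) = _root_.Basis.piTensorProduct (pb g hg) α := by
  rw [Φ_mon, _root_.Basis.piTensorProduct_apply]
  congr 1
  funext i
  exact (pb_apply g hg i (α i)).symm

include hg in
lemma mon_linearIndependent : LinearIndependent R (mon g) := by
  have h1 : LinearIndependent R ((Φ g).toLinearMap ∘ mon g) := by
    have h2 : (Φ g).toLinearMap ∘ mon g = ⇑(_root_.Basis.piTensorProduct (pb g hg)) := by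
      funext α
      exact Φ_mon_eq_basis g hg α
    rw [h2]
    exact (_root_.Basis.piTensorProduct (pb g hg)).linearIndependent
  exact LinearIndependent.of_comp _ h1

/-- the product over the other variables -/
noncomputable def rest (α : ι g) (i : Fin n) : A g := ∏ l ∈ Finset.univ.erase i, u g l ^ (α l : ℕ)

lemma mon_eq (α : ι g) (i : Fin n) : mon g α = u g i ^ (α i : ℕ) * rest g α i := by
  unfold mon rest
  exact (Finset.mul_prod_erase Finset.univ (fun l => u g l ^ (α l : ℕ)) (Finset.mem_univ i)).symm

lemma rest_update (α : ι g) (i : Fin n) (j : Fin (g i).natDegree) :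
    rest g (Function.update α i j) i = rest g α i := by
  unfold rest
  apply Finset.prod_congr rfl
  intro l hl
  rw [Function.update_of_ne (Finset.ne_of_mem_erase hl)]

lemma pow_mul_rest_mem (α : ι g) (i : Fin n) (j : ℕ) (hj : j < (g i).natDegree) :
    u g i ^ j * rest g α i ∈ Submodule.span R (Set.range (mon g)) := by
  have h1 : u g i ^ j * rest g α i = mon g (Function.update α i ⟨j, hj⟩) := by
    rw [mon_eq g _ i, rest_update, Function.update_self]
  rw [h1]
  exact Submodule.subset_span ⟨_, rfl⟩

include hg in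
lemma u_pow_natDegree (i : Fin n) :
    u g i ^ (g i).natDegree =
      - ∑ j ∈ Finset.range (g i).natDegree, (g i).coeff j • u g i ^ j := by
  have h1 := aeval_u g i
  conv_lhs at h1 => rw [(hg i).as_sum]
  rw [map_add, map_pow, Polynomial.aeval_X, map_sum] at h1
  rw [eq_neg_iff_add_eq_zero]
  rw [← h1]
  congr 1
  apply Finset.sum_congr rfl
  intro j _
  rw [map_mul, Polynomial.aeval_C, map_pow, Polynomial.aeval_X]
  exact Algebra.smul_def ((g i).coeff j) (u g i ^ j)

include hg in
lemma u_mul_mem (i : Fin n) (x : A g) (hx : x ∈ Submodule.span R (Set.range (mon g))) :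
    u g i * x ∈ Submodule.span R (Set.range (mon g)) := by
  induction hx using Submodule.span_induction with
  | mem x hx =>
    obtain ⟨α, rfl⟩ := hx
    rw [mon_eq g α i, ← mul_assoc, ← pow_succ']
    by_cases h : (α i : ℕ) + 1 < (g i).natDegree
    · exact pow_mul_rest_mem g α i _ h
    · have h2 : (α i : ℕ) + 1 = (g i).natDegree := by
        have := (α i).2
        omega
      rw [h2, u_pow_natDegree g hg, neg_mul, Finset.sum_mul]
      apply Submodule.neg_mem
      apply Submodule.sum_mem
      intro j hj
      rw [smul_mul_assoc]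
      exact Submodule.smul_mem _ _ (pow_mul_rest_mem g α i j (Finset.mem_range.mp hj))
  | zero => rw [mul_zero]; exact Submodule.zero_mem _
  | add x y _ _ hx hy => rw [mul_add]; exact Submodule.add_mem _ hx hy
  | smul r x _ hx => rw [mul_smul_comm]; exact Submodule.smul_mem _ _ hx

include hg in
lemma mon_span (hd : ∀ i, 0 < (g i).natDegree) :
    Submodule.span R (Set.range (mon g)) = ⊤ := by
  rw [eq_top_iff]
  rintro x -
  obtain ⟨f, rfl⟩ := mk_surjective g x
  induction f using MvPolynomial.induction_on with
  | C r =>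
    have h1 : mk g (C r) = r • mon g (fun i => ⟨0, hd i⟩) := by
      unfold mon
      simp only [pow_zero, Finset.prod_const_one]
      rw [Algebra.smul_def, mul_one, ← MvPolynomial.algebraMap_eq, AlgHom.commutes]
    rw [h1]
    exact Submodule.smul_mem _ _ (Submodule.subset_span ⟨_, rfl⟩)
  | add p q hp hq => rw [map_add]; exact Submodule.add_mem _ hp hq
  | mul_X p i hp =>
    rw [map_mul, mul_comm]
    exact u_mul_mem g hg i _ hp

/-- the monomial basis -/
noncomputable def basis (hd : ∀ i, 0 < (g i).natDegree) : Module.Basis (ι g) R (A g) :=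
  Module.Basis.mk (mon_linearIndependent g hg) (mon_span g hg hd).ge

lemma basis_apply (hd : ∀ i, 0 < (g i).natDegree) (α : ι g) : basis g hg hd α = mon g α := by
  unfold basis
  rw [Module.Basis.mk_apply]

include hg in
lemma free (hd : ∀ i, 0 < (g i).natDegree) : Module.Free R (A g) :=
  Module.Free.of_basis (basis g hg hd)

include hg in
lemma finite (hd : ∀ i, 0 < (g i).natDegree) : Module.Finite R (A g) :=
  Module.Finite.of_basis (basis g hg hd)

include hg in
lemma finrank_eq [Nontrivial R] (hd : ∀ i, 0 < (g i).natDegree) :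
    Module.finrank R (A g) = ∏ i, (g i).natDegree := by
  rw [Module.finrank_eq_card_basis (basis g hg hd), Fintype.card_pi]
  simp

end

end Groth.Agent.Lib.Helper9.MonicQuot
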