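import Mathlib
import Groth.Agent.Lib.Helper9.MonicQuot
import Groth.Agent.Lib.Helper9.IdemLift

set_option autoImplicit false
universe u

namespace Groth.Agent.Lib.Helper9.MonicQuotLocal

open MvPolynomial IsLocalRing
open Groth.Agent.Lib.Helper9.MonicQuot

section
variable {R : Type u} [CommRing R] [IsLocalRing R] {n : ℕ} (g : Fin n → Polynomial R)

/-- augmentation to the residue field, on polynomials -/
noncomputable def ε₀ : MvPolynomial (Fin n) R →+* ResidueField R :=
  eval₂Hom (residue R) (fun _ => 0)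

variable (hd : ∀ i, 0 < (g i).natDegree)
  (hlow : ∀ i j, j < (g i).natDegree → (g i).coeff j ∈ maximalIdeal R)

include hd hlow in
lemma ε₀_G (i : Fin n) : ε₀ (n := n) (G g i) = 0 := by
  unfold G
  rw [Polynomial.aeval_def, Polynomial.hom_eval₂]
  have h1 : (ε₀ (n := n) (R := R)) (X i) = 0 := by
    unfold ε₀
    rw [coe_eval₂Hom, eval₂_X]
  rw [h1, Polynomial.eval₂_at_zero]
  have h2 : ((ε₀ (n := n) (R := R)).comp (algebraMap R (MvPolynomial (Fin n) R)))
      ((g i).coeff 0) = residue R ((g i).coeff 0) := by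
    rw [RingHom.comp_apply, MvPolynomial.algebraMap_eq]
    unfold ε₀
    rw [coe_eval₂Hom, eval₂_C]
  rw [h2]
  exact (residue_eq_zero_iff _).mpr (hlow i 0 (hd i))

/-- augmentation to the residue field -/
noncomputable def ε : A g →+* ResidueField R :=
  show (MvPolynomial (Fin n) R ⧸ I g) →+* ResidueField R from
  Ideal.Quotient.lift (I g) (ε₀ (n := n) (R := R))
    (by
      have hle : I g ≤ RingHom.ker (ε₀ (n := n) (R := R)) := by
        unfold I
        rw [Ideal.span_le]
        rintro _ ⟨i, rfl⟩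
        exact ε₀_G g hd hlow i
      intro a ha
      exact hle ha)

lemma ε_mk (f : MvPolynomial (Fin n) R) : ε g hd hlow (mk g f) = ε₀ f := rfl

lemma ε_u (i : Fin n) : ε g hd hlow (u g i) = 0 := by
  unfold u
  rw [ε_mk]
  unfold ε₀
  rw [coe_eval₂Hom, eval₂_X]

lemma ε_algebraMap (r : R) : ε g hd hlow (algebraMap R (A g) r) = residue R r := by
  rw [algebraMap_eq_mk, ε_mk]
  unfold ε₀
  rw [coe_eval₂Hom, eval₂_C]

lemma ε_surjective : Function.Surjective (ε g hd hlow) := by
  intro x
  obtain ⟨r, rfl⟩ := residue_surjective x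
  exact ⟨algebraMap R (A g) r, ε_algebraMap g hd hlow r⟩

/-- the candidate maximal ideal -/
noncomputable def 𝔫 : Ideal (A g) :=
  Ideal.span (Set.range (u g)) ⊔ Ideal.map (algebraMap R (A g)) (maximalIdeal R)

lemma ker_ε : RingHom.ker (ε g hd hlow) = 𝔫 g := by
  apply le_antisymm
  · intro b hb
    rw [RingHom.mem_ker] at hb
    obtain ⟨r, hr⟩ := exists_sub_algebraMap_mem g b
    have h1 : ε g hd hlow (b - algebraMap R (A g) r) = 0 := by
      have h2 : Ideal.span (Set.range (u g)) ≤ RingHom.ker (ε g hd hlow) := by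
        rw [Ideal.span_le]
        rintro _ ⟨i, rfl⟩
        exact ε_u g hd hlow i
      exact h2 hr
    rw [map_sub, hb, zero_sub, neg_eq_zero, ε_algebraMap, residue_eq_zero_iff] at h1
    have h3 : b = (b - algebraMap R (A g) r) + algebraMap R (A g) r := by ring
    rw [h3]
    unfold 𝔫
    exact Ideal.add_mem _ (Ideal.mem_sup_left hr)
      (Ideal.mem_sup_right (Ideal.mem_map_of_mem _ h1))
  · unfold 𝔫
    rw [sup_le_iff]
    constructor
    · rw [Ideal.span_le]
      rintro _ ⟨i, rfl⟩
      exact ε_u g hd hlow i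
    · rw [Ideal.map_le_iff_le_comap]
      intro r hr
      rw [Ideal.mem_comap, RingHom.mem_ker, ε_algebraMap, residue_eq_zero_iff]
      exact hr

include hd hlow in
lemma 𝔫_isMaximal : (𝔫 g).IsMaximal := by
  rw [← ker_ε g hd hlow]
  exact RingHom.ker_isMaximal_of_surjective _ (ε_surjective g hd hlow)

variable (hg : ∀ i, (g i).Monic)

include hg hd hlow in
lemma map_maximalIdeal_le (M : Ideal (A g)) [hM : M.IsMaximal] :
    Ideal.map (algebraMap R (A g)) (maximalIdeal R) ≤ M := by
  haveI : Module.Finite R (A g) := finite g hg hd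
  haveI : Algebra.IsIntegral R (A g) := Algebra.IsIntegral.of_finite R (A g)
  have h1 : (M.comap (algebraMap R (A g))).IsMaximal :=
    Ideal.isMaximal_comap_of_isIntegral_of_isMaximal M
  rw [Ideal.map_le_iff_le_comap, ← IsLocalRing.eq_maximalIdeal h1]

include hg hd hlow in
lemma u_mem_of_isMaximal (M : Ideal (A g)) [hM : M.IsMaximal] (i : Fin n) : u g i ∈ M := by
  have h1 := map_maximalIdeal_le g hd hlow hg M
  have h2 : u g i ^ (g i).natDegree ∈ M := by
    rw [u_pow_natDegree g hg i]
    apply neg_mem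
    apply Ideal.sum_mem
    intro j hj
    rw [Algebra.smul_def]
    apply Ideal.mul_mem_right
    exact h1 (Ideal.mem_map_of_mem _ (hlow i j (Finset.mem_range.mp hj)))
  exact hM.isPrime.mem_of_pow_mem _ h2

include hg hd hlow in
lemma 𝔫_le_of_isMaximal (M : Ideal (A g)) [hM : M.IsMaximal] : 𝔫 g ≤ M := by
  unfold 𝔫
  rw [sup_le_iff]
  refine ⟨?_, map_maximalIdeal_le g hd hlow hg M⟩
  rw [Ideal.span_le]
  rintro _ ⟨i, rfl⟩
  exact u_mem_of_isMaximal g hd hlow hg M i

include hg hd hlow in
lemma isLocalRing : IsLocalRing (A g) := by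
  refine IsLocalRing.of_unique_max_ideal ⟨𝔫 g, 𝔫_isMaximal g hd hlow, ?_⟩
  intro M hM
  have := hM
  exact ((𝔫_isMaximal g hd hlow).eq_of_le hM.ne_top (𝔫_le_of_isMaximal g hd hlow hg M)).symm

include hd hlow in
lemma maximalIdeal_eq [IsLocalRing (A g)] : maximalIdeal (A g) = 𝔫 g :=
  (IsLocalRing.eq_maximalIdeal (𝔫_isMaximal g hd hlow)).symm

end

section dim
variable {R : Type u} [CommRing R] [IsLocalRing R] {n : ℕ} (g : Fin n → Polynomial R)
variable (hd : ∀ i, 0 < (g i).natDegree) (hg : ∀ i, (g i).Monic)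

lemma isNoetherianRing [IsNoetherianRing R] : IsNoetherianRing (A g) :=
  isNoetherianRing_of_surjective (MvPolynomial (Fin n) R) (A g) (mk g).toRingHom (mk_surjective g)

include hg hd in
lemma ringKrullDim_le [IsNoetherianRing R] [IsLocalRing (A g)] :
    ringKrullDim R ≤ ringKrullDim (A g) := by
  haveI : Module.Free R (A g) := free g hg hd
  haveI : Module.Finite R (A g) := finite g hg hd
  haveI : Algebra.IsIntegral R (A g) := Algebra.IsIntegral.of_finite R (A g)
  haveI : IsNoetherianRing (A g) := isNoetherianRing g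
  haveI : (maximalIdeal (A g)).LiesOver (maximalIdeal R) := by
    constructor
    have h1 : ((maximalIdeal (A g)).comap (algebraMap R (A g))).IsMaximal :=
      Ideal.isMaximal_comap_of_isIntegral_of_isMaximal (maximalIdeal (A g))
    exact (IsLocalRing.eq_maximalIdeal h1).symm
  have h := Ideal.height_eq_height_add_of_liesOver_of_hasGoingDown (maximalIdeal R)
    (maximalIdeal (A g))
  rw [← maximalIdeal_height_eq_ringKrullDim, ← maximalIdeal_height_eq_ringKrullDim, h]
  exact_mod_cast le_self_add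

end dim

section regular
variable {R : Type u} [CommRing R] [IsLocalRing R] {n : ℕ} (g : Fin n → Polynomial R)
variable (hd : ∀ i, 0 < (g i).natDegree)
  (hlow : ∀ i j, j < (g i).natDegree → (g i).coeff j ∈ maximalIdeal R)
  (hg : ∀ i, (g i).Monic)
  (hx : Ideal.map (algebraMap R (A g)) (maximalIdeal R) ≤ Ideal.span (Set.range (u g)))

include hx in
lemma 𝔫_eq_span : 𝔫 g = Ideal.span (Set.range (u g)) := by
  unfold 𝔫
  exact sup_eq_left.mpr hx

include hd hlow hx in
lemma span_u_isMaximal : (Ideal.span (Set.range (u g))).IsMaximal := by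
  rw [← 𝔫_eq_span g hx]
  exact 𝔫_isMaximal g hd hlow

include hd hlow hx in
lemma maximalIdeal_eq_span [IsLocalRing (A g)] :
    maximalIdeal (A g) = Ideal.span (Set.range (u g)) := by
  rw [maximalIdeal_eq g hd hlow, 𝔫_eq_span g hx]

include hd hlow hg hx in
lemma isRegularLocalRing [IsNoetherianRing R] (hdim : (n : WithBot ℕ∞) ≤ ringKrullDim R) :
    IsRegularLocalRing (A g) := by
  haveI := isLocalRing g hd hlow hg
  haveI := isNoetherianRing g
  apply IsRegularLocalRing.of_spanFinrank_maximalIdeal_le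
  rw [maximalIdeal_eq_span g hd hlow hx]
  refine le_trans ?_ (le_trans hdim (ringKrullDim_le g hd hg))
  have h1 : (Ideal.span (Set.range (u g))).spanFinrank ≤ n := by
    refine le_trans (Submodule.spanFinrank_span_le_ncard_of_finite (Set.finite_range _)) ?_
    rw [← Set.image_univ]
    refine le_trans (Set.ncard_image_le Set.finite_univ) ?_
    simp
  exact_mod_cast h1

end regular

section complete

lemma isPrecomplete_of_pow_le {S : Type*} [CommRing S] {M : Type*} [AddCommGroup M] [Module S M]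
    (I J : Ideal S) (k : ℕ) (hk : J ^ k ≤ I) (hIJ : I ≤ J) [IsPrecomplete I M] :
    IsPrecomplete J M := by
  have hk' : ∀ m : ℕ, J ^ ((k + 1) * m) ≤ I ^ m := by
    intro m
    rw [pow_mul]
    exact Ideal.pow_right_mono (le_trans (Ideal.pow_le_pow_right (Nat.le_succ k)) hk) m
  refine ⟨fun f hf => ?_⟩
  have h1 : ∀ {m n : ℕ}, m ≤ n → f ((k + 1) * m) ≡ f ((k + 1) * n)
      [SMOD (I ^ m • ⊤ : Submodule S M)] := by
    intro m n hmn
    have h2 := hf (Nat.mul_le_mul_left (k + 1) hmn)
    exact SModEq.mono (Submodule.smul_mono (hk' m) le_rfl) h2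
  obtain ⟨L, hL⟩ := IsPrecomplete.prec ‹IsPrecomplete I M› h1
  refine ⟨L, fun m => ?_⟩
  have h3 : f m ≡ f ((k + 1) * m) [SMOD (J ^ m • ⊤ : Submodule S M)] :=
    hf (Nat.le_mul_of_pos_left m (Nat.succ_pos k))
  have h4 : f ((k + 1) * m) ≡ L [SMOD (J ^ m • ⊤ : Submodule S M)] :=
    SModEq.mono (Submodule.smul_mono (Ideal.pow_right_mono hIJ m) le_rfl) (hL m)
  exact h3.trans h4

variable {R : Type u} [CommRing R] [IsLocalRing R] {n : ℕ} (g : Fin n → Polynomial R)
variable (hd : ∀ i, 0 < (g i).natDegree)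
  (hlow : ∀ i j, j < (g i).natDegree → (g i).coeff j ∈ maximalIdeal R)
  (hg : ∀ i, (g i).Monic)
  (hx : Ideal.map (algebraMap R (A g)) (maximalIdeal R) ≤ Ideal.span (Set.range (u g)))

include hg hlow in
lemma span_u_le_radical :
    Ideal.span (Set.range (u g)) ≤
      (Ideal.map (algebraMap R (A g)) (maximalIdeal R)).radical := by
  rw [Ideal.span_le]
  rintro _ ⟨i, rfl⟩
  refine ⟨(g i).natDegree, ?_⟩
  rw [u_pow_natDegree g hg i]
  apply neg_mem
  apply Ideal.sum_mem
  intro j hj
  rw [Algebra.smul_def]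
  apply Ideal.mul_mem_right
  exact Ideal.mem_map_of_mem _ (hlow i j (Finset.mem_range.mp hj))

include hd hlow hg hx in
lemma isAdicComplete_span_u [IsNoetherianRing R] [IsAdicComplete (maximalIdeal R) R] :
    IsAdicComplete (Ideal.span (Set.range (u g))) (A g) := by
  haveI := isLocalRing g hd hlow hg
  haveI := isNoetherianRing g
  haveI : Module.Free R (A g) := free g hg hd
  haveI : Module.Finite R (A g) := finite g hg hd
  haveI h1 : IsPrecomplete (maximalIdeal R) (A g) :=
    Groth.Agent.Lib.Helper9.IdemLift.isPrecomplete_of_projective (maximalIdeal R) (A g)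
  haveI h2 : IsPrecomplete (Ideal.map (algebraMap R (A g)) (maximalIdeal R)) (A g) :=
    IsPrecomplete.map_algebraMap_iff.mpr h1
  obtain ⟨k, hk⟩ := Ideal.exists_pow_le_of_le_radical_of_fg (span_u_le_radical g hlow hg)
    (Submodule.fg_span (Set.finite_range _))
  haveI h3 : IsPrecomplete (Ideal.span (Set.range (u g))) (A g) :=
    isPrecomplete_of_pow_le _ _ k hk hx
  haveI h4 : IsHausdorff (Ideal.span (Set.range (u g))) (A g) :=
    IsHausdorff.of_isLocalRing _ _ (span_u_isMaximal g hd hlow hx).ne_top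
  exact ⟨⟩

end complete

end Groth.Agent.Lib.Helper9.MonicQuotLocal
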