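import Mathlib
import Groth.Agent.Lib.Helper9.MonicQuot
import Groth.Agent.Lib.Helper9.MonicQuotLocal
import Groth.Agent.Lib.Helper8.MvPSLocal
import Groth.Agent.Lib.Helper8.MvPSDim
import Groth.Agent.Lib.Helper8.RegularLocal

set_option autoImplicit false
universe u

namespace Groth.Agent.Lib.Helper9.ASFamily

open IsLocalRing
open Groth.Agent.Lib.Helper9.MonicQuot Groth.Agent.Lib.Helper9.MonicQuotLocal
open Groth.Agent.Helper8

section
variable (p : ℕ) [hp : Fact p.Prime] {k : Type u} [Field k] {n : ℕ}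
  (a : Fin n → MvPowerSeries (Fin n) k)

/-- the Artin–Schreier polynomials -/
noncomputable def gAS (i : Fin n) : Polynomial (MvPowerSeries (Fin n) k) :=
  Polynomial.X ^ p - Polynomial.C (a i ^ (p - 1)) * Polynomial.X -
    Polynomial.C (MvPowerSeries.X i)

lemma gAS_eq (i : Fin n) : gAS p a i = Polynomial.X ^ p -
    (Polynomial.C (a i ^ (p - 1)) * Polynomial.X + Polynomial.C (MvPowerSeries.X i)) := by
  unfold gAS
  ring

include hp in
lemma natDegree_gAS (i : Fin n) : (gAS p a i).natDegree = p := by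
  rw [gAS_eq]
  have h1 : (Polynomial.C (a i ^ (p - 1)) * Polynomial.X +
      Polynomial.C (MvPowerSeries.X i) : Polynomial (MvPowerSeries (Fin n) k)).natDegree <
      (Polynomial.X ^ p : Polynomial (MvPowerSeries (Fin n) k)).natDegree := by
    rw [Polynomial.natDegree_X_pow]
    exact lt_of_le_of_lt (Polynomial.natDegree_linear_le) hp.out.one_lt
  rw [Polynomial.natDegree_sub_eq_left_of_natDegree_lt h1, Polynomial.natDegree_X_pow]

include hp in
lemma monic_gAS (i : Fin n) : (gAS p a i).Monic := by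
  rw [gAS_eq]
  apply Polynomial.Monic.sub_of_left (Polynomial.monic_X_pow p)
  rw [Polynomial.degree_X_pow]
  refine lt_of_le_of_lt Polynomial.degree_linear_le ?_
  exact_mod_cast hp.out.one_lt

include hp in
lemma natDegree_pos (i : Fin n) : 0 < (gAS p a i).natDegree := by
  rw [natDegree_gAS]
  exact hp.out.pos

lemma G_gAS (i : Fin n) : G (gAS p a) i =
    MvPolynomial.X i ^ p - MvPolynomial.C (a i ^ (p - 1)) * MvPolynomial.X i -
      MvPolynomial.C (MvPowerSeries.X i) := by
  unfold G gAS
  simp [MvPolynomial.algebraMap_eq]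

lemma I_gAS : I (gAS p a) = Ideal.span (Set.range fun i : Fin n =>
    MvPolynomial.X i ^ p - MvPolynomial.C (a i ^ (p - 1)) * MvPolynomial.X i -
      MvPolynomial.C (MvPowerSeries.X i)) := by
  unfold I
  congr 2
  funext i
  exact G_gAS p a i

variable (ham : ∀ i, MvPowerSeries.constantCoeff (a i) = 0)

include hp ham in
lemma hlow (i : Fin n) (j : ℕ) (hj : j < (gAS p a i).natDegree) :
    (gAS p a i).coeff j ∈ maximalIdeal (MvPowerSeries (Fin n) k) := by
  rw [natDegree_gAS] at hj
  rw [mvPowerSeries_mem_maximalIdeal_iff]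
  have h1 : (gAS p a i).map (MvPowerSeries.constantCoeff (σ := Fin n) (R := k)) =
      Polynomial.X ^ p := by
    unfold gAS
    have hp1 : p - 1 ≠ 0 := by have := hp.out.one_lt; omega
    simp [ham i, hp1]
  have h2 := Polynomial.coeff_map (MvPowerSeries.constantCoeff (σ := Fin n) (R := k))
    (p := gAS p a i) j
  rw [h1, Polynomial.coeff_X_pow, if_neg (ne_of_lt hj)] at h2
  exact h2.symm

lemma u_rel (i : Fin n) :
    algebraMap (MvPowerSeries (Fin n) k) (A (gAS p a)) (MvPowerSeries.X i) =
      u (gAS p a) i ^ p -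
        algebraMap (MvPowerSeries (Fin n) k) (A (gAS p a)) (a i) ^ (p - 1) * u (gAS p a) i := by
  have h1 : Polynomial.aeval (u (gAS p a) i) (Polynomial.X ^ p -
      Polynomial.C (a i ^ (p - 1)) * Polynomial.X -
      Polynomial.C (MvPowerSeries.X i) : Polynomial (MvPowerSeries (Fin n) k)) = 0 :=
    aeval_u (gAS p a) i
  simp only [map_sub, map_mul, map_pow, Polynomial.aeval_X, Polynomial.aeval_C] at h1
  rw [sub_eq_zero] at h1
  exact h1.symm

lemma hx : Ideal.map (algebraMap (MvPowerSeries (Fin n) k) (A (gAS p a)))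
    (maximalIdeal (MvPowerSeries (Fin n) k)) ≤ Ideal.span (Set.range (u (gAS p a))) := by
  rw [mvPowerSeries_maximalIdeal_eq, Ideal.map_span, Ideal.span_le]
  rintro _ ⟨_, ⟨i, rfl⟩, rfl⟩
  rw [SetLike.mem_coe, u_rel]
  have h1 : u (gAS p a) i ∈ Ideal.span (Set.range (u (gAS p a))) := Ideal.subset_span ⟨i, rfl⟩
  have hp0 : p ≠ 0 := hp.out.ne_zero
  exact Ideal.sub_mem _ (Ideal.pow_mem_of_mem _ h1 p (Nat.pos_of_ne_zero hp0))
    (Ideal.mul_mem_left _ _ h1)

end

section main
variable (p : ℕ) [hp : Fact p.Prime] {k : Type u} [Field k] {n : ℕ}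
  (a : Fin n → MvPowerSeries (Fin n) k)
  (ham : ∀ i, MvPowerSeries.constantCoeff (a i) = 0)

include hp ham in
theorem isRegularLocalRing_A : IsRegularLocalRing (A (gAS p a)) :=
  isRegularLocalRing (gAS p a) (natDegree_pos p a) (hlow p a ham) (monic_gAS p a) (hx p a)
    (le_of_eq (ringKrullDim_mvPowerSeries_fin k n).symm)

include hp ham in
theorem span_u_isMaximal_A : (Ideal.span (Set.range (u (gAS p a)))).IsMaximal :=
  span_u_isMaximal (gAS p a) (natDegree_pos p a) (hlow p a ham) (hx p a)

include hp in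
theorem free_A : Module.Free (MvPowerSeries (Fin n) k) (A (gAS p a)) :=
  free (gAS p a) (monic_gAS p a) (natDegree_pos p a)

include hp in
theorem finite_A : Module.Finite (MvPowerSeries (Fin n) k) (A (gAS p a)) :=
  finite (gAS p a) (monic_gAS p a) (natDegree_pos p a)

include hp in
theorem finrank_A : Module.finrank (MvPowerSeries (Fin n) k) (A (gAS p a)) = p ^ n := by
  rw [finrank_eq (gAS p a) (monic_gAS p a) (natDegree_pos p a)]
  simp [natDegree_gAS]

include hp ham in
theorem isAdicComplete_A : IsAdicComplete (Ideal.span (Set.range (u (gAS p a)))) (A (gAS p a)) :=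
  isAdicComplete_span_u (gAS p a) (natDegree_pos p a) (hlow p a ham) (monic_gAS p a) (hx p a)

include hp ham in
theorem isDomain_A : IsDomain (A (gAS p a)) := by
  haveI := isRegularLocalRing_A p a ham
  exact Groth.Agent.Helper8.RLR.isDomain (A (gAS p a))

lemma map_mk_eq (J : Ideal (MvPolynomial (Fin n) (MvPowerSeries (Fin n) k)))
    (hJ : J = I (gAS p a)) :
    ∀ (P : ∀ (J' : Ideal (MvPolynomial (Fin n) (MvPowerSeries (Fin n) k))),
      Ideal (MvPolynomial (Fin n) (MvPowerSeries (Fin n) k) ⧸ J') → Prop),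
      P (I (gAS p a)) (Ideal.span (Set.range (u (gAS p a)))) →
      P J (Ideal.map (Ideal.Quotient.mk J)
        (Ideal.span (Set.range (MvPolynomial.X :
          Fin n → MvPolynomial (Fin n) (MvPowerSeries (Fin n) k))))) := by
  subst hJ
  intro P hP
  have h := span_u_eq_map (gAS p a)
  have h2 : (Ideal.map (Ideal.Quotient.mk (I (gAS p a)))
        (Ideal.span (Set.range (MvPolynomial.X :
          Fin n → MvPolynomial (Fin n) (MvPowerSeries (Fin n) k))))) =
      Ideal.span (Set.range (u (gAS p a))) := h.symm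
  rw [h2]
  exact hP

end main

end Groth.Agent.Lib.Helper9.ASFamily
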