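import Mathlib
import Groth.Agent.Lib.Helper9.ASFamily

set_option autoImplicit false
set_option linter.unusedSectionVars false
set_option linter.style.haveILetI false
universe u

namespace Groth.Agent.Lib.Helper9.ASAut

open IsLocalRing
open Groth.Agent.Lib.Helper9.MonicQuot Groth.Agent.Lib.Helper9.MonicQuotLocal
open Groth.Agent.Lib.Helper9.ASFamily
open Groth.Agent.Helper8

section
variable (p : ℕ) [hp : Fact p.Prime] {k : Type u} [Field k] [hk : CharP k p] {n : ℕ}
  (a : Fin n → MvPowerSeries (Fin n) k)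


/-- the prime field inside `R` -/
noncomputable def e : ZMod p →+* MvPowerSeries (Fin n) k :=
  (MvPowerSeries.C (σ := Fin n) (R := k)).comp (ZMod.castHom (dvd_refl p) k)

lemma e_injective : Function.Injective (e p (k := k) (n := n)) := RingHom.injective _

lemma e_pow (c : ZMod p) : e p (k := k) (n := n) c ^ p = e p c := by
  rw [← map_pow, ZMod.pow_card]

include hp hk in
lemma charP_R : CharP (MvPowerSeries (Fin n) k) p :=
  charP_of_injective_ringHom (f := MvPowerSeries.C (σ := Fin n) (R := k))
    (RingHom.injective _) p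

/-- image of `a i` in `A` -/
noncomputable def al (i : Fin n) : A (gAS p a) :=
  algebraMap (MvPowerSeries (Fin n) k) (A (gAS p a)) (a i)

/-- image of the prime field in `A` -/
noncomputable def ζ (c : ZMod p) : A (gAS p a) :=
  algebraMap (MvPowerSeries (Fin n) k) (A (gAS p a)) (e p c)

lemma ζ_pow (c : ZMod p) : ζ p a c ^ p = ζ p a c := by
  unfold ζ
  rw [← map_pow, e_pow]

lemma ζ_add (c d : ZMod p) : ζ p a (c + d) = ζ p a c + ζ p a d := by
  unfold ζ
  rw [map_add, map_add]

lemma ζ_zero : ζ p a 0 = 0 := by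
  unfold ζ
  rw [map_zero, map_zero]

lemma ζ_one : ζ p a 1 = 1 := by
  unfold ζ
  rw [map_one, map_one]

lemma u_pow_p (i : Fin n) :
    u (gAS p a) i ^ p = al p a i ^ (p - 1) * u (gAS p a) i +
      algebraMap (MvPowerSeries (Fin n) k) (A (gAS p a)) (MvPowerSeries.X i) := by
  rw [u_rel p a i]
  unfold al
  ring

variable (ham : ∀ i, MvPowerSeries.constantCoeff (a i) = 0)

include hp ham in
lemma algebraMap_injective :
    Function.Injective (algebraMap (MvPowerSeries (Fin n) k) (A (gAS p a))) := by
  haveI := free_A p a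
  haveI := isDomain_A p a ham
  exact FaithfulSMul.algebraMap_injective _ _

include hp hk ham in
lemma charP_A : CharP (A (gAS p a)) p := by
  haveI := charP_R p (k := k) (n := n)
  exact charP_of_injective_ringHom (algebraMap_injective p a ham) p

/-- `y` is a root of `g i` iff `y ^ p = al ^ (p-1) * y + x` -/
lemma aeval_gAS (i : Fin n) (y : A (gAS p a)) :
    Polynomial.aeval y (gAS p a i) = y ^ p - al p a i ^ (p - 1) * y -
      algebraMap (MvPowerSeries (Fin n) k) (A (gAS p a)) (MvPowerSeries.X i) := by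
  have h1 : gAS p a i = Polynomial.X ^ p - Polynomial.C (a i ^ (p - 1)) * Polynomial.X -
    Polynomial.C (MvPowerSeries.X i) := rfl
  rw [h1]
  unfold al
  simp only [map_sub, map_mul, map_pow, Polynomial.aeval_X, Polynomial.aeval_C]

include hp hk ham in
lemma aeval_add (i : Fin n) (w : A (gAS p a)) :
    Polynomial.aeval (u (gAS p a) i + w) (gAS p a i) = w ^ p - al p a i ^ (p - 1) * w := by
  haveI := charP_A p a ham
  rw [aeval_gAS p a, add_pow_char, u_pow_p]
  ring

include hp hk ham in
lemma aeval_shift (i : Fin n) (c : ZMod p) :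
    Polynomial.aeval (u (gAS p a) i + ζ p a c * al p a i) (gAS p a i) = 0 := by
  rw [aeval_add p a ham, mul_pow, ζ_pow]
  have hp1 : al p a i ^ p = al p a i ^ (p - 1) * al p a i := by
    rw [← pow_succ]
    congr 1
    have := hp.out.one_lt
    omega
  rw [hp1]
  ring

end

section aut
variable (p : ℕ) [hp : Fact p.Prime] {k : Type u} [Field k] [hk : CharP k p] {n : ℕ}
  (a : Fin n → MvPowerSeries (Fin n) k)
  (ham : ∀ i, MvPowerSeries.constantCoeff (a i) = 0)

/-- the substitution `u i ↦ u i + c i * a i` as an algebra endomorphism -/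
noncomputable def σH (c : Fin n → ZMod p) :
    A (gAS p a) →ₐ[MvPowerSeries (Fin n) k] A (gAS p a) :=
  lift (gAS p a) (fun i => u (gAS p a) i + ζ p a (c i) * al p a i)
    (fun i => aeval_shift p a ham i (c i))

lemma σH_u (c : Fin n → ZMod p) (i : Fin n) :
    σH p a ham c (u (gAS p a) i) = u (gAS p a) i + ζ p a (c i) * al p a i := by
  unfold σH
  rw [lift_u]

lemma σH_ζ (c : Fin n → ZMod p) (d : ZMod p) : σH p a ham c (ζ p a d) = ζ p a d := by
  unfold ζ
  rw [AlgHom.commutes]

lemma σH_al (c : Fin n → ZMod p) (i : Fin n) : σH p a ham c (al p a i) = al p a i := by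
  unfold al
  rw [AlgHom.commutes]

lemma σH_comp (c d : Fin n → ZMod p) :
    (σH p a ham c).comp (σH p a ham d) = σH p a ham (c + d) := by
  apply algHom_ext
  intro i
  rw [AlgHom.comp_apply, σH_u, map_add, map_mul, σH_u, σH_ζ, σH_al, σH_u, Pi.add_apply, ζ_add]
  ring

lemma σH_zero : σH p a ham 0 = AlgHom.id _ _ := by
  apply algHom_ext
  intro i
  rw [σH_u, Pi.zero_apply, ζ_zero, zero_mul, add_zero, AlgHom.id_apply]

/-- the substitution automorphisms -/
noncomputable def σE (c : Fin n → ZMod p) :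
    A (gAS p a) ≃ₐ[MvPowerSeries (Fin n) k] A (gAS p a) :=
  AlgEquiv.ofAlgHom (σH p a ham c) (σH p a ham (-c))
    (by rw [σH_comp, add_neg_cancel, σH_zero])
    (by rw [σH_comp, neg_add_cancel, σH_zero])

lemma σE_apply (c : Fin n → ZMod p) (x : A (gAS p a)) : σE p a ham c x = σH p a ham c x := rfl

lemma σE_u (c : Fin n → ZMod p) (i : Fin n) :
    σE p a ham c (u (gAS p a) i) = u (gAS p a) i + ζ p a (c i) * al p a i :=
  σH_u p a ham c i

lemma σE_mul (c d : Fin n → ZMod p) : σE p a ham c * σE p a ham d = σE p a ham (c + d) := by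
  apply AlgEquiv.ext
  intro x
  rw [AlgEquiv.mul_apply, σE_apply, σE_apply, σE_apply, ← σH_comp]
  rfl

lemma σE_zero : σE p a ham 0 = 1 := by
  apply AlgEquiv.ext
  intro x
  rw [σE_apply, σH_zero]
  rfl

lemma σE_pow (c : Fin n → ZMod p) (m : ℕ) : σE p a ham c ^ m = σE p a ham (m • c) := by
  induction m with
  | zero => rw [pow_zero, zero_smul, σE_zero]
  | succ m ih => rw [pow_succ, ih, σE_mul, succ_nsmul]

lemma σE_pow_p (c : Fin n → ZMod p) : σE p a ham c ^ p = 1 := by
  rw [σE_pow]
  have h : p • c = 0 := by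
    funext i
    rw [Pi.smul_apply, Pi.zero_apply, nsmul_eq_mul, ZMod.natCast_self, zero_mul]
  rw [h, σE_zero]

variable (ha0 : ∀ i, a i ≠ 0)

include ha0 ham in
lemma al_ne_zero (i : Fin n) : al p a i ≠ 0 := by
  unfold al
  intro h
  rw [← map_zero (algebraMap (MvPowerSeries (Fin n) k) (A (gAS p a)))] at h
  exact ha0 i (algebraMap_injective p a ham h)

include ham in
lemma ζ_injective : Function.Injective (ζ p a) := by
  intro c d h
  unfold ζ at h
  exact e_injective p (algebraMap_injective p a ham h)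

include ha0 in
lemma σE_injective : Function.Injective (σE p a ham) := by
  intro c d h
  funext i
  have h1 : σE p a ham c (u (gAS p a) i) = σE p a ham d (u (gAS p a) i) := by rw [h]
  rw [σE_u, σE_u, add_right_inj] at h1
  haveI := isDomain_A p a ham
  exact ζ_injective p a ham (mul_right_cancel₀ (al_ne_zero p a ham ha0 i) h1)

end aut

section roots
variable (p : ℕ) [hp : Fact p.Prime] {k : Type u} [Field k] [hk : CharP k p] {n : ℕ}
  (a : Fin n → MvPowerSeries (Fin n) k)
  (ham : ∀ i, MvPowerSeries.constantCoeff (a i) = 0)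
  (ha0 : ∀ i, a i ≠ 0)

/-- the additive polynomial `X ^ p - al ^ (p-1) X` -/
noncomputable def hpoly (i : Fin n) : Polynomial (A (gAS p a)) :=
  Polynomial.X ^ p - Polynomial.C (al p a i ^ (p - 1)) * Polynomial.X

include hp ham in
lemma hpoly_natDegree (i : Fin n) : (hpoly p a i).natDegree = p := by
  haveI := isDomain_A p a ham
  unfold hpoly
  have h1 : (Polynomial.C (al p a i ^ (p - 1)) * Polynomial.X :
      Polynomial (A (gAS p a))).natDegree <
      (Polynomial.X ^ p : Polynomial (A (gAS p a))).natDegree := by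
    rw [Polynomial.natDegree_X_pow]
    refine lt_of_le_of_lt (le_trans (Polynomial.natDegree_C_mul_le _ _) ?_) hp.out.one_lt
    exact Polynomial.natDegree_X_le
  rw [Polynomial.natDegree_sub_eq_left_of_natDegree_lt h1, Polynomial.natDegree_X_pow]

include hp ham in
lemma hpoly_ne_zero (i : Fin n) : hpoly p a i ≠ 0 := by
  intro h
  have h1 := hpoly_natDegree p a ham i
  rw [h, Polynomial.natDegree_zero] at h1
  exact hp.out.ne_zero h1.symm

lemma hpoly_eval (i : Fin n) (w : A (gAS p a)) :
    (hpoly p a i).eval w = w ^ p - al p a i ^ (p - 1) * w := by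
  unfold hpoly
  simp

include hp in
lemma hpoly_root (i : Fin n) (c : ZMod p) : (hpoly p a i).IsRoot (ζ p a c * al p a i) := by
  rw [Polynomial.IsRoot, hpoly_eval, mul_pow, ζ_pow]
  have hp1 : al p a i ^ p = al p a i ^ (p - 1) * al p a i := by
    rw [← pow_succ]
    congr 1
    have := hp.out.one_lt
    omega
  rw [hp1]
  ring

include hp ham ha0 in
lemma exists_of_root (i : Fin n) (w : A (gAS p a)) (hw : w ^ p - al p a i ^ (p - 1) * w = 0) :
    ∃ c : ZMod p, w = ζ p a c * al p a i := by
  classical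
  haveI := isDomain_A p a ham
  have hinj : Function.Injective (fun c : ZMod p => ζ p a c * al p a i) := by
    intro c d h
    exact ζ_injective p a ham (mul_right_cancel₀ (al_ne_zero p a ham ha0 i) h)
  have hsub : Finset.univ.image (fun c : ZMod p => ζ p a c * al p a i) ⊆
      (hpoly p a i).roots.toFinset := by
    intro x hx
    rw [Finset.mem_image] at hx
    obtain ⟨c, -, rfl⟩ := hx
    rw [Multiset.mem_toFinset, Polynomial.mem_roots (hpoly_ne_zero p a ham i)]
    exact hpoly_root p a i c
  have hcard : (hpoly p a i).roots.toFinset.card ≤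
      (Finset.univ.image (fun c : ZMod p => ζ p a c * al p a i)).card := by
    rw [Finset.card_image_of_injective _ hinj, Finset.card_univ, ZMod.card]
    refine le_trans (Multiset.toFinset_card_le _) ?_
    refine le_trans (Polynomial.card_roots' _) ?_
    rw [hpoly_natDegree p a ham i]
  have heq := Finset.eq_of_subset_of_card_le hsub hcard
  have hw' : w ∈ (hpoly p a i).roots.toFinset := by
    rw [Multiset.mem_toFinset, Polynomial.mem_roots (hpoly_ne_zero p a ham i), Polynomial.IsRoot,
      hpoly_eval]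
    exact hw
  rw [← heq, Finset.mem_image] at hw'
  obtain ⟨c, -, hc⟩ := hw'
  exact ⟨c, hc.symm⟩

include hp hk ham ha0 in
lemma σE_surjective : Function.Surjective (σE p a ham) := by
  intro τ
  have h1 : ∀ i, ∃ c : ZMod p, τ (u (gAS p a) i) = u (gAS p a) i + ζ p a c * al p a i := by
    intro i
    have h2 : Polynomial.aeval (τ (u (gAS p a) i)) (gAS p a i) = 0 := by
      have h3 := Polynomial.aeval_algHom_apply τ.toAlgHom (u (gAS p a) i) (gAS p a i)
      rw [aeval_u, map_zero] at h3
      exact h3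
    have h4 : τ (u (gAS p a) i) = u (gAS p a) i + (τ (u (gAS p a) i) - u (gAS p a) i) := by ring
    rw [h4, aeval_add p a ham] at h2
    obtain ⟨c, hc⟩ := exists_of_root p a ham ha0 i _ h2
    exact ⟨c, by rw [← hc]; ring⟩
  choose c hc using h1
  refine ⟨c, ?_⟩
  apply AlgEquiv.ext
  intro x
  have h5 : σH p a ham c = τ.toAlgHom := by
    apply algHom_ext
    intro i
    rw [σH_u]
    exact (hc i).symm
  rw [σE_apply, h5]
  rfl

end roots

section group
variable (p : ℕ) [hp : Fact p.Prime] {k : Type u} [Field k] [hk : CharP k p] {n : ℕ}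
  (a : Fin n → MvPowerSeries (Fin n) k)
  (ham : ∀ i, MvPowerSeries.constantCoeff (a i) = 0)
  (ha0 : ∀ i, a i ≠ 0)

include hp hk ham ha0 in
theorem card_aut :
    Nat.card (A (gAS p a) ≃ₐ[MvPowerSeries (Fin n) k] A (gAS p a)) = p ^ n := by
  have h1 := Nat.card_congr (Equiv.ofBijective (σE p a ham)
    ⟨σE_injective p a ham ha0, σE_surjective p a ham ha0⟩)
  rw [← h1, Nat.card_eq_fintype_card, Fintype.card_fun, ZMod.card, Fintype.card_fin]

include hp hk ham ha0 in
theorem aut_comm (σ τ : A (gAS p a) ≃ₐ[MvPowerSeries (Fin n) k] A (gAS p a)) :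
    σ * τ = τ * σ := by
  obtain ⟨c, rfl⟩ := σE_surjective p a ham ha0 σ
  obtain ⟨d, rfl⟩ := σE_surjective p a ham ha0 τ
  rw [σE_mul, σE_mul, add_comm]

include hp hk ham ha0 in
theorem aut_pow_p (σ : A (gAS p a) ≃ₐ[MvPowerSeries (Fin n) k] A (gAS p a)) : σ ^ p = 1 := by
  obtain ⟨c, rfl⟩ := σE_surjective p a ham ha0 σ
  exact σE_pow_p p a ham c

end group

end Groth.Agent.Lib.Helper9.ASAut
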