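import Mathlib
import Groth.Agent.Lib.Helper9.ASAut

set_option autoImplicit false
set_option linter.unusedSectionVars false
set_option linter.style.haveILetI false
universe u

namespace Groth.Agent.Lib.Helper9.ASInv

open IsLocalRing
open Groth.Agent.Lib.Helper9.MonicQuot Groth.Agent.Lib.Helper9.MonicQuotLocal
open Groth.Agent.Lib.Helper9.ASFamily Groth.Agent.Lib.Helper9.ASAut
open Groth.Agent.Helper8

section general
variable {R : Type u} [CommRing R] {n : ℕ} (g : Fin n → Polynomial R)
variable (hg : ∀ i, (g i).Monic) (hd : ∀ i, 0 < (g i).natDegree)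

lemma pow_mul_rest_eq (α : ι g) (i : Fin n) (j : ℕ) (hj : j < (g i).natDegree) :
    u g i ^ j * rest g α i = mon g (Function.update α i ⟨j, hj⟩) := by
  rw [mon_eq g _ i, rest_update, Function.update_self]

/-- span of monomials of `u i`-degree `< m` -/
noncomputable def F (i : Fin n) (m : ℕ) : Submodule R (A g) :=
  Submodule.span R (mon g '' {α | (α i : ℕ) < m})

lemma mon_mem_F (i : Fin n) (m : ℕ) (α : ι g) (h : (α i : ℕ) < m) : mon g α ∈ F g i m :=
  Submodule.subset_span ⟨α, h, rfl⟩

lemma coord_mon (α β : ι g) :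
    (basis g hg hd).coord β (mon g α) = if α = β then 1 else 0 := by
  rw [Module.Basis.coord_apply, ← basis_apply g hg hd α, Module.Basis.repr_self_apply]

lemma coord_F (i : Fin n) (m : ℕ) (β : ι g) (hβ : m ≤ (β i : ℕ)) (x : A g) (hx : x ∈ F g i m) :
    (basis g hg hd).coord β x = 0 := by
  unfold F at hx
  induction hx using Submodule.span_induction with
  | mem x hx =>
    obtain ⟨α, hα, rfl⟩ := hx
    rw [coord_mon, if_neg]
    rintro rfl
    rw [Set.mem_setOf_eq] at hα
    omega
  | zero => rw [map_zero]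
  | add x y _ _ hx hy => rw [map_add, hx, hy, add_zero]
  | smul r x _ hx => rw [map_smul, hx, smul_zero]

lemma mon_zero : mon g (fun i => ⟨0, hd i⟩) = 1 := by
  unfold mon
  simp

end general

section spec
variable (p : ℕ) [hp : Fact p.Prime] {k : Type u} [Field k] [hk : CharP k p] {n : ℕ}
  (a : Fin n → MvPowerSeries (Fin n) k)
  (ham : ∀ i, MvPowerSeries.constantCoeff (a i) = 0)

/-- the generator `u i ↦ u i + a i` -/
noncomputable def σ1 (i : Fin n) : A (gAS p a) ≃ₐ[MvPowerSeries (Fin n) k] A (gAS p a) :=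
  σE p a ham (Pi.single i 1)

lemma σ1_u_self (i : Fin n) :
    σ1 p a ham i (u (gAS p a) i) = u (gAS p a) i + al p a i := by
  rw [σ1, σE_u, Pi.single_eq_same, ζ_one, one_mul]

lemma σ1_u_ne (i l : Fin n) (h : l ≠ i) :
    σ1 p a ham i (u (gAS p a) l) = u (gAS p a) l := by
  rw [σ1, σE_u, Pi.single_eq_of_ne h, ζ_zero, zero_mul, add_zero]

lemma σ1_rest (i : Fin n) (α : ι (gAS p a)) :
    σ1 p a ham i (rest (gAS p a) α i) = rest (gAS p a) α i := by
  unfold rest
  rw [map_prod]
  apply Finset.prod_congr rfl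
  intro l hl
  rw [map_pow, σ1_u_ne p a ham i l (Finset.ne_of_mem_erase hl)]

lemma σ1_mon (i : Fin n) (α : ι (gAS p a)) :
    σ1 p a ham i (mon (gAS p a) α) =
      (u (gAS p a) i + al p a i) ^ (α i : ℕ) * rest (gAS p a) α i := by
  rw [mon_eq (gAS p a) α i, map_mul, map_pow, σ1_u_self, σ1_rest]

lemma Δ_mon_zero (i : Fin n) (α : ι (gAS p a)) (h : (α i : ℕ) = 0) :
    σ1 p a ham i (mon (gAS p a) α) = mon (gAS p a) α := by
  rw [σ1_mon, mon_eq (gAS p a) α i, h, pow_zero, pow_zero]

lemma add_pow_succ_split {S : Type*} [CommRing S] (x y : S) (m : ℕ) :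
    (x + y) ^ (m + 1) = (∑ j ∈ Finset.range m, x ^ j * y ^ (m + 1 - j) * ((m + 1).choose j : S))
      + ((m : S) + 1) * y * x ^ m + x ^ (m + 1) := by
  rw [add_pow, Finset.sum_range_succ, Finset.sum_range_succ, Nat.choose_self,
    Nat.choose_succ_self_right, Nat.sub_self, Nat.add_sub_cancel_left]
  push_cast
  ring

lemma Δ_mon_succ (i : Fin n) (α : ι (gAS p a)) (m : ℕ) (h : (α i : ℕ) = m + 1)
    (hm : m < (gAS p a i).natDegree) :
    σ1 p a ham i (mon (gAS p a) α) - mon (gAS p a) α -
      (((m : MvPowerSeries (Fin n) k) + 1) * a i) •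
        mon (gAS p a) (Function.update α i ⟨m, hm⟩) ∈ F (gAS p a) i m := by
  have h1 : σ1 p a ham i (mon (gAS p a) α) - mon (gAS p a) α -
      (((m : MvPowerSeries (Fin n) k) + 1) * a i) •
        mon (gAS p a) (Function.update α i ⟨m, hm⟩) =
      ∑ j ∈ Finset.range m, (a i ^ (m + 1 - j) * ((m + 1).choose j : MvPowerSeries (Fin n) k)) •
        (u (gAS p a) i ^ j * rest (gAS p a) α i) := by
    rw [σ1_mon, h, add_pow_succ_split, mon_eq (gAS p a) α i, h,
      ← pow_mul_rest_eq (gAS p a) α i m hm, Algebra.smul_def, map_mul, map_add, map_natCast,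
      map_one]
    have h2 : ∀ j ∈ Finset.range m,
        (a i ^ (m + 1 - j) * ((m + 1).choose j : MvPowerSeries (Fin n) k)) •
          (u (gAS p a) i ^ j * rest (gAS p a) α i) =
        (u (gAS p a) i ^ j * al p a i ^ (m + 1 - j) * ((m + 1).choose j : A (gAS p a))) *
          rest (gAS p a) α i := by
      intro j _
      rw [Algebra.smul_def, map_mul, map_pow, map_natCast]
      unfold al
      ring
    rw [Finset.sum_congr rfl h2, ← Finset.sum_mul]
    unfold al
    ring
  rw [h1]
  apply Submodule.sum_mem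
  intro j hj
  apply Submodule.smul_mem
  have hj' : j < (gAS p a i).natDegree := lt_trans (Finset.mem_range.mp hj) hm
  rw [pow_mul_rest_eq (gAS p a) α i j hj']
  apply mon_mem_F
  rw [Function.update_self]
  exact Finset.mem_range.mp hj

end spec

section step
variable (p : ℕ) [hp : Fact p.Prime] {k : Type u} [Field k] [hk : CharP k p] {n : ℕ}
  (a : Fin n → MvPowerSeries (Fin n) k)
  (ham : ∀ i, MvPowerSeries.constantCoeff (a i) = 0)
  (ha0 : ∀ i, a i ≠ 0)

/-- the monomial basis -/
noncomputable def BB : Module.Basis (ι (gAS p a)) (MvPowerSeries (Fin n) k) (A (gAS p a)) :=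
  basis (gAS p a) (monic_gAS p a) (natDegree_pos p a)

lemma BB_apply (α : ι (gAS p a)) : BB p a α = mon (gAS p a) α :=
  basis_apply (gAS p a) (monic_gAS p a) (natDegree_pos p a) α

include hp hk in
lemma natCast_ne_zero (m : ℕ) (h1 : 0 < m) (h2 : m < p) :
    ((m : ℕ) : MvPowerSeries (Fin n) k) ≠ 0 := by
  haveI := charP_R p (k := k) (n := n)
  intro h
  rw [CharP.cast_eq_zero_iff (MvPowerSeries (Fin n) k) p] at h
  exact Nat.not_dvd_of_pos_of_lt h1 h2 h

include hp hk ha0 in
lemma step (i : Fin n) (b : A (gAS p a)) (hfix : σ1 p a ham i b = b) (m : ℕ)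
    (hQ : ∀ α : ι (gAS p a), m + 2 ≤ (α i : ℕ) → (BB p a).repr b α = 0) :
    ∀ α : ι (gAS p a), (α i : ℕ) = m + 1 → (BB p a).repr b α = 0 := by
  classical
  intro αs hαs
  have hm : m < (gAS p a i).natDegree := by
    have := (αs i).2
    omega
  have hmp : m + 1 < p := by
    have := (αs i).2
    have h := natDegree_gAS p a i
    omega
  have hb : b = ∑ α, (BB p a).repr b α • mon (gAS p a) α := by
    conv_lhs => rw [← (BB p a).sum_repr b]
    apply Finset.sum_congr rfl
    intro α _
    rw [BB_apply]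
  have h0 : (BB p a).coord (Function.update αs i ⟨m, hm⟩) (σ1 p a ham i b - b) = 0 := by
    rw [hfix, sub_self, map_zero]
  have h1 : σ1 p a ham i b - b = ∑ α, (BB p a).repr b α •
      (σ1 p a ham i (mon (gAS p a) α) - mon (gAS p a) α) := by
    conv_lhs => rw [hb]
    rw [map_sum, ← Finset.sum_sub_distrib]
    apply Finset.sum_congr rfl
    intro α _
    rw [map_smul, smul_sub]
  rw [h1, map_sum, Finset.sum_eq_single αs] at h0
  · have h2 := Δ_mon_succ p a ham i αs m hαs hm
    have h3 := coord_F (gAS p a) (monic_gAS p a) (natDegree_pos p a) i m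
      (Function.update αs i ⟨m, hm⟩) (by rw [Function.update_self]) _ h2
    rw [map_sub, map_smul, coord_mon, if_pos rfl, sub_eq_zero] at h3
    have h4 : (BB p a).coord (Function.update αs i ⟨m, hm⟩)
        (σ1 p a ham i (mon (gAS p a) αs) - mon (gAS p a) αs) =
        (((m : MvPowerSeries (Fin n) k) + 1) * a i) • (1 : MvPowerSeries (Fin n) k) := h3
    rw [map_smul, h4, smul_eq_mul, smul_eq_mul, mul_one] at h0
    rcases mul_eq_zero.mp h0 with h5 | h5
    · exact h5
    · exfalso
      rcases mul_eq_zero.mp h5 with h6 | h6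
      · have h7 := natCast_ne_zero p (k := k) (n := n) (m + 1) (Nat.succ_pos m) hmp
        apply h7
        push_cast
        exact h6
      · exact ha0 i h6
  · intro α _ hne
    rw [map_smul]
    by_cases hc1 : m + 2 ≤ (α i : ℕ)
    · rw [hQ α hc1, zero_smul]
    by_cases hc2 : (α i : ℕ) = 0
    · rw [Δ_mon_zero p a ham i α hc2, sub_self, map_zero, smul_zero]
    obtain ⟨m', hm'⟩ : ∃ m', (α i : ℕ) = m' + 1 := Nat.exists_eq_succ_of_ne_zero hc2
    have hm'lt : m' < (gAS p a i).natDegree := by
      have := (α i).2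
      omega
    have h2 := Δ_mon_succ p a ham i α m' hm' hm'lt
    have h3 := coord_F (gAS p a) (monic_gAS p a) (natDegree_pos p a) i m'
      (Function.update αs i ⟨m, hm⟩) (by rw [Function.update_self]; show m' ≤ m; omega) _ h2
    have hneq : ¬ (Function.update α i ⟨m', hm'lt⟩ = Function.update αs i ⟨m, hm⟩) := by
      intro heq
      apply hne
      have h5 : m' = m := by
        have h6 := congrFun heq i
        rw [Function.update_self, Function.update_self] at h6
        exact Fin.mk.inj_iff.mp h6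
      funext l
      by_cases hl : l = i
      · subst hl
        apply Fin.ext
        omega
      · have h6 := congrFun heq l
        rw [Function.update_of_ne hl, Function.update_of_ne hl] at h6
        exact h6
    rw [map_sub, map_smul, coord_mon, if_neg hneq, smul_zero, sub_zero] at h3
    have h4 : (BB p a).coord (Function.update αs i ⟨m, hm⟩)
        (σ1 p a ham i (mon (gAS p a) α) - mon (gAS p a) α) = 0 := h3
    rw [h4, smul_zero]
  · intro h
    exact absurd (Finset.mem_univ _) h

end step

section final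
variable (p : ℕ) [hp : Fact p.Prime] {k : Type u} [Field k] [hk : CharP k p] {n : ℕ}
  (a : Fin n → MvPowerSeries (Fin n) k)
  (ham : ∀ i, MvPowerSeries.constantCoeff (a i) = 0)
  (ha0 : ∀ i, a i ≠ 0)

include hp hk ha0 in
lemma repr_eq_zero_of_fixed (i : Fin n) (b : A (gAS p a)) (hfix : σ1 p a ham i b = b) :
    ∀ α : ι (gAS p a), 1 ≤ (α i : ℕ) → (BB p a).repr b α = 0 := by
  have key : ∀ t m : ℕ, m + t = p → ∀ α : ι (gAS p a), m + 1 ≤ (α i : ℕ) →
      (BB p a).repr b α = 0 := by
    intro t
    induction t with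
    | zero =>
      intro m hm α hα
      exfalso
      have h1 := (α i).2
      have h2 := natDegree_gAS p a i
      omega
    | succ t ih =>
      intro m hm α hα
      have hQ := ih (m + 1) (by omega)
      by_cases h : (α i : ℕ) = m + 1
      · exact step p a ham ha0 i b hfix m hQ α h
      · exact hQ α (by omega)
  intro α hα
  exact key p 0 (by omega) α (by omega)

include hp hk ham ha0 in
theorem fixed_iff (b : A (gAS p a)) :
    (∀ σ : A (gAS p a) ≃ₐ[MvPowerSeries (Fin n) k] A (gAS p a), σ b = b) ↔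
      b ∈ Set.range (algebraMap (MvPowerSeries (Fin n) k) (A (gAS p a))) := by
  classical
  constructor
  · intro h
    have h1 : ∀ α : ι (gAS p a), α ≠ (fun i => ⟨0, natDegree_pos p a i⟩) →
        (BB p a).repr b α = 0 := by
      intro α hα
      obtain ⟨i, hi⟩ : ∃ i, (α i : ℕ) ≠ 0 := by
        by_contra hcon
        push Not at hcon
        apply hα
        funext i
        apply Fin.ext
        exact hcon i
      exact repr_eq_zero_of_fixed p a ham ha0 i b (h _) α (Nat.pos_of_ne_zero hi)
    refine ⟨(BB p a).repr b (fun i => ⟨0, natDegree_pos p a i⟩), ?_⟩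
    rw [Algebra.algebraMap_eq_smul_one, ← mon_zero (gAS p a) (natDegree_pos p a)]
    conv_rhs => rw [← (BB p a).sum_repr b]
    rw [Finset.sum_eq_single (fun i => ⟨0, natDegree_pos p a i⟩), BB_apply]
    · intro α _ hα
      rw [h1 α hα, zero_smul]
    · intro h2
      exact absurd (Finset.mem_univ _) h2
  · rintro ⟨r, rfl⟩ σ
    exact σ.commutes r

end final

end Groth.Agent.Lib.Helper9.ASInv
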