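import Mathlib

set_option autoImplicit false

namespace Groth.Agent.Lib.Helper9.SkewSym

open SkewMonoidAlgebra

section
variable {R A G : Type*} [CommRing R] [CommRing A] [Algebra R A] [Group G] [Finite G]
  [MulSemiringAction G A] [SMulCommClass G R A]
  (lam : A →ₗ[R] R)

/-- the trace-like form on the skew group ring: `lam` of the coefficient at `1` -/
noncomputable def phi : SkewMonoidAlgebra A G →ₗ[R] R :=
  lam ∘ₗ (Finsupp.lapply (1 : G)) ∘ₗ
    (coeffLinearEquiv (S := R) (k := A) (G := G)).toLinearMap

lemma phi_apply (x : SkewMonoidAlgebra A G) : phi lam x = lam (x.coeff 1) := rfl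

variable (hinv : ∀ (h : G) (b : A), lam (h • b) = lam b)

include hinv in
lemma phi_single_mul_single (h h' : G) (b c : A) :
    phi lam (single h b * single h' c) = phi lam (single h' c * single h b) := by
  classical
  rw [phi_apply, phi_apply, coeff_single_mul, coeff_single_mul, coeff_single_apply,
    coeff_single_apply, mul_one, mul_one]
  by_cases hh : h' = h⁻¹
  · subst hh
    rw [if_pos rfl, if_pos (inv_inv h).symm]
    rw [← hinv h (c * h⁻¹ • b), smul_mul', smul_inv_smul, mul_comm]
  · rw [if_neg hh, if_neg, smul_zero, smul_zero, mul_zero, mul_zero]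
    intro h2
    apply hh
    rw [h2, inv_inv]

include hinv in
theorem phi_symm (x y : SkewMonoidAlgebra A G) : phi lam (x * y) = phi lam (y * x) := by
  induction x using SkewMonoidAlgebra.induction_on with
  | zero => rw [zero_mul, mul_zero]
  | single h b =>
    induction y using SkewMonoidAlgebra.induction_on with
    | zero => rw [zero_mul, mul_zero]
    | single h' c => exact phi_single_mul_single lam hinv h h' b c
    | add f g hf hg => rw [mul_add, add_mul, map_add, map_add, hf, hg]
  | add f g hf hg => rw [mul_add, add_mul, map_add, map_add, hf, hg]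

lemma phi_single_mul (h : G) (b : A) (y : SkewMonoidAlgebra A G) :
    phi lam (single h b * y) = lam (b * h • y.coeff h⁻¹) := by
  rw [phi_apply, coeff_single_mul, mul_one]

variable (hsurj : ∀ ψ : A →ₗ[R] R, ∃ d : A, ∀ b, ψ b = lam (b * d))
  (hinj : ∀ d : A, (∀ b, lam (b * d) = 0) → d = 0)

include hinj in
theorem phi_injective :
    Function.Injective (fun y : SkewMonoidAlgebra A G =>
      fun x : SkewMonoidAlgebra A G => phi lam (x * y)) := by
  intro y y' hyy
  have h1 : ∀ x : SkewMonoidAlgebra A G, phi lam (x * (y - y')) = 0 := by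
    intro x
    rw [mul_sub, map_sub, sub_eq_zero]
    exact congrFun hyy x
  have h2 : ∀ h : G, (y - y').coeff h⁻¹ = 0 := by
    intro h
    have h3 : h • (y - y').coeff h⁻¹ = 0 := by
      apply hinj
      intro b
      rw [← phi_single_mul]
      exact h1 _
    exact (smul_eq_zero_iff_eq h).mp h3
  have h4 : y - y' = 0 := by
    apply SkewMonoidAlgebra.ext
    intro h
    have := h2 h⁻¹
    rw [inv_inv] at this
    rw [this]
    rfl
  exact sub_eq_zero.mp h4

include hsurj in
theorem phi_surjective (ψ : SkewMonoidAlgebra A G →ₗ[R] R) :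
    ∃ y : SkewMonoidAlgebra A G, ∀ x, ψ x = phi lam (x * y) := by
  classical
  haveI : Fintype G := Fintype.ofFinite G
  -- the components of ψ
  let sgl : G → (A →ₗ[R] SkewMonoidAlgebra A G) := fun h =>
    (coeffLinearEquiv (S := R) (k := A) (G := G)).symm.toLinearMap ∘ₗ Finsupp.lsingle h
  have hsgl : ∀ h b, sgl h b = single h b := fun h b => rfl
  choose d hd using fun h : G => hsurj (ψ ∘ₗ sgl h)
  refine ⟨⟨Finsupp.equivFunOnFinite.symm (fun h' => h' • d h'⁻¹)⟩, ?_⟩
  intro x
  induction x using SkewMonoidAlgebra.induction_on with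
  | zero => rw [zero_mul, map_zero, map_zero]
  | single h b =>
    rw [phi_single_mul]
    have h1 : (⟨Finsupp.equivFunOnFinite.symm (fun h' => h' • d h'⁻¹)⟩ :
        SkewMonoidAlgebra A G).coeff h⁻¹ = h⁻¹ • d h := by
      show (Finsupp.equivFunOnFinite.symm (fun h' => h' • d h'⁻¹)) h⁻¹ = _
      rw [Finsupp.equivFunOnFinite_symm_apply_apply, inv_inv]
    rw [h1, smul_inv_smul, ← hd h b, LinearMap.comp_apply, hsgl]
  | add f g hf hg => rw [add_mul, map_add, map_add, hf, hg]

end

end Groth.Agent.Lib.Helper9.SkewSym
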