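import Mathlib
import Groth.Agent.Lib.Helper9.ASInv
import Groth.Agent.Lib.Helper9.SkewSym

set_option autoImplicit false
set_option linter.unusedSectionVars false
set_option linter.style.haveILetI false
universe u v

namespace Groth.Agent.Lib.Helper9.ASFrob

open IsLocalRing
open Groth.Agent.Lib.Helper9.MonicQuot Groth.Agent.Lib.Helper9.MonicQuotLocal
open Groth.Agent.Lib.Helper9.ASFamily Groth.Agent.Lib.Helper9.ASAut
open Groth.Agent.Lib.Helper9.ASInv
open Groth.Agent.Helper8

section general
variable {R : Type u} [CommRing R] {n : ℕ} (g : Fin n → Polynomial R)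
variable (hg : ∀ i, (g i).Monic) (hd : ∀ i, 0 < (g i).natDegree)

/-- product of single-variable expressions, expanded in the monomial basis -/
lemma prod_sum_eq (c : (i : Fin n) → Fin (g i).natDegree → R) :
    ∏ i, ∑ j : Fin (g i).natDegree, c i j • u g i ^ (j : ℕ) =
      ∑ α : ι g, (∏ i, c i (α i)) • mon g α := by
  rw [Fintype.prod_sum]
  apply Finset.sum_congr rfl
  intro α _
  unfold mon
  simp_rw [Algebra.smul_def]
  rw [Finset.prod_mul_distrib, map_prod]

lemma coord_prod_sum (c : (i : Fin n) → Fin (g i).natDegree → R) (β : ι g) :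
    (basis g hg hd).coord β (∏ i, ∑ j : Fin (g i).natDegree, c i j • u g i ^ (j : ℕ)) =
      ∏ i, c i (β i) := by
  classical
  rw [prod_sum_eq, map_sum, Finset.sum_eq_single β]
  · rw [map_smul, coord_mon, if_pos rfl, smul_eq_mul, mul_one]
  · intro α _ hα
    rw [map_smul, coord_mon, if_neg hα, smul_zero]
  · intro h
    exact absurd (Finset.mem_univ _) h

end general

section spec
variable (p : ℕ) [hp : Fact p.Prime] {k : Type u} [Field k] [hk : CharP k p] {n : ℕ}
  (a : Fin n → MvPowerSeries (Fin n) k)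

/-- index of `u i ^ m` -/
def idx (i : Fin n) (m : ℕ) (hm : m < p) : Fin (gAS p a i).natDegree :=
  ⟨m, by rw [natDegree_gAS]; exact hm⟩

/-- the top index -/
def top : ι (gAS p a) := fun i => idx p a i (p - 1) (Nat.sub_lt hp.out.pos one_pos)

lemma top_val (i : Fin n) : ((top p a i : Fin (gAS p a i).natDegree) : ℕ) = p - 1 := rfl

/-- the Frobenius form: coefficient of the top monomial -/
noncomputable def lam : A (gAS p a) →ₗ[MvPowerSeries (Fin n) k] MvPowerSeries (Fin n) k :=
  (BB p a).coord (top p a)

lemma lin1 (i : Fin n) (l1 : Fin (gAS p a i).natDegree) (r1 : MvPowerSeries (Fin n) k) :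
    ∑ l, (Pi.single l1 r1 : Fin (gAS p a i).natDegree → MvPowerSeries (Fin n) k) l •
      u (gAS p a) i ^ (l : ℕ) = r1 • u (gAS p a) i ^ (l1 : ℕ) := by
  rw [Finset.sum_eq_single l1]
  · rw [Pi.single_eq_same]
  · intro l _ hl
    rw [Pi.single_eq_of_ne hl, zero_smul]
  · intro h
    exact absurd (Finset.mem_univ _) h

lemma lin2 (i : Fin n) (l1 l2 : Fin (gAS p a i).natDegree) (r1 r2 : MvPowerSeries (Fin n) k) :
    ∑ l, ((Pi.single l1 r1 + Pi.single l2 r2 :
      Fin (gAS p a i).natDegree → MvPowerSeries (Fin n) k)) l •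
      u (gAS p a) i ^ (l : ℕ) = r1 • u (gAS p a) i ^ (l1 : ℕ) + r2 • u (gAS p a) i ^ (l2 : ℕ) := by
  simp_rw [Pi.add_apply, add_smul]
  rw [Finset.sum_add_distrib, lin1, lin1]

/-- dual basis factor -/
noncomputable def w (i : Fin n) (j : ℕ) : A (gAS p a) :=
  if j = 0 then u (gAS p a) i ^ (p - 1) - al p a i ^ (p - 1) else u (gAS p a) i ^ (p - 1 - j)

lemma idx_eq_top_iff (i : Fin n) (m : ℕ) (hm : m < p) : top p a i = idx p a i m hm ↔ p - 1 = m := by
  unfold top idx
  rw [Fin.mk.injEq]

include hp in
lemma sv (i : Fin n) (a' j : ℕ) (ha' : a' < p) (hj : j < p) :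
    ∃ κ : Fin (gAS p a i).natDegree → MvPowerSeries (Fin n) k,
      u (gAS p a) i ^ a' * w p a i j = ∑ l, κ l • u (gAS p a) i ^ (l : ℕ) ∧
      κ (top p a i) = if a' = j then 1 else 0 := by
  have hp2 : 2 ≤ p := hp.out.two_le
  by_cases hj0 : j = 0
  · subst hj0
    by_cases ha0 : a' = 0
    · subst ha0
      refine ⟨Pi.single (idx p a i (p - 1) (by omega)) 1 + Pi.single (idx p a i 0 (by omega))
        (-(a i ^ (p - 1))), ?_, ?_⟩
      · rw [lin2]
        unfold w idx al
        rw [if_pos rfl, pow_zero, one_mul, one_smul, Algebra.smul_def, mul_one,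
          map_neg, map_pow]
        simp only [Fin.val_mk, pow_zero]
        ring
      · rw [Pi.add_apply, Pi.single_apply, Pi.single_apply, if_pos rfl,
          if_pos ((idx_eq_top_iff p a i _ _).mpr rfl), if_neg, add_zero]
        rw [idx_eq_top_iff]
        omega
    · refine ⟨Pi.single (idx p a i (a' - 1) (by omega)) (MvPowerSeries.X i), ?_, ?_⟩
      · rw [lin1]
        unfold w idx
        rw [if_pos rfl, Algebra.smul_def]
        have h1 : u (gAS p a) i ^ a' = u (gAS p a) i ^ (a' - 1) * u (gAS p a) i := by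
          rw [← pow_succ]
          congr 1
          omega
        have h2 : u (gAS p a) i ^ a' * u (gAS p a) i ^ (p - 1) =
            u (gAS p a) i ^ (a' - 1) * u (gAS p a) i ^ p := by
          rw [← pow_add, ← pow_add]
          congr 1
          omega
        rw [mul_sub, h2, u_pow_p, h1]
        show _ = _ * u (gAS p a) i ^ (a' - 1)
        ring
      · rw [Pi.single_apply, if_neg, if_neg ha0]
        rw [idx_eq_top_iff]
        omega
  · by_cases hle : a' ≤ j
    · refine ⟨Pi.single (idx p a i (a' + (p - 1 - j)) (by omega)) 1, ?_, ?_⟩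
      · rw [lin1]
        unfold w idx
        rw [if_neg hj0, one_smul, ← pow_add]
      · rw [Pi.single_apply]
        by_cases haj : a' = j
        · rw [if_pos haj, if_pos]
          rw [idx_eq_top_iff]
          omega
        · rw [if_neg haj, if_neg]
          rw [idx_eq_top_iff]
          omega
    · refine ⟨Pi.single (idx p a i (a' - j) (by omega)) (a i ^ (p - 1)) +
        Pi.single (idx p a i (a' - j - 1) (by omega)) (MvPowerSeries.X i), ?_, ?_⟩
      · rw [lin2]
        unfold w idx al
        rw [if_neg hj0, Algebra.smul_def, Algebra.smul_def, map_pow]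
        have h1 : u (gAS p a) i ^ a' * u (gAS p a) i ^ (p - 1 - j) =
            u (gAS p a) i ^ (a' - j - 1) * u (gAS p a) i ^ p := by
          rw [← pow_add, ← pow_add]
          congr 1
          omega
        have h2 : u (gAS p a) i ^ (a' - j) = u (gAS p a) i ^ (a' - j - 1) * u (gAS p a) i := by
          rw [← pow_succ]
          congr 1
          omega
        rw [h1, u_pow_p]
        show _ = _ * u (gAS p a) i ^ (a' - j) + _ * u (gAS p a) i ^ (a' - j - 1)
        rw [h2]
        unfold al
        ring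
      · rw [Pi.add_apply, Pi.single_apply, Pi.single_apply, if_neg, if_neg, add_zero, if_neg]
        · omega
        · rw [idx_eq_top_iff]
          omega
        · rw [idx_eq_top_iff]
          omega

end spec

section dual
variable (p : ℕ) [hp : Fact p.Prime] {k : Type u} [Field k] [hk : CharP k p] {n : ℕ}
  (a : Fin n → MvPowerSeries (Fin n) k)

/-- the dual basis -/
noncomputable def v (β : ι (gAS p a)) : A (gAS p a) := ∏ i, w p a i (β i : ℕ)

include hp in
lemma lam_mon_mul_v (α β : ι (gAS p a)) :
    lam p a (mon (gAS p a) α * v p a β) = if α = β then 1 else 0 := by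
  classical
  have hlt : ∀ (i : Fin n) (γ : ι (gAS p a)), (γ i : ℕ) < p := by
    intro i γ
    have h1 := (γ i).2
    have h2 := natDegree_gAS p a i
    omega
  unfold mon v
  rw [← Finset.prod_mul_distrib]
  choose κ hκ1 hκ2 using fun i => sv p a i (α i) (β i) (hlt i α) (hlt i β)
  rw [Finset.prod_congr rfl (fun i _ => hκ1 i)]
  unfold lam BB
  rw [coord_prod_sum]
  simp_rw [hκ2]
  rw [Fintype.prod_ite_zero, Finset.prod_const_one]
  congr 1
  apply propext
  constructor
  · intro h
    funext i
    exact Fin.ext (h i)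
  · intro h i
    rw [h]

include hp in
theorem lam_surj (ψ : A (gAS p a) →ₗ[MvPowerSeries (Fin n) k] MvPowerSeries (Fin n) k) :
    ∃ d : A (gAS p a), ∀ b, ψ b = lam p a (b * d) := by
  classical
  refine ⟨∑ β, ψ (mon (gAS p a) β) • v p a β, fun b => ?_⟩
  have h1 : ψ = lam p a ∘ₗ LinearMap.mulRight (MvPowerSeries (Fin n) k)
      (∑ β, ψ (mon (gAS p a) β) • v p a β) := by
    apply (BB p a).ext
    intro α
    rw [LinearMap.comp_apply, LinearMap.mulRight_apply, BB_apply, Finset.mul_sum, map_sum,
      Finset.sum_eq_single α]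
    · rw [mul_smul_comm, map_smul, lam_mon_mul_v, if_pos rfl, smul_eq_mul, mul_one]
    · intro β _ hβ
      rw [mul_smul_comm, map_smul, lam_mon_mul_v, if_neg (Ne.symm hβ), smul_zero]
    · intro h
      exact absurd (Finset.mem_univ _) h
  conv_lhs => rw [h1]
  rfl

include hp in
theorem lam_inj (d : A (gAS p a)) (h : ∀ b, lam p a (b * d) = 0) : d = 0 := by
  haveI := finite_A p a
  let Θ : A (gAS p a) →ₗ[MvPowerSeries (Fin n) k]
      (A (gAS p a) →ₗ[MvPowerSeries (Fin n) k] MvPowerSeries (Fin n) k) :=
    LinearMap.compr₂ (LinearMap.mul (MvPowerSeries (Fin n) k) (A (gAS p a))) (lam p a)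
  have hΘ : ∀ d b, Θ d b = lam p a (d * b) := fun d b => rfl
  have hsurj : Function.Surjective Θ := by
    intro ψ
    obtain ⟨d, hd⟩ := lam_surj p a ψ
    refine ⟨d, ?_⟩
    apply LinearMap.ext
    intro b
    rw [hΘ, mul_comm, hd]
  let e := (BB p a).toDualEquiv
  have hf : Function.Surjective (e.symm.toLinearMap ∘ₗ Θ) := by
    rw [LinearMap.coe_comp]
    exact e.symm.surjective.comp hsurj
  have hinj := OrzechProperty.injective_of_surjective_endomorphism _ hf
  have hΘinj : Function.Injective Θ := by
    intro x y hxy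
    apply hinj
    rw [LinearMap.comp_apply, LinearMap.comp_apply, hxy]
  apply hΘinj
  rw [map_zero]
  apply LinearMap.ext
  intro b
  rw [hΘ, mul_comm, h]
  rfl

end dual

section inv
variable (p : ℕ) [hp : Fact p.Prime] {k : Type u} [Field k] [hk : CharP k p] {n : ℕ}
  (a : Fin n → MvPowerSeries (Fin n) k)
  (ham : ∀ i, MvPowerSeries.constantCoeff (a i) = 0)

include hp in
lemma lam_σ1_mon (i : Fin n) (α : ι (gAS p a)) :
    lam p a (σ1 p a ham i (mon (gAS p a) α)) = lam p a (mon (gAS p a) α) := by
  classical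
  by_cases h0 : (α i : ℕ) = 0
  · rw [Δ_mon_zero p a ham i α h0]
  · obtain ⟨m, hm⟩ := Nat.exists_eq_succ_of_ne_zero h0
    have hαlt : (α i : ℕ) < p := by
      have h1 := (α i).2
      have h2 := natDegree_gAS p a i
      omega
    have hmlt : m < (gAS p a i).natDegree := by
      have := (α i).2
      omega
    have h2 := Δ_mon_succ p a ham i α m hm hmlt
    have h3 := coord_F (gAS p a) (monic_gAS p a) (natDegree_pos p a) i m (top p a)
      (by rw [top_val]; omega) _ h2
    have hne : ¬ (Function.update α i ⟨m, hmlt⟩ = top p a) := by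
      intro heq
      have h4 := congrFun heq i
      rw [Function.update_self] at h4
      have h5 := congrArg Fin.val h4
      rw [top_val] at h5
      simp only at h5
      omega
    rw [map_sub, map_sub, map_smul,
      coord_mon (gAS p a) (monic_gAS p a) (natDegree_pos p a) (Function.update α i ⟨m, hmlt⟩)
        (top p a), if_neg hne, smul_zero, sub_zero, sub_eq_zero] at h3
    exact h3

include hp in
lemma lam_σ1 (i : Fin n) (x : A (gAS p a)) : lam p a (σ1 p a ham i x) = lam p a x := by
  have h1 : lam p a ∘ₗ (σ1 p a ham i).toLinearMap = lam p a := by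
    apply (BB p a).ext
    intro α
    rw [LinearMap.comp_apply, BB_apply]
    exact lam_σ1_mon p a ham i α
  conv_rhs => rw [← h1]
  rfl

include hp in
lemma lam_σE_sum (s : Finset (Fin n)) (x : A (gAS p a)) :
    lam p a (σE p a ham (∑ i ∈ s, Pi.single i (1 : ZMod p)) x) = lam p a x := by
  classical
  induction s using Finset.induction_on generalizing x with
  | empty => rw [Finset.sum_empty, σE_zero]; rfl
  | insert i s hi ih =>
    rw [Finset.sum_insert hi, ← σE_mul, AlgEquiv.mul_apply]
    have h1 : σE p a ham (Pi.single i 1) = σ1 p a ham i := rfl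
    rw [h1, lam_σ1, ih]

include hp in
lemma lam_σE_one (x : A (gAS p a)) :
    lam p a (σE p a ham (fun _ => 1) x) = lam p a x := by
  have h1 : (fun _ => 1 : Fin n → ZMod p) = ∑ i, Pi.single i (1 : ZMod p) :=
    (Finset.univ_sum_single (fun _ => (1 : ZMod p))).symm
  rw [h1]
  exact lam_σE_sum p a ham Finset.univ x

end inv

section action
variable (p : ℕ) [hp : Fact p.Prime] {k : Type u} [Field k] [hk : CharP k p] {n : ℕ}
  (a : Fin n → MvPowerSeries (Fin n) k)
  (ham : ∀ i, MvPowerSeries.constantCoeff (a i) = 0)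
variable {G : Type v} [Group G] [Finite G] [MulSemiringAction G (A (gAS p a))]
  [SMulCommClass G (MvPowerSeries (Fin n) k) (A (gAS p a))]
  (g0 : G) (hgen : ∀ h : G, h ∈ Subgroup.zpowers g0)
  (hact : ∀ i, g0 • u (gAS p a) i = u (gAS p a) i +
    algebraMap (MvPowerSeries (Fin n) k) (A (gAS p a)) (a i))

include hact in
lemma smul_eq_σE (x : A (gAS p a)) : g0 • x = σE p a ham (fun _ => 1) x := by
  have h1 : (MulSemiringAction.toAlgEquiv (MvPowerSeries (Fin n) k) (A (gAS p a)) g0).toAlgHom =
      σH p a ham (fun _ => 1) := by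
    apply algHom_ext
    intro i
    show g0 • u (gAS p a) i = _
    rw [hact, σH_u, ζ_one, one_mul]
    rfl
  exact AlgHom.congr_fun h1 x

include hp ham hgen hact in
lemma lam_smul (h : G) (x : A (gAS p a)) : lam p a (h • x) = lam p a x := by
  have key : ∀ h ∈ Subgroup.zpowers g0, ∀ x : A (gAS p a), lam p a (h • x) = lam p a x := by
    intro h hh
    rw [Subgroup.zpowers_eq_closure] at hh
    induction hh using Subgroup.closure_induction with
    | mem y hy =>
      rw [Set.mem_singleton_iff] at hy
      subst hy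
      intro x
      rw [smul_eq_σE p a ham y hact, lam_σE_one]
    | one => intro x; rw [one_smul]
    | mul y z _ _ hy hz => intro x; rw [mul_smul, hy, hz]
    | inv y _ hy => intro x; rw [← hy (y⁻¹ • x), smul_inv_smul]
  exact key h (hgen h) x

include hp hgen hact ham in
theorem main :
    ∃ φ : SkewMonoidAlgebra (A (gAS p a)) G →ₗ[MvPowerSeries (Fin n) k] MvPowerSeries (Fin n) k,
      (∀ x y : SkewMonoidAlgebra (A (gAS p a)) G, φ (x * y) = φ (y * x)) ∧
      Function.Injective (fun y : SkewMonoidAlgebra (A (gAS p a)) G =>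
        fun x : SkewMonoidAlgebra (A (gAS p a)) G => φ (x * y)) ∧
      ∀ ψ : SkewMonoidAlgebra (A (gAS p a)) G →ₗ[MvPowerSeries (Fin n) k] MvPowerSeries (Fin n) k,
        ∃ y : SkewMonoidAlgebra (A (gAS p a)) G, ∀ x, ψ x = φ (x * y) :=
  ⟨Groth.Agent.Lib.Helper9.SkewSym.phi (lam p a),
    Groth.Agent.Lib.Helper9.SkewSym.phi_symm _ (lam_smul p a ham g0 hgen hact),
    Groth.Agent.Lib.Helper9.SkewSym.phi_injective _ (lam_inj p a),
    Groth.Agent.Lib.Helper9.SkewSym.phi_surjective _ (lam_surj p a)⟩

end action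

end Groth.Agent.Lib.Helper9.ASFrob
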