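import Mathlib
import Groth.Agent.Lib.Helper9.ASAut
import Groth.Agent.Lib.Helper9.LenRes

set_option autoImplicit false
set_option linter.unusedSectionVars false
set_option linter.style.haveILetI false
universe u

namespace Groth.Agent.Lib.Helper9.ASLength

open IsLocalRing
open Groth.Agent.Lib.Helper9.MonicQuot Groth.Agent.Lib.Helper9.MonicQuotLocal
open Groth.Agent.Lib.Helper9.ASFamily Groth.Agent.Lib.Helper9.ASAut
open Groth.Agent.Helper8

section
variable (p : ℕ) [hp : Fact p.Prime] {k : Type u} [Field k] {n : ℕ}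
  (a : Fin n → MvPowerSeries (Fin n) k)
  (ham : ∀ i, MvPowerSeries.constantCoeff (a i) = 0)

/-- the extended ideal `(a) A` -/
noncomputable def aA : Ideal (A (gAS p a)) :=
  Ideal.map (algebraMap (MvPowerSeries (Fin n) k) (A (gAS p a))) (Ideal.span (Set.range a))

include ham in
lemma span_a_le : Ideal.span (Set.range a) ≤ maximalIdeal (MvPowerSeries (Fin n) k) := by
  rw [Ideal.span_le]
  rintro _ ⟨i, rfl⟩
  rw [SetLike.mem_coe, mvPowerSeries_mem_maximalIdeal_iff]
  exact ham i

include ham in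
lemma span_a_ne_top : Ideal.span (Set.range a) ≠ ⊤ := by
  intro h
  have h1 := span_a_le a ham
  rw [h] at h1
  exact (maximalIdeal.isMaximal (MvPowerSeries (Fin n) k)).ne_top (top_le_iff.mp h1)

include hp ham in
/-- `m_R A ⊆ (u)^m` for `m ≤ p` -/
lemma map_maximalIdeal_le_pow (m : ℕ) (hm : m ≤ p) :
    Ideal.map (algebraMap (MvPowerSeries (Fin n) k) (A (gAS p a)))
      (maximalIdeal (MvPowerSeries (Fin n) k)) ≤ Ideal.span (Set.range (u (gAS p a))) ^ m := by
  induction m with
  | zero => rw [pow_zero, Ideal.one_eq_top]; exact le_top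
  | succ m ih =>
    have ih' := ih (Nat.le_of_succ_le hm)
    rw [mvPowerSeries_maximalIdeal_eq, Ideal.map_span, Ideal.span_le]
    rintro _ ⟨_, ⟨i, rfl⟩, rfl⟩
    rw [SetLike.mem_coe, u_rel]
    have hu : u (gAS p a) i ∈ Ideal.span (Set.range (u (gAS p a))) := Ideal.subset_span ⟨i, rfl⟩
    refine Ideal.sub_mem _ ?_ ?_
    · exact Ideal.pow_le_pow_right hm (Ideal.pow_mem_pow hu p)
    · rw [pow_succ]
      refine Ideal.mul_mem_mul (ih' ?_) hu
      have hp1 : p - 1 ≠ 0 := by have := hp.out.one_lt; omega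
      have h1 : algebraMap (MvPowerSeries (Fin n) k) (A (gAS p a)) (a i) ∈
          Ideal.map (algebraMap (MvPowerSeries (Fin n) k) (A (gAS p a)))
            (maximalIdeal (MvPowerSeries (Fin n) k)) :=
        Ideal.mem_map_of_mem _ ((mvPowerSeries_mem_maximalIdeal_iff (Fin n) k (a i)).mpr (ham i))
      exact Ideal.pow_mem_of_mem _ h1 _ (Nat.pos_of_ne_zero hp1)

end

section fix
variable (p : ℕ) [hp : Fact p.Prime] {k : Type u} [Field k] {n : ℕ}
  (a : Fin n → MvPowerSeries (Fin n) k)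
  (ham : ∀ i, MvPowerSeries.constantCoeff (a i) = 0)
  (σ : A (gAS p a) ≃ₐ[MvPowerSeries (Fin n) k] A (gAS p a))
  (hσ : ∀ i, σ (u (gAS p a) i) = u (gAS p a) i +
    algebraMap (MvPowerSeries (Fin n) k) (A (gAS p a)) (a i))

include hp ham in
lemma aA_le_pow : aA p a ≤ Ideal.span (Set.range (u (gAS p a))) ^ p := by
  unfold aA
  exact le_trans (Ideal.map_mono (span_a_le a ham)) (map_maximalIdeal_le_pow p a ham p le_rfl)

include hσ in
lemma sub_mem_aA (t : A (gAS p a)) : σ t - t ∈ aA p a := by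
  obtain ⟨f, rfl⟩ := mk_surjective (gAS p a) t
  induction f using MvPolynomial.induction_on with
  | C r =>
    rw [← algebraMap_eq_mk, AlgEquiv.commutes, sub_self]
    exact Ideal.zero_mem _
  | add f g hf hg =>
    have : σ (mk (gAS p a) (f + g)) - mk (gAS p a) (f + g) =
        (σ (mk (gAS p a) f) - mk (gAS p a) f) + (σ (mk (gAS p a) g) - mk (gAS p a) g) := by
      rw [map_add, map_add]; ring
    rw [this]
    exact Ideal.add_mem _ hf hg
  | mul_X f i hf =>
    have h1 : mk (gAS p a) (f * MvPolynomial.X i) = mk (gAS p a) f * u (gAS p a) i := by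
      rw [map_mul]; rfl
    have h2 : σ (mk (gAS p a) f * u (gAS p a) i) - mk (gAS p a) f * u (gAS p a) i =
        (σ (mk (gAS p a) f) - mk (gAS p a) f) * u (gAS p a) i +
          σ (mk (gAS p a) f) *
            algebraMap (MvPowerSeries (Fin n) k) (A (gAS p a)) (a i) := by
      rw [map_mul, hσ]; ring
    rw [h1, h2]
    refine Ideal.add_mem _ (Ideal.mul_mem_right _ _ hf) (Ideal.mul_mem_left _ _ ?_)
    unfold aA
    exact Ideal.mem_map_of_mem _ (Ideal.subset_span ⟨i, rfl⟩)

include hσ in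
lemma span_sub_eq : Ideal.span (Set.range fun t : A (gAS p a) => σ t - t) = aA p a := by
  apply le_antisymm
  · rw [Ideal.span_le]
    rintro _ ⟨t, rfl⟩
    exact sub_mem_aA p a σ hσ t
  · unfold aA
    rw [Ideal.map_span, Ideal.span_le]
    rintro _ ⟨_, ⟨i, rfl⟩, rfl⟩
    apply Ideal.subset_span
    refine ⟨u (gAS p a) i, ?_⟩
    show σ (u (gAS p a) i) - u (gAS p a) i = _
    rw [hσ]
    ring

end fix

section len
variable (p : ℕ) [hp : Fact p.Prime] {k : Type u} [Field k] {n : ℕ}
  (a : Fin n → MvPowerSeries (Fin n) k)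
  (ham : ∀ i, MvPowerSeries.constantCoeff (a i) = 0)

include hp ham in
theorem length_quot_aA :
    Module.length (A (gAS p a)) (A (gAS p a) ⧸ aA p a) =
      ((p : ℕ∞) ^ n) * Module.length (MvPowerSeries (Fin n) k)
        (MvPowerSeries (Fin n) k ⧸ Ideal.span (Set.range a)) := by
  haveI := isLocalRing (gAS p a) (natDegree_pos p a) (hlow p a ham) (monic_gAS p a)
  haveI := free_A p a
  haveI := finite_A p a
  have hres : ∀ b : A (gAS p a), ∃ r : MvPowerSeries (Fin n) k,
      b - algebraMap (MvPowerSeries (Fin n) k) (A (gAS p a)) r ∈ maximalIdeal (A (gAS p a)) := by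
    intro b
    obtain ⟨r, hr⟩ := exists_sub_algebraMap_mem (gAS p a) b
    refine ⟨r, ?_⟩
    rw [maximalIdeal_eq_span (gAS p a) (natDegree_pos p a) (hlow p a ham) (hx p a)]
    exact hr
  rw [Groth.Agent.Lib.Helper9.LenRes.length_eq (R := MvPowerSeries (Fin n) k)
    (A := A (gAS p a)) (M := A (gAS p a) ⧸ aA p a) hres]
  unfold aA
  rw [Groth.Agent.Lib.Helper9.LenRes.length_quot_map _ (span_a_ne_top a ham), finrank_A]
  push_cast
  rfl

end len

end Groth.Agent.Lib.Helper9.ASLength
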