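import Mathlib
import Groth.Prelude.Def_W4bk4goldsch23FF
import Groth.Prelude.Def_AdFn

set_option autoImplicit false
universe u

namespace Groth.Agent.Lib.Helper9.AdFnDense

open AdFn

variable {k K : Type u} [Field k] [Field K] [Algebra k K]

/-- every element of the completion is within `O_v` of an element of `K` -/
lemma exists_sub_mem_Ov (v : FunFld.Place k K) (y : Kv v) :
    ∃ x : K, y - toKv v x ∈ Ov v := by
  have hopen : IsOpen {z : Kv v | y - z ∈ Ov v} := by
    have hc : Continuous fun z : Kv v => y - z := continuous_const.sub continuous_id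
    exact (isOpen_Ov v).preimage hc
  have hne : ({z : Kv v | y - z ∈ Ov v}).Nonempty := ⟨y, by simp [(Ov v).zero_mem]⟩
  have hd : DenseRange ((↑) : WithVal v.1 → v.1.Completion) :=
    UniformSpace.Completion.denseRange_coe
  obtain ⟨a, ha⟩ := hd.exists_mem_open hopen hne
  refine ⟨WithVal.ofVal a, ?_⟩
  rw [toKv_apply, WithVal.toVal_ofVal]
  exact ha

lemma toKv_sub_mem_Ov (v : FunFld.Place k K) (x : K) :
    toKv v x ∈ Ov v ↔ v.1 x ≤ 1 := toKv_mem_Ov v x

end Groth.Agent.Lib.Helper9.AdFnDense
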