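import Mathlib
import Groth.Agent.Lib.Helper9.AdicSum

set_option autoImplicit false
universe u

namespace Groth.Agent.Lib.Helper9.AdicPS

open MvPowerSeries Groth.Agent.Lib.Helper9.AdicSum

section basics
variable {σ : Type*} {A : Type u} [CommRing A] (I : Ideal A)

/-- reduction of coefficients modulo `I^k` -/
noncomputable def red (k : ℕ) : MvPowerSeries σ A →+* MvPowerSeries σ (A ⧸ I ^ k) :=
  MvPowerSeries.map (Ideal.Quotient.mk (I ^ k))

/-- transition maps -/
noncomputable def trn (k : ℕ) : (A ⧸ I ^ (k + 1)) →+* (A ⧸ I ^ k) :=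
  Ideal.Quotient.factor (Ideal.pow_le_pow_right (Nat.le_succ k))

lemma trn_comp_mk (k : ℕ) : (trn I k).comp (Ideal.Quotient.mk (I ^ (k + 1))) =
    Ideal.Quotient.mk (I ^ k) := Ideal.Quotient.factor_comp_mk _

lemma trn_mk (k : ℕ) (a : A) : trn I k (Ideal.Quotient.mk (I ^ (k + 1)) a) =
    Ideal.Quotient.mk (I ^ k) a := Ideal.Quotient.factor_mk _ _

lemma map_trn_red (k : ℕ) (f : MvPowerSeries σ A) :
    MvPowerSeries.map (trn I k) (red (σ := σ) I (k + 1) f) = red I k f := by
  unfold red
  rw [MvPowerSeries.map_map, trn_comp_mk]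

lemma coeff_red (k : ℕ) (f : MvPowerSeries σ A) (d : σ →₀ ℕ) :
    coeff d (red I k f) = Ideal.Quotient.mk (I ^ k) (coeff d f) := by
  unfold red
  rw [coeff_map]

/-- Hausdorff property for power series -/
lemma ext_of_red [IsHausdorff I A] {f g : MvPowerSeries σ A}
    (h : ∀ k, red I k f = red I k g) : f = g := by
  ext d
  apply eq_of_forall_sub_mem I
  intro k
  have := congrArg (coeff d) (h k)
  rw [coeff_red, coeff_red, Ideal.Quotient.eq] at this
  exact this

/-- completeness for power series -/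
lemma exists_of_compat [IsPrecomplete I A] (φ : ∀ k, MvPowerSeries σ (A ⧸ I ^ k))
    (hφ : ∀ k, MvPowerSeries.map (trn I k) (φ (k + 1)) = φ k) :
    ∃ f : MvPowerSeries σ A, ∀ k, red I k f = φ k := by
  have hex : ∀ d : σ →₀ ℕ, ∃ L : A, ∀ k, Ideal.Quotient.mk (I ^ k) L = coeff d (φ k) := by
    intro d
    have hs : ∀ k, ∃ s : A, Ideal.Quotient.mk (I ^ k) s = coeff d (φ k) :=
      fun k => Ideal.Quotient.mk_surjective _
    choose s hs using hs
    have hstep : ∀ k, s (k + 1) - s k ∈ I ^ k := by
      intro k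
      rw [← Ideal.Quotient.eq, hs k, ← hφ k, coeff_map, ← hs (k + 1), trn_mk]
    obtain ⟨L, hL⟩ := exists_lim I s hstep
    refine ⟨L, fun k => ?_⟩
    rw [← hs k, Ideal.Quotient.eq]
    exact hL k
  choose L hL using hex
  let f : MvPowerSeries σ A := fun d => L d
  refine ⟨f, fun k => ?_⟩
  ext d
  rw [coeff_red]
  exact hL d k

end basics


section translation
variable {σ : Type*} [Finite σ] {A : Type u} [CommRing A] (I : Ideal A)

/-- the substitution family `x_i + c_i` over `A ⧸ I^k` -/
noncomputable def bfam (c : σ → A) (k : ℕ) : σ → MvPowerSeries σ (A ⧸ I ^ k) :=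
  fun i => X i + C (Ideal.Quotient.mk (I ^ k) (c i))

lemma bfam_apply (c : σ → A) (k : ℕ) (i : σ) :
    bfam I c k i = X i + C (Ideal.Quotient.mk (I ^ k) (c i)) := rfl

lemma hasSubst_bfam (c : σ → A) (hc : ∀ i, c i ∈ I) (k : ℕ) : HasSubst (bfam I c k) := by
  apply hasSubst_of_constantCoeff_nilpotent
  intro i
  refine ⟨k, ?_⟩
  rw [bfam_apply, map_add, constantCoeff_X, zero_add, constantCoeff_C, ← map_pow,
    Ideal.Quotient.eq_zero_iff_mem]
  exact Ideal.pow_mem_pow (hc i) k

lemma map_trn_bfam (c : σ → A) (k : ℕ) (i : σ) :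
    MvPowerSeries.map (trn I k) (bfam I c (k + 1) i) = bfam I c k i := by
  rw [bfam_apply, bfam_apply, map_add, map_X, map_C, trn_mk]

lemma bfam_zero (k : ℕ) : bfam I (0 : σ → A) k = fun i => (X i : MvPowerSeries σ (A ⧸ I ^ k)) := by
  funext i
  rw [bfam_apply, Pi.zero_apply, map_zero, map_zero, add_zero]

lemma subst_bfam_bfam (c c' : σ → A) (hc' : ∀ i, c' i ∈ I) (k : ℕ) (i : σ) :
    subst (bfam I c' k) (bfam I c k i) = bfam I (c + c') k i := by
  rw [bfam_apply, subst_add (hasSubst_bfam I c' hc' k), subst_X (hasSubst_bfam I c' hc' k),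
    subst_C, bfam_apply, bfam_apply, Pi.add_apply, map_add, map_add]
  ring

variable [IsAdicComplete I A]

lemma exists_trans (c : σ → A) (hc : ∀ i, c i ∈ I) (f : MvPowerSeries σ A) :
    ∃ g : MvPowerSeries σ A, ∀ k, red I k g = subst (bfam I c k) (red I k f) := by
  apply exists_of_compat
  intro k
  rw [map_subst (hasSubst_bfam I c hc (k + 1)), map_trn_red]
  congr 1
  funext i
  exact map_trn_bfam I c k i

/-- translation `f(x) ↦ f(x + c)` -/
noncomputable def trans (c : σ → A) (f : MvPowerSeries σ A) : MvPowerSeries σ A :=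
  Classical.epsilon (fun g => ∀ k, red I k g = subst (bfam I c k) (red I k f))

lemma red_trans (c : σ → A) (hc : ∀ i, c i ∈ I) (f : MvPowerSeries σ A) (k : ℕ) :
    red I k (trans I c f) = subst (bfam I c k) (red I k f) :=
  Classical.epsilon_spec (exists_trans I c hc f) k

lemma trans_zero (f : MvPowerSeries σ A) : trans I (0 : σ → A) f = f := by
  apply ext_of_red I
  intro k
  rw [red_trans I 0 (fun i => Submodule.zero_mem _), bfam_zero, subst_self]
  rfl

lemma trans_trans (c c' : σ → A) (hc : ∀ i, c i ∈ I) (hc' : ∀ i, c' i ∈ I)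
    (f : MvPowerSeries σ A) : trans I c' (trans I c f) = trans I (c + c') f := by
  apply ext_of_red I
  intro k
  rw [red_trans I c' hc', red_trans I c hc,
    red_trans I (c + c') (fun i => Submodule.add_mem _ (hc i) (hc' i)),
    subst_comp_subst_apply (hasSubst_bfam I c hc k) (hasSubst_bfam I c' hc' k)]
  congr 1
  funext i
  exact subst_bfam_bfam I c c' hc' k i

/-- translation as an algebra automorphism -/
noncomputable def transEquiv (c : σ → A) (hc : ∀ i, c i ∈ I) :
    MvPowerSeries σ A ≃ₐ[A] MvPowerSeries σ A where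
  toFun := trans I c
  invFun := trans I (-c)
  left_inv f := by
    rw [trans_trans I c (-c) hc (fun i => Submodule.neg_mem _ (hc i)), add_neg_cancel, trans_zero]
  right_inv f := by
    rw [trans_trans I (-c) c (fun i => Submodule.neg_mem _ (hc i)) hc, neg_add_cancel, trans_zero]
  map_mul' f g := by
    apply ext_of_red I
    intro k
    rw [red_trans I c hc, map_mul, map_mul, red_trans I c hc, red_trans I c hc,
      subst_mul (hasSubst_bfam I c hc k)]
  map_add' f g := by
    apply ext_of_red I
    intro k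
    rw [red_trans I c hc, map_add, map_add, red_trans I c hc, red_trans I c hc,
      subst_add (hasSubst_bfam I c hc k)]
  commutes' r := by
    apply ext_of_red I
    intro k
    have e : algebraMap A (MvPowerSeries σ A) r = C r := rfl
    rw [red_trans I c hc, e]
    unfold red
    rw [map_C, subst_C]

lemma transEquiv_apply (c : σ → A) (hc : ∀ i, c i ∈ I) (f : MvPowerSeries σ A) :
    transEquiv I c hc f = trans I c f := rfl

end translation

end Groth.Agent.Lib.Helper9.AdicPS
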