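import Mathlib

set_option autoImplicit false
set_option linter.unusedSectionVars false
set_option linter.style.haveILetI false
universe u₁ u₂ u₃ u₄ u₅

namespace Groth.Agent.Helper9.KDiff

open TensorProduct KaehlerDifferential

section ext
variable {R : Type u₁} {S : Type u₂} {C : Type u₃} {M : Type u₄} [CommRing R] [CommRing S]
  [CommRing C] [Algebra R S] [Algebra S C] [AddCommGroup M] [Module C M]

lemma form_ext_aux (f g : C ⊗[S] Ω[S⁄R] →ₗ[C] M)
    (h : ∀ b : S, f (1 ⊗ₜ D R S b) = g (1 ⊗ₜ D R S b)) (ω : Ω[S⁄R]) :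
    ∀ c : C, f (c ⊗ₜ ω) = g (c ⊗ₜ ω) := by
  have hω : ω ∈ Submodule.span S (Set.range (D R S)) := by
    rw [span_range_derivation]; trivial
  induction hω using Submodule.span_induction with
  | mem x hx =>
    obtain ⟨b, rfl⟩ := hx
    intro c
    have e : c ⊗ₜ[S] D R S b = c • ((1 : C) ⊗ₜ[S] D R S b) := by
      rw [smul_tmul', smul_eq_mul, mul_one]
    rw [e, map_smul, map_smul, h]
  | zero => intro c; rw [tmul_zero, map_zero, map_zero]
  | add x y _ _ hx hy => intro c; rw [tmul_add, map_add, map_add, hx, hy]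
  | smul b x _ hx =>
    intro c
    rw [← smul_tmul, hx]

/-- two linear forms on `C ⊗_S Ω_{S/R}` agreeing on the `1 ⊗ d b` are equal -/
lemma form_ext (f g : C ⊗[S] Ω[S⁄R] →ₗ[C] M)
    (h : ∀ b : S, f (1 ⊗ₜ D R S b) = g (1 ⊗ₜ D R S b)) : f = g := by
  apply LinearMap.ext
  intro z
  induction z using TensorProduct.induction_on with
  | zero => rw [map_zero, map_zero]
  | tmul c ω => exact form_ext_aux f g h ω c
  | add x y hx hy => rw [map_add, map_add, hx, hy]

end ext

section bc
variable (R : Type u₁) (S : Type u₂) (T : Type u₃) (C : Type u₄) [CommRing R] [CommRing S]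
  [CommRing T] [CommRing C]
  [Algebra R S] [Algebra S T] [Algebra R T] [IsScalarTower R S T]
  [Algebra T C] [Algebra S C] [IsScalarTower S T C]

/-- the map `C ⊗_S Ω_{S/R} → C ⊗_T Ω_{T/R}` -/
noncomputable def bc : C ⊗[S] Ω[S⁄R] →ₗ[C] C ⊗[T] Ω[T⁄R] :=
  (TensorProduct.isBaseChange S Ω[S⁄R] C).lift
    (((TensorProduct.mk T C Ω[T⁄R] 1).restrictScalars S) ∘ₗ KaehlerDifferential.map R R S T)

lemma bc_tmul (c : C) (ω : Ω[S⁄R]) :
    bc R S T C (c ⊗ₜ ω) = c ⊗ₜ[T] KaehlerDifferential.map R R S T ω := by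
  have h : c ⊗ₜ[S] ω = c • ((1 : C) ⊗ₜ[S] ω) := by
    rw [smul_tmul', smul_eq_mul, mul_one]
  have h2 : bc R S T C ((1 : C) ⊗ₜ[S] ω) = (1 : C) ⊗ₜ[T] KaehlerDifferential.map R R S T ω :=
    IsBaseChange.lift_eq _ _ _
  rw [h, map_smul, h2, smul_tmul', smul_eq_mul, mul_one]

lemma bc_one_tmul_D (s : S) :
    bc R S T C ((1 : C) ⊗ₜ D R S s) = (1 : C) ⊗ₜ[T] D R T (algebraMap S T s) := by
  rw [bc_tmul, map_D]

end bc

section nu
variable (R : Type u₁) (R' : Type u₂) (S : Type u₃) (C : Type u₄) [CommRing R] [CommRing R']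
  [CommRing S] [CommRing C] [Algebra R R'] [Algebra R S] [Algebra R' S] [IsScalarTower R R' S]
  [Algebra S C]

/-- the map `C ⊗_S Ω_{S/R} → C ⊗_S Ω_{S/R'}` -/
noncomputable def nu : C ⊗[S] Ω[S⁄R] →ₗ[C] C ⊗[S] Ω[S⁄R'] :=
  (KaehlerDifferential.map R R' S S).baseChange C

lemma nu_tmul (c : C) (ω : Ω[S⁄R]) :
    nu R R' S C (c ⊗ₜ[S] ω) = c ⊗ₜ[S] KaehlerDifferential.map R R' S S ω :=
  LinearMap.baseChange_tmul _ _ _

lemma nu_one_tmul_D (s : S) :
    nu R R' S C ((1 : C) ⊗ₜ D R S s) = (1 : C) ⊗ₜ[S] D R' S s := by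
  rw [nu_tmul, map_D, Algebra.algebraMap_self, RingHom.id_apply]

lemma nu_surjective : Function.Surjective (nu R R' S C) := by
  have h := LinearMap.lTensor_surjective C (KaehlerDifferential.map_surjective R R' S)
  intro w
  obtain ⟨z, hz⟩ := h w
  refine ⟨z, ?_⟩
  rw [← hz]
  clear hz
  induction z using TensorProduct.induction_on with
  | zero => rw [map_zero, map_zero]
  | tmul c ω => rw [LinearMap.lTensor_tmul, nu_tmul]
  | add x y hx hy => rw [map_add, map_add, hx, hy]

end nu

section tower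
variable {R : Type u₁} {S : Type u₂} {T : Type u₃} {C : Type u₄} [CommRing R] [CommRing S]
  [CommRing T] [CommRing C]
  [Algebra R S] [Algebra S T] [Algebra R T] [IsScalarTower R S T]
  [Algebra T C] [Algebra S C] [IsScalarTower S T C]

lemma nu_bc (z : C ⊗[S] Ω[S⁄R]) : nu R S T C (bc R S T C z) = 0 := by
  have h : (nu R S T C) ∘ₗ (bc R S T C) = 0 := by
    apply form_ext
    intro a
    rw [LinearMap.comp_apply, bc_one_tmul_D, nu_one_tmul_D, LinearMap.zero_apply,
      Derivation.map_algebraMap, tmul_zero]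
  exact LinearMap.congr_fun h z

lemma tau_eq (z : C ⊗[S] Ω[S⁄R]) :
    ((mapBaseChange R S T).baseChange C)
      ((TensorProduct.AlgebraTensorModule.cancelBaseChange S T C C Ω[S⁄R]).symm z) =
      bc R S T C z := by
  induction z using TensorProduct.induction_on with
  | zero => rw [map_zero, map_zero, map_zero]
  | tmul c ω =>
    rw [TensorProduct.AlgebraTensorModule.cancelBaseChange_symm_tmul, LinearMap.baseChange_tmul,
      mapBaseChange_tmul, one_smul, bc_tmul]
  | add x y hx hy => rw [map_add, map_add, map_add, hx, hy]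

lemma exists_of_nu_eq_zero (w : C ⊗[T] Ω[T⁄R]) (hw : nu R S T C w = 0) :
    ∃ z : C ⊗[S] Ω[S⁄R], bc R S T C z = w := by
  have hex := lTensor_exact C (exact_mapBaseChange_map R S T)
    (KaehlerDifferential.map_surjective R S T)
  have key : ∀ w : C ⊗[T] Ω[T⁄R],
      (LinearMap.lTensor C (KaehlerDifferential.map R S T T)) w = nu R S T C w := by
    intro w
    induction w using TensorProduct.induction_on with
    | zero => rw [map_zero, map_zero]
    | tmul c ω => rw [LinearMap.lTensor_tmul, nu_tmul]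
    | add x y hx hy => rw [map_add, map_add, hx, hy]
  have hw' : (LinearMap.lTensor C (KaehlerDifferential.map R S T T)) w = 0 := by
    rw [key, hw]
  obtain ⟨y, hy⟩ := (hex w).1 hw'
  refine ⟨TensorProduct.AlgebraTensorModule.cancelBaseChange S T C C Ω[S⁄R] y, ?_⟩
  rw [← tau_eq, LinearEquiv.symm_apply_apply, ← hy]
  clear hy
  induction y using TensorProduct.induction_on with
  | zero => rw [map_zero, map_zero]
  | tmul c ω => rw [LinearMap.lTensor_tmul, LinearMap.baseChange_tmul]
  | add x y hx hy => rw [map_add, map_add, hx, hy]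

variable [Algebra R C] [IsScalarTower R S C] [IsScalarTower R T C]

lemma mapBaseChange_bc (z : C ⊗[S] Ω[S⁄R]) :
    mapBaseChange R T C (bc R S T C z) = mapBaseChange R S C z := by
  have h : (mapBaseChange R T C) ∘ₗ (bc R S T C) = mapBaseChange R S C := by
    apply form_ext
    intro a
    rw [LinearMap.comp_apply, bc_one_tmul_D, mapBaseChange_tmul, mapBaseChange_tmul, map_D,
      map_D, ← IsScalarTower.algebraMap_apply]
  exact LinearMap.congr_fun h z

end tower

section trans
variable {R : Type u₁} {S : Type u₂} {T : Type u₃} {U : Type u₅} {C : Type u₄} [CommRing R]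
  [CommRing S] [CommRing T] [CommRing U] [CommRing C]
  [Algebra R S] [Algebra S T] [Algebra R T] [IsScalarTower R S T]
  [Algebra T U] [Algebra S U] [Algebra R U] [IsScalarTower R S U] [IsScalarTower R T U]
  [IsScalarTower S T U]
  [Algebra U C] [Algebra T C] [Algebra S C] [IsScalarTower S T C] [IsScalarTower T U C]
  [IsScalarTower S U C]

lemma bc_trans (z : C ⊗[S] Ω[S⁄R]) :
    bc R T U C (bc R S T C z) = bc R S U C z := by
  have h : (bc R T U C) ∘ₗ (bc R S T C) = bc R S U C := by
    apply form_ext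
    intro a
    rw [LinearMap.comp_apply, bc_one_tmul_D, bc_one_tmul_D, bc_one_tmul_D,
      ← IsScalarTower.algebraMap_apply]
  exact LinearMap.congr_fun h z

end trans

section nat
variable {R : Type u₁} {R' : Type u₅} {S : Type u₂} {T : Type u₃} {C : Type u₄} [CommRing R]
  [CommRing R'] [CommRing S] [CommRing T] [CommRing C]
  [Algebra R R'] [Algebra R S] [Algebra R' S] [IsScalarTower R R' S]
  [Algebra R T] [Algebra R' T] [IsScalarTower R R' T]
  [Algebra S T] [IsScalarTower R S T] [IsScalarTower R' S T]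
  [Algebra T C] [Algebra S C] [IsScalarTower S T C]

lemma nu_bc_nat (z : C ⊗[S] Ω[S⁄R]) :
    nu R R' T C (bc R S T C z) = bc R' S T C (nu R R' S C z) := by
  have h : (nu R R' T C) ∘ₗ (bc R S T C) = (bc R' S T C) ∘ₗ (nu R R' S C) := by
    apply form_ext
    intro a
    rw [LinearMap.comp_apply, LinearMap.comp_apply, bc_one_tmul_D, nu_one_tmul_D, nu_one_tmul_D,
      bc_one_tmul_D]
  exact LinearMap.congr_fun h z

end nat

section nat2
variable {R : Type u₁} {R' : Type u₅} {S : Type u₂} {C : Type u₄} [CommRing R]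
  [CommRing R'] [CommRing S] [CommRing C]
  [Algebra R R'] [Algebra R S] [Algebra R' S] [IsScalarTower R R' S]
  [Algebra R C] [Algebra R' C] [IsScalarTower R R' C]
  [Algebra S C] [IsScalarTower R S C] [IsScalarTower R' S C]

lemma map_mapBaseChange (z : C ⊗[S] Ω[S⁄R]) :
    KaehlerDifferential.map R R' C C (mapBaseChange R S C z) =
      mapBaseChange R' S C (nu R R' S C z) := by
  have h : (KaehlerDifferential.map R R' C C) ∘ₗ (mapBaseChange R S C) =
      (mapBaseChange R' S C) ∘ₗ (nu R R' S C) := by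
    apply form_ext
    intro a
    rw [LinearMap.comp_apply, LinearMap.comp_apply, nu_one_tmul_D, mapBaseChange_tmul,
      mapBaseChange_tmul, one_smul, one_smul, map_D, map_D, map_D, Algebra.algebraMap_self,
      RingHom.id_apply]
  exact LinearMap.congr_fun h z

end nat2

section nutrans
universe u₆
variable {R : Type u₁} {R' : Type u₅} {R'' : Type u₆} {S : Type u₂} {C : Type u₄} [CommRing R]
  [CommRing R'] [CommRing R''] [CommRing S] [CommRing C]
  [Algebra R R'] [Algebra R R''] [Algebra R' R''] [IsScalarTower R R' R'']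
  [Algebra R S] [Algebra R' S] [Algebra R'' S] [IsScalarTower R R' S] [IsScalarTower R' R'' S]
  [IsScalarTower R R'' S] [Algebra S C]

lemma nu_trans (z : C ⊗[S] Ω[S⁄R]) :
    nu R' R'' S C (nu R R' S C z) = nu R R'' S C z := by
  have h : (nu R' R'' S C) ∘ₗ (nu R R' S C) = nu R R'' S C := by
    apply form_ext
    intro a
    rw [LinearMap.comp_apply, nu_one_tmul_D, nu_one_tmul_D, nu_one_tmul_D]
  exact LinearMap.congr_fun h z

end nutrans

end Groth.Agent.Helper9.KDiff
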