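import Mathlib
import Groth.Prelude.Def_EGA41
import Groth.Agent.Lib.Helper9.KDiffLib

set_option autoImplicit false
set_option linter.unusedSectionVars false
set_option linter.style.haveILetI false
universe u u' u'' w

namespace Groth.Agent.Helper9.Adm

open TensorProduct KaehlerDifferential KDiff

section towerOf
universe v₁ v₂ v₃ v₄
variable (a : Type v₁) (b : Type v₂) (K : Type v₃) (L : Type v₄) [CommRing a] [CommRing b]
  [CommRing K] [CommRing L] [Algebra a b] [Algebra a K] [Algebra b K] [IsScalarTower a b K]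
  [Algebra K L] [Algebra a L] [Algebra b L] [IsScalarTower a K L] [IsScalarTower b K L]

include K in
lemma tower_of : IsScalarTower a b L :=
  IsScalarTower.of_algebraMap_eq (fun x => by
    rw [IsScalarTower.algebraMap_apply a K L, IsScalarTower.algebraMap_apply a b K,
      ← IsScalarTower.algebraMap_apply b K L])

end towerOf

section tower
variable {k : Type u} {k' : Type u'} {k'' : Type u''} {K L : Type w}
    [CommRing k] [CommRing k'] [CommRing k''] [CommRing K] [CommRing L]
    [Algebra k k'] [Algebra k k''] [Algebra k' k''] [IsScalarTower k k' k'']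
    [Algebra k K] [Algebra k' K] [Algebra k'' K] [IsScalarTower k k' K] [IsScalarTower k' k'' K]
    [IsScalarTower k k'' K] [Algebra K L] [Algebra k L] [Algebra k' L] [Algebra k'' L]
    [IsScalarTower k K L] [IsScalarTower k' K L] [IsScalarTower k'' K L]

theorem surj (w : L ⊗[K] Ω[K⁄k']) (hw1 : w ∈ EGA41.imperfection k' K L)
    (hw2 : (KaehlerDifferential.map k' k'' K K).baseChange L w = 0) :
    ∃ z : L ⊗[K] Ω[K⁄k], z ∈ EGA41.imperfection k K L ∧
      (KaehlerDifferential.map k k'' K K).baseChange L z = 0 ∧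
        (KaehlerDifferential.map k k' K K).baseChange L z = w := by
  haveI := tower_of k k' K L
  haveI := tower_of k k'' K L
  haveI := tower_of k' k'' K L
  -- step 1
  obtain ⟨u', hu'⟩ := exists_of_nu_eq_zero (R := k') (S := k'') (T := K) (C := L) w hw2
  -- step 2
  obtain ⟨u, hu⟩ := nu_surjective k k' k'' L u'
  -- step 3
  have hy : KaehlerDifferential.map k k' L L (mapBaseChange k k'' L u) = 0 := by
    rw [map_mapBaseChange, hu, ← mapBaseChange_bc (T := K), hu']
    exact hw1
  obtain ⟨t, ht⟩ := (exact_mapBaseChange_map k k' L _).1 hy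
  -- step 4
  have h4a : mapBaseChange k k'' L (bc k k' k'' L t) = mapBaseChange k k'' L u := by
    rw [mapBaseChange_bc, ht]
  have h4b : nu k k' k'' L (bc k k' k'' L t) = 0 := nu_bc t
  -- step 5
  refine ⟨bc k k'' K L (u - bc k k' k'' L t), ?_, ?_, ?_⟩
  · change mapBaseChange k K L _ = 0
    rw [mapBaseChange_bc, map_sub, h4a, sub_self]
  · exact nu_bc _
  · change nu k k' K L _ = w
    rw [nu_bc_nat, map_sub, h4b, sub_zero, hu, hu']

end tower

section rank
variable {k : Type u} {k' : Type u'} {k'' : Type u''} {K L : Type w}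
    [Field k] [Field k'] [Field k''] [Field K] [Field L]
    [Algebra k k'] [Algebra k k''] [Algebra k' k''] [IsScalarTower k k' k'']
    [Algebra k K] [Algebra k' K] [Algebra k'' K] [IsScalarTower k k' K] [IsScalarTower k' k'' K]
    [IsScalarTower k k'' K] [Algebra K L] [Algebra k L] [Algebra k' L] [Algebra k'' L]
    [IsScalarTower k K L] [IsScalarTower k' K L] [IsScalarTower k'' K L]

theorem rank_eq :
    Module.rank L ↥(EGA41.imperfection k K L ⊓
          LinearMap.ker ((KaehlerDifferential.map k k'' K K).baseChange L)) =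
      Module.rank L ↥(EGA41.imperfection k' K L ⊓
            LinearMap.ker ((KaehlerDifferential.map k' k'' K K).baseChange L)) +
        Module.rank L ↥(EGA41.imperfection k K L ⊓
            LinearMap.ker ((KaehlerDifferential.map k k' K K).baseChange L)) := by
  haveI := tower_of k k' K L
  haveI := tower_of k k'' K L
  haveI := tower_of k' k'' K L
  change Module.rank L ↥(EGA41.imperfection k K L ⊓ LinearMap.ker (nu k k'' K L)) =
    Module.rank L ↥(EGA41.imperfection k' K L ⊓ LinearMap.ker (nu k' k'' K L)) +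
      Module.rank L ↥(EGA41.imperfection k K L ⊓ LinearMap.ker (nu k k' K L))
  set M := EGA41.imperfection k K L ⊓ LinearMap.ker (nu k k'' K L) with hM
  set N := EGA41.imperfection k K L ⊓ LinearMap.ker (nu k k' K L) with hN
  set P := EGA41.imperfection k' K L ⊓ LinearMap.ker (nu k' k'' K L) with hP
  let f : M →ₗ[L] L ⊗[K] Ω[K⁄k'] := (nu k k' K L) ∘ₗ M.subtype
  have hNM : N ≤ M := by
    intro z hz
    refine ⟨hz.1, ?_⟩
    change nu k k'' K L z = 0
    rw [← nu_trans (R' := k'), LinearMap.mem_ker.1 hz.2, map_zero]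
  have hrange : LinearMap.range f = P := by
    apply le_antisymm
    · rintro _ ⟨z, rfl⟩
      refine ⟨?_, ?_⟩
      · change mapBaseChange k' K L (nu k k' K L (z : L ⊗[K] Ω[K⁄k])) = 0
        rw [← map_mapBaseChange]
        have h1 : mapBaseChange k K L (z : L ⊗[K] Ω[K⁄k]) = 0 := z.2.1
        rw [h1, map_zero]
      · change nu k' k'' K L (nu k k' K L (z : L ⊗[K] Ω[K⁄k])) = 0
        rw [nu_trans]
        exact LinearMap.mem_ker.1 z.2.2
    · intro w hw
      obtain ⟨z, hz1, hz2, hz3⟩ := surj (k := k) w hw.1 (LinearMap.mem_ker.1 hw.2)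
      exact ⟨⟨z, hz1, LinearMap.mem_ker.2 hz2⟩, hz3⟩
  have hker : LinearMap.ker f = Submodule.comap M.subtype N := by
    ext z
    rw [LinearMap.mem_ker, Submodule.mem_comap]
    constructor
    · intro h
      exact ⟨z.2.1, LinearMap.mem_ker.2 h⟩
    · intro h
      exact LinearMap.mem_ker.1 h.2
  have h1 := LinearMap.rank_range_add_rank_ker (R := L) (M := ↥M) (M₁ := L ⊗[K] Ω[K⁄k']) f
  rw [hrange, hker] at h1
  rw [← h1, (Submodule.comapSubtypeEquivOfLe hNM).rank_eq]

end rank

end Groth.Agent.Helper9.Adm
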