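import Mathlib
import Groth.Prelude.Def_EGA41
import Groth.Agent.Lib.Helper9.KDiffLib

set_option autoImplicit false
set_option linter.unusedSectionVars false
set_option linter.style.haveILetI false
universe u u' w

namespace Groth.Agent.Helper9.Adm2

open TensorProduct KaehlerDifferential KDiff

section cancel
variable {k₀ : Type u} {k : Type u'} {K L M : Type w}
    [CommRing k₀] [CommRing k] [CommRing K] [CommRing L] [CommRing M] [Algebra k₀ k]
    [Algebra k₀ K] [Algebra k K] [IsScalarTower k₀ k K]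
    [Algebra K L] [Algebra K M] [Algebra L M] [IsScalarTower K L M]

/-- compatibility of `nu` with cancellation of base change -/
lemma nu_cancel_symm (z : M ⊗[K] Ω[K⁄k₀]) :
    ((nu k₀ k K L).baseChange M)
      ((TensorProduct.AlgebraTensorModule.cancelBaseChange K L M M Ω[K⁄k₀]).symm z) =
    (TensorProduct.AlgebraTensorModule.cancelBaseChange K L M M Ω[K⁄k]).symm (nu k₀ k K M z) := by
  induction z using TensorProduct.induction_on with
  | zero => rw [map_zero, map_zero, map_zero, map_zero]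
  | tmul c ω =>
    rw [TensorProduct.AlgebraTensorModule.cancelBaseChange_symm_tmul, LinearMap.baseChange_tmul,
      nu_tmul, nu_tmul, TensorProduct.AlgebraTensorModule.cancelBaseChange_symm_tmul]
  | add x y hx hy => rw [map_add, map_add, map_add, map_add, hx, hy]

end cancel

section range
variable {k₀ : Type u} {k : Type u'} {K L M : Type w}
    [CommRing k₀] [CommRing k] [CommRing K] [CommRing L] [CommRing M] [Algebra k₀ k]
    [Algebra k₀ K] [Algebra k K] [IsScalarTower k₀ k K] [Algebra k₀ L] [Algebra k L]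
    [IsScalarTower k₀ k L]
    [Algebra K L] [Algebra K M] [Algebra L M] [IsScalarTower K L M]
    [Algebra k₀ M] [Algebra k M] [IsScalarTower k₀ K L] [IsScalarTower k K L]
    [IsScalarTower k₀ K M] [IsScalarTower k K M] [IsScalarTower k₀ L M] [IsScalarTower k L M]

/-- the defect module `Δ(F/E, k/k₀)` -/
noncomputable def defect (E F : Type w) [CommRing E] [CommRing F] [Algebra k₀ E] [Algebra k E]
    [IsScalarTower k₀ k E] [Algebra E F] [Algebra k₀ F] [IsScalarTower k₀ E F] :
    Submodule F (F ⊗[E] Ω[E⁄k₀]) :=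
  EGA41.imperfection k₀ E F ⊓ LinearMap.ker (nu k₀ k E F)

lemma mem_defect (E F : Type w) [CommRing E] [CommRing F] [Algebra k₀ E] [Algebra k E]
    [IsScalarTower k₀ k E] [Algebra E F] [Algebra k₀ F] [IsScalarTower k₀ E F]
    (z : F ⊗[E] Ω[E⁄k₀]) :
    z ∈ defect (k₀ := k₀) (k := k) E F ↔ mapBaseChange k₀ E F z = 0 ∧ nu k₀ k E F z = 0 :=
  Iff.rfl

lemma bc_mem_defect (z : M ⊗[K] Ω[K⁄k₀]) (hz : z ∈ defect (k₀ := k₀) (k := k) K M) :
    bc k₀ K L M z ∈ defect (k₀ := k₀) (k := k) L M := by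
  rw [mem_defect] at hz ⊢
  constructor
  · rw [mapBaseChange_bc, hz.1]
  · rw [nu_bc_nat, hz.2, map_zero]

lemma exists_of_mem_defect (w : M ⊗[L] Ω[L⁄k₀]) (hw : w ∈ defect (k₀ := k₀) (k := k) L M) :
    ∃ z ∈ defect (k₀ := k₀) (k := k) K M, bc k₀ K L M z = w := by
  rw [mem_defect] at hw
  obtain ⟨u, hu⟩ := exists_of_nu_eq_zero (R := k₀) (S := k) (T := L) (C := M) w hw.2
  have h1 : bc k₀ K L M (bc k₀ k K M u) = w := by rw [bc_trans, hu]
  refine ⟨bc k₀ k K M u, ?_, h1⟩
  rw [mem_defect]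
  constructor
  · rw [← mapBaseChange_bc (T := L), h1, hw.1]
  · exact nu_bc u

lemma ker_bc_le (z : M ⊗[K] Ω[K⁄k₀]) (hz : bc k₀ K L M z = 0) :
    mapBaseChange k₀ K M z = 0 := by
  rw [← mapBaseChange_bc (T := L), hz, map_zero]

end range

section kernel
variable {k₀ : Type u} {k : Type u'} {K L M : Type w}
    [CommRing k₀] [CommRing k] [CommRing K] [CommRing L] [CommRing M] [Algebra k₀ k]
    [Algebra k₀ K] [Algebra k K] [IsScalarTower k₀ k K] [Algebra k₀ L] [Algebra k L]
    [IsScalarTower k₀ k L]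
    [Algebra K L] [Algebra K M] [Algebra L M] [IsScalarTower K L M]
    [Algebra k₀ M] [Algebra k M] [IsScalarTower k₀ K L] [IsScalarTower k K L]
    [IsScalarTower k₀ K M] [IsScalarTower k K M] [IsScalarTower k₀ L M] [IsScalarTower k L M]

variable (k₀ k K L) in
/-- the map whose kernel is the defect module of `L/K` -/
noncomputable def phi : L ⊗[K] Ω[K⁄k₀] →ₗ[L] Ω[L⁄k₀] × (L ⊗[K] Ω[K⁄k]) :=
  (mapBaseChange k₀ K L).prod (nu k₀ k K L)

lemma ker_phi : LinearMap.ker (phi k₀ k K L) = defect (k₀ := k₀) (k := k) K L :=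
  LinearMap.ker_prod _ _

lemma prodRight_lTensor (y : M ⊗[L] (L ⊗[K] Ω[K⁄k₀])) :
    TensorProduct.prodRight L M M Ω[L⁄k₀] (L ⊗[K] Ω[K⁄k])
      (TensorProduct.AlgebraTensorModule.lTensor M M (phi k₀ k K L) y) =
    ((mapBaseChange k₀ K L).baseChange M y, (nu k₀ k K L).baseChange M y) := by
  induction y using TensorProduct.induction_on with
  | zero => rw [map_zero, map_zero, map_zero, map_zero]; rfl
  | tmul m v =>
    rw [TensorProduct.AlgebraTensorModule.lTensor_tmul, TensorProduct.prodRight_tmul,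
      LinearMap.baseChange_tmul, LinearMap.baseChange_tmul]
    rfl
  | add x y hx hy =>
    rw [map_add, map_add, hx, hy, map_add, map_add]
    rfl

variable (k₀ k K L M) in
/-- the kernel of `Δ(M/K) → Δ(M/L)` as a submodule of `M ⊗_K Ω_{K/k₀}` -/
noncomputable def Q : Submodule M (M ⊗[K] Ω[K⁄k₀]) :=
  LinearMap.ker (bc k₀ K L M) ⊓ LinearMap.ker (nu k₀ k K M)

lemma map_ker_eq :
    (LinearMap.ker (TensorProduct.AlgebraTensorModule.lTensor M M (phi k₀ k K L))).map
      (TensorProduct.AlgebraTensorModule.cancelBaseChange K L M M Ω[K⁄k₀]).toLinearMap =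
    Q k₀ k K L M := by
  ext z
  rw [Submodule.mem_map_equiv, LinearMap.mem_ker,
    ← (TensorProduct.prodRight L M M Ω[L⁄k₀] (L ⊗[K] Ω[K⁄k])).map_eq_zero_iff, prodRight_lTensor,
    Prod.mk_eq_zero, tau_eq, nu_cancel_symm, LinearEquiv.map_eq_zero_iff]
  rfl

end kernel

section main
variable {k₀ : Type u} {k : Type u'} {K L M : Type w}
    [Field k₀] [Field k] [Field K] [Field L] [Field M] [Algebra k₀ k]
    [Algebra k₀ K] [Algebra k K] [IsScalarTower k₀ k K] [Algebra k₀ L] [Algebra k L]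
    [IsScalarTower k₀ k L]
    [Algebra K L] [Algebra K M] [Algebra L M] [IsScalarTower K L M]
    [Algebra k₀ M] [Algebra k M] [IsScalarTower k₀ K L] [IsScalarTower k K L]
    [IsScalarTower k₀ K M] [IsScalarTower k K M] [IsScalarTower k₀ L M] [IsScalarTower k L M]

theorem rank_Q :
    Module.rank M ↥(Q k₀ k K L M) = Module.rank L ↥(defect (k₀ := k₀) (k := k) K L) := by
  haveI : Module.Free L ↥(LinearMap.ker (phi k₀ k K L)) :=
    Module.Free.of_divisionRing L ↥(LinearMap.ker (phi k₀ k K L))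
  rw [← map_ker_eq,
    ← ((TensorProduct.AlgebraTensorModule.cancelBaseChange K L M M Ω[K⁄k₀]).submoduleMap
      (LinearMap.ker (TensorProduct.AlgebraTensorModule.lTensor M M (phi k₀ k K L)))).rank_eq,
    ← (LinearMap.tensorKerEquiv M M (phi k₀ k K L)).rank_eq, Module.rank_baseChange,
    Cardinal.lift_id, ker_phi]

theorem main5837 :
    Module.rank M ↥(EGA41.imperfection k₀ K M ⊓
          LinearMap.ker ((KaehlerDifferential.map k₀ k K K).baseChange M)) =
      Module.rank M ↥(EGA41.imperfection k₀ L M ⊓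
            LinearMap.ker ((KaehlerDifferential.map k₀ k L L).baseChange M)) +
        Module.rank L ↥(EGA41.imperfection k₀ K L ⊓
            LinearMap.ker ((KaehlerDifferential.map k₀ k K K).baseChange L)) := by
  change Module.rank M ↥(defect (k₀ := k₀) (k := k) K M) =
    Module.rank M ↥(defect (k₀ := k₀) (k := k) L M) +
      Module.rank L ↥(defect (k₀ := k₀) (k := k) K L)
  let g : ↥(defect (k₀ := k₀) (k := k) K M) →ₗ[M] M ⊗[L] Ω[L⁄k₀] :=
    (bc k₀ K L M) ∘ₗ (defect (k₀ := k₀) (k := k) K M).subtype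
  have hrange : LinearMap.range g = defect (k₀ := k₀) (k := k) L M := by
    apply le_antisymm
    · rintro _ ⟨z, rfl⟩
      exact bc_mem_defect (z : M ⊗[K] Ω[K⁄k₀]) z.2
    · intro w hw
      obtain ⟨z, hz, hzw⟩ := exists_of_mem_defect (K := K) w hw
      exact ⟨⟨z, hz⟩, hzw⟩
  have hQle : Q k₀ k K L M ≤ defect (k₀ := k₀) (k := k) K M := by
    intro z hz
    rw [mem_defect]
    exact ⟨ker_bc_le (L := L) z (LinearMap.mem_ker.1 hz.1), LinearMap.mem_ker.1 hz.2⟩
  have hker : LinearMap.ker g =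
      Submodule.comap (defect (k₀ := k₀) (k := k) K M).subtype (Q k₀ k K L M) := by
    ext z
    rw [LinearMap.mem_ker, Submodule.mem_comap]
    constructor
    · intro h
      exact ⟨LinearMap.mem_ker.2 h, LinearMap.mem_ker.2 z.2.2⟩
    · intro h
      exact LinearMap.mem_ker.1 h.1
  have h1 := LinearMap.rank_range_add_rank_ker (R := M)
    (M := ↥(defect (k₀ := k₀) (k := k) K M)) (M₁ := M ⊗[L] Ω[L⁄k₀]) g
  rw [hrange, hker, (Submodule.comapSubtypeEquivOfLe hQle).rank_eq, rank_Q] at h1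
  exact h1.symm

end main

end Groth.Agent.Helper9.Adm2
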