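import Mathlib

set_option autoImplicit false
universe u

namespace Groth.Agent.Lib.Helper9.PSAut

open PowerSeries

variable {k : Type u} [Field k]

/-- algebra endomorphisms of `k[[t]]` are determined by the image of `t` -/
theorem ps_algHom_ext (F G : PowerSeries k →ₐ[k] PowerSeries k)
    (hX : F X = G X) (h0 : constantCoeff (F X) = 0) : F = G := by
  have key : ∀ N : ℕ, ∀ p : PowerSeries k, X ^ N ∣ F p - G p := by
    intro N
    induction N with
    | zero =>
      intro p
      rw [pow_zero]
      exact one_dvd _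
    | succ N ih =>
      intro p
      have hp := eq_X_mul_shift_add_const p
      set p' := PowerSeries.mk fun i => coeff (i + 1) p with hp'
      have e : F p - G p = F X * (F p' - G p') := by
        rw [hp, map_add, map_add, map_mul, map_mul, hX]
        have hc : F (C (constantCoeff p)) = G (C (constantCoeff p)) := by
          rw [show C (constantCoeff p) = algebraMap k (PowerSeries k) (constantCoeff p) from rfl,
            F.commutes, G.commutes]
        rw [hc]
        ring
      rw [e, pow_succ']
      exact mul_dvd_mul (X_dvd_iff.mpr h0) (ih p')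
  apply AlgHom.ext
  intro p
  rw [← sub_eq_zero]
  ext n
  rw [map_zero]
  exact X_pow_dvd_iff.mp (key (n + 1) p) n (Nat.lt_succ_self n)

/-- substitution `f ↦ f(T)` as an algebra map, for `T(0) = 0` -/
noncomputable def substHom (T : PowerSeries k) (hT : constantCoeff T = 0) :
    PowerSeries k →ₐ[k] PowerSeries k :=
  PowerSeries.substAlgHom (HasSubst.of_constantCoeff_zero' hT)

lemma substHom_apply (T : PowerSeries k) (hT : constantCoeff T = 0) (f : PowerSeries k) :
    substHom T hT f = f.subst T := by
  unfold substHom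
  rw [coe_substAlgHom]

lemma substHom_X (T : PowerSeries k) (hT : constantCoeff T = 0) : substHom T hT X = T := by
  rw [substHom_apply, subst_X (HasSubst.of_constantCoeff_zero' hT)]

/-- every algebra endomorphism with `α(t)(0) = 0` is a substitution -/
lemma eq_substHom (α : PowerSeries k →ₐ[k] PowerSeries k) (h0 : constantCoeff (α X) = 0) :
    α = substHom (α X) h0 :=
  ps_algHom_ext α _ (substHom_X _ h0).symm h0

lemma constantCoeff_algHom (α : PowerSeries k →ₐ[k] PowerSeries k)
    (h0 : constantCoeff (α X) = 0) (f : PowerSeries k) :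
    constantCoeff (α f) = constantCoeff f := by
  have hp := eq_X_mul_shift_add_const f
  set f' := PowerSeries.mk fun i => coeff (i + 1) f
  rw [hp, map_add, map_mul, map_add, map_mul, h0, zero_mul, zero_add, map_add, map_mul,
    constantCoeff_X, zero_mul, zero_add]
  rw [show C (constantCoeff f) = algebraMap k (PowerSeries k) (constantCoeff f) from rfl,
    α.commutes]

/-- `X^n ∣ f → X^n ∣ α f` -/
lemma X_pow_dvd_algHom (α : PowerSeries k →ₐ[k] PowerSeries k)
    (h0 : constantCoeff (α X) = 0) {n : ℕ} {f : PowerSeries k} (hf : X ^ n ∣ f) :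
    X ^ n ∣ α f := by
  obtain ⟨g, rfl⟩ := hf
  rw [map_mul, map_pow]
  exact Dvd.dvd.mul_right (pow_dvd_pow_of_dvd (X_dvd_iff.mpr h0) n) _

/-- the linear coefficient of `α f` -/
lemma coeff_one_algHom (α : PowerSeries k →ₐ[k] PowerSeries k)
    (h0 : constantCoeff (α X) = 0) (f : PowerSeries k) :
    coeff 1 (α f) = coeff 1 f * coeff 1 (α X) := by
  -- f = c₀ + c₁ X + X² g
  have h1 := eq_X_mul_shift_add_const f
  set f' := PowerSeries.mk fun i => coeff (i + 1) f with hf'
  have h2 := eq_X_mul_shift_add_const f'
  set f'' := PowerSeries.mk fun i => coeff (i + 1) f' with hf''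
  have hc : constantCoeff f' = coeff 1 f := by
    rw [← coeff_zero_eq_constantCoeff_apply, hf', coeff_mk]
  obtain ⟨q, hq⟩ := X_dvd_iff.mpr h0
  have e : α f = α X * α X * α f'' + C (constantCoeff f') * α X + C (constantCoeff f) := by
    conv_lhs => rw [h1, h2]
    simp only [map_add, map_mul]
    rw [show C (constantCoeff f) = algebraMap k (PowerSeries k) (constantCoeff f) from rfl,
      α.commutes,
      show C (constantCoeff f') = algebraMap k (PowerSeries k) (constantCoeff f') from rfl,
      α.commutes]
    ring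
  rw [e, map_add, map_add, coeff_C_mul, hc, coeff_C, if_neg one_ne_zero, add_zero]
  have e2 : α X * α X * α f'' = X ^ 2 * (q * q * α f'') := by
    rw [hq]; ring
  rw [e2, coeff_X_pow_mul', if_neg (by omega), zero_add]

/-- congruent substitutions give congruent results -/
lemma X_pow_dvd_algHom_sub (α β : PowerSeries k →ₐ[k] PowerSeries k) {n : ℕ}
    (hβ : constantCoeff (β X) = 0)
    (hX : X ^ n ∣ α X - β X) (f : PowerSeries k) : X ^ n ∣ α f - β f := by
  have key : ∀ m : ℕ, ∀ f : PowerSeries k, X ^ (min m n) ∣ α f - β f := by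
    intro m
    induction m with
    | zero =>
      intro f
      rw [Nat.zero_min, pow_zero]
      exact one_dvd _
    | succ m ih =>
      intro f
      have hp := eq_X_mul_shift_add_const f
      set f' := PowerSeries.mk fun i => coeff (i + 1) f
      have e : α f - β f = (α X - β X) * α f' + β X * (α f' - β f') := by
        conv_lhs => rw [hp]
        simp only [map_add, map_mul]
        rw [show C (constantCoeff f) = algebraMap k (PowerSeries k) (constantCoeff f) from rfl,
          α.commutes, β.commutes]
        ring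
      rw [e]
      apply dvd_add
      · exact Dvd.dvd.mul_right ((pow_dvd_pow (X : PowerSeries k) (Nat.min_le_right _ _)).trans hX) _
      · have h1 : (X : PowerSeries k) ^ (min (m + 1) n) ∣ X * X ^ (min m n) := by
          rw [← pow_succ']
          apply pow_dvd_pow
          omega
        exact h1.trans (mul_dvd_mul (X_dvd_iff.mpr hβ) (ih f'))
  have := key n f
  rwa [Nat.min_self] at this

/-- an order-one series -/
def Ord1 (T : PowerSeries k) : Prop := constantCoeff T = 0 ∧ coeff 1 T ≠ 0

/-- substitution by an order-one series has a two-sided inverse substitution -/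
lemma exists_inverse (T : PowerSeries k) (hT : Ord1 T) :
    ∃ (Q : PowerSeries k) (hQ : constantCoeff Q = 0),
      (∀ f, substHom Q hQ (substHom T hT.1 f) = f) ∧
      (∀ f, substHom T hT.1 (substHom Q hQ f) = f) := by
  have hu : IsUnit (coeff 1 T) := isUnit_iff_ne_zero.mpr hT.2
  set Q := T.substInvOfIsUnit hu with hQ
  have hQ0 : constantCoeff Q = 0 := constantCoeff_substInvOfIsUnit T hu
  have hTs : HasSubst T := HasSubst.of_constantCoeff_zero' hT.1
  have hQs : HasSubst Q := HasSubst.of_constantCoeff_zero' hQ0
  have e1 : T.subst Q = X := subst_substInvOfIsUnit_right T hT.1 hu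
  have e2 : Q.subst T = X := subst_substInvOfIsUnit_left T hT.1 hu
  refine ⟨Q, hQ0, ?_, ?_⟩
  · intro f
    rw [substHom_apply, substHom_apply, subst_comp_subst_apply hTs hQs, e1, X_subst]
  · intro f
    rw [substHom_apply, substHom_apply, subst_comp_subst_apply hQs hTs, e2, X_subst]

/-- substitution by an order-one series is bijective -/
lemma substHom_bijective (T : PowerSeries k) (hT : Ord1 T) :
    Function.Bijective (substHom T hT.1) := by
  obtain ⟨Q, hQ, c1, c2⟩ := exists_inverse T hT
  exact ⟨Function.LeftInverse.injective c1, Function.RightInverse.surjective c2⟩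

/-- divisibility by `X^n` is reflected by order-one substitutions -/
lemma X_pow_dvd_of_substHom (T : PowerSeries k) (hT : Ord1 T) {n : ℕ} {f : PowerSeries k}
    (h : X ^ n ∣ substHom T hT.1 f) : X ^ n ∣ f := by
  obtain ⟨Q, hQ, c1, c2⟩ := exists_inverse T hT
  rw [← c1 f]
  apply X_pow_dvd_algHom _ _ h
  rw [substHom_X, hQ]

/-- an algebra endomorphism with `α(t)` of order one is bijective -/
lemma algHom_bijective (α : PowerSeries k →ₐ[k] PowerSeries k) (hT : Ord1 (α X)) :
    Function.Bijective α := by
  rw [eq_substHom α hT.1]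
  exact substHom_bijective _ hT

/-- an involution with linear coefficient one is trivial (char ≠ 2) -/
lemma involution_eq_id (h2 : (2 : k) ≠ 0) (α : PowerSeries k →ₐ[k] PowerSeries k)
    (hinv : ∀ f, α (α f) = f) (h0 : constantCoeff (α X) = 0) (h1 : coeff 1 (α X) = 1) :
    ∀ f, α f = f := by
  -- τ = (X + αX)/2 is fixed and of order one
  set τ := C (2 : k)⁻¹ * (X + α X) with hτ
  have hτ0 : constantCoeff τ = 0 := by
    rw [hτ, map_mul, map_add, constantCoeff_X, h0, add_zero, mul_zero]
  have hτ1 : coeff 1 τ = 1 := by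
    rw [hτ, coeff_C_mul, map_add, coeff_one_X, h1]
    rw [← two_mul, ← mul_assoc, inv_mul_cancel₀ h2, one_mul]
  have hfix : α τ = τ := by
    rw [hτ, map_mul, map_add, hinv]
    rw [show C (2 : k)⁻¹ = algebraMap k (PowerSeries k) (2 : k)⁻¹ from rfl, α.commutes]
    ring
  have hO : Ord1 τ := ⟨hτ0, by rw [hτ1]; exact one_ne_zero⟩
  -- α ∘ S = S where S = substHom τ
  have hcomp : α.comp (substHom τ hτ0) = substHom τ hτ0 := by
    apply ps_algHom_ext
    · rw [AlgHom.comp_apply, substHom_X, hfix]
    · rw [AlgHom.comp_apply, substHom_X, hfix, hτ0]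
  intro f
  obtain ⟨g, rfl⟩ := (substHom_bijective τ hO).2 f
  exact DFunLike.congr_fun hcomp g

/-- the linear coefficient of an involution squares to one -/
lemma coeff_one_sq_of_involution (α : PowerSeries k →ₐ[k] PowerSeries k)
    (hinv : ∀ f, α (α f) = f) (h0 : constantCoeff (α X) = 0) :
    coeff 1 (α X) * coeff 1 (α X) = 1 := by
  have h := coeff_one_algHom α h0 (α X)
  rw [hinv, coeff_one_X] at h
  exact h.symm

/-- the anti-invariant uniformizer of an involution with linear coefficient `-1` -/
lemma exists_anti_invariant (h2 : (2 : k) ≠ 0) (α : PowerSeries k →ₐ[k] PowerSeries k)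
    (hinv : ∀ f, α (α f) = f) (h0 : constantCoeff (α X) = 0) (h1 : coeff 1 (α X) = -1) :
    Ord1 (C (2 : k)⁻¹ * (X - α X)) ∧ coeff 1 (C (2 : k)⁻¹ * (X - α X)) = 1 ∧
      α (C (2 : k)⁻¹ * (X - α X)) = -(C (2 : k)⁻¹ * (X - α X)) := by
  have hτ1 : coeff 1 (C (2 : k)⁻¹ * (X - α X)) = 1 := by
    rw [coeff_C_mul, map_sub, coeff_one_X, h1, sub_neg_eq_add]
    rw [← two_mul, ← mul_assoc, inv_mul_cancel₀ h2, one_mul]
  refine ⟨⟨?_, ?_⟩, hτ1, ?_⟩
  · rw [map_mul, map_sub, constantCoeff_X, h0, sub_zero, mul_zero]
  · rw [hτ1]; exact one_ne_zero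
  · rw [map_mul, map_sub, hinv]
    rw [show C (2 : k)⁻¹ = algebraMap k (PowerSeries k) (2 : k)⁻¹ from rfl, α.commutes]
    ring

end Groth.Agent.Lib.Helper9.PSAut
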