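import Mathlib
import Groth.Prelude.Def_W4c1arstab1appArSing
import Groth.Agent.Lib.Helper9.ArNF
import Groth.Agent.Lib.Helper9.ArNF2
import Groth.Agent.Lib.Helper9.PSAut

set_option autoImplicit false
universe u

namespace Groth.Agent.Lib.Helper9.ArBranch

open Groth.Agent.Lib.Helper9.ArNF Groth.Agent.Lib.Helper9.ArNF2 Groth.Agent.Lib.Helper9.PSAut

variable (k : Type u) [Field k] {r h : ℕ} (hr : r + 1 = 2 * h)

/-- restriction to the branch `y = x^h` -/
noncomputable def nuP : ArSing.ring k r →ₐ[k] PowerSeries k :=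
  AlgHom.ofLinearMap
    (cA k r + (LinearMap.mulLeft k ((PowerSeries.X : PowerSeries k) ^ h)).comp (cB k r))
    (by
      have h1 : (1 : ArSing.ring k r) = ArSing.xMap k r 1 := (map_one _).symm
      rw [LinearMap.add_apply, LinearMap.comp_apply, h1, cA_xMap, cB_xMap, map_zero, add_zero])
    (by
      intro z w
      simp only [LinearMap.add_apply, LinearMap.comp_apply, LinearMap.mulLeft_apply, cA_mul,
        cB_mul, hr]
      ring)

/-- restriction to the branch `y = -x^h` -/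
noncomputable def nuM : ArSing.ring k r →ₐ[k] PowerSeries k :=
  AlgHom.ofLinearMap
    (cA k r - (LinearMap.mulLeft k ((PowerSeries.X : PowerSeries k) ^ h)).comp (cB k r))
    (by
      have h1 : (1 : ArSing.ring k r) = ArSing.xMap k r 1 := (map_one _).symm
      rw [LinearMap.sub_apply, LinearMap.comp_apply, h1, cA_xMap, cB_xMap, map_zero, sub_zero])
    (by
      intro z w
      simp only [LinearMap.sub_apply, LinearMap.comp_apply, LinearMap.mulLeft_apply, cA_mul,
        cB_mul, hr]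
      ring)

lemma nuP_apply (z : ArSing.ring k r) :
    nuP k hr z = cA k r z + PowerSeries.X ^ h * cB k r z := rfl
lemma nuM_apply (z : ArSing.ring k r) :
    nuM k hr z = cA k r z - PowerSeries.X ^ h * cB k r z := rfl

lemma nuP_xMap (a : PowerSeries k) : nuP k hr (ArSing.xMap k r a) = a := by
  rw [nuP_apply, cA_xMap, cB_xMap, mul_zero, add_zero]
lemma nuM_xMap (a : PowerSeries k) : nuM k hr (ArSing.xMap k r a) = a := by
  rw [nuM_apply, cA_xMap, cB_xMap, mul_zero, sub_zero]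
lemma nuP_x : nuP k hr (ArSing.x k r) = PowerSeries.X := by rw [← xMap_X, nuP_xMap]
lemma nuM_x : nuM k hr (ArSing.x k r) = PowerSeries.X := by rw [← xMap_X, nuM_xMap]
lemma nuP_y : nuP k hr (ArSing.y k r) = PowerSeries.X ^ h := by
  rw [nuP_apply, cA_y, cB_y, mul_one, zero_add]
lemma nuM_y : nuM k hr (ArSing.y k r) = -PowerSeries.X ^ h := by
  rw [nuM_apply, cA_y, cB_y, mul_one, zero_sub]

lemma ps_two_cancel (h2 : (2 : k) ≠ 0) {a : PowerSeries k} (ha : a + a = 0) : a = 0 := by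
  have h3 : (2 : k) • a = 0 := by rw [two_smul]; exact ha
  rcases smul_eq_zero.mp h3 with hc | hc
  · exact absurd hc h2
  · exact hc

lemma joint_inj (h2 : (2 : k) ≠ 0) {z w : ArSing.ring k r} (hP : nuP k hr z = nuP k hr w)
    (hM : nuM k hr z = nuM k hr w) : z = w := by
  rw [nuP_apply, nuP_apply] at hP
  rw [nuM_apply, nuM_apply] at hM
  have hA : cA k r z - cA k r w = 0 := by
    apply ps_two_cancel k h2
    linear_combination hP + hM
  have hB : cB k r z - cB k r w = 0 := by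
    have h3 : PowerSeries.X ^ h * (cB k r z - cB k r w) = 0 := by
      apply ps_two_cancel k h2
      linear_combination hP - hM
    rcases mul_eq_zero.mp h3 with hc | hc
    · exact absurd hc (pow_ne_zero _ PowerSeries.X_ne_zero)
    · exact hc
  exact ext_nf k r (sub_eq_zero.mp hA) (sub_eq_zero.mp hB)

lemma C_two_inv_add (h2 : (2 : k) ≠ 0) (a : PowerSeries k) :
    PowerSeries.C (2 : k)⁻¹ * (a + a) = a := by
  rw [← two_mul, ← mul_assoc]
  have : (PowerSeries.C (2 : k)⁻¹ * 2 : PowerSeries k) = 1 := by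
    rw [show (2 : PowerSeries k) = PowerSeries.C (2 : k) from
      (map_ofNat (PowerSeries.C (R := k)) 2).symm, ← map_mul, inv_mul_cancel₀ h2, map_one]
  rw [this, one_mul]

lemma joint_surj (h2 : (2 : k) ≠ 0) (f g : PowerSeries k)
    (hd : PowerSeries.X ^ h ∣ f - g) :
    ∃ z : ArSing.ring k r, nuP k hr z = f ∧ nuM k hr z = g := by
  obtain ⟨q, hq⟩ := hd
  refine ⟨ArSing.xMap k r (PowerSeries.C (2 : k)⁻¹ * (f + g)) +
    ArSing.xMap k r (PowerSeries.C (2 : k)⁻¹ * q) * ArSing.y k r, ?_, ?_⟩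
  · rw [nuP_apply, cA_nf, cB_nf]
    have e : PowerSeries.C (2 : k)⁻¹ * (f + g) +
        PowerSeries.X ^ h * (PowerSeries.C (2 : k)⁻¹ * q) =
        PowerSeries.C (2 : k)⁻¹ * (f + f) := by
      linear_combination (PowerSeries.C (2 : k)⁻¹) * hq.symm
    rw [e, C_two_inv_add k h2]
  · rw [nuM_apply, cA_nf, cB_nf]
    have e : PowerSeries.C (2 : k)⁻¹ * (f + g) -
        PowerSeries.X ^ h * (PowerSeries.C (2 : k)⁻¹ * q) =
        PowerSeries.C (2 : k)⁻¹ * (g + g) := by
      linear_combination (-PowerSeries.C (2 : k)⁻¹) * hq.symm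
    rw [e, C_two_inv_add k h2]

lemma dvd_nuP_sub_nuM (z : ArSing.ring k r) :
    PowerSeries.X ^ h ∣ nuP k hr z - nuM k hr z := by
  rw [nuP_apply, nuM_apply]
  refine ⟨cB k r z + cB k r z, ?_⟩
  ring

lemma constantCoeff_nuP (hh : 1 ≤ h) (z : ArSing.ring k r) :
    PowerSeries.constantCoeff (nuP k hr z) = eps k r z := by
  rw [nuP_apply, map_add, map_mul, map_pow, PowerSeries.constantCoeff_X,
    zero_pow (by omega), zero_mul, add_zero, eps_eq]

lemma constantCoeff_nuM (hh : 1 ≤ h) (z : ArSing.ring k r) :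
    PowerSeries.constantCoeff (nuM k hr z) = eps k r z := by
  rw [nuM_apply, map_sub, map_mul, map_pow, PowerSeries.constantCoeff_X,
    zero_pow (by omega), zero_mul, sub_zero, eps_eq]

/-- maps out of `A_r` into `k[[t]]` are determined by the images of `x` and `y` -/
theorem algHom_ext_ps (F G : ArSing.ring k r →ₐ[k] PowerSeries k)
    (hx : F (ArSing.x k r) = G (ArSing.x k r)) (hy : F (ArSing.y k r) = G (ArSing.y k r))
    (h0 : PowerSeries.constantCoeff (F (ArSing.x k r)) = 0) : F = G := by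
  have h1 := ps_algHom_ext (F.comp (ArSing.xMap k r)) (G.comp (ArSing.xMap k r))
    (by rw [AlgHom.comp_apply, AlgHom.comp_apply, xMap_X, hx])
    (by rw [AlgHom.comp_apply, xMap_X, h0])
  apply AlgHom.ext
  intro z
  rw [eq_nf k r z, map_add, map_add, map_mul, map_mul, hy]
  have e : ∀ a, F (ArSing.xMap k r a) = G (ArSing.xMap k r a) := fun a => DFunLike.congr_fun h1 a
  rw [e, e]

include hr in
/-- maps `A_r → A_r` are determined by the images of `x` and `y` -/
theorem algHom_ext_xy (h2 : (2 : k) ≠ 0) (hh : 1 ≤ h) (F G : ArSing.ring k r →ₐ[k] ArSing.ring k r)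
    (hx : F (ArSing.x k r) = G (ArSing.x k r)) (hy : F (ArSing.y k r) = G (ArSing.y k r))
    (h0 : eps k r (F (ArSing.x k r)) = 0) : F = G := by
  have hP := algHom_ext_ps k ((nuP k hr).comp F) ((nuP k hr).comp G)
    (by rw [AlgHom.comp_apply, AlgHom.comp_apply, hx])
    (by rw [AlgHom.comp_apply, AlgHom.comp_apply, hy])
    (by rw [AlgHom.comp_apply, constantCoeff_nuP k hr hh, h0])
  have hM := algHom_ext_ps k ((nuM k hr).comp F) ((nuM k hr).comp G)
    (by rw [AlgHom.comp_apply, AlgHom.comp_apply, hx])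
    (by rw [AlgHom.comp_apply, AlgHom.comp_apply, hy])
    (by rw [AlgHom.comp_apply, constantCoeff_nuM k hr hh, h0])
  apply AlgHom.ext
  intro z
  exact joint_inj k hr h2 (DFunLike.congr_fun hP z) (DFunLike.congr_fun hM z)

/-- a map killing the kernel of `nuP` factors through `nuP` -/
lemma factor_nuP {B : Type*} [CommRing B] [Algebra k B] (Φ : ArSing.ring k r →ₐ[k] B)
    (hΦ : ∀ z, nuP k hr z = 0 → Φ z = 0) (z : ArSing.ring k r) :
    Φ z = Φ (ArSing.xMap k r (nuP k hr z)) := by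
  rw [← sub_eq_zero, ← map_sub]
  apply hΦ
  rw [map_sub, nuP_xMap, sub_self]

lemma factor_nuM {B : Type*} [CommRing B] [Algebra k B] (Φ : ArSing.ring k r →ₐ[k] B)
    (hΦ : ∀ z, nuM k hr z = 0 → Φ z = 0) (z : ArSing.ring k r) :
    Φ z = Φ (ArSing.xMap k r (nuM k hr z)) := by
  rw [← sub_eq_zero, ← map_sub]
  apply hΦ
  rw [map_sub, nuM_xMap, sub_self]

lemma mul_eq_zero_of_branches (h2 : (2 : k) ≠ 0) {z w : ArSing.ring k r}
    (hz : nuP k hr z = 0) (hw : nuM k hr w = 0) : z * w = 0 := by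
  apply joint_inj k hr h2
  · rw [map_mul, hz, zero_mul, map_zero]
  · rw [map_mul, hw, mul_zero, map_zero]

/-- the element `y + x^h` vanishes on the minus branch but not on the plus branch -/
lemma nuM_y_add : nuM k hr (ArSing.y k r + ArSing.x k r ^ h) = 0 := by
  rw [map_add, map_pow, nuM_x, nuM_y, neg_add_cancel]

lemma nuP_y_add (h2 : (2 : k) ≠ 0) : nuP k hr (ArSing.y k r + ArSing.x k r ^ h) ≠ 0 := by
  rw [map_add, map_pow, nuP_x, nuP_y]
  intro hc
  exact pow_ne_zero _ PowerSeries.X_ne_zero (ps_two_cancel k h2 hc)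

lemma nuP_y_sub : nuP k hr (ArSing.y k r - ArSing.x k r ^ h) = 0 := by
  rw [map_sub, map_pow, nuP_x, nuP_y, sub_self]

lemma nuM_y_sub (h2 : (2 : k) ≠ 0) : nuM k hr (ArSing.y k r - ArSing.x k r ^ h) ≠ 0 := by
  rw [map_sub, map_pow, nuM_x, nuM_y]
  intro hc
  have : (PowerSeries.X : PowerSeries k) ^ h + PowerSeries.X ^ h = 0 := by
    linear_combination -hc
  exact pow_ne_zero _ PowerSeries.X_ne_zero (ps_two_cancel k h2 this)

section endo
variable (r)

/-- construction of an endomorphism of `A_r` from the images of `x` and `y` -/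
theorem exists_algHom (x' y' : ArSing.ring k r) (hrel : y' ^ 2 = x' ^ (r + 1))
    (hx : eps k r x' = 0) (hy : eps k r y' = 0) :
    ∃ φ : ArSing.ring k r →ₐ[k] ArSing.ring k r,
      φ (ArSing.x k r) = x' ∧ φ (ArSing.y k r) = y' := by
  obtain ⟨X', rfl⟩ := Ideal.Quotient.mk_surjective x'
  obtain ⟨Y', rfl⟩ := Ideal.Quotient.mk_surjective y'
  rw [eps_mk] at hx hy
  let a : Fin 2 → MvPowerSeries (Fin 2) k := ![X', Y']
  have ha : MvPowerSeries.HasSubst a := by
    apply MvPowerSeries.hasSubst_of_constantCoeff_zero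
    intro s
    fin_cases s
    · exact hx
    · exact hy
  let S := MvPowerSeries.substAlgHom (R := k) ha
  have hS0 : S (MvPowerSeries.X 0) = X' := by
    show MvPowerSeries.substAlgHom (R := k) ha (MvPowerSeries.X 0) = X'
    rw [MvPowerSeries.coe_substAlgHom, MvPowerSeries.subst_X ha]
    rfl
  have hS1 : S (MvPowerSeries.X 1) = Y' := by
    show MvPowerSeries.substAlgHom (R := k) ha (MvPowerSeries.X 1) = Y'
    rw [MvPowerSeries.coe_substAlgHom, MvPowerSeries.subst_X ha]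
    rfl
  let Φ : MvPowerSeries (Fin 2) k →ₐ[k] ArSing.ring k r :=
    (Ideal.Quotient.mkₐ k (Ideal.span {ArSing.eqn k r})).comp S
  have hΦ : ∀ z ∈ Ideal.span {ArSing.eqn k r}, Φ z = 0 := by
    intro z hz
    obtain ⟨c, rfl⟩ := Ideal.mem_span_singleton'.mp hz
    rw [map_mul]
    have hSe : S (ArSing.eqn k r) = Y' ^ 2 - X' ^ (r + 1) := by
      rw [eqn_eq, map_sub, map_pow, map_pow, hS0, hS1]
    have : Φ (ArSing.eqn k r) = 0 := by
      show Ideal.Quotient.mk (Ideal.span {ArSing.eqn k r}) (S (ArSing.eqn k r)) = 0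
      rw [hSe, map_sub, map_pow, map_pow, hrel, sub_self]
    rw [this, mul_zero]
  refine ⟨Ideal.Quotient.liftₐ (Ideal.span {ArSing.eqn k r}) Φ hΦ, ?_, ?_⟩
  · show Ideal.Quotient.mk (Ideal.span {ArSing.eqn k r}) (S (MvPowerSeries.X 0)) = _
    rw [hS0]
  · show Ideal.Quotient.mk (Ideal.span {ArSing.eqn k r}) (S (MvPowerSeries.X 1)) = _
    rw [hS1]

end endo

section perm

/-- a map to a domain kills one of the two branches' kernels -/
lemma ker_cases (h2 : (2 : k) ≠ 0) (F : ArSing.ring k r →ₐ[k] PowerSeries k) :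
    (∀ z, nuP k hr z = 0 → F z = 0) ∨ (∀ w, nuM k hr w = 0 → F w = 0) := by
  by_contra hcon
  rw [not_or] at hcon
  obtain ⟨h1, h3⟩ := hcon
  push Not at h1 h3
  obtain ⟨z, hz, hFz⟩ := h1
  obtain ⟨w, hw, hFw⟩ := h3
  have := mul_eq_zero_of_branches k hr h2 hz hw
  have h4 := congrArg F this
  rw [map_mul, map_zero] at h4
  rcases mul_eq_zero.mp h4 with h5 | h5
  · exact hFz h5
  · exact hFw h5

/-- the two possibilities for an automorphism: preserve or swap the branches -/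
theorem perm_cases (h2 : (2 : k) ≠ 0) (σ : ArSing.ring k r ≃ₐ[k] ArSing.ring k r) :
    ((∀ z, nuP k hr z = 0 → nuP k hr (σ z) = 0) ∧ (∀ z, nuM k hr z = 0 → nuM k hr (σ z) = 0)) ∨
    ((∀ z, nuP k hr z = 0 → nuM k hr (σ z) = 0) ∧ (∀ z, nuM k hr z = 0 → nuP k hr (σ z) = 0)) := by
  have hP := ker_cases k hr h2 ((nuP k hr).comp (σ : ArSing.ring k r →ₐ[k] ArSing.ring k r))
  have hM := ker_cases k hr h2 ((nuM k hr).comp (σ : ArSing.ring k r →ₐ[k] ArSing.ring k r))
  simp only [AlgHom.comp_apply] at hP hM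
  -- no branch kernel is sent to zero entirely
  have hnotP : ¬ ((∀ z, nuP k hr z = 0 → nuP k hr (σ z) = 0) ∧
      (∀ z, nuP k hr z = 0 → nuM k hr (σ z) = 0)) := by
    rintro ⟨h3, h4⟩
    have h5 := joint_inj k hr h2 (z := σ (ArSing.y k r - ArSing.x k r ^ h)) (w := 0)
      (by rw [h3 _ (nuP_y_sub k hr), map_zero]) (by rw [h4 _ (nuP_y_sub k hr), map_zero])
    rw [map_eq_zero_iff σ σ.injective] at h5
    apply nuM_y_sub k hr h2
    rw [h5, map_zero]
  have hnotM : ¬ ((∀ z, nuM k hr z = 0 → nuP k hr (σ z) = 0) ∧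
      (∀ z, nuM k hr z = 0 → nuM k hr (σ z) = 0)) := by
    rintro ⟨h3, h4⟩
    have h5 := joint_inj k hr h2 (z := σ (ArSing.y k r + ArSing.x k r ^ h)) (w := 0)
      (by rw [h3 _ (nuM_y_add k hr), map_zero]) (by rw [h4 _ (nuM_y_add k hr), map_zero])
    rw [map_eq_zero_iff σ σ.injective] at h5
    apply nuP_y_add k hr h2
    rw [h5, map_zero]
  rcases hP with hPP | hMP
  · rcases hM with hPM | hMM
    · exact absurd ⟨hPP, hPM⟩ hnotP
    · exact Or.inl ⟨hPP, hMM⟩
  · rcases hM with hPM | hMM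
    · exact Or.inr ⟨hPM, hMP⟩
    · exact absurd ⟨hMP, hMM⟩ hnotM

end perm

section bij

/-- bijectivity criterion through the branches -/
theorem bijective_of_branch (h2 : (2 : k) ≠ 0) (hh : 1 ≤ h)
    (φ : ArSing.ring k r →ₐ[k] ArSing.ring k r) (τ₁ τ₂ : PowerSeries k)
    (h1 : Ord1 τ₁) (h1' : Ord1 τ₂)
    (hxP : nuP k hr (φ (ArSing.x k r)) = τ₁) (hxM : nuM k hr (φ (ArSing.x k r)) = τ₂)
    (hyP : nuP k hr (φ (ArSing.y k r)) = τ₁ ^ h) (hyM : nuM k hr (φ (ArSing.y k r)) = -τ₂ ^ h) :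
    Function.Bijective φ := by
  have eP : (nuP k hr).comp φ = (substHom τ₁ h1.1).comp (nuP k hr) := by
    apply algHom_ext_ps
    · rw [AlgHom.comp_apply, AlgHom.comp_apply, hxP, nuP_x, substHom_X]
    · rw [AlgHom.comp_apply, AlgHom.comp_apply, hyP, nuP_y, map_pow, substHom_X]
    · rw [AlgHom.comp_apply, hxP, h1.1]
  have eM : (nuM k hr).comp φ = (substHom τ₂ h1'.1).comp (nuM k hr) := by
    apply algHom_ext_ps
    · rw [AlgHom.comp_apply, AlgHom.comp_apply, hxM, nuM_x, substHom_X]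
    · rw [AlgHom.comp_apply, AlgHom.comp_apply, hyM, nuM_y, map_neg, map_pow, substHom_X]
    · rw [AlgHom.comp_apply, hxM, h1'.1]
  have eP' : ∀ z, nuP k hr (φ z) = substHom τ₁ h1.1 (nuP k hr z) :=
    fun z => DFunLike.congr_fun eP z
  have eM' : ∀ z, nuM k hr (φ z) = substHom τ₂ h1'.1 (nuM k hr z) :=
    fun z => DFunLike.congr_fun eM z
  have b1 := substHom_bijective τ₁ h1
  have b2 := substHom_bijective τ₂ h1'
  have hd : PowerSeries.X ^ h ∣ τ₁ - τ₂ := by
    rw [← hxP, ← hxM]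
    exact dvd_nuP_sub_nuM k hr _
  constructor
  · intro z w hzw
    apply joint_inj k hr h2
    · apply b1.1
      rw [← eP', ← eP', hzw]
    · apply b2.1
      rw [← eM', ← eM', hzw]
  · intro z
    obtain ⟨f, hf⟩ := b1.2 (nuP k hr z)
    obtain ⟨g, hg⟩ := b2.2 (nuM k hr z)
    have hfg : PowerSeries.X ^ h ∣ f - g := by
      -- S₁ (f - g) = (nuP z - nuM z) - (S₁ g - S₂ g)
      have h3 : PowerSeries.X ^ h ∣ substHom τ₁ h1.1 (f - g) := by
        have e : substHom τ₁ h1.1 (f - g) = (nuP k hr z - nuM k hr z) -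
            (substHom τ₁ h1.1 g - substHom τ₂ h1'.1 g) := by
          rw [map_sub, hf, ← hg]
          ring
        rw [e]
        apply dvd_sub (dvd_nuP_sub_nuM k hr z)
        apply X_pow_dvd_algHom_sub
        · rw [substHom_X, h1'.1]
        · rw [substHom_X, substHom_X]
          exact hd
      exact X_pow_dvd_of_substHom τ₁ h1 h3
    obtain ⟨w, hw1, hw2⟩ := joint_surj k hr h2 f g hfg
    refine ⟨w, ?_⟩
    apply joint_inj k hr h2
    · rw [eP', hw1, hf]
    · rw [eM', hw2, hg]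

end bij

section coords

include hr in
/-- a coordinate change with prescribed branch uniformizers -/
theorem exists_coords (h2 : (2 : k) ≠ 0) (hh : 1 ≤ h) (τ₁ τ₂ : PowerSeries k)
    (h1 : Ord1 τ₁) (h1' : Ord1 τ₂) (hd : PowerSeries.X ^ h ∣ τ₁ - τ₂) :
    ∃ φ : ArSing.ring k r ≃ₐ[k] ArSing.ring k r,
      nuP k hr (φ (ArSing.x k r)) = τ₁ ∧ nuM k hr (φ (ArSing.x k r)) = τ₂ ∧
      nuP k hr (φ (ArSing.y k r)) = τ₁ ^ h ∧ nuM k hr (φ (ArSing.y k r)) = -τ₂ ^ h := by
  obtain ⟨x', hx1, hx2⟩ := joint_surj k hr h2 τ₁ τ₂ hd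
  have hd2 : PowerSeries.X ^ h ∣ τ₁ ^ h - -τ₂ ^ h := by
    rw [sub_neg_eq_add]
    exact dvd_add (pow_dvd_pow_of_dvd (PowerSeries.X_dvd_iff.mpr h1.1) h)
      (pow_dvd_pow_of_dvd (PowerSeries.X_dvd_iff.mpr h1'.1) h)
  obtain ⟨y', hy1, hy2⟩ := joint_surj k hr h2 (τ₁ ^ h) (-τ₂ ^ h) hd2
  have hrel : y' ^ 2 = x' ^ (r + 1) := by
    apply joint_inj k hr h2
    · rw [map_pow, map_pow, hx1, hy1, hr, ← pow_mul, mul_comm]
    · rw [map_pow, map_pow, hx2, hy2, hr, neg_sq, ← pow_mul, mul_comm]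
  have hex : eps k r x' = 0 := by
    rw [← constantCoeff_nuP k hr hh, hx1, h1.1]
  have hey : eps k r y' = 0 := by
    rw [← constantCoeff_nuP k hr hh, hy1, map_pow, h1.1, zero_pow (by omega)]
  obtain ⟨φ₀, hφx, hφy⟩ := exists_algHom k r x' y' hrel hex hey
  have hbij := bijective_of_branch k hr h2 hh φ₀ τ₁ τ₂ h1 h1'
    (by rw [hφx, hx1]) (by rw [hφx, hx2]) (by rw [hφy, hy1]) (by rw [hφy, hy2])
  refine ⟨AlgEquiv.ofBijective φ₀ hbij, ?_, ?_, ?_, ?_⟩
  · rw [AlgEquiv.coe_ofBijective, hφx, hx1]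
  · rw [AlgEquiv.coe_ofBijective, hφx, hx2]
  · rw [AlgEquiv.coe_ofBijective, hφy, hy1]
  · rw [AlgEquiv.coe_ofBijective, hφy, hy2]

end coords

section induced

/-- automorphisms preserve the augmentation ideal -/
lemma eps_algEquiv (σ : ArSing.ring k r ≃ₐ[k] ArSing.ring k r) (z : ArSing.ring k r)
    (hz : eps k r z = 0) : eps k r (σ z) = 0 := by
  by_contra hne
  have h1 : σ z ∉ IsLocalRing.maximalIdeal (ArSing.ring k r) := by
    rw [mem_maximalIdeal_iff]
    exact hne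
  rw [IsLocalRing.notMem_maximalIdeal] at h1
  have h3 : IsUnit z := by
    have := h1.map σ.symm
    rwa [AlgEquiv.symm_apply_apply] at this
  have h4 : z ∉ IsLocalRing.maximalIdeal (ArSing.ring k r) :=
    IsLocalRing.notMem_maximalIdeal.mpr h3
  rw [mem_maximalIdeal_iff] at h4
  exact h4 hz

variable (σ : ArSing.ring k r ≃ₐ[k] ArSing.ring k r)

/-- the induced branch maps of a branch-preserving involution -/
theorem exists_branch_maps_nonswap (hh : 1 ≤ h) (hσ : ∀ a, σ (σ a) = a)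
    (hPP : ∀ z, nuP k hr z = 0 → nuP k hr (σ z) = 0)
    (hMM : ∀ z, nuM k hr z = 0 → nuM k hr (σ z) = 0) :
    ∃ α β : PowerSeries k →ₐ[k] PowerSeries k,
      (∀ z, nuP k hr (σ z) = α (nuP k hr z)) ∧ (∀ z, nuM k hr (σ z) = β (nuM k hr z)) ∧
      (∀ f, α (α f) = f) ∧ (∀ f, β (β f) = f) ∧
      PowerSeries.constantCoeff (α PowerSeries.X) = 0 ∧
      PowerSeries.constantCoeff (β PowerSeries.X) = 0 := by
  let σ' : ArSing.ring k r →ₐ[k] ArSing.ring k r := σ
  let α := (nuP k hr).comp (σ'.comp (ArSing.xMap k r))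
  let β := (nuM k hr).comp (σ'.comp (ArSing.xMap k r))
  have hα : ∀ z, nuP k hr (σ z) = α (nuP k hr z) := by
    intro z
    exact factor_nuP k hr ((nuP k hr).comp σ') hPP z
  have hβ : ∀ z, nuM k hr (σ z) = β (nuM k hr z) := by
    intro z
    exact factor_nuM k hr ((nuM k hr).comp σ') hMM z
  refine ⟨α, β, hα, hβ, ?_, ?_, ?_, ?_⟩
  · intro f
    show α (nuP k hr (σ (ArSing.xMap k r f))) = f
    rw [← hα, hσ, nuP_xMap]
  · intro f
    show β (nuM k hr (σ (ArSing.xMap k r f))) = f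
    rw [← hβ, hσ, nuM_xMap]
  · show PowerSeries.constantCoeff (nuP k hr (σ (ArSing.xMap k r PowerSeries.X))) = 0
    rw [constantCoeff_nuP k hr hh, xMap_X]
    exact eps_algEquiv k σ _ (eps_x k r)
  · show PowerSeries.constantCoeff (nuM k hr (σ (ArSing.xMap k r PowerSeries.X))) = 0
    rw [constantCoeff_nuM k hr hh, xMap_X]
    exact eps_algEquiv k σ _ (eps_x k r)

/-- the induced branch maps of a branch-swapping involution -/
theorem exists_branch_maps_swap (hh : 1 ≤ h) (hσ : ∀ a, σ (σ a) = a)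
    (hPM : ∀ z, nuP k hr z = 0 → nuM k hr (σ z) = 0)
    (hMP : ∀ z, nuM k hr z = 0 → nuP k hr (σ z) = 0) :
    ∃ α β : PowerSeries k →ₐ[k] PowerSeries k,
      (∀ z, nuM k hr (σ z) = α (nuP k hr z)) ∧ (∀ z, nuP k hr (σ z) = β (nuM k hr z)) ∧
      (∀ f, β (α f) = f) ∧ (∀ f, α (β f) = f) ∧
      PowerSeries.constantCoeff (α PowerSeries.X) = 0 ∧
      PowerSeries.constantCoeff (β PowerSeries.X) = 0 := by
  let σ' : ArSing.ring k r →ₐ[k] ArSing.ring k r := σ
  let α := (nuM k hr).comp (σ'.comp (ArSing.xMap k r))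
  let β := (nuP k hr).comp (σ'.comp (ArSing.xMap k r))
  have hα : ∀ z, nuM k hr (σ z) = α (nuP k hr z) := by
    intro z
    exact factor_nuP k hr ((nuM k hr).comp σ') hPM z
  have hβ : ∀ z, nuP k hr (σ z) = β (nuM k hr z) := by
    intro z
    exact factor_nuM k hr ((nuP k hr).comp σ') hMP z
  refine ⟨α, β, hα, hβ, ?_, ?_, ?_, ?_⟩
  · intro f
    show β (nuM k hr (σ (ArSing.xMap k r f))) = f
    rw [← hβ, hσ, nuP_xMap]
  · intro f
    show α (nuP k hr (σ (ArSing.xMap k r f))) = f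
    rw [← hα, hσ, nuM_xMap]
  · show PowerSeries.constantCoeff (nuM k hr (σ (ArSing.xMap k r PowerSeries.X))) = 0
    rw [constantCoeff_nuM k hr hh, xMap_X]
    exact eps_algEquiv k σ _ (eps_x k r)
  · show PowerSeries.constantCoeff (nuP k hr (σ (ArSing.xMap k r PowerSeries.X))) = 0
    rw [constantCoeff_nuP k hr hh, xMap_X]
    exact eps_algEquiv k σ _ (eps_x k r)

end induced

end Groth.Agent.Lib.Helper9.ArBranch
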