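import Mathlib
import Groth.Prelude.Def_W4c1arstab1appArSing
import Groth.Agent.Lib.Helper9.ArNF
import Groth.Agent.Lib.Helper9.ArNF2
import Groth.Agent.Lib.Helper9.PSAut
import Groth.Agent.Lib.Helper9.ArBranch

set_option autoImplicit false
universe u

namespace Groth.Agent.Lib.Helper9.ArCusp

open Groth.Agent.Lib.Helper9.ArNF Groth.Agent.Lib.Helper9.ArNF2 Groth.Agent.Lib.Helper9.PSAut

variable (k : Type u) [Field k] (r : ℕ)

/-- the parametrization `x ↦ τ^2, y ↦ τ^(r+1)` of `A_r` -/
noncomputable def nu : ArSing.ring k r →ₐ[k] PowerSeries k :=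
  AlgHom.ofLinearMap
    ((sqHom k).toLinearMap.comp (cA k r) +
      (LinearMap.mulLeft k ((PowerSeries.X : PowerSeries k) ^ (r + 1))).comp
        ((sqHom k).toLinearMap.comp (cB k r)))
    (by
      have h1 : (1 : ArSing.ring k r) = ArSing.xMap k r 1 := (map_one _).symm
      simp only [LinearMap.add_apply, LinearMap.comp_apply, AlgHom.toLinearMap_apply]
      rw [h1, cA_xMap, cB_xMap, map_zero, map_zero, add_zero, map_one])
    (by
      intro z w
      simp only [LinearMap.add_apply, LinearMap.comp_apply, AlgHom.toLinearMap_apply,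
        LinearMap.mulLeft_apply, cA_mul, cB_mul, map_add, map_mul, map_pow, sqHom_X]
      ring)

lemma nu_apply (z : ArSing.ring k r) :
    nu k r z = sqHom k (cA k r z) + PowerSeries.X ^ (r + 1) * sqHom k (cB k r z) := rfl

lemma nu_xMap (a : PowerSeries k) : nu k r (ArSing.xMap k r a) = sqHom k a := by
  rw [nu_apply, cA_xMap, cB_xMap, map_zero, mul_zero, add_zero]

lemma nu_x : nu k r (ArSing.x k r) = PowerSeries.X ^ 2 := by
  rw [← xMap_X, nu_xMap, sqHom_X]

lemma nu_y : nu k r (ArSing.y k r) = PowerSeries.X ^ (r + 1) := by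
  rw [nu_apply, cA_y, cB_y, map_zero, map_one, mul_one, zero_add]

lemma constantCoeff_nu (z : ArSing.ring k r) :
    PowerSeries.constantCoeff (nu k r z) = eps k r z := by
  rw [nu_apply, map_add, map_mul, map_pow, PowerSeries.constantCoeff_X, zero_pow (by omega),
    zero_mul, add_zero, constantCoeff_sqHom, eps_eq]

variable {r}

/-- coefficients of `ν z` -/
lemma coeff_nu_even (hr : Even r) (z : ArSing.ring k r) (n : ℕ) :
    PowerSeries.coeff (2 * n) (nu k r z) = PowerSeries.coeff n (cA k r z) := by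
  rw [nu_apply, map_add, coeff_sqHom_even, PowerSeries.coeff_X_pow_mul']
  split_ifs with h
  · obtain ⟨j, hj⟩ := hr
    have e : 2 * n - (r + 1) = 2 * (n - j - 1) + 1 := by omega
    rw [e, coeff_sqHom_odd, add_zero]
  · rw [add_zero]

lemma coeff_nu_odd (hr : Even r) (z : ArSing.ring k r) (n : ℕ) :
    PowerSeries.coeff (2 * n + (r + 1)) (nu k r z) = PowerSeries.coeff n (cB k r z) := by
  obtain ⟨j, hj⟩ := hr
  rw [nu_apply, map_add, PowerSeries.coeff_X_pow_mul', if_pos (by omega)]
  have e : 2 * n + (r + 1) = 2 * (n + j) + 1 := by omega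
  have e2 : 2 * n + (r + 1) - (r + 1) = 2 * n := by omega
  rw [e2, coeff_sqHom_even, e, coeff_sqHom_odd, zero_add]

lemma nu_injective (hr : Even r) : Function.Injective (nu k r) := by
  rw [injective_iff_map_eq_zero]
  intro z hz
  apply ext_nf k r
  · ext n
    rw [← coeff_nu_even k hr, hz]
    simp
  · ext n
    rw [← coeff_nu_odd k hr, hz]
    simp

/-- description of the image of `ν` -/
lemma mem_range_nu (hr : Even r) (f : PowerSeries k)
    (hf : ∀ n, Odd n → n < r + 1 → PowerSeries.coeff n f = 0) :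
    ∃ z : ArSing.ring k r, nu k r z = f := by
  obtain ⟨j, hj⟩ := hr
  refine ⟨ArSing.xMap k r (PowerSeries.mk fun n => PowerSeries.coeff (2 * n) f) +
    ArSing.xMap k r (PowerSeries.mk fun n => PowerSeries.coeff (2 * n + (r + 1)) f) *
      ArSing.y k r, ?_⟩
  rw [nu_apply, cA_nf, cB_nf]
  ext m
  rw [map_add, PowerSeries.coeff_X_pow_mul']
  rcases Nat.even_or_odd' m with ⟨i, rfl | rfl⟩
  · rw [coeff_sqHom_even, PowerSeries.coeff_mk]
    split_ifs with h
    · have e : 2 * i - (r + 1) = 2 * (i - j - 1) + 1 := by omega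
      rw [e, coeff_sqHom_odd, add_zero]
    · rw [add_zero]
  · rw [coeff_sqHom_odd, zero_add]
    split_ifs with h
    · obtain ⟨l, rfl⟩ : ∃ l, i = j + l := ⟨i - j, by omega⟩
      have e : 2 * (j + l) + 1 - (r + 1) = 2 * l := by omega
      have e2 : 2 * l + (r + 1) = 2 * (j + l) + 1 := by omega
      rw [e, coeff_sqHom_even, PowerSeries.coeff_mk, e2]
    · rw [hf (2 * i + 1) ⟨i, rfl⟩ (by omega)]

lemma coeff_nu_eq_zero (z : ArSing.ring k r) (n : ℕ) (hn : Odd n)
    (hlt : n < r + 1) : PowerSeries.coeff n (nu k r z) = 0 := by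
  obtain ⟨i, rfl⟩ := hn
  rw [nu_apply, map_add, coeff_sqHom_odd, zero_add, PowerSeries.coeff_X_pow_mul',
    if_neg (by omega)]

variable (r)

/-- the continuous algebra map `k[[t]] → A_r` with `t ↦ p` -/
theorem exists_psHom (p : ArSing.ring k r) (hp : eps k r p = 0) :
    ∃ ψ : PowerSeries k →ₐ[k] ArSing.ring k r, ψ PowerSeries.X = p := by
  obtain ⟨P, rfl⟩ := Ideal.Quotient.mk_surjective p
  rw [eps_mk] at hp
  have hP : PowerSeries.HasSubst P := PowerSeries.HasSubst.of_constantCoeff_zero hp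
  refine ⟨(Ideal.Quotient.mkₐ k (Ideal.span {ArSing.eqn k r})).comp
    (PowerSeries.substAlgHom hP), ?_⟩
  rw [AlgHom.comp_apply, PowerSeries.coe_substAlgHom, PowerSeries.subst_X hP]
  rfl

section lift
variable {r}

open Groth.Agent.Lib.Helper9.ArBranch in
/-- the lift of an involution to the normalization `k[[τ]]` -/
theorem exists_lift (hr : Even r) (h2 : (2 : k) ≠ 0)
    (σ : ArSing.ring k r ≃ₐ[k] ArSing.ring k r) (hσ : ∀ a, σ (σ a) = a) :
    ∃ σt : PowerSeries k →ₐ[k] PowerSeries k,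
      (∀ z, nu k r (σ z) = σt (nu k r z)) ∧ (∀ f, σt (σt f) = f) ∧
      PowerSeries.constantCoeff (σt PowerSeries.X) = 0 := by
  obtain ⟨j, hj⟩ := hr
  set X' := nu k r (σ (ArSing.x k r)) with hX'
  set Y' := nu k r (σ (ArSing.y k r)) with hY'
  have hrel : Y' ^ 2 = X' ^ (r + 1) := by
    have e := congrArg (fun z => nu k r (σ z)) (y_sq k r)
    simpa only [map_pow] using e
  have hX0 : PowerSeries.constantCoeff X' = 0 := by
    rw [hX', constantCoeff_nu]
    exact eps_algEquiv k σ _ (eps_x k r)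
  have hXne : X' ≠ 0 := by
    intro h0
    have h1 : σ (ArSing.x k r) = 0 := by
      apply nu_injective k ⟨j, hj⟩
      rw [← hX', h0, map_zero]
    rw [map_eq_zero_iff σ σ.injective] at h1
    have h3 := congrArg (nu k r) h1
    rw [nu_x, map_zero] at h3
    exact pow_ne_zero _ PowerSeries.X_ne_zero h3
  have hdiv : X' ^ j ∣ Y' := by
    rcases ValuationRing.dvd_total (X' ^ j) Y' with hd | ⟨c, hc⟩
    · exact hd
    · exfalso
      have e1 : X' ^ (2 * j) * 1 = X' ^ (2 * j) * (X' * c ^ 2) := by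
        have : X' ^ (2 * j) = Y' ^ 2 * c ^ 2 := by
          rw [pow_mul', hc]; ring
        rw [mul_one]
        conv_lhs => rw [this, hrel]
        rw [show r + 1 = 2 * j + 1 by omega, pow_succ]
        ring
      have e2 := mul_left_cancel₀ (pow_ne_zero _ hXne) e1
      have e3 := congrArg PowerSeries.constantCoeff e2
      rw [map_one, map_mul, hX0, zero_mul] at e3
      exact one_ne_zero e3
  obtain ⟨T, hT⟩ := hdiv
  have hT2 : T ^ 2 = X' := by
    have e1 : X' ^ (2 * j) * T ^ 2 = X' ^ (2 * j) * X' := by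
      have : X' ^ (2 * j) * T ^ 2 = Y' ^ 2 := by rw [hT, pow_mul']; ring
      rw [this, hrel, show r + 1 = 2 * j + 1 by omega, pow_succ]
    exact mul_left_cancel₀ (pow_ne_zero _ hXne) e1
  have hTs : T ^ (r + 1) = Y' := by
    rw [show r + 1 = 2 * j + 1 by omega, pow_succ, pow_mul, hT2, hT]
  have hT0 : PowerSeries.constantCoeff T = 0 := by
    have := congrArg PowerSeries.constantCoeff hT2
    rw [map_pow, hX0] at this
    exact pow_eq_zero_iff (two_ne_zero) |>.mp this
  set σt := substHom T hT0 with hσt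
  have hcomm : (nu k r).comp (σ : ArSing.ring k r →ₐ[k] ArSing.ring k r) = σt.comp (nu k r) := by
    apply algHom_ext_ps
    · rw [AlgHom.comp_apply, AlgHom.comp_apply, nu_x, map_pow, substHom_X, hT2]
      rfl
    · rw [AlgHom.comp_apply, AlgHom.comp_apply, nu_y, map_pow, substHom_X, hTs]
      rfl
    · rw [AlgHom.comp_apply]
      exact hX0
  have hcomm' : ∀ z, nu k r (σ z) = σt (nu k r z) := fun z => DFunLike.congr_fun hcomm z
  have hσtT : σt T = PowerSeries.X := by
    have e1 : (σt T) ^ 2 = PowerSeries.X ^ 2 := by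
      rw [← map_pow, hT2, hX', ← hcomm', hσ, nu_x]
    have e2 : (σt T) ^ (r + 1) = PowerSeries.X ^ (r + 1) := by
      rw [← map_pow, hTs, hY', ← hcomm', hσ, nu_y]
    have e3 : (σt T - PowerSeries.X) * (σt T + PowerSeries.X) = 0 := by
      linear_combination e1
    rcases mul_eq_zero.mp e3 with h | h
    · exact sub_eq_zero.mp h
    · exfalso
      have e4 : σt T = -PowerSeries.X := eq_neg_of_add_eq_zero_left h
      rw [e4, Odd.neg_pow ⟨j, by omega⟩] at e2
      have e5 : (PowerSeries.X : PowerSeries k) ^ (r + 1) + PowerSeries.X ^ (r + 1) = 0 := by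
        linear_combination -e2
      exact pow_ne_zero _ PowerSeries.X_ne_zero (ps_two_cancel k h2 e5)
  refine ⟨σt, hcomm', ?_, ?_⟩
  · have hid : σt.comp σt = AlgHom.id k _ := by
      apply ps_algHom_ext
      · rw [AlgHom.comp_apply, substHom_X, hσtT]; rfl
      · rw [AlgHom.comp_apply, substHom_X, hσtT, PowerSeries.constantCoeff_X]
    exact fun f => DFunLike.congr_fun hid f
  · rw [substHom_X, hT0]

/-- invariants of an involution `α` with anti-invariant uniformizer `τ'` are series in `τ'^2` -/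
theorem invariant_eq (h2 : (2 : k) ≠ 0) (α : PowerSeries k →ₐ[k] PowerSeries k)
    (τ' : PowerSeries k) (hτ : Ord1 τ') (hα : α τ' = -τ') (g : PowerSeries k) (hg : α g = g) :
    ∃ (G : PowerSeries k) (h0 : PowerSeries.constantCoeff (τ' ^ 2) = 0),
      g = substHom (τ' ^ 2) h0 G := by
  have h0 : PowerSeries.constantCoeff (τ' ^ 2) = 0 := by
    rw [map_pow, hτ.1, zero_pow two_ne_zero]
  obtain ⟨G, rfl⟩ := (substHom_bijective τ' hτ).2 g
  have e1 : α.comp (substHom τ' hτ.1) = (substHom τ' hτ.1).comp (negHom k) := by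
    apply ps_algHom_ext
    · rw [AlgHom.comp_apply, AlgHom.comp_apply, substHom_X, hα, negHom_X, map_neg, substHom_X]
    · rw [AlgHom.comp_apply, substHom_X, hα, map_neg, hτ.1, neg_zero]
  have e2 : substHom τ' hτ.1 (negHom k G) = substHom τ' hτ.1 G := by
    rw [← hg]
    exact (DFunLike.congr_fun e1 G).symm
  have e3 := (substHom_bijective τ' hτ).1 e2
  rw [negHom_eq_self_iff h2] at e3
  have e4 : (substHom τ' hτ.1).comp (sqHom k) = substHom (τ' ^ 2) h0 := by
    apply ps_algHom_ext
    · rw [AlgHom.comp_apply, sqHom_X, map_pow, substHom_X, substHom_X]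
    · rw [AlgHom.comp_apply, sqHom_X, map_pow, substHom_X]
      exact h0
  refine ⟨ev G, h0, ?_⟩
  rw [← e4, AlgHom.comp_apply, ← e3]

/-- the quadratic coefficient of `β f` when `β(t)` has order at least two -/
lemma coeff_two_algHom (β : PowerSeries k →ₐ[k] PowerSeries k)
    (hβ : PowerSeries.X ^ 2 ∣ β PowerSeries.X) (f : PowerSeries k)
    (hf : PowerSeries.constantCoeff f = 0) :
    PowerSeries.coeff 2 (β f) = PowerSeries.coeff 1 f * PowerSeries.coeff 2 (β PowerSeries.X) := by
  obtain ⟨f', rfl⟩ := PowerSeries.X_dvd_iff.mpr hf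
  have h2 := PowerSeries.eq_X_mul_shift_add_const f'
  set f'' := PowerSeries.mk fun i => PowerSeries.coeff (i + 1) f' with hf''
  obtain ⟨q, hq⟩ := hβ
  have e : β (PowerSeries.X * f') = β PowerSeries.X * β PowerSeries.X * β f'' +
      PowerSeries.C (PowerSeries.constantCoeff f') * β PowerSeries.X := by
    conv_lhs => rw [h2]
    simp only [map_add, map_mul]
    rw [show PowerSeries.C (PowerSeries.constantCoeff f') =
      algebraMap k (PowerSeries k) (PowerSeries.constantCoeff f') from rfl, β.commutes]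
    ring
  rw [e, map_add, PowerSeries.coeff_C_mul]
  have e2 : β PowerSeries.X * β PowerSeries.X * β f'' =
      PowerSeries.X ^ 4 * (q * q * β f'') := by
    rw [hq]; ring
  rw [e2, PowerSeries.coeff_X_pow_mul', if_neg (by omega), zero_add]
  congr 1
  rw [show (1 : ℕ) = 0 + 1 from rfl, PowerSeries.coeff_succ_X_mul,
    PowerSeries.coeff_zero_eq_constantCoeff_apply]

end lift

section coords
variable {r}

/-- eigen-coordinates for a nontrivial involution of the cusp `A_r`, `r` even -/
theorem exists_eigen_coords (hr : Even r) (h2 : (2 : k) ≠ 0)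
    (σ : ArSing.ring k r ≃ₐ[k] ArSing.ring k r) (hσ : ∀ a, σ (σ a) = a)
    (hne : σ ≠ AlgEquiv.refl) :
    ∃ (τ' : PowerSeries k) (x' y' : ArSing.ring k r), Ord1 τ' ∧
      nu k r x' = τ' ^ 2 ∧ nu k r y' = τ' ^ (r + 1) ∧ σ x' = x' ∧ σ y' = -y' := by
  obtain ⟨σt, hcomm, hinv, h0⟩ := exists_lift k hr h2 σ hσ
  have hc := coeff_one_sq_of_involution σt hinv h0
  rcases mul_self_eq_one_iff.mp hc with hc1 | hc1
  · exfalso
    have eid := involution_eq_id h2 σt hinv h0 hc1
    apply hne
    apply AlgEquiv.ext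
    intro z
    apply nu_injective k hr
    rw [hcomm, eid]
    rfl
  obtain ⟨hO, hτc, hτ⟩ := exists_anti_invariant h2 σt hinv h0 hc1
  set τ' := PowerSeries.C (2 : k)⁻¹ * (PowerSeries.X - σt PowerSeries.X) with hτ'
  obtain ⟨j, hj⟩ := hr
  have hτsq0 : PowerSeries.constantCoeff (τ' ^ 2) = 0 := by
    rw [map_pow, hO.1, zero_pow two_ne_zero]
  -- the invariant element of order two
  set xp := algebraMap k (ArSing.ring k r) (2 : k)⁻¹ * (ArSing.x k r + σ (ArSing.x k r)) with hxp
  have hxp0 : eps k r xp = 0 := by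
    rw [hxp, map_mul, map_add, eps_x, Groth.Agent.Lib.Helper9.ArBranch.eps_algEquiv k σ _ (eps_x k r),
      add_zero, mul_zero]
  set g₀ := nu k r xp with hg₀
  have hg₀' : g₀ = PowerSeries.C (2 : k)⁻¹ *
      (PowerSeries.X ^ 2 + (σt PowerSeries.X) ^ 2) := by
    rw [hg₀, hxp, map_mul, map_add, hcomm, nu_x, map_pow]
    rw [show nu k r (algebraMap k (ArSing.ring k r) (2 : k)⁻¹) = PowerSeries.C (2 : k)⁻¹ from
      (nu k r).commutes _]
  have hg₀inv : σt g₀ = g₀ := by
    rw [hg₀', map_mul, map_add, map_pow, map_pow, hinv]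
    rw [show σt (PowerSeries.C (2 : k)⁻¹) = PowerSeries.C (2 : k)⁻¹ from σt.commutes _]
    ring
  obtain ⟨P, hτsq0', hP⟩ := invariant_eq k h2 σt τ' hO hτ g₀ hg₀inv
  have hg₀0 : PowerSeries.constantCoeff g₀ = 0 := by
    rw [hg₀, constantCoeff_nu, hxp0]
  have hXτ : (PowerSeries.X : PowerSeries k) ∣ τ' := PowerSeries.X_dvd_iff.mpr hO.1
  have hβX : substHom (τ' ^ 2) hτsq0' PowerSeries.X = τ' ^ 2 := substHom_X _ _
  have hP0 : PowerSeries.constantCoeff P = 0 := by
    rw [← constantCoeff_algHom (substHom (τ' ^ 2) hτsq0') (by rw [hβX]; exact hτsq0') P, ← hP,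
      hg₀0]
  have hcoeff2 : PowerSeries.coeff 2 g₀ = 1 := by
    obtain ⟨q, hq⟩ := PowerSeries.X_dvd_iff.mpr h0
    have hq0 : PowerSeries.constantCoeff q = -1 := by
      have := hc1
      rw [hq, show (1 : ℕ) = 0 + 1 from rfl, PowerSeries.coeff_succ_X_mul,
        PowerSeries.coeff_zero_eq_constantCoeff_apply] at this
      exact this
    rw [hg₀', PowerSeries.coeff_C_mul, map_add, PowerSeries.coeff_X_pow_self, hq, mul_pow,
      PowerSeries.coeff_X_pow_mul', if_pos le_rfl, Nat.sub_self,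
      PowerSeries.coeff_zero_eq_constantCoeff_apply, map_pow, hq0]
    rw [neg_one_sq, ← two_mul, mul_one]
    exact inv_mul_cancel₀ h2
  have hP1 : PowerSeries.coeff 1 P ≠ 0 := by
    intro hP1
    have h3 := coeff_two_algHom k (substHom (τ' ^ 2) hτsq0')
      (by rw [hβX]; exact pow_dvd_pow_of_dvd hXτ 2) P hP0
    rw [← hP, hcoeff2, hP1, zero_mul] at h3
    exact one_ne_zero h3
  have hOP : Ord1 P := ⟨hP0, hP1⟩
  obtain ⟨Q, hQ0, -, hQ2⟩ := exists_inverse P hOP
  have hPQ : substHom P hP0 Q = PowerSeries.X := by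
    have := hQ2 PowerSeries.X
    rwa [substHom_X] at this
  obtain ⟨ψ, hψ⟩ := exists_psHom k r xp hxp0
  have e1 : (nu k r).comp ψ = (substHom (τ' ^ 2) hτsq0').comp (substHom P hP0) := by
    apply ps_algHom_ext
    · rw [AlgHom.comp_apply, AlgHom.comp_apply, hψ, substHom_X, ← hP]
    · rw [AlgHom.comp_apply, hψ]
      exact hg₀0
  have hx' : nu k r (ψ Q) = τ' ^ 2 := by
    have := DFunLike.congr_fun e1 Q
    rw [AlgHom.comp_apply, AlgHom.comp_apply, hPQ, hβX] at this
    exact this
  obtain ⟨y', hy'⟩ := mem_range_nu k ⟨j, hj⟩ (τ' ^ (r + 1)) (by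
    intro n _ hn
    exact PowerSeries.X_pow_dvd_iff.mp (pow_dvd_pow_of_dvd hXτ (r + 1)) n hn)
  refine ⟨τ', ψ Q, y', hO, hx', hy', ?_, ?_⟩
  · apply nu_injective k ⟨j, hj⟩
    rw [hcomm, hx', map_pow, hτ, neg_sq]
  · apply nu_injective k ⟨j, hj⟩
    rw [hcomm, hy', map_pow, hτ, map_neg, hy', Odd.neg_pow ⟨j, by omega⟩]

open Groth.Agent.Lib.Helper9.ArBranch in
/-- bijectivity criterion through the normalization, by finite codimension -/
theorem bijective_of_nu (hr : Even r) (φ : ArSing.ring k r →ₐ[k] ArSing.ring k r)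
    (τ' : PowerSeries k) (hτ : Ord1 τ') (hx : nu k r (φ (ArSing.x k r)) = τ' ^ 2)
    (hy : nu k r (φ (ArSing.y k r)) = τ' ^ (r + 1)) : Function.Bijective φ := by
  obtain ⟨j, hj⟩ := hr
  set S := substHom τ' hτ.1 with hS
  have hSb := substHom_bijective τ' hτ
  have hcomm : (nu k r).comp φ = S.comp (nu k r) := by
    apply algHom_ext_ps
    · rw [AlgHom.comp_apply, AlgHom.comp_apply, hx, nu_x, map_pow, substHom_X]
    · rw [AlgHom.comp_apply, AlgHom.comp_apply, hy, nu_y, map_pow, substHom_X]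
    · rw [AlgHom.comp_apply, hx, map_pow, hτ.1, zero_pow two_ne_zero]
  have hcomm' : ∀ z, nu k r (φ z) = S (nu k r z) := fun z => DFunLike.congr_fun hcomm z
  constructor
  · intro z w hzw
    apply nu_injective k ⟨j, hj⟩
    apply hSb.1
    rw [← hcomm', ← hcomm', hzw]
  · -- the odd-coefficient functional
    let π : PowerSeries k →ₗ[k] (Fin j → k) :=
      LinearMap.pi fun i => PowerSeries.coeff (R := k) (2 * (i : ℕ) + 1)
    let ρ : (Fin j → k) →ₗ[k] PowerSeries k :=
      { toFun := fun v => PowerSeries.mk fun n =>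
          if h : n % 2 = 1 ∧ n / 2 < j then v ⟨n / 2, h.2⟩ else 0
        map_add' := by
          intro v w
          ext n
          simp only [PowerSeries.coeff_mk, map_add, Pi.add_apply]
          split_ifs <;> simp
        map_smul' := by
          intro c v
          ext n
          simp only [PowerSeries.coeff_mk, PowerSeries.coeff_smul, Pi.smul_apply, smul_eq_mul,
            RingHom.id_apply]
          split_ifs <;> simp }
    have hπρ : ∀ v, π (ρ v) = v := by
      intro v
      ext i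
      show PowerSeries.coeff (2 * (i : ℕ) + 1) (ρ v) = v i
      show PowerSeries.coeff (2 * (i : ℕ) + 1) (PowerSeries.mk fun n =>
          if h : n % 2 = 1 ∧ n / 2 < j then v ⟨n / 2, h.2⟩ else 0) = v i
      rw [PowerSeries.coeff_mk]
      have h1 : (2 * (i : ℕ) + 1) % 2 = 1 ∧ (2 * (i : ℕ) + 1) / 2 < j := by
        have := i.2
        constructor <;> omega
      rw [dif_pos h1]
      congr 1
      apply Fin.ext
      show (2 * (i : ℕ) + 1) / 2 = i
      omega
    have hker : ∀ f : PowerSeries k, π f = 0 ↔ ∃ w, nu k r w = f := by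
      intro f
      constructor
      · intro hf
        apply mem_range_nu k ⟨j, hj⟩
        rintro n ⟨i, rfl⟩ hn
        have := congrFun hf ⟨i, by omega⟩
        exact this
      · rintro ⟨w, rfl⟩
        ext i
        show PowerSeries.coeff (2 * (i : ℕ) + 1) (nu k r w) = 0
        apply coeff_nu_eq_zero
        · exact ⟨i, rfl⟩
        · have := i.2
          omega
    have hstab : ∀ f, π f = 0 → π (S f) = 0 := by
      intro f hf
      obtain ⟨w, rfl⟩ := (hker f).mp hf
      rw [← hcomm']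
      exact (hker _).mpr ⟨_, rfl⟩
    let L : (Fin j → k) →ₗ[k] (Fin j → k) := π.comp (S.toLinearMap.comp ρ)
    have hL : ∀ f, π (S f) = L (π f) := by
      intro f
      have h1 : π (f - ρ (π f)) = 0 := by rw [map_sub, hπρ, sub_self]
      have h3 := hstab _ h1
      rw [map_sub, map_sub, sub_eq_zero] at h3
      exact h3
    have hLs : Function.Surjective L := by
      intro v
      obtain ⟨f, hf⟩ := hSb.2 (ρ v)
      refine ⟨π f, ?_⟩
      rw [← hL, hf, hπρ]
    have hLi : Function.Injective L := LinearMap.injective_iff_surjective.mpr hLs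
    intro z
    obtain ⟨f, hf⟩ := hSb.2 (nu k r z)
    have h1 : π f = 0 := by
      apply hLi
      rw [← hL, hf, map_zero]
      exact (hker _).mpr ⟨z, rfl⟩
    obtain ⟨w, hw⟩ := (hker f).mp h1
    refine ⟨w, ?_⟩
    apply nu_injective k ⟨j, hj⟩
    rw [hcomm', hw, hf]

end coords

end Groth.Agent.Lib.Helper9.ArCusp
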