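import Mathlib

/-!
# Fibre-product subrings of Artinian local rings

For a surjection `π : C' → C` of local rings and a local homomorphism `ψ : O → C` from a local
ring, `ArtSub.sub π ψ` is the subring of `C'` of elements whose image in the residue field of `C`
comes from `O`.  If `C'` is Artinian and the residue field of `C` is finite over `O`, this subring
is again an Artinian local ring.
-/

open IsLocalRing

universe u

namespace Groth.Agent.Lib.Helper9.ArtSub

variable {O C C' : Type u} [CommRing O] [CommRing C] [CommRing C']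
  [IsLocalRing O] [IsLocalRing C] [IsLocalRing C'] (π : C' →+* C) (ψ : O →+* C)

/-- The subring of `C'` of elements whose residue class in `κ(C)` comes from `O`. -/
def sub : Subring C' where
  carrier := {c' | ∃ f : O, π c' - ψ f ∈ maximalIdeal C}
  mul_mem' := by
    rintro a b ⟨f, hf⟩ ⟨g, hg⟩
    refine ⟨f * g, ?_⟩
    have : π (a * b) - ψ (f * g) = π a * (π b - ψ g) + ψ g * (π a - ψ f) := by
      rw [map_mul, map_mul]; ring
    rw [this]
    exact add_mem (Ideal.mul_mem_left _ _ hg) (Ideal.mul_mem_left _ _ hf)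
  one_mem' := ⟨1, by simp⟩
  add_mem' := by
    rintro a b ⟨f, hf⟩ ⟨g, hg⟩
    refine ⟨f + g, ?_⟩
    have : π (a + b) - ψ (f + g) = (π a - ψ f) + (π b - ψ g) := by
      rw [map_add, map_add]; ring
    rw [this]
    exact add_mem hf hg
  zero_mem' := ⟨0, by simp⟩
  neg_mem' := by
    rintro a ⟨f, hf⟩
    refine ⟨-f, ?_⟩
    have : π (-a) - ψ (-f) = -(π a - ψ f) := by
      rw [map_neg, map_neg]; ring
    rw [this]
    exact neg_mem hf

theorem mem_sub {c' : C'} : c' ∈ sub π ψ ↔ ∃ f : O, π c' - ψ f ∈ maximalIdeal C := Iff.rfl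

theorem mem_sub_of_map_eq {c' : C'} (f : O) (h : π c' = ψ f) : c' ∈ sub π ψ :=
  ⟨f, by rw [h, sub_self]; exact zero_mem _⟩

variable [IsLocalHom π]

theorem map_mem_maximalIdeal {x : C'} (hx : x ∈ maximalIdeal C') : π x ∈ maximalIdeal C := by
  rw [mem_maximalIdeal, mem_nonunits_iff] at hx ⊢
  exact fun h => hx (isUnit_of_map_unit π x h)

theorem mem_maximalIdeal_of_map {x : C'} (hx : π x ∈ maximalIdeal C) : x ∈ maximalIdeal C' := by
  rw [mem_maximalIdeal, mem_nonunits_iff] at hx ⊢
  exact fun h => hx (h.map π)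

theorem maximalIdeal_le_sub {x : C'} (hx : x ∈ maximalIdeal C') : x ∈ sub π ψ :=
  ⟨0, by simpa using map_mem_maximalIdeal π hx⟩

variable [IsLocalHom ψ]

theorem inv_mem_sub {x y : C'} (hx : x ∈ sub π ψ) (hxy : x * y = 1) : y ∈ sub π ψ := by
  obtain ⟨f, hf⟩ := hx
  have hπ : π x * π y = 1 := by rw [← map_mul, hxy, map_one]
  have hux : IsUnit (π x) := IsUnit.of_mul_eq_one _ hπ
  have huf : IsUnit (ψ f) := by
    by_contra hnu
    have h1 : ψ f ∈ maximalIdeal C := hnu
    have h2 : π x ∈ maximalIdeal C := by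
      have := add_mem hf h1
      simpa using this
    exact h2 hux
  have hf' : IsUnit f := isUnit_of_map_unit ψ f huf
  obtain ⟨g, hg⟩ := hf'.exists_right_inv
  refine ⟨g, ?_⟩
  have hψ : ψ f * ψ g = 1 := by rw [← map_mul, hg, map_one]
  have : π y - ψ g = π y * ψ g * (ψ f - π x) := by
    calc π y - ψ g = π y * (ψ f * ψ g) - (π x * π y) * ψ g := by rw [hψ, hπ]; ring
      _ = _ := by ring
  rw [this]
  apply Ideal.mul_mem_left
  have := neg_mem hf
  simpa using this

instance : Nontrivial (sub π ψ) := inferInstance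

theorem isUnit_iff (x : sub π ψ) : IsUnit x ↔ IsUnit (x : C') := by
  constructor
  · intro h
    exact h.map (sub π ψ).subtype
  · intro h
    obtain ⟨y, hy⟩ := h.exists_right_inv
    have hy' : y ∈ sub π ψ := inv_mem_sub π ψ x.2 hy
    exact IsUnit.of_mul_eq_one ⟨y, hy'⟩ (Subtype.ext hy)

instance isLocalRing_sub : IsLocalRing (sub π ψ) := by
  apply IsLocalRing.of_nonunits_add
  intro a b ha hb
  rw [mem_nonunits_iff, isUnit_iff] at ha hb ⊢
  have ha' : (a : C') ∈ maximalIdeal C' := ha
  have hb' : (b : C') ∈ maximalIdeal C' := hb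
  exact add_mem ha' hb'

instance isLocalHom_subtype : IsLocalHom (sub π ψ).subtype :=
  ⟨fun x hx => (isUnit_iff π ψ x).mpr hx⟩

theorem mem_maximalIdeal_sub (x : sub π ψ) :
    x ∈ maximalIdeal (sub π ψ) ↔ (x : C') ∈ maximalIdeal C' := by
  rw [mem_maximalIdeal, mem_nonunits_iff, isUnit_iff, mem_maximalIdeal, mem_nonunits_iff]

section Artinian

variable (hπ : Function.Surjective π) (hfin : ((residue C).comp ψ).Finite)
include hπ hfin

/-- Finitely many elements of `C'` generate `C'` over `sub π ψ` modulo the maximal ideal. -/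
theorem exists_gens : ∃ (n : ℕ) (e : Fin n → C'), ∀ c' : C', ∃ d : Fin n → sub π ψ,
    c' - ∑ j, (d j : C') * e j ∈ maximalIdeal C' := by
  letI := ((residue C).comp ψ).toAlgebra
  haveI : Module.Finite O (ResidueField C) := hfin
  obtain ⟨n, s, hs⟩ := Module.Finite.exists_fin (R := O) (M := ResidueField C)
  have hlift : ∀ j, ∃ e' : C', residue C (π e') = s j := fun j => by
    obtain ⟨c, hc⟩ := residue_surjective (s j)
    obtain ⟨c', rfl⟩ := hπ c
    exact ⟨c', hc⟩
  choose e he using hlift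
  refine ⟨n, e, fun c' => ?_⟩
  have hmem : residue C (π c') ∈ Submodule.span O (Set.range s) := by rw [hs]; trivial
  obtain ⟨f, hf⟩ := (Submodule.mem_span_range_iff_exists_fun O).mp hmem
  have hd : ∀ j, ∃ d : C', π d = ψ (f j) := fun j => hπ _
  choose d hd using hd
  refine ⟨fun j => ⟨d j, mem_sub_of_map_eq π ψ (f j) (hd j)⟩, ?_⟩
  apply mem_maximalIdeal_of_map π
  rw [← residue_eq_zero_iff, map_sub, map_sub, sub_eq_zero, ← hf, map_sum, map_sum]
  refine Finset.sum_congr rfl fun j _ => ?_
  rw [map_mul, map_mul, he, hd, Algebra.smul_def]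
  rfl

variable [IsArtinianRing C']

theorem fg_maximalIdeal_sub : (maximalIdeal (sub π ψ)).FG := by
  classical
  obtain ⟨n, e, he⟩ := exists_gens π ψ hπ hfin
  obtain ⟨G, hG⟩ : (maximalIdeal C').FG := IsNoetherian.noetherian _
  let M : Submodule (sub π ψ) C' := (maximalIdeal C').restrictScalars (sub π ψ)
  let N : Submodule (sub π ψ) C' :=
    Submodule.span (sub π ψ) (Set.range fun p : Fin n × G => e p.1 * (p.2 : C'))
  let I : Ideal (sub π ψ) := maximalIdeal (sub π ψ)
  have hNM : N ≤ M := by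
    apply Submodule.span_le.mpr
    rintro _ ⟨p, rfl⟩
    have hg : (p.2 : C') ∈ maximalIdeal C' := by
      rw [← hG]; exact Submodule.subset_span p.2.2
    exact Ideal.mul_mem_left _ _ hg
  have hstep : M ≤ N ⊔ I • M := by
    intro x hx
    have hx' : x ∈ Submodule.span C' (G : Set C') := by
      show x ∈ Ideal.span (G : Set C')
      rw [hG]; exact hx
    obtain ⟨c, hc⟩ := (Submodule.mem_span_finset' ).mp hx'
    rw [← hc]
    refine Submodule.sum_mem _ fun g _ => ?_
    obtain ⟨d, hd⟩ := he (c g)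
    have hg : (g : C') ∈ maximalIdeal C' := by
      rw [← hG]; exact Submodule.subset_span g.2
    have : c g • (g : C') = ∑ j, (d j) • (e j * (g : C')) +
        (⟨c g - ∑ j, (d j : C') * e j, maximalIdeal_le_sub π ψ hd⟩ : sub π ψ) • (g : C') := by
      simp only [Subring.smul_def, smul_eq_mul, Finset.sum_mul, sub_mul, mul_assoc]
      ring
    rw [this]
    refine Submodule.add_mem _ (Submodule.mem_sup_left ?_) (Submodule.mem_sup_right ?_)
    · exact Submodule.sum_mem _ fun j _ => Submodule.smul_mem _ _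
        (Submodule.subset_span ⟨(j, g), rfl⟩)
    · exact Submodule.smul_mem_smul ((mem_maximalIdeal_sub π ψ _).mpr hd) hg
  have hpow : ∀ k : ℕ, M ≤ N ⊔ I ^ (k + 1) • M := by
    intro k
    induction k with
    | zero => simpa using hstep
    | succ k ih =>
      refine ih.trans (sup_le le_sup_left ?_)
      calc I ^ (k + 1) • M ≤ I ^ (k + 1) • (N ⊔ I • M) := Submodule.smul_mono le_rfl hstep
        _ = I ^ (k + 1) • N ⊔ I ^ (k + 1) • (I • M) := Submodule.smul_sup _ _ _
        _ ≤ N ⊔ I ^ (k + 1 + 1) • M := by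
          refine sup_le_sup Submodule.smul_le_right ?_
          rw [← Submodule.mul_smul, ← pow_succ]
  obtain ⟨k, hk⟩ : ∃ k : ℕ, maximalIdeal C' ^ k = 0 := by
    have := (isArtinianRing_iff_isNilpotent_maximalIdeal C').mp inferInstance
    exact this
  have hIk : I ^ (k + 1) = ⊥ := by
    rw [eq_bot_iff]
    intro x hx
    have h1 : (sub π ψ).subtype x ∈ Ideal.map (sub π ψ).subtype (I ^ (k + 1)) :=
      Ideal.mem_map_of_mem _ hx
    rw [Ideal.map_pow] at h1
    have h2 : Ideal.map (sub π ψ).subtype I ≤ maximalIdeal C' := by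
      rw [Ideal.map_le_iff_le_comap]
      intro y hy
      exact (mem_maximalIdeal_sub π ψ y).mp hy
    have h3 := Ideal.pow_right_mono h2 (k + 1) h1
    rw [pow_succ, hk, Ideal.zero_eq_bot, Ideal.bot_mul] at h3
    exact Subtype.ext h3
  have hMN : M = N := by
    apply le_antisymm _ hNM
    have := hpow k
    rwa [hIk, Submodule.bot_smul, sup_bot_eq] at this
  have hMfg : M.FG := by
    rw [hMN]
    exact Submodule.fg_span (Set.finite_range _)
  apply Submodule.fg_of_fg_map_injective (Algebra.linearMap (sub π ψ) C')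
    (fun a b h => Subtype.ext h)
  convert hMfg using 1
  ext y
  constructor
  · rintro ⟨x, hx, rfl⟩
    exact (mem_maximalIdeal_sub π ψ x).mp hx
  · intro hy
    exact ⟨⟨y, maximalIdeal_le_sub π ψ hy⟩, (mem_maximalIdeal_sub π ψ _).mpr hy, rfl⟩

omit hπ hfin in
theorem isNilpotent_maximalIdeal_sub : IsNilpotent (maximalIdeal (sub π ψ)) := by
  obtain ⟨k, hk⟩ : ∃ k : ℕ, maximalIdeal C' ^ k = 0 :=
    (isArtinianRing_iff_isNilpotent_maximalIdeal C').mp inferInstance
  refine ⟨k, ?_⟩
  rw [Ideal.zero_eq_bot, eq_bot_iff]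
  intro x hx
  have h1 : (sub π ψ).subtype x ∈ Ideal.map (sub π ψ).subtype (maximalIdeal (sub π ψ) ^ k) :=
    Ideal.mem_map_of_mem _ hx
  rw [Ideal.map_pow] at h1
  have h2 : Ideal.map (sub π ψ).subtype (maximalIdeal (sub π ψ)) ≤ maximalIdeal C' := by
    rw [Ideal.map_le_iff_le_comap]
    intro y hy
    exact (mem_maximalIdeal_sub π ψ y).mp hy
  have h3 := Ideal.pow_right_mono h2 k h1
  rw [hk] at h3
  exact Subtype.ext h3

theorem isNoetherianRing_sub : IsNoetherianRing (sub π ψ) := by
  apply IsNoetherianRing.of_prime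
  intro P hP
  obtain ⟨k, hk⟩ := isNilpotent_maximalIdeal_sub π ψ
  have hle : maximalIdeal (sub π ψ) ≤ P := by
    intro x hx
    apply hP.mem_of_pow_mem k
    have : x ^ k ∈ maximalIdeal (sub π ψ) ^ k := Ideal.pow_mem_pow hx k
    rw [hk] at this
    rw [(Ideal.mem_bot.mp this)]
    exact zero_mem _
  rw [← (maximalIdeal.isMaximal (sub π ψ)).eq_of_le hP.ne_top hle]
  exact fg_maximalIdeal_sub π ψ hπ hfin

theorem isArtinianRing_sub : IsArtinianRing (sub π ψ) := by
  have := isNoetherianRing_sub π ψ hπ hfin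
  rw [isArtinianRing_iff_isNilpotent_maximalIdeal]
  exact isNilpotent_maximalIdeal_sub π ψ

end Artinian

end Groth.Agent.Lib.Helper9.ArtSub
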