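import Mathlib
import Groth.Agent.Lib.Helper9.ArtSub

open CategoryTheory AlgebraicGeometry IsLocalRing

universe u

namespace Groth.Agent.Lib.Helper9.ArtSubSch

open Groth.Agent.Lib.Helper9

/-- The closed point of `Spec D`, typed as a point of the scheme. -/
abbrev cpt (D : Type u) [CommRing D] [IsLocalRing D] : ↥(Spec (CommRingCat.of D)) := closedPoint D

variable {T : Scheme.{u}} {D : Type u} [CommRing D] [IsLocalRing D]

theorem finite_of_residueFieldMap_finite (β : Spec (CommRingCat.of D) ⟶ T)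
    (h : (β.residueFieldMap (cpt D)).hom.Finite) :
    ((residue D).comp (Scheme.stalkClosedPointTo β).hom).Finite := by
  haveI : IsLocalHom (stalkClosedPointIso (CommRingCat.of D)).hom.hom := isLocalHom_of_iso _
  have key : (residue D).comp (Scheme.stalkClosedPointTo β).hom =
      ((ResidueField.map (R := (Spec (CommRingCat.of D)).presheaf.stalk (cpt D))
          (stalkClosedPointIso (CommRingCat.of D)).hom.hom).comp
        (β.residueFieldMap (cpt D)).hom).comp
          (residue (T.presheaf.stalk (β (cpt D)))) := by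
    ext f
    have h1 : (β.residueFieldMap (cpt D)).hom
        (residue (T.presheaf.stalk (β (cpt D))) f) =
        residue _ ((β.stalkMap (cpt D)).hom f) :=
      congrArg (fun φ => φ.hom f) (Scheme.residue_residueFieldMap β (cpt D))
    refine Eq.trans ?_ (congrArg (ResidueField.map
      (R := (Spec (CommRingCat.of D)).presheaf.stalk (cpt D))
      (stalkClosedPointIso (CommRingCat.of D)).hom.hom) h1.symm)
    exact (ResidueField.map_residue (R := (Spec (CommRingCat.of D)).presheaf.stalk (cpt D))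
      (stalkClosedPointIso (CommRingCat.of D)).hom.hom
      ((β.stalkMap (cpt D)).hom f)).symm
  rw [key]
  refine RingHom.Finite.comp (RingHom.Finite.comp ?_ h)
    (RingHom.Finite.of_surjective _ residue_surjective)
  apply RingHom.Finite.of_surjective
  intro y
  obtain ⟨d, rfl⟩ := residue_surjective y
  refine ⟨residue _ ((stalkClosedPointIso (CommRingCat.of D)).inv.hom d), ?_⟩
  rw [ResidueField.map_residue]
  congr 1
  exact congrArg (fun φ => φ.hom d) (stalkClosedPointIso (CommRingCat.of D)).inv_hom_id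

theorem residueFieldMap_surjective (β : Spec (CommRingCat.of D) ⟶ T)
    (h : ∀ d : D, ∃ f : T.presheaf.stalk (β (cpt D)),
      d - (Scheme.stalkClosedPointTo β).hom f ∈ maximalIdeal D) :
    Function.Surjective (β.residueFieldMap (cpt D)).hom := by
  haveI : IsLocalHom (stalkClosedPointIso (CommRingCat.of D)).hom.hom := isLocalHom_of_iso _
  intro y
  obtain ⟨s, rfl⟩ := residue_surjective (R := (Spec (CommRingCat.of D)).presheaf.stalk (cpt D)) y
  obtain ⟨f, hf⟩ := h ((stalkClosedPointIso (CommRingCat.of D)).hom.hom s)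
  refine ⟨residue _ f, ?_⟩
  have h1 : (β.residueFieldMap (cpt D)).hom
      (residue (T.presheaf.stalk (β (cpt D))) f) =
      residue _ ((β.stalkMap (cpt D)).hom f) :=
    congrArg (fun φ => φ.hom f) (Scheme.residue_residueFieldMap β (cpt D))
  rw [h1]
  symm
  refine Ideal.Quotient.eq.mpr ?_
  rw [mem_maximalIdeal, mem_nonunits_iff]
  intro hu
  have hu' := hu.map (stalkClosedPointIso (CommRingCat.of D)).hom.hom
  have e : (stalkClosedPointIso (CommRingCat.of D)).hom.hom
      (s - (β.stalkMap (cpt D)).hom f) =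
      (stalkClosedPointIso (CommRingCat.of D)).hom.hom s -
        (Scheme.stalkClosedPointTo β).hom f := map_sub _ _ _
  rw [e] at hu'
  exact hf hu'

section Core

variable {S T : Scheme.{u}} (g : T ⟶ S)

/-- Morphisms from the spectrum of a local ring, presented through the stalk. -/
theorem spec_eq (R : Type u) [CommRing R] [IsLocalRing R] (β : Spec (CommRingCat.of R) ⟶ T) :
    Spec.map (Scheme.stalkClosedPointTo β) ≫ T.fromSpecStalk (β (cpt R)) = β :=
  Scheme.Spec_stalkClosedPointTo_fromSpecStalk β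

/-- If two presentations `Spec.map φ ≫ fromSpecStalk x` agree, so do the points and the maps. -/
theorem eq_of_spec_eq {R : Type u} [CommRing R] [IsLocalRing R] {x y : S}
    (φ : S.presheaf.stalk x ⟶ CommRingCat.of R) (φ' : S.presheaf.stalk y ⟶ CommRingCat.of R)
    [IsLocalHom φ.hom] [IsLocalHom φ'.hom]
    (h : Spec.map φ ≫ S.fromSpecStalk x = Spec.map φ' ≫ S.fromSpecStalk y) :
    ∃ h₁ : x = y, φ = (S.presheaf.stalkCongr (by rw [h₁]; rfl)).hom ≫ φ' := by
  have := (SpecToEquivOfLocalRing S (CommRingCat.of R)).symm.injective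
    (a₁ := ⟨x, φ, inferInstance⟩) (a₂ := ⟨y, φ', inferInstance⟩) h
  exact SpecToEquivOfLocalRing_eq_iff.mp this

theorem spec_stalkCongr {x y : S} (h : x = y) :
    Spec.map (S.presheaf.stalkCongr (by rw [h]; rfl)).hom ≫ S.fromSpecStalk x =
      S.fromSpecStalk y := by
  subst h
  simp


/-- The lifting property for maps with surjective residue field extension implies the lifting
property for maps with finite residue field extension. -/
theorem core (t : T)
    (hT : ∀ (C C' : Type u) [CommRing C] [CommRing C'] [IsLocalRing C] [IsLocalRing C']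
        [IsArtinianRing C] [IsArtinianRing C'] (π : C' →+* C), Function.Surjective π →
        ∀ (a : Spec (CommRingCat.of C) ⟶ T) (b : Spec (CommRingCat.of C') ⟶ S),
          a (IsLocalRing.closedPoint C) = t →
          Function.Surjective (a.residueFieldMap (IsLocalRing.closedPoint C)).hom →
          Spec.map (CommRingCat.ofHom π) ≫ b = a ≫ g →
          ∃ c : Spec (CommRingCat.of C') ⟶ T,
            Spec.map (CommRingCat.ofHom π) ≫ c = a ∧ c ≫ g = b)
    (C C' : Type u) [CommRing C] [CommRing C'] [IsLocalRing C] [IsLocalRing C']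
    [IsArtinianRing C] [IsArtinianRing C'] (π : C' →+* C) (hπ : Function.Surjective π)
    (a : Spec (CommRingCat.of C) ⟶ T) (b : Spec (CommRingCat.of C') ⟶ S)
    (hat : a (IsLocalRing.closedPoint C) = t)
    (hfin : (a.residueFieldMap (IsLocalRing.closedPoint C)).hom.Finite)
    (hcomm : Spec.map (CommRingCat.ofHom π) ≫ b = a ≫ g) :
    ∃ c : Spec (CommRingCat.of C') ⟶ T,
      Spec.map (CommRingCat.ofHom π) ≫ c = a ∧ c ≫ g = b := by
  haveI : IsLocalHom π := IsLocalHom.of_surjective π hπ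
  let ψ : T.presheaf.stalk (a (cpt C)) →+* C := (Scheme.stalkClosedPointTo a).hom
  haveI : IsLocalHom ψ := Scheme.isLocalHom_stalkClosedPointTo' a
  have hρ : ((residue C).comp ψ).Finite := finite_of_residueFieldMap_finite a hfin
  haveI : IsArtinianRing (ArtSub.sub π ψ) := ArtSub.isArtinianRing_sub π ψ hπ hρ
  haveI : IsArtinianRing (ArtSub.sub (RingHom.id C) ψ) :=
    ArtSub.isArtinianRing_sub (RingHom.id C) ψ Function.surjective_id hρ
  -- the two subrings
  let D' : Subring C' := ArtSub.sub π ψ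
  let D : Subring C := ArtSub.sub (RingHom.id C) ψ
  have hπD : ∀ x : D', π (x : C') ∈ D := fun x => x.2
  let π₁ : D' →+* D := (π.comp D'.subtype).codRestrict D hπD
  have hπ₁ : Function.Surjective π₁ := by
    intro y
    obtain ⟨x, hx⟩ := hπ (y : C)
    refine ⟨⟨x, ?_⟩, Subtype.ext hx⟩
    obtain ⟨f, hf⟩ := y.2
    exact ⟨f, by rw [hx]; exact hf⟩
  let ψ₁ : T.presheaf.stalk (a (cpt C)) →+* D :=
    ψ.codRestrict D (fun f => ArtSub.mem_sub_of_map_eq _ _ f rfl)
  haveI hψ₁loc : IsLocalHom ψ₁ := ⟨fun f hf => by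
    have : IsUnit (ψ f) := hf.map D.subtype
    exact isUnit_of_map_unit ψ f this⟩
  -- the relation coming from the commutative square
  have hb := spec_eq C' b
  have ha := spec_eq C a
  haveI : IsLocalHom (CommRingCat.ofHom π).hom := ‹IsLocalHom π›
  have h' : Spec.map (Scheme.stalkClosedPointTo b ≫ CommRingCat.ofHom π) ≫
      S.fromSpecStalk (b (cpt C')) =
      Spec.map (g.stalkMap (a (cpt C)) ≫ Scheme.stalkClosedPointTo a) ≫
        S.fromSpecStalk (g (a (cpt C))) := by
    rw [Spec.map_comp, Category.assoc, hb, hcomm, Spec.map_comp, Category.assoc,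
      Scheme.SpecMap_stalkMap_fromSpecStalk, ← Category.assoc, ha]
  haveI : IsLocalHom (Scheme.stalkClosedPointTo b ≫ CommRingCat.ofHom π).hom :=
    CommRingCat.isLocalHom_comp _ _
  haveI : IsLocalHom (g.stalkMap (a (cpt C)) ≫ Scheme.stalkClosedPointTo a).hom :=
    CommRingCat.isLocalHom_comp _ _
  obtain ⟨h₁, h₂⟩ := eq_of_spec_eq _ _ h'
  let χ : S.presheaf.stalk (b (cpt C')) →+* C' := (Scheme.stalkClosedPointTo b).hom
  let γc : S.presheaf.stalk (b (cpt C')) ⟶ T.presheaf.stalk (a (cpt C)) :=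
    (S.presheaf.stalkCongr (by rw [h₁]; rfl)).hom ≫ g.stalkMap (a (cpt C))
  have hχπ : ∀ f, π (χ f) = ψ (γc.hom f) := fun f => congrArg (fun φ => φ.hom f) h₂
  let χ₁ : S.presheaf.stalk (b (cpt C')) →+* D' :=
    χ.codRestrict D' (fun f => ArtSub.mem_sub_of_map_eq π ψ (γc.hom f) (hχπ f))
  let a₁ : Spec (CommRingCat.of D) ⟶ T :=
    Spec.map (CommRingCat.ofHom ψ₁) ≫ T.fromSpecStalk (a (cpt C))
  let b₁ : Spec (CommRingCat.of D') ⟶ S :=
    Spec.map (CommRingCat.ofHom χ₁) ≫ S.fromSpecStalk (b (cpt C'))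
  have hkey : CommRingCat.ofHom χ₁ ≫ CommRingCat.ofHom π₁ = γc ≫ CommRingCat.ofHom ψ₁ := by
    ext f
    exact hχπ f
  have hγ : Spec.map γc ≫ S.fromSpecStalk (b (cpt C')) = T.fromSpecStalk (a (cpt C)) ≫ g := by
    have e5 : Spec.map γc = Spec.map (g.stalkMap (a (cpt C))) ≫
        Spec.map (S.presheaf.stalkCongr (by rw [h₁]; rfl)).hom := Spec.map_comp _ _
    rw [e5, Category.assoc, spec_stalkCongr h₁, Scheme.SpecMap_stalkMap_fromSpecStalk]
  have hcomm₁ : Spec.map (CommRingCat.ofHom π₁) ≫ b₁ = a₁ ≫ g := by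
    calc Spec.map (CommRingCat.ofHom π₁) ≫ b₁
        = Spec.map (CommRingCat.ofHom χ₁ ≫ CommRingCat.ofHom π₁) ≫
            S.fromSpecStalk (b (cpt C')) := by
          show _ ≫ (_ ≫ _) = _
          rw [← Category.assoc, ← Spec.map_comp]
      _ = Spec.map (γc ≫ CommRingCat.ofHom ψ₁) ≫ S.fromSpecStalk (b (cpt C')) := by rw [hkey]
      _ = (Spec.map (CommRingCat.ofHom ψ₁) ≫ Spec.map γc) ≫ S.fromSpecStalk (b (cpt C')) :=
          congrArg (· ≫ S.fromSpecStalk (b (cpt C'))) (Spec.map_comp γc (CommRingCat.ofHom ψ₁))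
      _ = Spec.map (CommRingCat.ofHom ψ₁) ≫ (Spec.map γc ≫ S.fromSpecStalk (b (cpt C'))) :=
          Category.assoc _ _ _
      _ = Spec.map (CommRingCat.ofHom ψ₁) ≫ (T.fromSpecStalk (a (cpt C)) ≫ g) :=
          congrArg (Spec.map (CommRingCat.ofHom ψ₁) ≫ ·) hγ
      _ = a₁ ≫ g := (Category.assoc _ _ _).symm
  haveI : IsLocalHom (CommRingCat.ofHom ψ₁).hom := hψ₁loc
  have ha₁ : a₁ (IsLocalRing.closedPoint D) = t := by
    show T.fromSpecStalk (a (cpt C)) (Spec.map (CommRingCat.ofHom ψ₁) (closedPoint D)) = t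
    rw [Spec_closedPoint, Scheme.fromSpecStalk_closedPoint]
    exact hat
  have hsurj₁ : Function.Surjective (a₁.residueFieldMap (IsLocalRing.closedPoint D)).hom := by
    apply residueFieldMap_surjective a₁
    obtain ⟨h₃, h₄⟩ := eq_of_spec_eq (Scheme.stalkClosedPointTo a₁) (CommRingCat.ofHom ψ₁)
      (spec_eq D a₁)
    intro d
    obtain ⟨f₀, hf₀⟩ := d.2
    refine ⟨(T.presheaf.stalkCongr (by rw [h₃]; rfl)).inv.hom f₀, ?_⟩
    have e1 : (Scheme.stalkClosedPointTo a₁).hom
        ((T.presheaf.stalkCongr (by rw [h₃]; rfl)).inv.hom f₀) = ψ₁ f₀ := by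
      rw [h₄]
      show ψ₁ ((T.presheaf.stalkCongr _).hom.hom ((T.presheaf.stalkCongr _).inv.hom f₀)) = _
      congr 1
      exact congrArg (fun φ => φ.hom f₀) (T.presheaf.stalkCongr _).inv_hom_id
    rw [e1, ArtSub.mem_maximalIdeal_sub]
    exact hf₀
  obtain ⟨c₁, hc₁, hc₁'⟩ := hT D D' π₁ hπ₁ a₁ b₁ ha₁ hsurj₁ hcomm₁
  refine ⟨Spec.map (CommRingCat.ofHom D'.subtype) ≫ c₁, ?_, ?_⟩
  · have e2 : CommRingCat.ofHom D'.subtype ≫ CommRingCat.ofHom π =
        CommRingCat.ofHom π₁ ≫ CommRingCat.ofHom D.subtype := rfl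
    have e3 : CommRingCat.ofHom ψ₁ ≫ CommRingCat.ofHom D.subtype =
        Scheme.stalkClosedPointTo a := rfl
    rw [← Category.assoc, ← Spec.map_comp, e2, Spec.map_comp, Category.assoc, hc₁]
    show Spec.map (CommRingCat.ofHom D.subtype) ≫ Spec.map (CommRingCat.ofHom ψ₁) ≫
      T.fromSpecStalk (a (cpt C)) = a
    rw [← Category.assoc, ← Spec.map_comp, e3, ha]
  · have e4 : CommRingCat.ofHom χ₁ ≫ CommRingCat.ofHom D'.subtype =
        Scheme.stalkClosedPointTo b := rfl
    rw [Category.assoc, hc₁']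
    show Spec.map (CommRingCat.ofHom D'.subtype) ≫ Spec.map (CommRingCat.ofHom χ₁) ≫
      S.fromSpecStalk (b (cpt C')) = b
    rw [← Category.assoc, ← Spec.map_comp, e4, hb]

end Core

end Groth.Agent.Lib.Helper9.ArtSubSch
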