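import Mathlib
import Groth.Prelude.Def_ArtFun2
import Groth.Agent.Lib.Helper2.CompleteNoeth

/-!
# Completion of an augmented algebra at the (finitely generated) kernel of its augmentation

For a `Λ`-algebra `B` with a surjective augmentation `ρ : B → k` onto a field whose kernel is
finitely generated, the adic completion of `B` at `ker ρ` is a complete local Noetherian
`Λ`-algebra with residue field `k` (an `ArtFun.CRing`), with the expected universal property.
-/

universe u

open IsLocalRing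

namespace H9CRingCompl

variable {Λ : Type u} {k : Type u} [CommRing Λ] [Field k] [Algebra Λ k]

section Gen

variable (B : Type u) [CommRing B] [Algebra Λ B] (ρ : B →ₐ[Λ] k)

/-- the completion at the augmentation ideal -/
abbrev Bhat : Type u := AdicCompletion (RingHom.ker ρ) B

instance : IsScalarTower Λ B (Bhat B ρ) := IsScalarTower.of_algebraMap_eq fun _ => rfl

/-- `B → B̂` -/
noncomputable def iota : B →ₐ[Λ] Bhat B ρ := IsScalarTower.toAlgHom Λ B (Bhat B ρ)

variable {B}

/-- the augmentation of the completion -/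
noncomputable def resHat : Bhat B ρ →ₐ[Λ] k :=
  (Ideal.Quotient.liftₐ (RingHom.ker ρ) ρ (fun _ ha => ha)).comp
    ((AdicCompletion.evalOneₐ (RingHom.ker ρ)).restrictScalars Λ)

lemma resHat_iota (b : B) : resHat ρ (iota B ρ b) = ρ b := by
  have h1 : AdicCompletion.evalOneₐ (RingHom.ker ρ) (iota B ρ b) = Ideal.Quotient.mk _ b :=
    AdicCompletion.evalOneₐ_of (RingHom.ker ρ) b
  change (Ideal.Quotient.liftₐ (RingHom.ker ρ) ρ (fun _ ha => ha))
    (AdicCompletion.evalOneₐ (RingHom.ker ρ) (iota B ρ b)) = _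
  rw [h1]
  rfl

lemma resHat_surjective (hρ : Function.Surjective ρ) : Function.Surjective (resHat ρ) := fun c => by
  obtain ⟨b, rfl⟩ := hρ c
  exact ⟨iota B ρ b, resHat_iota ρ b⟩

lemma dens (hfg : (RingHom.ker ρ).FG) (n : ℕ) (r : Bhat B ρ) :
    ∃ b : B, r - iota B ρ b ∈ ((RingHom.ker ρ) ^ n • ⊤ : Submodule B (Bhat B ρ)) := by
  obtain ⟨o, ho⟩ := Submodule.Quotient.mk_surjective _
    (AdicCompletion.eval (RingHom.ker ρ) B n r)
  refine ⟨o, ?_⟩
  rw [AdicCompletion.pow_smul_top_eq_ker_eval hfg, LinearMap.mem_ker, map_sub, sub_eq_zero]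
  change _ = AdicCompletion.eval (RingHom.ker ρ) B n (AdicCompletion.of (RingHom.ker ρ) B o)
  rw [AdicCompletion.eval_of, ← ho]
  rfl

lemma mem_pow_of_mem {C : Type*} [CommRing C] (f : Bhat B ρ →+* C) (J : Ideal C) (n : ℕ)
    (h : ∀ a ∈ RingHom.ker ρ, f (iota B ρ a) ∈ J) (s : Bhat B ρ)
    (hs : s ∈ ((RingHom.ker ρ) ^ n • ⊤ : Submodule B (Bhat B ρ))) : f s ∈ J ^ n := by
  have h2 : ∀ a ∈ (RingHom.ker ρ) ^ n, f (iota B ρ a) ∈ J ^ n := by
    intro a ha
    have h3 : (RingHom.ker ρ).map (f.comp (iota B ρ : B →+* Bhat B ρ)) ≤ J :=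
      Ideal.map_le_iff_le_comap.2 (fun a ha => h a ha)
    have h4 := Ideal.mem_map_of_mem (f.comp (iota B ρ : B →+* Bhat B ρ)) ha
    rw [Ideal.map_pow] at h4
    exact Ideal.pow_right_mono h3 n h4
  induction hs using Submodule.smul_induction_on' with
  | smul a ha y hy =>
    have : a • y = iota B ρ a * y := by
      rw [Algebra.smul_def]; rfl
    rw [this, map_mul]
    exact Ideal.mul_mem_right _ _ (h2 a ha)
  | add x hx y hy hx' hy' => rw [map_add]; exact Ideal.add_mem _ hx' hy'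


section CR

variable (hρ : Function.Surjective ρ) (hfg : (RingHom.ker ρ).FG)

include hρ in
lemma ker_isMaximal : (RingHom.ker ρ).IsMaximal :=
  RingHom.ker_isMaximal_of_surjective (ρ : B →+* k) hρ

include hρ hfg in
lemma isMaximal_map : ((RingHom.ker ρ).map (algebraMap B (Bhat B ρ))).IsMaximal :=
  haveI := ker_isMaximal ρ hρ
  AdicCompletion.isMaximal_map_of_le _ _ le_rfl hfg

include hρ hfg in
lemma isLocalRing_hat : IsLocalRing (Bhat B ρ) := by
  haveI := isMaximal_map ρ hρ hfg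
  haveI := AdicCompletion.isAdicComplete_self _ hfg
  exact isLocalRing_of_isAdicComplete_maximal ((RingHom.ker ρ).map (algebraMap B (Bhat B ρ)))

include hρ hfg in
lemma isNoetherianRing_hat : IsNoetherianRing (Bhat B ρ) := by
  haveI : IsNoetherianRing (B ⧸ RingHom.ker ρ) :=
    isNoetherianRing_of_ringEquiv k
      (RingHom.quotientKerEquivOfSurjective (f := (ρ : B →+* k)) hρ).symm
  exact Groth.Agent.Helper2.CompleteNoeth.isNoetherianRing_adicCompletion B (RingHom.ker ρ) hfg

include hρ hfg in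
lemma maximalIdeal_hat [IsLocalRing (Bhat B ρ)] :
    maximalIdeal (Bhat B ρ) = (RingHom.ker ρ).map (algebraMap B (Bhat B ρ)) :=
  (IsLocalRing.eq_maximalIdeal (isMaximal_map ρ hρ hfg)).symm

/-- The completion as a `CRing`. -/
noncomputable def hatCRing : ArtFun.CRing Λ k :=
  letI := isLocalRing_hat ρ hρ hfg
  letI := isNoetherianRing_hat ρ hρ hfg
  { carrier := Bhat B ρ
    res := resHat ρ
    res_surjective := resHat_surjective ρ hρ
    isAdicComplete := by
      rw [maximalIdeal_hat ρ hρ hfg]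
      exact AdicCompletion.isAdicComplete_self _ hfg }

end CR

section UP

lemma factor_evalₐ (I : Ideal B) {m n : ℕ} (hle : m ≤ n) (x : AdicCompletion I B) :
    Ideal.Quotient.factor (Ideal.pow_le_pow_right hle) (AdicCompletion.evalₐ I n x) =
      AdicCompletion.evalₐ I m x := by
  induction x using AdicCompletion.induction_on with
  | h a =>
    rw [AdicCompletion.evalₐ_mk, AdicCompletion.evalₐ_mk, Ideal.Quotient.factor_mk]
    exact AdicCompletion.Ideal.mk_eq_mk I hle a

lemma cring_mem_max (T : ArtFun.CRing Λ k) (a : T.carrier) :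
    a ∈ maximalIdeal T.carrier ↔ T.res a = 0 := by
  have hmax : (RingHom.ker (T.res : T.carrier →+* k)).IsMaximal :=
    RingHom.ker_isMaximal_of_surjective (T.res : T.carrier →+* k) T.res_surjective
  rw [← IsLocalRing.eq_maximalIdeal hmax, RingHom.mem_ker]
  rfl

variable (T : ArtFun.CRing Λ k) (g : B →ₐ[Λ] T.carrier) (hg : T.res.comp g = ρ)

include hg in
lemma g_mem (a : B) (ha : a ∈ RingHom.ker ρ) : g a ∈ maximalIdeal T.carrier := by
  rw [cring_mem_max]
  have : T.res (g a) = ρ a := congrArg (fun f => f a) hg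
  rw [this]
  exact ha

include hg in
lemma ker_pow_le (n : ℕ) : (RingHom.ker ρ) ^ n ≤ (maximalIdeal T.carrier ^ n).comap g := by
  have h3 : (RingHom.ker ρ).map g ≤ maximalIdeal T.carrier :=
    Ideal.map_le_iff_le_comap.2 (fun a ha => g_mem ρ T g hg a ha)
  rw [← Ideal.map_le_iff_le_comap, Ideal.map_pow]
  exact Ideal.pow_right_mono h3 n

/-- the level-`n` approximation of the extension -/
noncomputable def extLevel (n : ℕ) : Bhat B ρ →ₐ[Λ] T.carrier ⧸ maximalIdeal T.carrier ^ n :=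
  (Ideal.quotientMapₐ (maximalIdeal T.carrier ^ n) g (ker_pow_le ρ T g hg n)).comp
    ((AdicCompletion.evalₐ (RingHom.ker ρ) n).restrictScalars Λ)

lemma extLevel_apply (n : ℕ) (x : Bhat B ρ) (b : B)
    (hb : AdicCompletion.evalₐ (RingHom.ker ρ) n x = Ideal.Quotient.mk _ b) :
    extLevel ρ T g hg n x = Ideal.Quotient.mk _ (g b) := by
  change Ideal.quotientMapₐ (maximalIdeal T.carrier ^ n) g
      (ker_pow_le ρ T g hg n) (AdicCompletion.evalₐ (RingHom.ker ρ) n x) = _
  rw [hb, Ideal.quotient_map_mkₐ]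
  rfl

lemma extLevel_compat {m n : ℕ} (hle : m ≤ n) :
    (Ideal.Quotient.factorₐ Λ (Ideal.pow_le_pow_right hle)).comp (extLevel ρ T g hg n) =
      extLevel ρ T g hg m := by
  ext x
  obtain ⟨b, hb⟩ := Ideal.Quotient.mk_surjective (AdicCompletion.evalₐ (RingHom.ker ρ) n x)
  have hm : AdicCompletion.evalₐ (RingHom.ker ρ) m x = Ideal.Quotient.mk _ b := by
    rw [← factor_evalₐ (RingHom.ker ρ) hle x, ← hb, Ideal.Quotient.factor_mk]
  change Ideal.Quotient.factor (Ideal.pow_le_pow_right hle) (extLevel ρ T g hg n x) =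
    extLevel ρ T g hg m x
  rw [extLevel_apply ρ T g hg n x b hb.symm, extLevel_apply ρ T g hg m x b hm,
    Ideal.Quotient.factor_mk]

/-- the extension of `g` to the completion -/
noncomputable def ext : Bhat B ρ →ₐ[Λ] T.carrier :=
  haveI := T.isAdicComplete
  IsAdicComplete.liftAlgHom (maximalIdeal T.carrier) (extLevel ρ T g hg)
    (fun hle => extLevel_compat ρ T g hg hle)

lemma mk_ext (n : ℕ) (x : Bhat B ρ) :
    Ideal.Quotient.mk (maximalIdeal T.carrier ^ n) (ext ρ T g hg x) = extLevel ρ T g hg n x := by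
  have := T.isAdicComplete
  exact IsAdicComplete.mk_liftAlgHom (maximalIdeal T.carrier) (extLevel ρ T g hg)
    (fun hle => extLevel_compat ρ T g hg hle) n x

lemma eq_of_mk_eq (x y : T.carrier)
    (h : ∀ n, Ideal.Quotient.mk (maximalIdeal T.carrier ^ n) x = Ideal.Quotient.mk _ y) :
    x = y := by
  have := T.isAdicComplete
  rw [← sub_eq_zero]
  apply IsHausdorff.haus' (I := maximalIdeal T.carrier)
  intro n
  rw [SModEq.zero, smul_eq_mul, Ideal.mul_top, ← Ideal.Quotient.eq]
  exact h n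

lemma ext_iota (b : B) : ext ρ T g hg (iota B ρ b) = g b := by
  apply eq_of_mk_eq
  intro n
  rw [mk_ext]
  exact extLevel_apply ρ T g hg n _ b (AdicCompletion.evalₐ_of (RingHom.ker ρ) n b)

lemma ext_comp_iota : (ext ρ T g hg).comp (iota B ρ) = g :=
  AlgHom.ext (ext_iota ρ T g hg)

include hg in
lemma hat_hom_ext (hfg : (RingHom.ker ρ).FG) (h₁ h₂ : Bhat B ρ →ₐ[Λ] T.carrier)
    (e₁ : h₁.comp (iota B ρ) = g) (e₂ : h₂.comp (iota B ρ) = g) : h₁ = h₂ := by
  ext x
  apply eq_of_mk_eq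
  intro n
  obtain ⟨b, hb⟩ := dens ρ hfg n x
  have k₁ := mem_pow_of_mem ρ (h₁ : Bhat B ρ →+* T.carrier) (maximalIdeal T.carrier) n
    (fun a ha => by
      have : h₁ (iota B ρ a) = g a := congrArg (fun f => f a) e₁
      change h₁ (iota B ρ a) ∈ _
      rw [this]; exact g_mem ρ T g hg a ha) _ hb
  have k₂ := mem_pow_of_mem ρ (h₂ : Bhat B ρ →+* T.carrier) (maximalIdeal T.carrier) n
    (fun a ha => by
      have : h₂ (iota B ρ a) = g a := congrArg (fun f => f a) e₂
      change h₂ (iota B ρ a) ∈ _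
      rw [this]; exact g_mem ρ T g hg a ha) _ hb
  have j₁ : h₁ (iota B ρ b) = g b := congrArg (fun f => f b) e₁
  have j₂ : h₂ (iota B ρ b) = g b := congrArg (fun f => f b) e₂
  rw [Ideal.Quotient.eq]
  have : h₁ x - h₂ x = (h₁ : Bhat B ρ →+* T.carrier) (x - iota B ρ b) -
      (h₂ : Bhat B ρ →+* T.carrier) (x - iota B ρ b) := by
    simp only [map_sub, RingHom.coe_coe, j₁, j₂]; ring
  rw [this]
  exact Ideal.sub_mem _ k₁ k₂

lemma res_ext (hfg : (RingHom.ker ρ).FG) : T.res.comp (ext ρ T g hg) = resHat ρ := by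
  ext x
  obtain ⟨b, hb⟩ := dens ρ hfg 1 x
  have k₁ := mem_pow_of_mem ρ ((ext ρ T g hg : Bhat B ρ →ₐ[Λ] T.carrier) : Bhat B ρ →+* T.carrier)
    (maximalIdeal T.carrier) 1
    (fun a ha => by
      change ext ρ T g hg (iota B ρ a) ∈ _
      rw [ext_iota]; exact g_mem ρ T g hg a ha) _ hb
  have k₂ := mem_pow_of_mem ρ ((resHat ρ : Bhat B ρ →ₐ[Λ] k) : Bhat B ρ →+* k) ⊥ 1
    (fun a ha => by
      change resHat ρ (iota B ρ a) ∈ _
      rw [resHat_iota]; exact ha) _ hb
  rw [pow_one] at k₁ k₂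
  rw [cring_mem_max] at k₁
  have k₂' : resHat ρ (x - iota B ρ b) = 0 := k₂
  have k₁' : T.res (ext ρ T g hg (x - iota B ρ b)) = 0 := k₁
  rw [map_sub, sub_eq_zero] at k₂'
  rw [map_sub, map_sub, sub_eq_zero] at k₁'
  change T.res (ext ρ T g hg x) = resHat ρ x
  rw [k₁', k₂', ext_iota, resHat_iota]
  exact congrArg (fun f => f b) hg

end UP

/-- The completion of an augmented algebra at the finitely generated kernel of its augmentation:
a `CRing` with the universal property. -/
theorem exists_hat (hρ : Function.Surjective ρ) (hfg : (RingHom.ker ρ).FG) :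
    ∃ (P : ArtFun.CRing Λ k) (j : B →ₐ[Λ] P.carrier), P.res.comp j = ρ ∧
      ∀ (T : ArtFun.CRing Λ k) (g : B →ₐ[Λ] T.carrier), T.res.comp g = ρ →
        (∃ h : P.carrier →ₐ[Λ] T.carrier, T.res.comp h = P.res ∧ h.comp j = g) ∧
        (∀ h₁ h₂ : P.carrier →ₐ[Λ] T.carrier, h₁.comp j = g → h₂.comp j = g → h₁ = h₂) := by
  refine ⟨hatCRing ρ hρ hfg, iota B ρ, AlgHom.ext (resHat_iota ρ), fun T g hg => ⟨?_, ?_⟩⟩
  · exact ⟨ext ρ T g hg, res_ext ρ T g hg hfg, ext_comp_iota ρ T g hg⟩
  · intro h₁ h₂ e₁ e₂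
    exact hat_hom_ext ρ T g hg hfg h₁ h₂ e₁ e₂


end Gen

end H9CRingCompl
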