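import Mathlib
import Groth.Prelude.Def_CartDual

/-!
Convolution powers of linear forms evaluated at group-like elements.
-/

universe u v

open scoped TensorProduct
open CartDual

namespace Groth.Agent.Helper9

theorem cartDual_mul_apply_of_isGroupLikeElem {R : Type u} [CommRing R] {A : Type v} [Ring A]
    [Bialgebra R A] {a : A} (ha : IsGroupLikeElem R a) (x y : D R A) :
    (x * y) a = x a * y a := by
  rw [LinearMap.convMul_apply, ha.comul_eq_tmul_self]
  simp [coe_apply]

theorem cartDual_one_apply_of_isGroupLikeElem {R : Type u} [CommRing R] {A : Type v} [Ring A]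
    [Bialgebra R A] {a : A} (ha : IsGroupLikeElem R a) :
    (1 : D R A) a = 1 := by
  rw [LinearMap.convOne_apply, ha.counit_eq_one]
  simp

theorem cartDual_pow_apply_of_isGroupLikeElem {R : Type u} [CommRing R] {A : Type v} [Ring A]
    [Bialgebra R A] {a : A} (ha : IsGroupLikeElem R a) (x : D R A) (n : ℕ) :
    (x ^ n) a = (x a) ^ n := by
  induction n with
  | zero => rw [pow_zero, pow_zero, cartDual_one_apply_of_isGroupLikeElem ha]
  | succ n ih => rw [pow_succ, pow_succ, cartDual_mul_apply_of_isGroupLikeElem ha, ih]

end Groth.Agent.Helper9
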