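import Mathlib
import Groth.Prelude.Def_Lie2
import Groth.Agent.Lib.Helper9.Cartier6

/-!
# Conversion between `LieHopf.Lie` and `ε`-derivations as linear maps
-/

namespace Groth.Agent.Helper9.CartierLib

open TensorProduct

universe u w

variable {k : Type u} [Field k] {A : Type u} [CommRing A] [HopfAlgebra k A]

/-- an element of the Lie algebra from an `ε`-derivation -/
noncomputable def toLie (ξ : A →ₗ[k] k) (hξ : IsEpsDer ξ) : LieHopf.Lie k A :=
  Derivation.mk' (show A →ₗ[k] LieHopf.K k A from ξ) (by
    intro a b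
    rw [LieHopf.smul_def, LieHopf.smul_def]
    show ξ (a * b) = Coalgebra.counit (R := k) a * ξ b + Coalgebra.counit (R := k) b * ξ a
    rw [hξ]
    ring)

/-- the underlying linear map of an element of the Lie algebra -/
noncomputable def ofLie (ξ : LieHopf.Lie k A) : A →ₗ[k] k :=
  show A →ₗ[k] k from (ξ.toLinearMap.restrictScalars k : A →ₗ[k] LieHopf.K k A)

lemma ofLie_toLie (ξ : A →ₗ[k] k) (hξ : IsEpsDer ξ) : ofLie (toLie ξ hξ) = ξ := rfl

lemma isEpsDer_ofLie (ξ : LieHopf.Lie k A) : IsEpsDer (ofLie ξ) := by
  intro a b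
  have h := ξ.leibniz a b
  rw [LieHopf.smul_def, LieHopf.smul_def] at h
  have h' : ofLie ξ (a * b) = Coalgebra.counit (R := k) a * ofLie ξ b +
      Coalgebra.counit (R := k) b * ofLie ξ a := h
  rw [h']
  ring

variable {V : Type w} [AddCommGroup V] [Module k V]

/-- the infinitesimal action in the form used by the statements, related to `slice` -/
lemma rid_lTensor_lie (ξ : LieHopf.Lie k A) (u : V ⊗[k] A) :
    slice (ofLie ξ) u =
      TensorProduct.rid k V
        (show V ⊗[k] k from LinearMap.lTensor V (ξ.toLinearMap.restrictScalars k) u) := rfl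

lemma lTensor_lie_eq_zero_iff (ξ : LieHopf.Lie k A) (u : V ⊗[k] A) :
    LinearMap.lTensor V (ξ.toLinearMap.restrictScalars k) u = 0 ↔ slice (ofLie ξ) u = 0 := by
  rw [rid_lTensor_lie]
  constructor
  · intro h
    have : (show V ⊗[k] k from LinearMap.lTensor V (ξ.toLinearMap.restrictScalars k) u) = 0 := h
    rw [this, map_zero]
  · intro h
    have := (TensorProduct.rid k V).injective (h.trans (map_zero _).symm)
    exact this

end Groth.Agent.Helper9.CartierLib
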