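import Mathlib
import Groth.Prelude.Def_Exal
import Groth.Prelude.Def_Exal3
import Groth.Agent.Lib.Helper9.ExalLib2

set_option autoImplicit false
set_option linter.unusedSectionVars false
set_option linter.style.haveILetI false
universe u v w

namespace Groth.Agent.Helper9.CharLib

open Exal TensorProduct KaehlerDifferential

section general
variable {A : Type u} {E C L : Type v} [CommRing A] [CommRing E] [CommRing C] [Algebra A E]
  [Algebra E C] [Algebra A C] [IsScalarTower A E C] [AddCommGroup L] [Module C L]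
  [Module E L] [IsScalarTower E C L] [Module A L] [IsScalarTower A E L]
  (i : L →+ E) (hi : Function.Injective i)
  (hex : ∀ x : E, algebraMap E C x = 0 ↔ x ∈ Set.range i)
  (hmul : ∀ (x : E) (z : L), x * i z = i (algebraMap E C x • z))
  (σ : C →+* E) (hσ : ∀ c, algebraMap E C (σ c) = c)
  (hσA : ∀ a : A, σ (algebraMap A C a) = algebraMap A E a)

include hσ in
lemma proj_sub_sec (x : E) : algebraMap E C (x - σ (algebraMap E C x)) = 0 := by
  rw [map_sub, hσ, sub_self]

/-- the `L`-component of an element of the middle ring relative to a section -/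
noncomputable def dsec (x : E) : L :=
  Classical.choose ((hex (x - σ (algebraMap E C x))).1 (proj_sub_sec σ hσ x))

lemma i_dsec (x : E) : i (dsec i hex σ hσ x) = x - σ (algebraMap E C x) :=
  Classical.choose_spec ((hex (x - σ (algebraMap E C x))).1 (proj_sub_sec σ hσ x))

include hex in
lemma proj_i (z : L) : algebraMap E C (i z) = 0 := (hex _).2 ⟨z, rfl⟩

include hex hmul in
lemma i_mul_i (z z' : L) : i z * i z' = 0 := by
  rw [hmul, proj_i i hex, zero_smul, map_zero]

include hi in
lemma dsec_i (z : L) : dsec i hex σ hσ (i z) = z := by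
  apply hi
  rw [i_dsec, proj_i i hex, map_zero, sub_zero]

/-- the derivation attached to a section -/
noncomputable def dsecDer : Derivation A E L where
  toFun := dsec i hex σ hσ
  map_add' x y := by
    apply hi
    rw [map_add, i_dsec, i_dsec, i_dsec, map_add, map_add]; abel
  map_smul' a x := by
    apply hi
    rw [RingHom.id_apply, i_dsec]
    have h1 : a • dsec i hex σ hσ x = algebraMap E C (algebraMap A E a) • dsec i hex σ hσ x := by
      rw [algebraMap_smul, algebraMap_smul]
    rw [h1, ← hmul, i_dsec, Algebra.smul_def, map_mul, map_mul,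
      ← IsScalarTower.algebraMap_apply A E C, hσA]
    ring
  map_one_eq_zero' := by
    apply hi
    change i (dsec i hex σ hσ 1) = _
    rw [i_dsec, map_one, map_one, sub_self, map_zero]
  leibniz' x y := by
    apply hi
    change i (dsec i hex σ hσ (x * y)) = i (x • dsec i hex σ hσ y + y • dsec i hex σ hσ x)
    have h1 : x • dsec i hex σ hσ y = algebraMap E C x • dsec i hex σ hσ y := by
      rw [algebraMap_smul]
    have h2 : y • dsec i hex σ hσ x = algebraMap E C y • dsec i hex σ hσ x := by
      rw [algebraMap_smul]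
    have h3 := i_mul_i i hex hmul (dsec i hex σ hσ x) (dsec i hex σ hσ y)
    rw [i_dsec, i_dsec] at h3
    rw [h1, h2, map_add, ← hmul, ← hmul, i_dsec, i_dsec, i_dsec, map_mul, map_mul]
    have e : x * y - σ (algebraMap E C x) * σ (algebraMap E C y) =
        x * (y - σ (algebraMap E C y)) + y * (x - σ (algebraMap E C x)) -
          (x - σ (algebraMap E C x)) * (y - σ (algebraMap E C y)) := by ring
    rw [e, h3, sub_zero]

lemma dsecDer_apply (x : E) : dsecDer i hi hex hmul σ hσ hσA x = dsec i hex σ hσ x := rfl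

/-- the retraction of `z ↦ 1 ⊗ d(i z)` attached to a section -/
noncomputable def retr : C ⊗[E] Ω[E⁄A] →ₗ[C] L :=
  (TensorProduct.isBaseChange E Ω[E⁄A] C).lift
    (dsecDer i hi hex hmul σ hσ hσA).liftKaehlerDifferential

lemma retr_one_tmul (ω : Ω[E⁄A]) :
    retr i hi hex hmul σ hσ hσA (1 ⊗ₜ ω) =
      (dsecDer i hi hex hmul σ hσ hσA).liftKaehlerDifferential ω :=
  IsBaseChange.lift_eq _ _ _

lemma retr_tmul_D (c : C) (x : E) :
    retr i hi hex hmul σ hσ hσA (c ⊗ₜ D A E x) = c • dsec i hex σ hσ x := by
  have h : c ⊗ₜ[E] D A E x = c • ((1 : C) ⊗ₜ[E] D A E x) := by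
    rw [smul_tmul', smul_eq_mul, mul_one]
  rw [h, map_smul, retr_one_tmul, Derivation.liftKaehlerDifferential_comp_D, dsecDer_apply]

lemma retr_delta (z : L) :
    retr i hi hex hmul σ hσ hσA ((1 : C) ⊗ₜ D A E (i z)) = z := by
  rw [retr_tmul_D, one_smul, dsec_i i hi hex σ hσ]

include hσ in
lemma surj_of_sec : Function.Surjective (algebraMap E C) := fun c => ⟨σ c, hσ c⟩

lemma delta_retr (w : C ⊗[E] Ω[E⁄A]) (hw : mapBaseChange A E C w = 0) :
    (1 : C) ⊗ₜ[E] D A E (i (retr i hi hex hmul σ hσ hσA w)) = w := by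
  obtain ⟨k, rfl⟩ :=
    (exact_kerCotangentToTensor_mapBaseChange A E C (surj_of_sec σ hσ) w).1 hw
  obtain ⟨⟨x, hx⟩, rfl⟩ := Ideal.toCotangent_surjective _ k
  rw [kerCotangentToTensor_toCotangent]
  obtain ⟨z, rfl⟩ := (hex x).1 (RingHom.mem_ker.1 hx)
  rw [retr_delta]

end general

section inst
variable (A : Type u) {B C L : Type v} [CommRing A] [CommRing B] [CommRing C]
    [Algebra A B] [Algebra B C] [Algebra A C] [IsScalarTower A B C] [AddCommGroup L] [Module C L]
    (X : Exal.Ext B C L)

lemma bcm_tmul (c : C) (ω : Ω[B⁄A]) :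
    X.baseChangeToMiddle A (c ⊗ₜ ω) =
      c ⊗ₜ[X.CharCarrier A] KaehlerDifferential.map A A B (X.CharCarrier A) ω := rfl

lemma deltaL_apply (z : L) :
    X.deltaL A z = (1 : C) ⊗ₜ[X.CharCarrier A] D A (X.CharCarrier A) (X.inclC A z) := rfl

/-- the base change map, as a `C`-linear map -/
noncomputable def bcmC : C ⊗[B] Ω[B⁄A] →ₗ[C] C ⊗[X.CharCarrier A] Ω[X.CharCarrier A⁄A] where
  toFun := X.baseChangeToMiddle A
  map_add' := map_add _
  map_smul' c z := by
    rw [RingHom.id_apply]
    induction z using TensorProduct.induction_on with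
    | zero => rw [smul_zero, map_zero, smul_zero]
    | tmul c' ω => rw [smul_tmul', bcm_tmul, bcm_tmul, smul_tmul']
    | add x y hx hy => rw [smul_add, map_add, hx, hy, map_add, smul_add]

lemma bcmC_apply (z : C ⊗[B] Ω[B⁄A]) : bcmC A X z = X.baseChangeToMiddle A z := rfl

lemma map_map_middle (ω : Ω[B⁄A]) :
    KaehlerDifferential.map A A (X.CharCarrier A) C (KaehlerDifferential.map A A B (X.CharCarrier A) ω) =
      KaehlerDifferential.map A A B C ω := by
  have hω : ω ∈ Submodule.span B (Set.range (D A B)) := by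
    rw [span_range_derivation]; trivial
  induction hω using Submodule.span_induction with
  | mem x hx =>
    obtain ⟨b, rfl⟩ := hx
    rw [map_D, map_D, map_D, ← IsScalarTower.algebraMap_apply]
  | zero => rw [map_zero, map_zero, map_zero]
  | add x y _ _ hx hy => rw [map_add, map_add, map_add, hx, hy]
  | smul b x _ hx =>
    have e1 : b • (KaehlerDifferential.map A A B (X.CharCarrier A) x) =
        algebraMap B (X.CharCarrier A) b • KaehlerDifferential.map A A B (X.CharCarrier A) x :=
      (algebraMap_smul _ b _).symm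
    rw [map_smul (KaehlerDifferential.map A A B (X.CharCarrier A)), e1,
      map_smul (KaehlerDifferential.map A A (X.CharCarrier A) C), hx, algebraMap_smul, map_smul]

lemma mapBaseChange_bcm (z : C ⊗[B] Ω[B⁄A]) :
    mapBaseChange A (X.CharCarrier A) C (X.baseChangeToMiddle A z) = mapBaseChange A B C z := by
  induction z using TensorProduct.induction_on with
  | zero => rw [map_zero, map_zero, map_zero]
  | tmul c ω => rw [bcm_tmul, mapBaseChange_tmul, mapBaseChange_tmul, map_map_middle]
  | add x y hx hy => rw [map_add, map_add, map_add, hx, hy]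

/-- existence of a retraction of `deltaL` for an extension trivial over `A`, with the
reconstruction property on the kernel of `C ⊗_E Ω_{E/A} → Ω_{C/A}` -/
theorem exists_retr (hX : X.IsTrivialOver A) :
    ∃ r : C ⊗[X.CharCarrier A] Ω[X.CharCarrier A⁄A] →ₗ[C] L,
      (∀ z : L, r (X.deltaL A z) = z) ∧
      ∀ w, mapBaseChange A (X.CharCarrier A) C w = 0 → X.deltaL A (r w) = w := by
  obtain ⟨σ, hσ, hσA⟩ := (ExalLib.isTrivialOver_iff X).1 hX
  letI mE : Module (X.CharCarrier A) L := Module.compHom L (algebraMap (X.CharCarrier A) C)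
  letI mA : Module A L := Module.compHom L (algebraMap A C)
  haveI t1 : IsScalarTower (X.CharCarrier A) C L :=
    ⟨fun x c z => by
      change (x • c) • z = algebraMap (X.CharCarrier A) C x • c • z
      rw [Algebra.smul_def, mul_smul]⟩
  haveI t2 : IsScalarTower A (X.CharCarrier A) L :=
    ⟨fun a x z => by
      change algebraMap (X.CharCarrier A) C (a • x) • z =
        algebraMap A C a • algebraMap (X.CharCarrier A) C x • z
      rw [Algebra.smul_def, map_mul, mul_smul, ← IsScalarTower.algebraMap_apply]⟩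
  let σ' : C →+* X.CharCarrier A := σ
  have hi : Function.Injective (X.inclC A) := X.isExtension.incl_injective
  have hex : ∀ x : X.CharCarrier A, algebraMap (X.CharCarrier A) C x = 0 ↔
      x ∈ Set.range (X.inclC A) := X.isExtension.exact
  have hmul : ∀ (x : X.CharCarrier A) (z : L),
      x * X.inclC A z = X.inclC A (algebraMap (X.CharCarrier A) C x • z) := X.isExtension.mul_incl
  have hσ' : ∀ c, algebraMap (X.CharCarrier A) C (σ' c) = c := hσ
  have hσA' : ∀ a : A, σ' (algebraMap A C a) = algebraMap A (X.CharCarrier A) a := hσA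
  refine ⟨retr (X.inclC A) hi hex hmul σ' hσ' hσA', fun z => ?_, fun w hw => ?_⟩
  · rw [deltaL_apply]
    exact retr_delta (X.inclC A) hi hex hmul σ' hσ' hσA' z
  · rw [deltaL_apply]
    exact delta_retr (X.inclC A) hi hex hmul σ' hσ' hσA' w hw

lemma deltaL_injective (hX : X.IsTrivialOver A) : Function.Injective (X.deltaL A) := by
  obtain ⟨r, hr, -⟩ := exists_retr A X hX
  intro z z' h
  rw [← hr z, ← hr z', h]

theorem main5820 (hX : X.IsTrivialOver A) :
    ∃! χ : ↥(EGA41.imperfection A B C) →ₗ[C] L, X.IsCharHom A χ := by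
  obtain ⟨r, hr, hr'⟩ := exists_retr A X hX
  refine ⟨r ∘ₗ bcmC A X ∘ₗ (EGA41.imperfection A B C).subtype, fun z => ?_, fun χ hχ => ?_⟩
  · change X.deltaL A (r (X.baseChangeToMiddle A (z : C ⊗[B] Ω[B⁄A]))) = _
    apply hr'
    rw [mapBaseChange_bcm]
    exact z.2
  · apply LinearMap.ext
    intro z
    change χ z = r (X.baseChangeToMiddle A (z : C ⊗[B] Ω[B⁄A]))
    rw [← hχ z, hr]

end inst

end Groth.Agent.Helper9.CharLib
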