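import Mathlib
import Groth.Prelude.Def_Exal
import Groth.Prelude.Def_Exal2
import Groth.Prelude.Def_Exal3
import Groth.Agent.Lib.Helper9.CharLib1

set_option autoImplicit false
set_option linter.unusedSectionVars false
set_option linter.style.haveILetI false
universe u v w

namespace Groth.Agent.Helper9.CharLib

open Exal TensorProduct KaehlerDifferential

section quotInj
variable {A : Type u} {B E C : Type v} [CommRing A] [CommRing B] [CommRing E] [CommRing C]
  [Algebra A B] [Algebra B E] [Algebra A E] [IsScalarTower A B E]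
  [Algebra E C] [Algebra B C] [IsScalarTower B E C] [Algebra A C] [IsScalarTower A E C]
  [IsScalarTower A B C]
  (hsurj : Function.Surjective (algebraMap B E))
  (hker : ∀ b, algebraMap B E b = 0 → b ∈ (RingHom.ker (algebraMap B C)) ^ 2)

lemma one_tmul_D_sq (x : B) (hx : x ∈ (RingHom.ker (algebraMap B C)) ^ 2) :
    (1 : C) ⊗ₜ[B] D A B x = 0 := by
  rw [pow_two] at hx
  refine Submodule.mul_induction_on hx (fun u hu v hv => ?_) (fun x y hx hy => ?_)
  · rw [Derivation.leibniz, tmul_add, ← smul_tmul, ← smul_tmul, Algebra.smul_def, Algebra.smul_def,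
      RingHom.mem_ker.1 hu, RingHom.mem_ker.1 hv, zero_mul, zero_tmul, zero_tmul, add_zero]
  · rw [map_add, tmul_add, hx, hy, add_zero]

include hker in
lemma one_tmul_D_congr (b b' : B) (h : algebraMap B E b = algebraMap B E b') :
    (1 : C) ⊗ₜ[B] D A B b = (1 : C) ⊗ₜ[B] D A B b' := by
  have h1 : algebraMap B E (b - b') = 0 := by rw [map_sub, h, sub_self]
  have h2 := one_tmul_D_sq (A := A) (b - b') (hker _ h1)
  rw [map_sub, tmul_sub, sub_eq_zero] at h2
  exact h2

/-- set-theoretic section of `B → E` -/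
noncomputable def qsec (e : E) : B := Function.surjInv hsurj e

lemma algebraMap_qsec (e : E) : algebraMap B E (qsec hsurj e) = e := Function.surjInv_eq hsurj e

/-- `e ↦ 1 ⊗ d b` for any `b` over `e` -/
noncomputable def qd (e : E) : C ⊗[B] Ω[B⁄A] := (1 : C) ⊗ₜ[B] D A B (qsec hsurj e)

include hker in
lemma qd_algebraMap (b : B) : qd (A := A) (C := C) hsurj (algebraMap B E b) = (1 : C) ⊗ₜ[B] D A B b :=
  one_tmul_D_congr hker _ _ (algebraMap_qsec hsurj _)

lemma qd_def (e : E) :
    qd (A := A) (C := C) hsurj e = (1 : C) ⊗ₜ[B] D A B (qsec hsurj e) := rfl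

/-- the derivation `E → C ⊗_B Ω_{B/A}` -/
noncomputable def qder : Derivation A E (C ⊗[B] Ω[B⁄A]) where
  toFun := qd hsurj
  map_add' e e' := by
    have h := one_tmul_D_congr (A := A) hker (qsec hsurj (e + e')) (qsec hsurj e + qsec hsurj e')
      (by rw [map_add, algebraMap_qsec, algebraMap_qsec, algebraMap_qsec])
    rw [qd_def, qd_def, qd_def, h, map_add, tmul_add]
  map_smul' a e := by
    have h0 : algebraMap B E (a • qsec hsurj e) = a • algebraMap B E (qsec hsurj e) := by
      rw [Algebra.smul_def, Algebra.smul_def, map_mul, ← IsScalarTower.algebraMap_apply]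
    have h := one_tmul_D_congr (A := A) hker (qsec hsurj (a • e)) (a • qsec hsurj e)
      (by rw [h0, algebraMap_qsec, algebraMap_qsec])
    rw [RingHom.id_apply, qd_def, qd_def, h, Derivation.map_smul, tmul_smul]
  map_one_eq_zero' := by
    have h := one_tmul_D_congr (A := A) hker (qsec hsurj 1) 1
      (by rw [algebraMap_qsec, map_one])
    change qd (A := A) (C := C) hsurj 1 = 0
    rw [qd_def, h, Derivation.map_one_eq_zero, tmul_zero]
  leibniz' e e' := by
    have h := one_tmul_D_congr (A := A) hker (qsec hsurj (e * e')) (qsec hsurj e * qsec hsurj e')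
      (by rw [map_mul, algebraMap_qsec, algebraMap_qsec, algebraMap_qsec])
    change qd (A := A) (C := C) hsurj (e * e') =
      e • qd (A := A) (C := C) hsurj e' + e' • qd (A := A) (C := C) hsurj e
    have h1 : ∀ (x : E) (m : C ⊗[B] Ω[B⁄A]), x • m = qsec hsurj x • m := by
      intro x m
      conv_lhs => rw [← algebraMap_qsec hsurj x]
      rw [algebraMap_smul]
    rw [qd_def, qd_def, qd_def, h, Derivation.leibniz, tmul_add, tmul_smul, tmul_smul, h1 e, h1 e']

include hker in
lemma qder_algebraMap (b : B) :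
    qder (A := A) (C := C) hsurj hker (algebraMap B E b) = (1 : C) ⊗ₜ[B] D A B b :=
  qd_algebraMap hsurj hker b

/-- the left inverse of `C ⊗_B Ω_{B/A} → C ⊗_E Ω_{E/A}` -/
noncomputable def leftInv : C ⊗[E] Ω[E⁄A] →ₗ[C] C ⊗[B] Ω[B⁄A] :=
  (TensorProduct.isBaseChange E Ω[E⁄A] C).lift
    (qder (A := A) (C := C) hsurj hker).liftKaehlerDifferential

lemma leftInv_tmul_D (c : C) (b : B) :
    leftInv (A := A) hsurj hker (c ⊗ₜ[E] D A E (algebraMap B E b)) = c ⊗ₜ[B] D A B b := by
  have h : c ⊗ₜ[E] D A E (algebraMap B E b) = c • ((1 : C) ⊗ₜ[E] D A E (algebraMap B E b)) := by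
    rw [smul_tmul', smul_eq_mul, mul_one]
  have h2 : leftInv (A := A) hsurj hker ((1 : C) ⊗ₜ[E] D A E (algebraMap B E b)) =
      (qder (A := A) (C := C) hsurj hker).liftKaehlerDifferential (D A E (algebraMap B E b)) :=
    IsBaseChange.lift_eq _ _ _
  rw [h, map_smul, h2, Derivation.liftKaehlerDifferential_comp_D, qder_algebraMap, smul_tmul',
    smul_eq_mul, mul_one]

end quotInj

section inst2
variable (A : Type u) {B C L : Type v} [CommRing A] [CommRing B] [CommRing C]
    [Algebra A B] [Algebra B C] [Algebra A C] [IsScalarTower A B C] [AddCommGroup L] [Module C L]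
    (X : Exal.Ext B C L)
    (hsurj : Function.Surjective (algebraMap B (X.CharCarrier A)))
    (hker : ∀ b, algebraMap B (X.CharCarrier A) b = 0 → b ∈ (RingHom.ker (algebraMap B C)) ^ 2)

lemma leftInv_bcm_tmul (ω : Ω[B⁄A]) : ∀ c : C,
    leftInv (A := A) hsurj hker (X.baseChangeToMiddle A (c ⊗ₜ ω)) = c ⊗ₜ ω := by
  have hω : ω ∈ Submodule.span B (Set.range (D A B)) := by
    rw [span_range_derivation]; trivial
  induction hω using Submodule.span_induction with
  | mem x hx =>
    obtain ⟨b, rfl⟩ := hx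
    intro c
    rw [bcm_tmul, map_D, leftInv_tmul_D]
  | zero => intro c; rw [tmul_zero, map_zero, map_zero]
  | add x y _ _ hx hy => intro c; rw [tmul_add, map_add, map_add, hx, hy]
  | smul b x _ hx =>
    intro c
    rw [← smul_tmul, hx]

lemma leftInv_bcm (z : C ⊗[B] Ω[B⁄A]) :
    leftInv (A := A) hsurj hker (X.baseChangeToMiddle A z) = z := by
  induction z using TensorProduct.induction_on with
  | zero => rw [map_zero, map_zero]
  | tmul c ω => exact leftInv_bcm_tmul A X hsurj hker ω c
  | add x y hx hy => rw [map_add, map_add, hx, hy]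

include hsurj hker in
lemma bcm_injective : Function.Injective (X.baseChangeToMiddle A) := by
  intro z z' h
  rw [← leftInv_bcm A X hsurj hker z, ← leftInv_bcm A X hsurj hker z', h]

end inst2

section s5821
variable {A : Type u} {B : Type v} [CommRing A] [CommRing B] [Algebra A B] (K : Ideal B)

lemma inf_surj : Function.Surjective
    (algebraMap B ((Exal.Ext.infinitesimal K).CharCarrier A)) :=
  Ideal.Quotient.mk_surjective

lemma inf_ker (b : B) (hb : algebraMap B ((Exal.Ext.infinitesimal K).CharCarrier A) b = 0) :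
    b ∈ (RingHom.ker (algebraMap B (B ⧸ K))) ^ 2 := by
  have h1 : RingHom.ker (algebraMap B (B ⧸ K)) = K := by
    rw [Ideal.Quotient.algebraMap_eq, Ideal.mk_ker]
  rw [h1]
  exact Ideal.Quotient.eq_zero_iff_mem.1 hb

theorem main5821 (hK : (Exal.Ext.infinitesimal K).IsTrivialOver A)
    (χ : ↥(EGA41.imperfection A B (B ⧸ K)) →ₗ[B ⧸ K] K.Cotangent)
    (hχ : (Exal.Ext.infinitesimal K).IsCharHom A χ) :
    Function.Bijective χ := by
  have hinj := deltaL_injective A (Exal.Ext.infinitesimal K) hK
  constructor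
  · rw [injective_iff_map_eq_zero]
    intro z hz
    have h1 := hχ z
    rw [hz, map_zero] at h1
    have h2 : (z : (B ⧸ K) ⊗[B] Ω[B⁄A]) = 0 := by
      apply bcm_injective A (Exal.Ext.infinitesimal K) (inf_surj K) (inf_ker K)
      rw [← h1, map_zero]
    exact Subtype.ext h2
  · intro l
    obtain ⟨⟨k, hk⟩, rfl⟩ := K.toCotangent_surjective l
    have hz : (1 : B ⧸ K) ⊗ₜ[B] D A B k ∈ EGA41.imperfection A B (B ⧸ K) := by
      change mapBaseChange A B (B ⧸ K) _ = 0
      rw [mapBaseChange_tmul, map_D, one_smul, Ideal.Quotient.algebraMap_eq,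
        Ideal.Quotient.eq_zero_iff_mem.2 hk, map_zero]
    refine ⟨⟨_, hz⟩, ?_⟩
    apply hinj
    rw [hχ, bcm_tmul, map_D, deltaL_apply]
    rfl

end s5821

end Groth.Agent.Helper9.CharLib
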