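import Mathlib
import Groth.Prelude.Def_Exal
import Groth.Prelude.Def_Exal2
import Groth.Prelude.Def_Exal3
import Groth.Agent.Lib.Helper9.CharLib2

set_option autoImplicit false
set_option linter.unusedSectionVars false
set_option linter.style.haveILetI false
universe u v w

namespace Groth.Agent.Helper9.CharLib

open Exal TensorProduct KaehlerDifferential

section linForm
variable (A : Type u) {B C L : Type v} [CommRing A] [CommRing B] [CommRing C]
    [Algebra A B] [Algebra B C] [Algebra A C] [IsScalarTower A B C] [AddCommGroup L] [Module C L]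
    (X : Exal.Ext B C L)

/-- `L` as a module over the middle ring -/
@[reducible] def modE : Module (X.CharCarrier A) L :=
  Module.compHom L (algebraMap (X.CharCarrier A) C)

/-- `L` as a module over the base ring -/
@[reducible] def modA (A : Type u) (C : Type v) (L : Type v) [CommRing A] [CommRing C]
    [Algebra A C] [AddCommGroup L] [Module C L] : Module A L := Module.compHom L (algebraMap A C)

attribute [local instance] modE

lemma towerECL : IsScalarTower (X.CharCarrier A) C L :=
  ⟨fun x c z => by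
    change (x • c) • z = algebraMap (X.CharCarrier A) C x • c • z
    rw [Algebra.smul_def, mul_smul]⟩

lemma towerAEL : @IsScalarTower A (X.CharCarrier A) L _ _ (modA A C L).toSMul :=
  letI := modA A C L
  ⟨fun a x z => by
    change algebraMap (X.CharCarrier A) C (a • x) • z =
      algebraMap A C a • algebraMap (X.CharCarrier A) C x • z
    rw [Algebra.smul_def, map_mul, mul_smul, ← IsScalarTower.algebraMap_apply]⟩

attribute [local instance] towerECL

variable (σ : C →+* X.E) (hσ : ∀ c, X.proj (σ c) = c)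
  (hσA : ∀ a : A, σ (algebraMap A C a) = algebraMap B X.E (algebraMap A B a))

/-- the retraction of `deltaL` attached to a section -/
noncomputable def retrX : C ⊗[X.CharCarrier A] Ω[X.CharCarrier A⁄A] →ₗ[C] L :=
  letI := modA A C L
  haveI := towerAEL A X
  retr (A := A) (E := X.CharCarrier A) (C := C) (L := L) (X.inclC A) X.isExtension.incl_injective
    X.isExtension.exact X.isExtension.mul_incl σ hσ hσA

lemma retrX_deltaL (z : L) : retrX A X σ hσ hσA (X.deltaL A z) = z := by
  letI := modA A C L
  haveI := towerAEL A X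
  exact retr_delta (A := A) (E := X.CharCarrier A) (C := C) (L := L) (X.inclC A)
    X.isExtension.incl_injective X.isExtension.exact X.isExtension.mul_incl σ hσ hσA z

lemma deltaL_retrX (w : C ⊗[X.CharCarrier A] Ω[X.CharCarrier A⁄A])
    (hw : mapBaseChange A (X.CharCarrier A) C w = 0) :
    X.deltaL A (retrX A X σ hσ hσA w) = w := by
  letI := modA A C L
  haveI := towerAEL A X
  exact delta_retr (A := A) (E := X.CharCarrier A) (C := C) (L := L) (X.inclC A)
    X.isExtension.incl_injective X.isExtension.exact X.isExtension.mul_incl σ hσ hσA w hw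

include hσ in
lemma proj_diffB (b : B) : X.proj (algebraMap B X.E b - σ (algebraMap B C b)) = 0 := by
  rw [map_sub, hσ, AlgHom.commutes, sub_self]

/-- the difference `B → L` between the structure map and the section -/
noncomputable def dB (b : B) : L :=
  X.kerLift (algebraMap B X.E b - σ (algebraMap B C b)) (proj_diffB X σ hσ b)

lemma incl_dB (b : B) :
    X.incl (dB X σ hσ b) = algebraMap B X.E b - σ (algebraMap B C b) := X.incl_kerLift _ _

/-- the linear form on `C ⊗_B Ω_{B/A}` attached to a section -/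
noncomputable def linForm : C ⊗[B] Ω[B⁄A] →ₗ[C] L := retrX A X σ hσ hσA ∘ₗ bcmC A X

lemma linForm_apply (z : C ⊗[B] Ω[B⁄A]) :
    linForm A X σ hσ hσA z = retrX A X σ hσ hσA (X.baseChangeToMiddle A z) := rfl

lemma linForm_tmul_D (c : C) (b : B) :
    linForm A X σ hσ hσA (c ⊗ₜ D A B b) = c • dB X σ hσ b := by
  letI := modA A C L
  haveI := towerAEL A X
  rw [linForm_apply, bcm_tmul, map_D]
  have h := retr_tmul_D (A := A) (E := X.CharCarrier A) (C := C) (L := L) (X.inclC A)
    X.isExtension.incl_injective X.isExtension.exact X.isExtension.mul_incl σ hσ hσA c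
    (algebraMap B (X.CharCarrier A) b)
  change retrX A X σ hσ hσA _ = _ at h
  rw [h]
  congr 1
  apply X.isExtension.incl_injective
  rw [incl_dB]
  have h2 := i_dsec (E := X.CharCarrier A) (C := C) (L := L) (X.inclC A)
    X.isExtension.exact σ hσ (algebraMap B (X.CharCarrier A) b)
  change X.incl _ = _ at h2
  rw [h2]
  congr 2
  exact X.proj.commutes b

/-- characterization of characteristic homomorphisms via a section -/
theorem isCharHom_iff (χ : ↥(EGA41.imperfection A B C) →ₗ[C] L) :
    X.IsCharHom A χ ↔ ∀ z : ↥(EGA41.imperfection A B C),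
      χ z = linForm A X σ hσ hσA (z : C ⊗[B] Ω[B⁄A]) := by
  constructor
  · intro h z
    rw [linForm_apply, ← h z, retrX_deltaL]
  · intro h z
    rw [h z, linForm_apply]
    apply deltaL_retrX
    rw [mapBaseChange_bcm]
    exact z.2

end linForm

section factor
variable {A : Type u} {B C L : Type v} [CommRing A] [CommRing B] [CommRing C]
    [Algebra A B] [Algebra B C] [Algebra A C] [IsScalarTower A B C] [AddCommGroup L] [Module C L]

/-- a form vanishing on the kernel of `β`, as a form on the range of `β` -/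
noncomputable def onRange (φ : C ⊗[B] Ω[B⁄A] →ₗ[C] L)
    (hφ : ∀ z ∈ EGA41.imperfection A B C, φ z = 0) :
    LinearMap.range (mapBaseChange A B C) →ₗ[C] L :=
  (LinearMap.ker (mapBaseChange A B C)).liftQ φ (fun z hz => hφ z hz) ∘ₗ
    ((mapBaseChange A B C).quotKerEquivRange).symm.toLinearMap

lemma onRange_apply (φ : C ⊗[B] Ω[B⁄A] →ₗ[C] L)
    (hφ : ∀ z ∈ EGA41.imperfection A B C, φ z = 0) (z : C ⊗[B] Ω[B⁄A])
    (hz : mapBaseChange A B C z ∈ LinearMap.range (mapBaseChange A B C)) :
    onRange φ hφ ⟨mapBaseChange A B C z, hz⟩ = φ z := by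
  unfold onRange
  rw [LinearMap.comp_apply, LinearEquiv.coe_coe, LinearMap.quotKerEquivRange_symm_apply_image]
  rfl

theorem exists_factor
    (h : Module.Injective C L ∨
      ∃ s : Ω[C⁄B] →ₗ[C] Ω[C⁄A], ∀ ω : Ω[C⁄B], KaehlerDifferential.map A B C C (s ω) = ω)
    (φ : C ⊗[B] Ω[B⁄A] →ₗ[C] L) (hφ : ∀ z ∈ EGA41.imperfection A B C, φ z = 0) :
    ∃ g : Ω[C⁄A] →ₗ[C] L, ∀ z, g (mapBaseChange A B C z) = φ z := by
  rcases h with h | ⟨s, hs⟩
  · obtain ⟨g, hg⟩ := Module.Injective.extension_property C L
      ↥(LinearMap.range (mapBaseChange A B C)) Ω[C⁄A]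
      (LinearMap.range (mapBaseChange A B C)).subtype Subtype.val_injective (onRange φ hφ)
    refine ⟨g, fun z => ?_⟩
    have h1 := LinearMap.congr_fun hg ⟨mapBaseChange A B C z, LinearMap.mem_range_self _ z⟩
    rw [onRange_apply] at h1
    exact h1
  · have hmem : ∀ ω : Ω[C⁄A], ω - s (KaehlerDifferential.map A B C C ω) ∈
        LinearMap.range (mapBaseChange A B C) := by
      intro ω
      rw [range_mapBaseChange, LinearMap.mem_ker, map_sub, hs, sub_self]
    let π : Ω[C⁄A] →ₗ[C] LinearMap.range (mapBaseChange A B C) :=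
      LinearMap.codRestrict _ (LinearMap.id - s ∘ₗ KaehlerDifferential.map A B C C) hmem
    refine ⟨onRange φ hφ ∘ₗ π, fun z => ?_⟩
    have h1 : π (mapBaseChange A B C z) =
        ⟨mapBaseChange A B C z, LinearMap.mem_range_self _ z⟩ := by
      apply Subtype.ext
      change mapBaseChange A B C z - s (KaehlerDifferential.map A B C C (mapBaseChange A B C z)) = _
      have h2 : KaehlerDifferential.map A B C C (mapBaseChange A B C z) = 0 :=
        (exact_mapBaseChange_map A B C).apply_apply_eq_zero z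
      rw [h2, map_zero, sub_zero]
    rw [LinearMap.comp_apply, h1, onRange_apply]

theorem exists_extend
    (h : Module.Injective C L ∨
      ∃ r : C ⊗[B] Ω[B⁄A] →ₗ[C] ↥(EGA41.imperfection A B C),
        ∀ z : ↥(EGA41.imperfection A B C), r z = z)
    (χ : ↥(EGA41.imperfection A B C) →ₗ[C] L) :
    ∃ φ : C ⊗[B] Ω[B⁄A] →ₗ[C] L, ∀ z : ↥(EGA41.imperfection A B C), φ z = χ z := by
  rcases h with h | ⟨r, hr⟩
  · obtain ⟨g, hg⟩ := Module.Injective.extension_property C L
      ↥(EGA41.imperfection A B C) (C ⊗[B] Ω[B⁄A])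
      (EGA41.imperfection A B C).subtype Subtype.val_injective χ
    exact ⟨g, fun z => LinearMap.congr_fun hg z⟩
  · exact ⟨χ ∘ₗ r, fun z => by rw [LinearMap.comp_apply, hr]⟩

end factor

section changeSec
variable (A : Type u) {B C L : Type v} [CommRing A] [CommRing B] [CommRing C]
    [Algebra A B] [Algebra B C] [Algebra A C] [IsScalarTower A B C] [AddCommGroup L] [Module C L]
    (X : Exal.Ext B C L)
    (σ : C →+* X.E) (hσ : ∀ c, X.proj (σ c) = c)
    (hσA : ∀ a : A, σ (algebraMap A C a) = algebraMap B X.E (algebraMap A B a))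
    (g : Ω[C⁄A] →ₗ[C] L)

/-- a section moved by a derivation -/
noncomputable def shiftSec : C →+* X.E where
  toFun c := σ c + X.incl (g (D A C c))
  map_one' := by rw [map_one, Derivation.map_one_eq_zero, map_zero, map_zero, add_zero]
  map_mul' c c' := by
    rw [map_mul, Derivation.leibniz, map_add, map_smul, map_smul, map_add]
    have h1 : X.incl (c • g (D A C c')) = σ c * X.incl (g (D A C c')) := by
      rw [X.isExtension.mul_incl, hσ]
    have h2 : X.incl (c' • g (D A C c)) = σ c' * X.incl (g (D A C c)) := by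
      rw [X.isExtension.mul_incl, hσ]
    have h3 := ExalLib.incl_mul_incl X (g (D A C c)) (g (D A C c'))
    rw [h1, h2]
    have e : (σ c + X.incl (g (D A C c))) * (σ c' + X.incl (g (D A C c'))) =
        σ c * σ c' + (σ c * X.incl (g (D A C c')) + σ c' * X.incl (g (D A C c))) +
          X.incl (g (D A C c)) * X.incl (g (D A C c')) := by ring
    rw [e, h3, add_zero]
  map_zero' := by rw [map_zero, map_zero, map_zero, map_zero, add_zero]
  map_add' c c' := by
    rw [map_add, map_add, map_add, map_add]; abel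

lemma shiftSec_apply (c : C) : shiftSec A X σ hσ g c = σ c + X.incl (g (D A C c)) := rfl

include hσ in
lemma proj_shiftSec (c : C) : X.proj (shiftSec A X σ hσ g c) = c := by
  rw [shiftSec_apply, map_add, hσ, ExalLib.proj_incl, add_zero]

include hσA in
lemma shiftSec_algebraMap (a : A) :
    shiftSec A X σ hσ g (algebraMap A C a) = algebraMap B X.E (algebraMap A B a) := by
  rw [shiftSec_apply, Derivation.map_algebraMap, map_zero, map_zero, add_zero, hσA]

lemma dB_shiftSec (b : B) :
    dB X (shiftSec A X σ hσ g) (proj_shiftSec A X σ hσ g) b =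
      dB X σ hσ b - g (D A C (algebraMap B C b)) := by
  apply X.isExtension.incl_injective
  rw [incl_dB, map_sub, incl_dB, shiftSec_apply]
  abel

end changeSec

section equivOfEq
variable {B C L : Type v} [CommRing B] [CommRing C] [Algebra B C] [AddCommGroup L] [Module C L]
    (X Y : Exal.Ext B C L)
    (σX : C →+* X.E) (hσX : ∀ c, X.proj (σX c) = c)
    (σY : C →+* Y.E) (hσY : ∀ c, Y.proj (σY c) = c)

attribute [local instance] Exal.opModule Exal.isCentralScalar_opModule

theorem equiv_of_dB_eq (h : ∀ b, dB X σX hσX b = dB Y σY hσY b) : Nonempty (X.Equiv Y) := by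
  let eX : TrivSqZeroExt C L ≃+* X.E :=
    RingEquiv.ofBijective (ExalLib.psi X σX hσX) (ExalLib.psi_bijective X σX hσX)
  let eY : TrivSqZeroExt C L ≃+* Y.E :=
    RingEquiv.ofBijective (ExalLib.psi Y σY hσY) (ExalLib.psi_bijective Y σY hσY)
  have heX : ∀ t, eX t = ExalLib.psi X σX hσX t := fun t => rfl
  have heY : ∀ t, eY t = ExalLib.psi Y σY hσY t := fun t => rfl
  have hB : ∀ b : B, eX.symm (algebraMap B X.E b) =
      TrivSqZeroExt.inl (algebraMap B C b) + TrivSqZeroExt.inr (dB X σX hσX b) := by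
    intro b
    rw [RingEquiv.symm_apply_eq, heX, ExalLib.psi_apply, TrivSqZeroExt.fst_add,
      TrivSqZeroExt.fst_inl, TrivSqZeroExt.fst_inr, add_zero, TrivSqZeroExt.snd_add,
      TrivSqZeroExt.snd_inl, TrivSqZeroExt.snd_inr, zero_add, incl_dB]
    abel
  refine ⟨{ toAlgEquiv :=
              { toRingEquiv := eX.symm.trans eY
                commutes' := fun b => ?_ }
            proj_apply := fun x => ?_
            apply_incl := fun z => ?_ }⟩
  · change eY (eX.symm (algebraMap B X.E b)) = algebraMap B Y.E b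
    rw [hB, heY, ExalLib.psi_apply, TrivSqZeroExt.fst_add,
      TrivSqZeroExt.fst_inl, TrivSqZeroExt.fst_inr, add_zero, TrivSqZeroExt.snd_add,
      TrivSqZeroExt.snd_inl, TrivSqZeroExt.snd_inr, zero_add, h, incl_dB]
    abel
  · change Y.proj (eY (eX.symm x)) = X.proj x
    rw [heY, ExalLib.proj_psi Y σY hσY]
    conv_rhs => rw [← eX.apply_symm_apply x, heX, ExalLib.proj_psi X σX hσX]
  · change eY (eX.symm (X.incl z)) = Y.incl z
    have h1 : eX.symm (X.incl z) = TrivSqZeroExt.inr z := by
      rw [RingEquiv.symm_apply_eq, heX, ExalLib.psi_inr]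
    rw [h1, heY, ExalLib.psi_inr]

end equivOfEq

section s5822
variable {A : Type u} {B C L : Type v} [CommRing A] [CommRing B] [CommRing C]
    [Algebra A B] [Algebra B C] [Algebra A C] [IsScalarTower A B C] [AddCommGroup L] [Module C L]

theorem main5822
    (h : Module.Injective C L ∨
      ((∃ r : C ⊗[B] Ω[B⁄A] →ₗ[C] ↥(EGA41.imperfection A B C),
          ∀ z : ↥(EGA41.imperfection A B C), r z = z) ∧
        ∃ s : Ω[C⁄B] →ₗ[C] Ω[C⁄A], ∀ ω : Ω[C⁄B], KaehlerDifferential.map A B C C (s ω) = ω))
    (X Y : Exal.Ext B C L) (hX : X.IsTrivialOver A) (hY : Y.IsTrivialOver A)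
    (χ : ↥(EGA41.imperfection A B C) →ₗ[C] L) (hXχ : X.IsCharHom A χ) (hYχ : Y.IsCharHom A χ) :
    Nonempty (X.Equiv Y) := by
  obtain ⟨σX, hσX, hσXA⟩ := (ExalLib.isTrivialOver_iff X).1 hX
  obtain ⟨σY, hσY, hσYA⟩ := (ExalLib.isTrivialOver_iff Y).1 hY
  have hX' := (isCharHom_iff A X σX hσX hσXA χ).1 hXχ
  have hY' := (isCharHom_iff A Y σY hσY hσYA χ).1 hYχ
  have h' : Module.Injective C L ∨
      ∃ s : Ω[C⁄B] →ₗ[C] Ω[C⁄A], ∀ ω : Ω[C⁄B], KaehlerDifferential.map A B C C (s ω) = ω :=
    h.imp id (fun h => h.2)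
  obtain ⟨g, hg⟩ := exists_factor h' (linForm A Y σY hσY hσYA - linForm A X σX hσX hσXA)
    (fun z hz => by
      rw [LinearMap.sub_apply, ← hX' ⟨z, hz⟩, ← hY' ⟨z, hz⟩, sub_self])
  apply equiv_of_dB_eq X Y σX hσX (shiftSec A Y σY hσY g) (proj_shiftSec A Y σY hσY g)
  intro b
  rw [dB_shiftSec]
  have h1 := hg (1 ⊗ₜ D A B b)
  rw [mapBaseChange_tmul, one_smul, map_D, LinearMap.sub_apply, linForm_tmul_D, linForm_tmul_D,
    one_smul, one_smul] at h1
  rw [h1]
  abel

end s5822

end Groth.Agent.Helper9.CharLib
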