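import Mathlib
import Groth.Prelude.Def_Exal
import Groth.Prelude.Def_Exal2
import Groth.Agent.Lib.Helper9.ExalLib3

set_option autoImplicit false
set_option linter.unusedSectionVars false
set_option linter.style.haveILetI false
universe u v w

namespace Groth.Agent.Helper9.ExalLib

open Exal

attribute [local instance] Exal.opModule Exal.isCentralScalar_opModule

section chg
variable {B C L : Type v} [CommRing B] [CommRing C] [Algebra B C]
    [AddCommGroup L] [Module C L] [Module B L] [IsScalarTower B C L]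

/-- change of ring in the trivial extension -/
noncomputable def chg : TrivSqZeroExt B L →+* TrivSqZeroExt C L where
  toFun y := TrivSqZeroExt.inl (algebraMap B C (TrivSqZeroExt.fst y)) +
    TrivSqZeroExt.inr (TrivSqZeroExt.snd y)
  map_one' := by
    rw [TrivSqZeroExt.fst_one, TrivSqZeroExt.snd_one, map_one, TrivSqZeroExt.inr_zero, add_zero,
      TrivSqZeroExt.inl_one]
  map_mul' y y' := by
    apply TrivSqZeroExt.ext
    · simp
    · simp only [TrivSqZeroExt.snd_add, TrivSqZeroExt.snd_inl, TrivSqZeroExt.snd_inr, zero_add,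
        TrivSqZeroExt.snd_mul, TrivSqZeroExt.fst_add, TrivSqZeroExt.fst_inl, TrivSqZeroExt.fst_inr,
        add_zero, op_smul_eq_smul, algebraMap_smul]
  map_zero' := by
    rw [TrivSqZeroExt.fst_zero, TrivSqZeroExt.snd_zero, map_zero, TrivSqZeroExt.inl_zero,
      TrivSqZeroExt.inr_zero, add_zero]
  map_add' y y' := by
    rw [TrivSqZeroExt.fst_add, TrivSqZeroExt.snd_add, map_add, TrivSqZeroExt.inl_add,
      TrivSqZeroExt.inr_add]
    abel

lemma fst_chg (y : TrivSqZeroExt B L) :
    TrivSqZeroExt.fst (chg (C := C) y) = algebraMap B C (TrivSqZeroExt.fst y) := by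
  change TrivSqZeroExt.fst (TrivSqZeroExt.inl (algebraMap B C (TrivSqZeroExt.fst y)) +
    TrivSqZeroExt.inr (TrivSqZeroExt.snd y) : TrivSqZeroExt C L) = _
  rw [TrivSqZeroExt.fst_add, TrivSqZeroExt.fst_inl, TrivSqZeroExt.fst_inr, add_zero]

lemma snd_chg (y : TrivSqZeroExt B L) :
    TrivSqZeroExt.snd (chg (C := C) y) = TrivSqZeroExt.snd y := by
  change TrivSqZeroExt.snd (TrivSqZeroExt.inl (algebraMap B C (TrivSqZeroExt.fst y)) +
    TrivSqZeroExt.inr (TrivSqZeroExt.snd y) : TrivSqZeroExt C L) = _
  rw [TrivSqZeroExt.snd_add, TrivSqZeroExt.snd_inl, TrivSqZeroExt.snd_inr, zero_add]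

end chg


section extOfHom
variable {A : Type w} {C L : Type v} [CommRing A] [CommRing C] [Algebra A C]
    [AddCommGroup L] [Module C L]

/-- carrier of the extension attached to a ring map `A → C ⊕ L` -/
@[nolint unusedArguments]
def CarrierOf (_ρ : A →+* TrivSqZeroExt C L) : Type v := TrivSqZeroExt C L

instance (ρ : A →+* TrivSqZeroExt C L) : CommRing (CarrierOf ρ) :=
  inferInstanceAs (CommRing (TrivSqZeroExt C L))

noncomputable instance (ρ : A →+* TrivSqZeroExt C L) : Algebra A (CarrierOf ρ) :=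
  (ρ : A →+* CarrierOf ρ).toAlgebra

/-- the extension of `C` by `L` on `C ⊕ L` with `A`-algebra structure given by `ρ` -/
noncomputable def extOfHom (ρ : A →+* TrivSqZeroExt C L)
    (hρ : ∀ a, TrivSqZeroExt.fst (ρ a) = algebraMap A C a) : Exal.Ext A C L where
  E := CarrierOf ρ
  proj :=
    { toFun := fun x => TrivSqZeroExt.fst x
      map_one' := TrivSqZeroExt.fst_one
      map_mul' := TrivSqZeroExt.fst_mul
      map_zero' := TrivSqZeroExt.fst_zero
      map_add' := TrivSqZeroExt.fst_add
      commutes' := hρ }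
  incl := (TrivSqZeroExt.inrHom C L).toAddMonoidHom
  isExtension :=
    { proj_surjective := fun c => ⟨TrivSqZeroExt.inl c, rfl⟩
      incl_injective := TrivSqZeroExt.inr_injective
      exact := fun x => by
        constructor
        · intro hx
          exact ⟨TrivSqZeroExt.snd x, TrivSqZeroExt.ext hx.symm rfl⟩
        · rintro ⟨z, rfl⟩
          rfl
      mul_incl := fun x z => by
        refine TrivSqZeroExt.ext ?_ ?_
        · change TrivSqZeroExt.fst x * 0 = 0
          exact mul_zero _
        · change TrivSqZeroExt.fst x • z + MulOpposite.op (0 : C) • TrivSqZeroExt.snd x =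
            TrivSqZeroExt.fst x • z
          rw [MulOpposite.op_zero, zero_smul, add_zero] }

variable (ρ : A →+* TrivSqZeroExt C L) (hρ : ∀ a, TrivSqZeroExt.fst (ρ a) = algebraMap A C a)

/-- identity onto Mathlib's trivial extension -/
noncomputable def toTρ : (extOfHom ρ hρ).E ≃+* TrivSqZeroExt C L := RingEquiv.refl _

lemma toTρ_algebraMap (a : A) : toTρ ρ hρ (algebraMap A (extOfHom ρ hρ).E a) = ρ a := rfl

lemma projρ_eq_fst (x : (extOfHom ρ hρ).E) :
    (extOfHom ρ hρ).proj x = TrivSqZeroExt.fst (toTρ ρ hρ x) := rfl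

lemma inclρ_eq_inr (z : L) : toTρ ρ hρ ((extOfHom ρ hρ).incl z) = TrivSqZeroExt.inr z := rfl

end extOfHom

section s5832
variable {Λ : Type u} {A : Type w} {B C L : Type v}
    [CommRing Λ] [CommRing A] [CommRing B] [CommRing C] [Algebra Λ A] [Algebra Λ B] [Algebra Λ C]
    [Algebra A B] [Algebra B C] [Algebra A C] [IsScalarTower Λ A B] [IsScalarTower Λ A C]
    [IsScalarTower A B C]
    [AddCommGroup L] [Module C L] [Module B L] [IsScalarTower B C L]

theorem main5832 (Y : Exal.Ext A B L) (hY : Y.IsTrivialOver Λ) :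
    ∃ X : Exal.Ext A C L, X.IsTrivialOver Λ ∧ Nonempty ((X.pullback B).Equiv Y) := by
  obtain ⟨σ, hσ, hσΛ⟩ := (isTrivialOver_iff Y).1 hY
  let ψe : TrivSqZeroExt B L ≃+* Y.E := RingEquiv.ofBijective (psi Y σ hσ) (psi_bijective Y σ hσ)
  have hψe : ∀ t, ψe t = psi Y σ hσ t := fun t => rfl
  have hfst : ∀ y : Y.E, TrivSqZeroExt.fst (ψe.symm y) = Y.proj y := by
    intro y
    rw [← proj_psi Y σ hσ (ψe.symm y), ← hψe, RingEquiv.apply_symm_apply]
  have hsymm_σ : ∀ b, ψe.symm (σ b) = TrivSqZeroExt.inl b := by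
    intro b
    rw [RingEquiv.symm_apply_eq, hψe, psi_apply, TrivSqZeroExt.fst_inl, TrivSqZeroExt.snd_inl,
      map_zero, add_zero]
  have hsymm_incl : ∀ z, ψe.symm (Y.incl z) = TrivSqZeroExt.inr z := by
    intro z
    rw [RingEquiv.symm_apply_eq, hψe, psi_inr]
  let ρ : A →+* TrivSqZeroExt C L :=
    (chg (B := B) (C := C) (L := L)).comp (ψe.symm.toRingHom.comp (algebraMap A Y.E))
  have hρ_apply : ∀ a, ρ a = chg (C := C) (ψe.symm (algebraMap A Y.E a)) := fun a => rfl
  have hρ : ∀ a, TrivSqZeroExt.fst (ρ a) = algebraMap A C a := by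
    intro a
    rw [hρ_apply, fst_chg, hfst, AlgHom.commutes, ← IsScalarTower.algebraMap_apply]
  refine ⟨extOfHom ρ hρ, ?_, ?_⟩
  · rw [isTrivialOver_iff]
    refine ⟨(toTρ ρ hρ).symm.toRingHom.comp (TrivSqZeroExt.inlHom C L), fun c => ?_, fun r => ?_⟩
    · rw [projρ_eq_fst]
      change TrivSqZeroExt.fst (toTρ ρ hρ ((toTρ ρ hρ).symm (TrivSqZeroExt.inl c))) = c
      rw [RingEquiv.apply_symm_apply, TrivSqZeroExt.fst_inl]
    · apply (toTρ ρ hρ).injective
      rw [toTρ_algebraMap]
      change toTρ ρ hρ ((toTρ ρ hρ).symm (TrivSqZeroExt.inl (algebraMap Λ C r))) = _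
      rw [RingEquiv.apply_symm_apply, hρ_apply, ← hσΛ, hsymm_σ]
      apply TrivSqZeroExt.ext
      · rw [fst_chg, TrivSqZeroExt.fst_inl, TrivSqZeroExt.fst_inl,
          IsScalarTower.algebraMap_apply Λ A B, ← IsScalarTower.algebraMap_apply A B C,
          ← IsScalarTower.algebraMap_apply Λ A C]
      · rw [snd_chg, TrivSqZeroExt.snd_inl, TrivSqZeroExt.snd_inl]
  · set X := extOfHom ρ hρ with hX
    let φ1 : Y.E →+* X.E := (toTρ ρ hρ).symm.toRingHom.comp
      ((chg (B := B) (C := C) (L := L)).comp ψe.symm.toRingHom)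
    have hφ1 : ∀ y, toTρ ρ hρ (φ1 y) = chg (C := C) (ψe.symm y) := fun y =>
      RingEquiv.apply_symm_apply _ _
    let Φ : Y.E →+* X.E × B := φ1.prod (Y.proj : Y.E →+* B)
    have hΦ : ∀ y, Φ y ∈ X.fiberProd B := by
      intro y
      rw [mem_fiberProd]
      change X.proj (φ1 y) = algebraMap B C (Y.proj y)
      rw [projρ_eq_fst, hφ1, fst_chg, hfst]
    let Φ' : Y.E →+* (X.pullback B).E := Φ.codRestrict (X.fiberProd B).toSubring hΦ
    have hΦ'v : ∀ y, (X.fiberProd B).val (Φ' y) = (φ1 y, Y.proj y) := fun y => rfl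
    have hbij : Function.Bijective Φ' := by
      constructor
      · rw [injective_iff_map_eq_zero]
        intro y hy
        have h0 : (φ1 y, Y.proj y) = (0 : X.E × B) := by
          rw [← hΦ'v y, hy]; rfl
        have h2 : Y.proj y = 0 := congrArg Prod.snd h0
        obtain ⟨z, rfl⟩ := (Y.isExtension.exact y).1 h2
        have h1 : φ1 (Y.incl z) = 0 := congrArg Prod.fst h0
        have h3 := congrArg (toTρ ρ hρ) h1
        rw [hφ1, hsymm_incl, map_zero] at h3
        have h4 := congrArg TrivSqZeroExt.snd h3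
        rw [snd_chg, TrivSqZeroExt.snd_inr, TrivSqZeroExt.snd_zero] at h4
        rw [h4, map_zero]
      · rintro ⟨⟨x, b⟩, hxb⟩
        have hxb' : X.proj x = algebraMap B C b := (mem_fiberProd X _).1 hxb
        refine ⟨σ b + Y.incl (TrivSqZeroExt.snd (toTρ ρ hρ x)), ?_⟩
        apply Subtype.ext
        apply Prod.ext
        · change φ1 (σ b + Y.incl (TrivSqZeroExt.snd (toTρ ρ hρ x))) = x
          apply (toTρ ρ hρ).injective
          rw [hφ1, map_add, hsymm_σ, hsymm_incl]
          apply TrivSqZeroExt.ext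
          · rw [fst_chg, TrivSqZeroExt.fst_add, TrivSqZeroExt.fst_inl, TrivSqZeroExt.fst_inr,
              add_zero, ← hxb', projρ_eq_fst]
          · rw [snd_chg, TrivSqZeroExt.snd_add, TrivSqZeroExt.snd_inl, TrivSqZeroExt.snd_inr,
              zero_add]
        · change Y.proj (σ b + Y.incl (TrivSqZeroExt.snd (toTρ ρ hρ x))) = b
          rw [map_add, hσ, proj_incl, add_zero]
    let eY : Y.Equiv (X.pullback B) :=
      { toAlgEquiv := AlgEquiv.ofBijective
          { toRingHom := Φ'
            commutes' := fun a => by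
              apply Subtype.ext
              apply Prod.ext
              · change φ1 (algebraMap A Y.E a) = algebraMap A X.E a
                apply (toTρ ρ hρ).injective
                rw [hφ1, toTρ_algebraMap, hρ_apply]
              · change Y.proj (algebraMap A Y.E a) = algebraMap A B a
                exact Y.proj.commutes a } hbij
        proj_apply := fun y => rfl
        apply_incl := fun z => by
          apply Subtype.ext
          apply Prod.ext
          · change φ1 (Y.incl z) = X.incl z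
            apply (toTρ ρ hρ).injective
            rw [hφ1, hsymm_incl, inclρ_eq_inr]
            apply TrivSqZeroExt.ext
            · rw [fst_chg, TrivSqZeroExt.fst_inr, TrivSqZeroExt.fst_inr, map_zero]
            · rw [snd_chg, TrivSqZeroExt.snd_inr, TrivSqZeroExt.snd_inr]
          · change Y.proj (Y.incl z) = 0
            exact proj_incl Y z }
    exact ⟨eY.symm⟩

end s5832

end Groth.Agent.Helper9.ExalLib
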