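import Mathlib
import Groth.Prelude.Def_Exal
import Groth.Prelude.Def_Exal2
import Groth.Prelude.Def_Exal3
import Groth.Agent.Lib.Helper9.CharLib3
import Groth.Agent.Lib.Helper9.ExalLib4

set_option autoImplicit false
set_option linter.unusedSectionVars false
set_option linter.style.haveILetI false
universe u v w

namespace Groth.Agent.Helper9.CharLib

open Exal TensorProduct KaehlerDifferential

attribute [local instance] Exal.opModule Exal.isCentralScalar_opModule

section ext
variable {A : Type u} {B C L : Type v} [CommRing A] [CommRing B] [CommRing C]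
    [Algebra A B] [Algebra B C] [Algebra A C] [IsScalarTower A B C] [AddCommGroup L] [Module C L]

lemma form_ext_aux (f g : C ⊗[B] Ω[B⁄A] →ₗ[C] L)
    (h : ∀ b : B, f (1 ⊗ₜ D A B b) = g (1 ⊗ₜ D A B b)) (ω : Ω[B⁄A]) :
    ∀ c : C, f (c ⊗ₜ ω) = g (c ⊗ₜ ω) := by
  have hω : ω ∈ Submodule.span B (Set.range (D A B)) := by
    rw [span_range_derivation]; trivial
  induction hω using Submodule.span_induction with
  | mem x hx =>
    obtain ⟨b, rfl⟩ := hx
    intro c
    have e : c ⊗ₜ[B] D A B b = c • ((1 : C) ⊗ₜ[B] D A B b) := by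
      rw [smul_tmul', smul_eq_mul, mul_one]
    rw [e, map_smul, map_smul, h]
  | zero => intro c; rw [tmul_zero, map_zero, map_zero]
  | add x y _ _ hx hy => intro c; rw [tmul_add, map_add, map_add, hx, hy]
  | smul b x _ hx =>
    intro c
    rw [← smul_tmul, hx]

lemma form_ext (f g : C ⊗[B] Ω[B⁄A] →ₗ[C] L)
    (h : ∀ b : B, f (1 ⊗ₜ D A B b) = g (1 ⊗ₜ D A B b)) : f = g := by
  apply LinearMap.ext
  intro z
  induction z using TensorProduct.induction_on with
  | zero => rw [map_zero, map_zero]
  | tmul c ω => exact form_ext_aux f g h ω c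
  | add x y hx hy => rw [map_add, map_add, hx, hy]

end ext

section ofForm
variable {A : Type u} {B C L : Type v} [CommRing A] [CommRing B] [CommRing C]
    [Algebra A B] [Algebra B C] [Algebra A C] [IsScalarTower A B C] [AddCommGroup L] [Module C L]
    (φ : C ⊗[B] Ω[B⁄A] →ₗ[C] L)

/-- the "derivation" `B → L` attached to a linear form -/
noncomputable def dform (b : B) : L := φ ((1 : C) ⊗ₜ[B] D A B b)

lemma dform_add (b b' : B) : dform φ (b + b') = dform φ b + dform φ b' := by
  unfold dform
  rw [map_add, tmul_add, map_add]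

lemma dform_one : dform φ 1 = 0 := by
  unfold dform
  rw [Derivation.map_one_eq_zero, tmul_zero, map_zero]

lemma dform_zero : dform φ 0 = 0 := by
  unfold dform
  rw [map_zero, tmul_zero, map_zero]

lemma dform_mul (b b' : B) :
    dform φ (b * b') = algebraMap B C b • dform φ b' + algebraMap B C b' • dform φ b := by
  unfold dform
  have e : (1 : C) ⊗ₜ[B] (b • D A B b' + b' • D A B b) =
      algebraMap B C b • ((1 : C) ⊗ₜ[B] D A B b') + algebraMap B C b' • ((1 : C) ⊗ₜ[B] D A B b) := by
    rw [tmul_add, tmul_smul, tmul_smul, algebraMap_smul, algebraMap_smul]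
  rw [Derivation.leibniz, e, map_add, map_smul, map_smul]

lemma dform_algebraMap (a : A) : dform φ (algebraMap A B a) = 0 := by
  unfold dform
  rw [Derivation.map_algebraMap, tmul_zero, map_zero]

/-- the ring map `B → C ⊕ L` attached to a linear form -/
noncomputable def rhoForm : B →+* TrivSqZeroExt C L where
  toFun b := TrivSqZeroExt.inl (algebraMap B C b) + TrivSqZeroExt.inr (dform φ b)
  map_one' := by
    rw [map_one, dform_one, TrivSqZeroExt.inr_zero, add_zero, TrivSqZeroExt.inl_one]
  map_mul' b b' := by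
    apply TrivSqZeroExt.ext
    · simp
    · simp only [TrivSqZeroExt.snd_add, TrivSqZeroExt.snd_inl, TrivSqZeroExt.snd_inr, zero_add,
        TrivSqZeroExt.snd_mul, TrivSqZeroExt.fst_add, TrivSqZeroExt.fst_inl, TrivSqZeroExt.fst_inr,
        add_zero, op_smul_eq_smul, dform_mul]
  map_zero' := by
    rw [map_zero, dform_zero, TrivSqZeroExt.inr_zero, add_zero, TrivSqZeroExt.inl_zero]
  map_add' b b' := by
    rw [map_add, dform_add, TrivSqZeroExt.inl_add, TrivSqZeroExt.inr_add]
    abel

lemma rhoForm_apply (b : B) :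
    rhoForm φ b = TrivSqZeroExt.inl (algebraMap B C b) + TrivSqZeroExt.inr (dform φ b) := rfl

lemma fst_rhoForm (b : B) : TrivSqZeroExt.fst (rhoForm φ b) = algebraMap B C b := by
  rw [rhoForm_apply, TrivSqZeroExt.fst_add, TrivSqZeroExt.fst_inl, TrivSqZeroExt.fst_inr, add_zero]

/-- the extension attached to a linear form -/
noncomputable abbrev extForm : Exal.Ext B C L := ExalLib.extOfHom (rhoForm φ) (fst_rhoForm φ)

/-- its standard section -/
noncomputable def secForm : C →+* (extForm φ).E :=
  (ExalLib.toTρ (rhoForm φ) (fst_rhoForm φ)).symm.toRingHom.comp (TrivSqZeroExt.inlHom C L)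

lemma toT_secForm (c : C) :
    ExalLib.toTρ (rhoForm φ) (fst_rhoForm φ) (secForm φ c) = TrivSqZeroExt.inl c :=
  RingEquiv.apply_symm_apply _ _

lemma proj_secForm (c : C) : (extForm φ).proj (secForm φ c) = c := by
  change TrivSqZeroExt.fst (ExalLib.toTρ (rhoForm φ) (fst_rhoForm φ) (secForm φ c)) = c
  rw [toT_secForm, TrivSqZeroExt.fst_inl]

lemma secForm_algebraMap (a : A) :
    secForm φ (algebraMap A C a) = algebraMap B (extForm φ).E (algebraMap A B a) := by
  apply (ExalLib.toTρ (rhoForm φ) (fst_rhoForm φ)).injective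
  rw [toT_secForm]
  change _ = rhoForm φ (algebraMap A B a)
  rw [rhoForm_apply, dform_algebraMap, TrivSqZeroExt.inr_zero, add_zero,
    ← IsScalarTower.algebraMap_apply]

lemma dB_extForm (b : B) : dB (extForm φ) (secForm φ) (proj_secForm φ) b = dform φ b := by
  apply (extForm φ).isExtension.incl_injective
  rw [incl_dB]
  apply (ExalLib.toTρ (rhoForm φ) (fst_rhoForm φ)).injective
  rw [map_sub, toT_secForm]
  change rhoForm φ b - _ = TrivSqZeroExt.inr (dform φ b)
  rw [rhoForm_apply]
  abel

lemma linForm_extForm :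
    linForm A (extForm φ) (secForm φ) (proj_secForm φ) (secForm_algebraMap φ) = φ := by
  apply form_ext
  intro b
  rw [linForm_tmul_D, one_smul, dB_extForm]
  rfl

end ofForm

section s5823
variable {A : Type u} {B C L : Type v} [CommRing A] [CommRing B] [CommRing C]
    [Algebra A B] [Algebra B C] [Algebra A C] [IsScalarTower A B C] [AddCommGroup L] [Module C L]

theorem main5823
    (h : Module.Injective C L ∨
      ((∃ r : C ⊗[B] Ω[B⁄A] →ₗ[C] ↥(EGA41.imperfection A B C),
          ∀ z : ↥(EGA41.imperfection A B C), r z = z) ∧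
        ∃ s : Ω[C⁄B] →ₗ[C] Ω[C⁄A], ∀ ω : Ω[C⁄B], KaehlerDifferential.map A B C C (s ω) = ω))
    (χ : ↥(EGA41.imperfection A B C) →ₗ[C] L) :
    ∃ X : Exal.Ext B C L, X.IsTrivialOver A ∧ X.IsCharHom A χ := by
  obtain ⟨φ, hφ⟩ := exists_extend (h.imp id (fun h => h.1)) χ
  refine ⟨extForm φ, ?_, ?_⟩
  · rw [ExalLib.isTrivialOver_iff]
    exact ⟨secForm φ, proj_secForm φ, secForm_algebraMap φ⟩
  · rw [isCharHom_iff A (extForm φ) (secForm φ) (proj_secForm φ) (secForm_algebraMap φ)]
    intro z
    rw [linForm_extForm, hφ]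

end s5823

end Groth.Agent.Helper9.CharLib
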