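import Mathlib
import Groth.Prelude.Def_Exal
import Groth.Prelude.Def_Exal2
import Groth.Prelude.Def_Exal3
import Groth.Agent.Lib.Helper9.CharLib4

set_option autoImplicit false
set_option linter.unusedSectionVars false
set_option linter.style.haveILetI false
universe u v w

namespace Groth.Agent.Helper9.CharLib

open Exal TensorProduct KaehlerDifferential

section smooth
variable {A : Type u} {B C L : Type v} [CommRing A] [CommRing B] [CommRing C]
    [Algebra A B] [Algebra B C] [Algebra A C] [IsScalarTower A B C] [AddCommGroup L] [Module C L]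

theorem isTrivialOver_of_formallySmooth [Algebra.FormallySmooth A C] (X : Exal.Ext B C L) :
    X.IsTrivialOver A := by
  have hsurj : Function.Surjective (X.restrictBase A).proj := X.isExtension.proj_surjective
  have hnil : IsNilpotent (RingHom.ker ((X.restrictBase A).proj : (X.restrictBase A).E →+* C)) := by
    refine ⟨2, ?_⟩
    rw [Ideal.zero_eq_bot, eq_bot_iff, pow_two, Ideal.mul_le]
    intro x hx y hy
    obtain ⟨z, rfl⟩ := ((X.restrictBase A).isExtension.exact x).1 (RingHom.mem_ker.1 hx)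
    obtain ⟨z', rfl⟩ := ((X.restrictBase A).isExtension.exact y).1 (RingHom.mem_ker.1 hy)
    rw [ExalLib.incl_mul_incl]
    exact Ideal.zero_mem _
  exact ⟨Algebra.FormallySmooth.liftOfSurjective (AlgHom.id A C) (X.restrictBase A).proj hsurj hnil,
    fun c => Algebra.FormallySmooth.liftOfSurjective_apply _ _ hsurj hnil c⟩

theorem exists_section_of_projective [Module.Projective C Ω[C⁄B]] :
    ∃ s : Ω[C⁄B] →ₗ[C] Ω[C⁄A], ∀ ω : Ω[C⁄B], KaehlerDifferential.map A B C C (s ω) = ω := by
  obtain ⟨s, hs⟩ := Module.projective_lifting_property (KaehlerDifferential.map A B C C)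
    LinearMap.id (KaehlerDifferential.map_surjective A B C)
  exact ⟨s, fun ω => LinearMap.congr_fun hs ω⟩

/-- projection onto the range of `β` defined by a section -/
noncomputable def piRange (s : Ω[C⁄B] →ₗ[C] Ω[C⁄A])
    (hs : ∀ ω : Ω[C⁄B], KaehlerDifferential.map A B C C (s ω) = ω) :
    Ω[C⁄A] →ₗ[C] LinearMap.range (mapBaseChange A B C) :=
  LinearMap.codRestrict _ (LinearMap.id - s ∘ₗ KaehlerDifferential.map A B C C) (fun ω => by
    rw [range_mapBaseChange, LinearMap.mem_ker]
    change KaehlerDifferential.map A B C C (ω - s (KaehlerDifferential.map A B C C ω)) = 0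
    rw [map_sub, hs, sub_self])

lemma piRange_val (s : Ω[C⁄B] →ₗ[C] Ω[C⁄A])
    (hs : ∀ ω : Ω[C⁄B], KaehlerDifferential.map A B C C (s ω) = ω) (ω : Ω[C⁄A]) :
    (piRange s hs ω : Ω[C⁄A]) = ω - s (KaehlerDifferential.map A B C C ω) := rfl

lemma piRange_comp (s : Ω[C⁄B] →ₗ[C] Ω[C⁄A])
    (hs : ∀ ω : Ω[C⁄B], KaehlerDifferential.map A B C C (s ω) = ω) :
    piRange s hs ∘ₗ (LinearMap.range (mapBaseChange A B C)).subtype = LinearMap.id := by
  apply LinearMap.ext
  intro y
  apply Subtype.ext
  rw [LinearMap.comp_apply, piRange_val, Submodule.subtype_apply, LinearMap.id_apply]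
  have h2 : KaehlerDifferential.map A B C C (y : Ω[C⁄A]) = 0 := by
    obtain ⟨z, hz⟩ := y.2
    rw [← hz]
    exact (exact_mapBaseChange_map A B C).apply_apply_eq_zero z
  rw [h2, map_zero, sub_zero]

/-- retraction onto the imperfection module defined by a section of the range restriction -/
noncomputable def retrUps (t : LinearMap.range (mapBaseChange A B C) →ₗ[C] C ⊗[B] Ω[B⁄A])
    (ht : (mapBaseChange A B C).rangeRestrict ∘ₗ t = LinearMap.id) :
    C ⊗[B] Ω[B⁄A] →ₗ[C] ↥(EGA41.imperfection A B C) :=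
  LinearMap.codRestrict _ (LinearMap.id - t ∘ₗ (mapBaseChange A B C).rangeRestrict) (fun z => by
    change mapBaseChange A B C (z - t ((mapBaseChange A B C).rangeRestrict z)) = 0
    rw [map_sub]
    have h3 := LinearMap.congr_fun ht ((mapBaseChange A B C).rangeRestrict z)
    have h4 := congrArg Subtype.val h3
    rw [LinearMap.comp_apply, LinearMap.id_apply] at h4
    change mapBaseChange A B C (t ((mapBaseChange A B C).rangeRestrict z)) =
      mapBaseChange A B C z at h4
    rw [h4, sub_self])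

lemma retrUps_val (t : LinearMap.range (mapBaseChange A B C) →ₗ[C] C ⊗[B] Ω[B⁄A])
    (ht : (mapBaseChange A B C).rangeRestrict ∘ₗ t = LinearMap.id) (z : C ⊗[B] Ω[B⁄A]) :
    (retrUps t ht z : C ⊗[B] Ω[B⁄A]) = z - t ((mapBaseChange A B C).rangeRestrict z) := rfl

theorem exists_retraction_of_projective [Module.Projective C Ω[C⁄A]]
    (hs : ∃ s : Ω[C⁄B] →ₗ[C] Ω[C⁄A], ∀ ω : Ω[C⁄B], KaehlerDifferential.map A B C C (s ω) = ω) :
    ∃ r : C ⊗[B] Ω[B⁄A] →ₗ[C] ↥(EGA41.imperfection A B C),
      ∀ z : ↥(EGA41.imperfection A B C), r z = z := by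
  obtain ⟨s, hs⟩ := hs
  haveI : Module.Projective C ↥(LinearMap.range (mapBaseChange A B C)) :=
    Module.Projective.of_split (LinearMap.range (mapBaseChange A B C)).subtype (piRange s hs)
      (piRange_comp s hs)
  obtain ⟨t, ht⟩ := Module.projective_lifting_property (mapBaseChange A B C).rangeRestrict
    LinearMap.id (LinearMap.surjective_rangeRestrict _)
  refine ⟨retrUps t ht, fun z => ?_⟩
  apply Subtype.ext
  rw [retrUps_val]
  have h5 : (mapBaseChange A B C).rangeRestrict (z : C ⊗[B] Ω[B⁄A]) = 0 := by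
    apply Subtype.ext
    exact z.2
  rw [h5, map_zero, sub_zero]

theorem main5824 [Algebra.FormallySmooth A C] [Module.Projective C Ω[C⁄B]] :
    (∀ (X Y : Exal.Ext B C L) (χ : ↥(EGA41.imperfection A B C) →ₗ[C] L),
        X.IsCharHom A χ → Y.IsCharHom A χ → Nonempty (X.Equiv Y)) ∧
      ∀ χ : ↥(EGA41.imperfection A B C) →ₗ[C] L, ∃ X : Exal.Ext B C L, X.IsCharHom A χ := by
  have hs := exists_section_of_projective (A := A) (B := B) (C := C)
  have hr := exists_retraction_of_projective (A := A) (B := B) (C := C) hs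
  refine ⟨fun X Y χ hX hY => main5822 (Or.inr ⟨hr, hs⟩) X Y (isTrivialOver_of_formallySmooth X)
    (isTrivialOver_of_formallySmooth Y) χ hX hY, fun χ => ?_⟩
  obtain ⟨X, -, hX⟩ := main5823 (L := L) (Or.inr ⟨hr, hs⟩) χ
  exact ⟨X, hX⟩

end smooth

end Groth.Agent.Helper9.CharLib
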