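import Mathlib
import Groth.Prelude.Def_Exal
import Groth.Prelude.Def_Exal2
import Groth.Prelude.Def_Exal3
import Groth.Agent.Lib.Helper9.CharLib5

set_option autoImplicit false
set_option linter.unusedSectionVars false
set_option linter.style.haveILetI false
universe u v w

namespace Groth.Agent.Helper9.CharLib

open Exal TensorProduct KaehlerDifferential

section bcmG
variable (R : Type u) (S E C : Type v) [CommRing R] [CommRing S] [CommRing E] [CommRing C]
  [Algebra R S] [Algebra S E] [Algebra R E] [IsScalarTower R S E]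
  [Algebra E C] [Algebra S C] [IsScalarTower S E C]

/-- the map `C ⊗_S Ω_{S/R} → C ⊗_E Ω_{E/R}` -/
noncomputable def bcmG : C ⊗[S] Ω[S⁄R] →ₗ[C] C ⊗[E] Ω[E⁄R] :=
  (TensorProduct.isBaseChange S Ω[S⁄R] C).lift
    (((TensorProduct.mk E C Ω[E⁄R] 1).restrictScalars S) ∘ₗ KaehlerDifferential.map R R S E)

lemma bcmG_tmul (c : C) (ω : Ω[S⁄R]) :
    bcmG R S E C (c ⊗ₜ ω) = c ⊗ₜ[E] KaehlerDifferential.map R R S E ω := by
  have h : c ⊗ₜ[S] ω = c • ((1 : C) ⊗ₜ[S] ω) := by
    rw [smul_tmul', smul_eq_mul, mul_one]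
  have h2 : bcmG R S E C ((1 : C) ⊗ₜ[S] ω) = (1 : C) ⊗ₜ[E] KaehlerDifferential.map R R S E ω :=
    IsBaseChange.lift_eq _ _ _
  rw [h, map_smul, h2, smul_tmul', smul_eq_mul, mul_one]

end bcmG

section tower
variable {Λ : Type u} {A B E C : Type v} [CommRing Λ] [CommRing A] [CommRing B] [CommRing E]
  [CommRing C]
  [Algebra Λ A] [Algebra Λ B] [Algebra A B] [IsScalarTower Λ A B]
  [Algebra Λ E] [Algebra A E] [Algebra B E] [IsScalarTower Λ A E] [IsScalarTower Λ B E]
  [IsScalarTower A B E]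
  [Algebra Λ C] [Algebra A C] [Algebra B C] [Algebra E C] [IsScalarTower Λ A C]
  [IsScalarTower Λ B C] [IsScalarTower Λ E C] [IsScalarTower A B C] [IsScalarTower A E C]
  [IsScalarTower B E C]

lemma bcmG_trans (z : C ⊗[A] Ω[A⁄Λ]) :
    bcmG Λ B E C (bcmG Λ A B C z) = bcmG Λ A E C z := by
  have h : (bcmG Λ B E C) ∘ₗ (bcmG Λ A B C) = bcmG Λ A E C := by
    apply form_ext
    intro a
    rw [LinearMap.comp_apply, bcmG_tmul, bcmG_tmul, bcmG_tmul, map_D, map_D, map_D,
      ← IsScalarTower.algebraMap_apply]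
  exact LinearMap.congr_fun h z

variable (hsurj : Function.Surjective (algebraMap B E))
  (hker : ∀ b, algebraMap B E b = 0 → b ∈ (RingHom.ker (algebraMap B C)) ^ 2)

lemma leftInv_bcmG (z : C ⊗[A] Ω[A⁄Λ]) :
    leftInv (A := Λ) hsurj hker (bcmG Λ A E C z) = bcmG Λ A B C z := by
  have h : (leftInv (A := Λ) (C := C) hsurj hker) ∘ₗ (bcmG Λ A E C) = bcmG Λ A B C := by
    apply form_ext
    intro a
    rw [LinearMap.comp_apply, bcmG_tmul, bcmG_tmul, map_D, map_D,
      IsScalarTower.algebraMap_apply A B E, leftInv_tmul_D]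
  exact LinearMap.congr_fun h z

include hsurj hker in
theorem bcmG_eq_zero_iff (z : C ⊗[A] Ω[A⁄Λ]) :
    bcmG Λ A E C z = 0 ↔ bcmG Λ A B C z = 0 := by
  constructor
  · intro h
    rw [← leftInv_bcmG hsurj hker, h, map_zero]
  · intro h
    rw [← bcmG_trans (B := B), h, map_zero]

end tower

section nu
variable {Λ : Type u} {A B C : Type v} [CommRing Λ] [CommRing A] [CommRing B] [CommRing C]
  [Algebra Λ A] [Algebra Λ B] [Algebra A B] [IsScalarTower Λ A B]
  [Algebra Λ C] [Algebra A C] [Algebra B C] [IsScalarTower Λ A C]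
  [IsScalarTower Λ B C] [IsScalarTower A B C]

lemma tau_eq (z : C ⊗[A] Ω[A⁄Λ]) :
    ((mapBaseChange Λ A B).baseChange C)
      ((TensorProduct.AlgebraTensorModule.cancelBaseChange A B C C Ω[A⁄Λ]).symm z) =
      bcmG Λ A B C z := by
  induction z using TensorProduct.induction_on with
  | zero => rw [map_zero, map_zero, map_zero]
  | tmul c ω =>
    rw [TensorProduct.AlgebraTensorModule.cancelBaseChange_symm_tmul, LinearMap.baseChange_tmul,
      mapBaseChange_tmul, one_smul, bcmG_tmul]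
  | add x y hx hy => rw [map_add, map_add, map_add, hx, hy]

/-- the map `C ⊗_B Ω_{B/Λ} → C ⊗_B Ω_{B/A}` -/
noncomputable def nu : C ⊗[B] Ω[B⁄Λ] →ₗ[C] C ⊗[B] Ω[B⁄A] :=
  (KaehlerDifferential.map Λ A B B).baseChange C

lemma nu_tmul (c : C) (ω : Ω[B⁄Λ]) :
    nu (A := A) (c ⊗ₜ[B] ω) = c ⊗ₜ[B] KaehlerDifferential.map Λ A B B ω :=
  LinearMap.baseChange_tmul _ _ _

lemma nu_bcmG (z : C ⊗[A] Ω[A⁄Λ]) : nu (A := A) (bcmG Λ A B C z) = 0 := by
  have h : (nu (Λ := Λ) (A := A) (B := B) (C := C)) ∘ₗ (bcmG Λ A B C) = 0 := by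
    apply form_ext
    intro a
    rw [LinearMap.comp_apply, bcmG_tmul, nu_tmul, map_D, map_D, LinearMap.zero_apply,
      Algebra.algebraMap_self, RingHom.id_apply, Derivation.map_algebraMap, tmul_zero]
  exact LinearMap.congr_fun h z

lemma exists_of_nu_eq_zero (w : C ⊗[B] Ω[B⁄Λ]) (hw : nu (A := A) w = 0) :
    ∃ z : C ⊗[A] Ω[A⁄Λ], bcmG Λ A B C z = w := by
  have hex := lTensor_exact C (exact_mapBaseChange_map Λ A B)
    (KaehlerDifferential.map_surjective Λ A B)
  have key : ∀ w : C ⊗[B] Ω[B⁄Λ],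
      (LinearMap.lTensor C (KaehlerDifferential.map Λ A B B)) w = nu (A := A) w := by
    intro w
    induction w using TensorProduct.induction_on with
    | zero => rw [map_zero, map_zero]
    | tmul c ω => rw [LinearMap.lTensor_tmul, nu_tmul]
    | add x y hx hy => rw [map_add, map_add, hx, hy]
  have hw' : (LinearMap.lTensor C (KaehlerDifferential.map Λ A B B)) w = 0 := by
    rw [key, hw]
  obtain ⟨y, hy⟩ := (hex w).1 hw'
  refine ⟨TensorProduct.AlgebraTensorModule.cancelBaseChange A B C C Ω[A⁄Λ] y, ?_⟩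
  rw [← tau_eq, LinearEquiv.symm_apply_apply, ← hy]
  clear hy
  induction y using TensorProduct.induction_on with
  | zero => rw [map_zero, map_zero]
  | tmul c ω => rw [LinearMap.lTensor_tmul, LinearMap.baseChange_tmul]
  | add x y hx hy => rw [map_add, map_add, hx, hy]

lemma mapBaseChange_bcmG (z : C ⊗[A] Ω[A⁄Λ]) :
    mapBaseChange Λ B C (bcmG Λ A B C z) = mapBaseChange Λ A C z := by
  have h : (mapBaseChange Λ B C) ∘ₗ (bcmG Λ A B C) = mapBaseChange Λ A C := by
    apply form_ext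
    intro a
    rw [LinearMap.comp_apply, bcmG_tmul, mapBaseChange_tmul, mapBaseChange_tmul, map_D, map_D,
      map_D, ← IsScalarTower.algebraMap_apply]
  exact LinearMap.congr_fun h z

end nu

section s5833
variable {Λ : Type u} {A B : Type v} [CommRing Λ] [CommRing A] [CommRing B] [Algebra Λ A]
  [Algebra Λ B] [Algebra A B] [IsScalarTower Λ A B] (K : Ideal B)

/-- the `B`-algebra structure on the middle ring of the infinitesimal extension viewed over `A` -/
@[reducible] noncomputable def algBE :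
    Algebra B (((Exal.Ext.infinitesimal K).restrictBase A).CharCarrier Λ) :=
  inferInstanceAs (Algebra B (B ⧸ K ^ 2))

attribute [local instance] algBE

lemma towerLBE :
    IsScalarTower Λ B (((Exal.Ext.infinitesimal K).restrictBase A).CharCarrier Λ) :=
  IsScalarTower.of_algebraMap_eq (fun l => by
    change algebraMap B (B ⧸ K ^ 2) (algebraMap A B (algebraMap Λ A l)) =
      algebraMap B (B ⧸ K ^ 2) (algebraMap Λ B l)
    rw [← IsScalarTower.algebraMap_apply Λ A B])

lemma towerABE :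
    IsScalarTower A B (((Exal.Ext.infinitesimal K).restrictBase A).CharCarrier Λ) :=
  IsScalarTower.of_algebraMap_eq (fun _ => rfl)

lemma towerBEC :
    IsScalarTower B (((Exal.Ext.infinitesimal K).restrictBase A).CharCarrier Λ) (B ⧸ K) :=
  IsScalarTower.of_algebraMap_eq (fun _ => rfl)

attribute [local instance] towerLBE towerABE towerBEC

lemma bcm_eq_bcmG (z : (B ⧸ K) ⊗[A] Ω[A⁄Λ]) :
    ((Exal.Ext.infinitesimal K).restrictBase A).baseChangeToMiddle Λ z =
      bcmG Λ A (((Exal.Ext.infinitesimal K).restrictBase A).CharCarrier Λ) (B ⧸ K) z := by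
  induction z using TensorProduct.induction_on with
  | zero => rw [map_zero, map_zero]
  | tmul c ω => rw [bcm_tmul, bcmG_tmul]
  | add x y hx hy => rw [map_add, map_add, hx, hy]

lemma inf_surj' : Function.Surjective
    (algebraMap B (((Exal.Ext.infinitesimal K).restrictBase A).CharCarrier Λ)) :=
  Ideal.Quotient.mk_surjective

lemma inf_ker' (b : B)
    (hb : algebraMap B (((Exal.Ext.infinitesimal K).restrictBase A).CharCarrier Λ) b = 0) :
    b ∈ (RingHom.ker (algebraMap B (B ⧸ K))) ^ 2 := by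
  have h1 : RingHom.ker (algebraMap B (B ⧸ K)) = K := by
    rw [Ideal.Quotient.algebraMap_eq, Ideal.mk_ker]
  rw [h1]
  exact Ideal.Quotient.eq_zero_iff_mem.1 hb

lemma deltaL_toCotangent (x : B) (hx : x ∈ K) :
    ((Exal.Ext.infinitesimal K).restrictBase A).deltaL Λ (K.toCotangent ⟨x, hx⟩) =
      (1 : B ⧸ K) ⊗ₜ[((Exal.Ext.infinitesimal K).restrictBase A).CharCarrier Λ]
        D Λ (((Exal.Ext.infinitesimal K).restrictBase A).CharCarrier Λ)
          (algebraMap B (((Exal.Ext.infinitesimal K).restrictBase A).CharCarrier Λ) x) := rfl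

theorem main5833
    (htriv : ((Exal.Ext.infinitesimal K).restrictBase A).IsTrivialOver Λ)
    (χ : ↥(EGA41.imperfection Λ A (B ⧸ K)) →ₗ[B ⧸ K] K.Cotangent)
    (hχ : ((Exal.Ext.infinitesimal K).restrictBase A).IsCharHom Λ χ) :
    (∀ z : ↥(EGA41.imperfection Λ A (B ⧸ K)),
        χ z = 0 ↔
          ((KaehlerDifferential.mapBaseChange Λ A B).baseChange (B ⧸ K))
              ((TensorProduct.AlgebraTensorModule.cancelBaseChange A B (B ⧸ K) (B ⧸ K) Ω[A⁄Λ]).symm
                (z : (B ⧸ K) ⊗[A] Ω[A⁄Λ])) = 0) ∧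
      ∀ (x : B) (hx : x ∈ K),
        K.toCotangent ⟨x, hx⟩ ∈ LinearMap.range χ ↔
          (1 : B ⧸ K) ⊗ₜ[B] KaehlerDifferential.D A B x = (0 : (B ⧸ K) ⊗[B] Ω[B⁄A]) := by
  have hinj := deltaL_injective Λ ((Exal.Ext.infinitesimal K).restrictBase A) htriv
  constructor
  · intro z
    rw [tau_eq, ← bcmG_eq_zero_iff (Λ := Λ) (A := A) (B := B)
      (E := ((Exal.Ext.infinitesimal K).restrictBase A).CharCarrier Λ) (C := B ⧸ K)
      (inf_surj' K) (inf_ker' K), ← bcm_eq_bcmG, ← hχ z]
    constructor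
    · intro h
      rw [h, map_zero]
    · intro h
      apply hinj
      rw [h, map_zero]
  · intro x hx
    constructor
    · rintro ⟨z, hz⟩
      have h1 := hχ z
      rw [hz, deltaL_toCotangent, bcm_eq_bcmG] at h1
      have h2 := congrArg (leftInv (A := Λ) (C := B ⧸ K) (inf_surj' (Λ := Λ) (A := A) K)
        (inf_ker' K)) h1
      rw [leftInv_tmul_D, leftInv_bcmG] at h2
      have h3 := congrArg (nu (A := A)) h2
      rw [nu_bcmG, nu_tmul, map_D, Algebra.algebraMap_self, RingHom.id_apply] at h3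
      exact h3
    · intro h
      have hw : nu (A := A) ((1 : B ⧸ K) ⊗ₜ[B] D Λ B x) = 0 := by
        rw [nu_tmul, map_D, Algebra.algebraMap_self, RingHom.id_apply, h]
      obtain ⟨z, hz⟩ := exists_of_nu_eq_zero _ hw
      have hzU : z ∈ EGA41.imperfection Λ A (B ⧸ K) := by
        change mapBaseChange Λ A (B ⧸ K) z = 0
        rw [← mapBaseChange_bcmG (B := B), hz, mapBaseChange_tmul, map_D, one_smul,
          Ideal.Quotient.algebraMap_eq, Ideal.Quotient.eq_zero_iff_mem.2 hx, map_zero]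
      refine ⟨⟨z, hzU⟩, ?_⟩
      apply hinj
      rw [hχ, deltaL_toCotangent, bcm_eq_bcmG, ← bcmG_trans (B := B), hz, bcmG_tmul, map_D]

end s5833

end Groth.Agent.Helper9.CharLib
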