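import Mathlib
import Groth.Prelude.Def_Exal
import Groth.Prelude.Def_Exal2
import Groth.Prelude.Def_Exal3
import Groth.Agent.Lib.Helper9.CharLib6

set_option autoImplicit false
set_option linter.unusedSectionVars false
set_option linter.style.haveILetI false
universe u v w

namespace Groth.Agent.Helper9.CharLib

open Exal TensorProduct KaehlerDifferential

section splitInj
variable {Λ : Type u} {A B : Type v} [CommRing Λ] [CommRing A] [CommRing B] [Algebra Λ A]
  [Algebra Λ B] [Algebra A B] [IsScalarTower Λ A B]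

theorem mapBaseChange_injective_of_formallySmooth [Algebra.FormallySmooth A B] :
    Function.Injective (mapBaseChange Λ A B) := by
  rw [injective_iff_map_eq_zero]
  intro x hx
  obtain ⟨y, rfl⟩ := (Algebra.H1Cotangent.exact_δ_mapBaseChange Λ A B x).mp hx
  rw [Subsingleton.elim y 0, map_zero]

theorem exists_leftInverse_of_formallySmooth [Algebra.FormallySmooth A B] :
    ∃ ℓ : Ω[B⁄Λ] →ₗ[B] B ⊗[A] Ω[A⁄Λ], ℓ ∘ₗ mapBaseChange Λ A B = LinearMap.id := by
  obtain ⟨s, hs⟩ := exists_section_of_projective (A := Λ) (B := A) (C := B)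
  have hinj := mapBaseChange_injective_of_formallySmooth (Λ := Λ) (A := A) (B := B)
  let e := LinearEquiv.ofInjective (mapBaseChange Λ A B) hinj
  refine ⟨e.symm.toLinearMap ∘ₗ piRange s hs, ?_⟩
  apply LinearMap.ext
  intro y
  rw [LinearMap.comp_apply, LinearMap.comp_apply, LinearMap.id_apply, LinearEquiv.coe_coe,
    LinearEquiv.symm_apply_eq]
  have h1 := LinearMap.congr_fun (piRange_comp s hs)
    ⟨mapBaseChange Λ A B y, LinearMap.mem_range_self _ y⟩
  rw [LinearMap.comp_apply, Submodule.subtype_apply, LinearMap.id_apply] at h1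
  rw [h1]
  rfl

theorem baseChange_mapBaseChange_injective [Algebra.FormallySmooth A B]
    (C : Type v) [CommRing C] [Algebra B C] :
    Function.Injective ((mapBaseChange Λ A B).baseChange C) := by
  obtain ⟨ℓ, hℓ⟩ := exists_leftInverse_of_formallySmooth (Λ := Λ) (A := A) (B := B)
  have h : (ℓ.baseChange C) ∘ₗ ((mapBaseChange Λ A B).baseChange C) = LinearMap.id := by
    rw [← LinearMap.baseChange_comp, hℓ, LinearMap.baseChange_id]
  intro x y hxy
  have := congrArg (ℓ.baseChange C) hxy
  rw [← LinearMap.comp_apply, ← LinearMap.comp_apply, h] at this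
  exact this

end splitInj

section s5834
variable {Λ : Type u} {A B : Type v} [CommRing Λ] [CommRing A] [CommRing B] [Algebra Λ A]
  [Algebra Λ B] [Algebra A B] [IsScalarTower Λ A B]

theorem main5834 [Algebra.FormallySmooth A B] (K : Ideal B)
    (htriv : ((Exal.Ext.infinitesimal K).restrictBase A).IsTrivialOver Λ)
    (χ : ↥(EGA41.imperfection Λ A (B ⧸ K)) →ₗ[B ⧸ K] K.Cotangent)
    (hχ : ((Exal.Ext.infinitesimal K).restrictBase A).IsCharHom Λ χ) :
    Function.Injective χ := by
  rw [injective_iff_map_eq_zero]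
  intro z hz
  have h1 := ((main5833 K htriv χ hχ).1 z).1 hz
  have h2 := baseChange_mapBaseChange_injective (Λ := Λ) (A := A) (B := B) (B ⧸ K)
    (h1.trans (map_zero _).symm)
  have h3 : (z : (B ⧸ K) ⊗[A] Ω[A⁄Λ]) = 0 := by
    rw [← (TensorProduct.AlgebraTensorModule.cancelBaseChange A B (B ⧸ K) (B ⧸ K) Ω[A⁄Λ]).symm.map_eq_zero_iff]
    exact h2
  exact Subtype.ext h3

end s5834

end Groth.Agent.Helper9.CharLib
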