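import Mathlib
import Groth.Prelude.Def_CotT2
import Groth.Agent.Lib.Helper9.CotHom3

set_option autoImplicit false
universe u

namespace Groth.Agent.Helper9.CotHom

open CotT TensorProduct

section NoRel

variable {A B : Type u} [CommRing A] [CommRing B] [Algebra A B] {κ : Type u}

/-- a polynomial algebra presented with no relations -/
noncomputable def polyPres (e : MvPolynomial κ A ≃ₐ[A] B) :
    Algebra.Presentation A B κ PEmpty.{u + 1} where
  toGenerators := Algebra.Generators.ofAlgHom e.toAlgHom e.surjective
  relation := PEmpty.elim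
  span_range_relation_eq_ker := by
    rw [Set.range_eq_empty, Ideal.span_empty]
    symm
    rw [eq_bot_iff]
    intro x hx
    rw [Algebra.Generators.ker_eq_ker_aeval_val] at hx
    have h2 : (MvPolynomial.aeval (Algebra.Generators.ofAlgHom e.toAlgHom e.surjective).val :
        MvPolynomial κ A →ₐ[A] B) = e.toAlgHom := by
      apply MvPolynomial.algHom_ext
      intro i
      rw [MvPolynomial.aeval_X]
      rfl
    have h3 : e.toAlgHom x = 0 := by
      rw [← h2]; exact hx
    exact e.injective (h3.trans (map_zero e).symm)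

end NoRel

end Groth.Agent.Helper9.CotHom

namespace Groth.Agent.Helper9.CotHom

open CotT TensorProduct

section NoRel2

universe v w t m

variable {A : Type u} {B : Type v} {ι : Type w} {σ : Type t}
variable [CommRing A] [CommRing B] [Algebra A B]
variable (P : Algebra.Presentation A B ι σ) [IsEmpty σ]
variable (M : Type m) [AddCommGroup M] [Module B M]

lemma relMod_eq_zero (f : relMod P) : f = 0 := Subsingleton.elim _ _

lemma L1_eq_zero (y : L1 P) : y = 0 := by
  obtain ⟨f, rfl⟩ := Groth.Agent.Helper9.CotLib.L1_exists_one_tmul P y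
  rw [relMod_eq_zero P f, tmul_zero]

lemma L2_eq_zero (z : L2 P) : z = 0 := by
  induction z using Submodule.Quotient.induction_on with
  | H z =>
    induction z using TensorProduct.induction_on with
    | zero => rfl
    | add x y hx hy => rw [Submodule.Quotient.mk_add, hx, hy, add_zero]
    | tmul b q =>
      have : q = 0 := Subtype.ext (relMod_eq_zero P _)
      rw [this, tmul_zero]
      rfl

instance subsingleton_T1_of_isEmpty : Subsingleton (T1 P M) := by
  refine ⟨fun x y => ?_⟩
  obtain ⟨c, rfl⟩ := (coboundaries1 P M).mkQ_surjective x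
  obtain ⟨c', rfl⟩ := (coboundaries1 P M).mkQ_surjective y
  congr 1
  apply Subtype.ext
  refine LinearMap.ext fun l => ?_
  rw [L1_eq_zero P l, map_zero, map_zero]

instance subsingleton_T2_of_isEmpty : Subsingleton (T2 P M) := by
  refine ⟨fun x y => ?_⟩
  obtain ⟨c, rfl⟩ := (LinearMap.range (d2Star P M)).mkQ_surjective x
  obtain ⟨c', rfl⟩ := (LinearMap.range (d2Star P M)).mkQ_surjective y
  congr 1
  refine LinearMap.ext fun l => ?_
  rw [L2_eq_zero P l, map_zero, map_zero]

end NoRel2

theorem main12287 (A B : Type u) [CommRing A] [CommRing B] [Algebra A B] (κ : Type u)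
    (e : MvPolynomial κ A ≃ₐ[A] B) (M : Type u) [AddCommGroup M] [Module B M] :
    Subsingleton (CotT.T1 (CotT.canon A B) M) ∧ Subsingleton (CotT.T2 (CotT.canon A B) M) := by
  obtain ⟨e1⟩ := nonempty_T1equiv (canon A B) (polyPres e) M
  obtain ⟨e2⟩ := nonempty_T2equiv (canon A B) (polyPres e) M
  exact ⟨e1.toEquiv.subsingleton, e2.toEquiv.subsingleton⟩

end Groth.Agent.Helper9.CotHom
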