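import Groth.Prelude.Def_CotT2
import Mathlib
import Groth.Agent.Lib.Helper9.CotLib1

set_option autoImplicit false
set_option linter.unusedSectionVars false
universe u v w t m l

namespace Groth.Agent.Helper9.CotLib

open CotT TensorProduct Function

section Hom

variable {B : Type v} [CommRing B] {L : Type l} [AddCommGroup L] [Module B L]
  {M' M M'' : Type m} [AddCommGroup M'] [Module B M'] [AddCommGroup M] [Module B M]
  [AddCommGroup M''] [Module B M'']
  (f : M' →ₗ[B] M) (g : M →ₗ[B] M'')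

lemma comp_left_injective (hf : Injective f) {φ ψ : L →ₗ[B] M'} (h : f ∘ₗ φ = f ∘ₗ ψ) : φ = ψ := by
  ext x
  exact hf (LinearMap.congr_fun h x)

/-- left exactness of `Hom(L, -)` -/
lemma exists_factor (hf : Injective f) (hfg : Exact f g) (φ : L →ₗ[B] M) (h : g ∘ₗ φ = 0) :
    ∃ φ' : L →ₗ[B] M', f ∘ₗ φ' = φ := by
  have hr : ∀ x, φ x ∈ LinearMap.range f := by
    intro x
    rw [← (LinearMap.exact_iff.1 hfg)]
    exact LinearMap.congr_fun h x
  let e := LinearEquiv.ofInjective f hf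
  refine ⟨e.symm.toLinearMap ∘ₗ φ.codRestrict (LinearMap.range f) hr, ?_⟩
  ext x
  change f (e.symm ⟨φ x, hr x⟩) = φ x
  have := e.apply_symm_apply ⟨φ x, hr x⟩
  exact congrArg Subtype.val this

lemma exists_lift [Module.Projective B L] (hg : Surjective g) (φ'' : L →ₗ[B] M'') :
    ∃ φ : L →ₗ[B] M, g ∘ₗ φ = φ'' :=
  Module.projective_lifting_property g φ'' hg

end Hom


section Coker

variable {B : Type v} [CommRing B] {X : Type l} {Y : Type l} [AddCommMonoid X] [Module B X]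
  [AddCommMonoid Y] [Module B Y] (d : X →ₗ[B] Y) [Module.Projective B Y]
  {M' M M'' : Type m} [AddCommGroup M'] [Module B M'] [AddCommGroup M] [Module B M]
  [AddCommGroup M''] [Module B M'']

/-- functoriality of the cokernel of `d^*` -/
def cokerMap {M N : Type m} [AddCommGroup M] [Module B M] [AddCommGroup N] [Module B N]
    (g : M →ₗ[B] N) :
    ((X →ₗ[B] M) ⧸ LinearMap.range (LinearMap.lcomp B M d)) →ₗ[B]
      ((X →ₗ[B] N) ⧸ LinearMap.range (LinearMap.lcomp B N d)) :=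
  Submodule.mapQ _ _ (LinearMap.llcomp B X M N g) (by
    rintro _ ⟨ψ, rfl⟩
    exact ⟨g ∘ₗ ψ, by rw [LinearMap.lcomp_apply', LinearMap.comp_assoc]; rfl⟩)

lemma cokerMap_mk {M N : Type m} [AddCommGroup M] [Module B M] [AddCommGroup N] [Module B N]
    (g : M →ₗ[B] N) (e : X →ₗ[B] M) :
    cokerMap d g (Submodule.Quotient.mk e) = Submodule.Quotient.mk (g ∘ₗ e) := rfl

lemma exact_cokerMap (f : M' →ₗ[B] M) (g : M →ₗ[B] M'') (hf : Injective f) (hg : Surjective g)
    (hfg : Exact f g) : Exact (cokerMap d f) (cokerMap d g) := by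
  intro x
  constructor
  · intro h
    obtain ⟨e, rfl⟩ := Submodule.Quotient.mk_surjective _ x
    rw [cokerMap_mk, Submodule.Quotient.mk_eq_zero] at h
    obtain ⟨c'', hc''⟩ := h
    obtain ⟨c, rfl⟩ := Module.projective_lifting_property g c'' hg
    have h0 : g ∘ₗ (e - c ∘ₗ d) = 0 := by
      rw [LinearMap.comp_sub, sub_eq_zero, ← LinearMap.comp_assoc]
      exact hc''.symm
    have hr : ∀ x, (e - c ∘ₗ d) x ∈ LinearMap.range f := by
      intro x
      rw [← (LinearMap.exact_iff.1 hfg)]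
      exact LinearMap.congr_fun h0 x
    let ef := LinearEquiv.ofInjective f hf
    let e' : X →ₗ[B] M' := ef.symm.toLinearMap ∘ₗ (e - c ∘ₗ d).codRestrict (LinearMap.range f) hr
    have he' : f ∘ₗ e' = e - c ∘ₗ d := by
      ext x
      change f (ef.symm ⟨(e - c ∘ₗ d) x, hr x⟩) = (e - c ∘ₗ d) x
      have := ef.apply_symm_apply ⟨(e - c ∘ₗ d) x, hr x⟩
      exact congrArg Subtype.val this
    refine ⟨Submodule.Quotient.mk e', ?_⟩
    rw [cokerMap_mk, he', Submodule.Quotient.eq]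
    refine ⟨-c, ?_⟩
    rw [LinearMap.lcomp_apply', LinearMap.neg_comp]; abel
  · rintro ⟨y, rfl⟩
    obtain ⟨e', rfl⟩ := Submodule.Quotient.mk_surjective _ y
    rw [cokerMap_mk, cokerMap_mk, ← LinearMap.comp_assoc, hfg.linearMap_comp_eq_zero,
      LinearMap.zero_comp, Submodule.Quotient.mk_zero]

end Coker

variable {A : Type u} {B : Type v} {ι : Type w} {σ : Type t}
variable [CommRing A] [CommRing B] [Algebra A B]
variable (P : Algebra.Presentation A B ι σ)

instance : Module.Projective B (L0 P) := Module.Projective.of_basis P.cotangentSpaceBasis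

instance : Module.Projective B (L1 P) := Module.Projective.of_basis (L1basis P)

section Maps

variable {M : Type m} [AddCommGroup M] [Module B M] {N : Type m} [AddCommGroup N] [Module B N]

/-- postcomposition on `Hom(L₀, -)` -/
noncomputable abbrev C0map (g : M →ₗ[B] N) : (L0 P →ₗ[B] M) →ₗ[B] (L0 P →ₗ[B] N) := LinearMap.llcomp B (L0 P) M N g

/-- postcomposition on `Hom(L₁, -)` -/
noncomputable abbrev C1map (g : M →ₗ[B] N) : (L1 P →ₗ[B] M) →ₗ[B] (L1 P →ₗ[B] N) := LinearMap.llcomp B (L1 P) M N g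

/-- postcomposition on `Hom(L₂, -)` -/
noncomputable abbrev C2map (g : M →ₗ[B] N) : (L2 P →ₗ[B] M) →ₗ[B] (L2 P →ₗ[B] N) := LinearMap.llcomp B (L2 P) M N g

lemma C0map_apply (g : M →ₗ[B] N) (φ : L0 P →ₗ[B] M) : C0map P g φ = g ∘ₗ φ := rfl
lemma C1map_apply (g : M →ₗ[B] N) (φ : L1 P →ₗ[B] M) : C1map P g φ = g ∘ₗ φ := rfl
lemma C2map_apply (g : M →ₗ[B] N) (φ : L2 P →ₗ[B] M) : C2map P g φ = g ∘ₗ φ := rfl

variable (M) in
/-- `d₁^*` with values in cocycles -/
noncomputable def dZ : (L0 P →ₗ[B] M) →ₗ[B] cocycles1 P M :=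
  (d1Star P M).codRestrict (cocycles1 P M) (fun φ => by
    rw [LinearMap.mem_ker]
    exact LinearMap.congr_fun (d2Star_comp_d1Star P M) φ)

lemma dZ_coe (φ : L0 P →ₗ[B] M) : (dZ P M φ : L1 P →ₗ[B] M) = φ ∘ₗ d1 P := rfl

lemma range_dZ : LinearMap.range (dZ P M) = coboundaries1 P M := by
  ext c
  constructor
  · rintro ⟨φ, rfl⟩
    exact ⟨φ, rfl⟩
  · rintro ⟨φ, hφ⟩
    exact ⟨φ, Subtype.ext hφ⟩

lemma exact_dZ_mkQ : Exact (dZ P M) (coboundaries1 P M).mkQ := by
  rw [LinearMap.exact_iff, Submodule.ker_mkQ, range_dZ]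

lemma exact_T0_dZ : Exact (LinearMap.ker (d1Star P M)).subtype (dZ P M) := by
  rw [LinearMap.exact_iff, Submodule.range_subtype]
  ext φ
  rw [LinearMap.mem_ker, LinearMap.mem_ker]
  constructor
  · intro h
    exact congrArg Subtype.val h
  · intro h
    exact Subtype.ext h

lemma cocycles1Map_coe (g : M →ₗ[B] N) (c : cocycles1 P M) :
    (cocycles1Map P g c : L1 P →ₗ[B] N) = g ∘ₗ (c : L1 P →ₗ[B] M) := rfl

lemma dZ_C0map (g : M →ₗ[B] N) : (cocycles1Map P g).comp (dZ P M) = (dZ P N).comp (C0map P g) := by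
  ext φ : 2
  rfl

lemma T1map_mk (g : M →ₗ[B] N) (c : cocycles1 P M) :
    T1map P g (Submodule.Quotient.mk c) = Submodule.Quotient.mk (cocycles1Map P g c) := rfl

lemma T2map_mk (g : M →ₗ[B] N) (e : L2 P →ₗ[B] M) :
    T2map P g (Submodule.Quotient.mk e) = Submodule.Quotient.mk (g ∘ₗ e) := rfl

end Maps

section Q1

variable (M : Type m) [AddCommGroup M] [Module B M]

/-- `Hom(L₁, M)` modulo coboundaries -/
abbrev Q1 : Type _ := (L1 P →ₗ[B] M) ⧸ LinearMap.range (d1Star P M)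

/-- `d₂^*` on the quotient -/
noncomputable def dQ : Q1 P M →ₗ[B] (L2 P →ₗ[B] M) :=
  Submodule.liftQ _ (d2Star P M) (by
    rw [LinearMap.range_le_ker_iff]
    exact d2Star_comp_d1Star P M)

lemma dQ_mk (c : L1 P →ₗ[B] M) : dQ P M (Submodule.Quotient.mk c) = c ∘ₗ d2 P := rfl

/-- the inclusion `T¹ → Q1` -/
noncomputable def iQ : T1 P M →ₗ[B] Q1 P M :=
  Submodule.mapQ (coboundaries1 P M) (LinearMap.range (d1Star P M)) (cocycles1 P M).subtype le_rfl

lemma iQ_mk (c : cocycles1 P M) :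
    iQ P M (Submodule.Quotient.mk c) = Submodule.Quotient.mk (c : L1 P →ₗ[B] M) := rfl

lemma iQ_injective : Injective (iQ P M) := by
  rw [← LinearMap.ker_eq_bot, LinearMap.ker_eq_bot']
  intro x hx
  obtain ⟨c, rfl⟩ := Submodule.Quotient.mk_surjective _ x
  rw [iQ_mk, Submodule.Quotient.mk_eq_zero] at hx
  rw [Submodule.Quotient.mk_eq_zero]
  exact hx

lemma exact_iQ_dQ : Exact (iQ P M) (dQ P M) := by
  intro x
  constructor
  · intro hx
    obtain ⟨c, rfl⟩ := Submodule.Quotient.mk_surjective _ x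
    rw [dQ_mk] at hx
    exact ⟨Submodule.Quotient.mk ⟨c, hx⟩, rfl⟩
  · rintro ⟨y, rfl⟩
    obtain ⟨c, rfl⟩ := Submodule.Quotient.mk_surjective _ y
    rw [iQ_mk, dQ_mk]
    exact c.2

lemma exact_dQ_mkQ : Exact (dQ P M) (LinearMap.range (d2Star P M)).mkQ := by
  rw [LinearMap.exact_iff, Submodule.ker_mkQ]
  ext e
  constructor
  · rintro ⟨c, rfl⟩
    exact ⟨Submodule.Quotient.mk c, rfl⟩
  · rintro ⟨x, rfl⟩
    obtain ⟨c, rfl⟩ := Submodule.Quotient.mk_surjective _ x
    exact ⟨c, rfl⟩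

end Q1

section Q1map

variable {M : Type m} [AddCommGroup M] [Module B M] {N : Type m} [AddCommGroup N] [Module B N]

/-- functoriality of `Q1` -/
noncomputable def Q1map (g : M →ₗ[B] N) : Q1 P M →ₗ[B] Q1 P N :=
  Submodule.mapQ _ _ (C1map P g) (by
    rintro _ ⟨ψ, rfl⟩
    exact ⟨g ∘ₗ ψ, rfl⟩)

lemma Q1map_mk (g : M →ₗ[B] N) (c : L1 P →ₗ[B] M) :
    Q1map P g (Submodule.Quotient.mk c) = Submodule.Quotient.mk (g ∘ₗ c) := rfl

lemma dQ_Q1map (g : M →ₗ[B] N) : (C2map P g).comp (dQ P M) = (dQ P N).comp (Q1map P g) := by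
  apply Submodule.linearMap_qext
  ext c : 1
  rfl

lemma Q1map_iQ (g : M →ₗ[B] N) : (Q1map P g).comp (iQ P M) = (iQ P N).comp (T1map P g) := by
  apply Submodule.linearMap_qext
  ext c : 1
  rfl

end Q1map

section Main

variable {M' M M'' : Type m} [AddCommGroup M'] [Module B M'] [AddCommGroup M] [Module B M]
  [AddCommGroup M''] [Module B M'']
  (f : M' →ₗ[B] M) (g : M →ₗ[B] M'') (hf : Injective f) (hg : Surjective g) (hfg : Exact f g)

include hf in
lemma T0map_injective : Injective (T0map P f) := by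
  intro φ ψ h
  apply Subtype.ext
  have h' : f ∘ₗ (φ : L0 P →ₗ[B] M') = f ∘ₗ (ψ : L0 P →ₗ[B] M') := congrArg Subtype.val h
  exact comp_left_injective f hf h'

include hf hfg in
lemma exact_C0 : Exact (C0map P f) (C0map P g) := by
  intro φ
  constructor
  · intro h
    obtain ⟨φ', hφ'⟩ := exists_factor f g hf hfg φ h
    exact ⟨φ', hφ'⟩
  · rintro ⟨φ', rfl⟩
    rw [C0map_apply, C0map_apply, ← LinearMap.comp_assoc, hfg.linearMap_comp_eq_zero,
      LinearMap.zero_comp]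

include hf hfg in
lemma exact_C2 : Exact (C2map P f) (C2map P g) := by
  intro φ
  constructor
  · intro h
    obtain ⟨φ', hφ'⟩ := exists_factor f g hf hfg φ h
    exact ⟨φ', hφ'⟩
  · rintro ⟨φ', rfl⟩
    rw [C2map_apply, C2map_apply, ← LinearMap.comp_assoc, hfg.linearMap_comp_eq_zero,
      LinearMap.zero_comp]

include hg in
lemma C0map_surjective : Surjective (C0map P g) := fun φ'' => exists_lift g hg φ''

include hg in
lemma C1map_surjective : Surjective (C1map P g) := fun φ'' => exists_lift g hg φ''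

include hf in
lemma C2map_injective : Injective (C2map P f) := fun _ _ h => comp_left_injective f hf h

include hf in
lemma cocycles1Map_injective : Injective (cocycles1Map P f) := by
  intro φ ψ h
  apply Subtype.ext
  have h' : f ∘ₗ (φ : L1 P →ₗ[B] M') = f ∘ₗ (ψ : L1 P →ₗ[B] M') := congrArg Subtype.val h
  exact comp_left_injective f hf h'

include hf hfg in
lemma exact_Z1 : Exact (cocycles1Map P f) (cocycles1Map P g) := by
  intro c
  constructor
  · intro h
    have h0 : g ∘ₗ (c : L1 P →ₗ[B] M) = 0 := congrArg Subtype.val h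
    obtain ⟨c', hc'⟩ := exists_factor f g hf hfg (c : L1 P →ₗ[B] M) h0
    have hcoc : c' ∈ cocycles1 P M' := by
      rw [LinearMap.mem_ker, d2Star_apply]
      apply comp_left_injective f hf
      rw [← LinearMap.comp_assoc, hc', LinearMap.comp_zero]
      exact c.2
    exact ⟨⟨c', hcoc⟩, Subtype.ext hc'⟩
  · rintro ⟨c', rfl⟩
    apply Subtype.ext
    change g ∘ₗ (f ∘ₗ (c' : L1 P →ₗ[B] M')) = 0
    rw [← LinearMap.comp_assoc, hfg.linearMap_comp_eq_zero, LinearMap.zero_comp]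

include hf hfg in
lemma exact_T0 : Exact (T0map P f) (T0map P g) := by
  intro φ
  constructor
  · intro h
    have h0 : g ∘ₗ (φ : L0 P →ₗ[B] M) = 0 := congrArg Subtype.val h
    obtain ⟨φ', hφ'⟩ := exists_factor f g hf hfg (φ : L0 P →ₗ[B] M) h0
    have hmem : φ' ∈ LinearMap.ker (d1Star P M') := by
      rw [LinearMap.mem_ker, d1Star_apply]
      apply comp_left_injective f hf
      rw [← LinearMap.comp_assoc, hφ', LinearMap.comp_zero]
      exact φ.2
    exact ⟨⟨φ', hmem⟩, Subtype.ext hφ'⟩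
  · rintro ⟨φ', rfl⟩
    apply Subtype.ext
    change g ∘ₗ (f ∘ₗ (φ' : L0 P →ₗ[B] M')) = 0
    rw [← LinearMap.comp_assoc, hfg.linearMap_comp_eq_zero, LinearMap.zero_comp]

include hf hg hfg in
lemma exact_T1 : Exact (T1map P f) (T1map P g) := by
  intro x
  constructor
  · intro h
    obtain ⟨c, rfl⟩ := Submodule.Quotient.mk_surjective _ x
    rw [T1map_mk, Submodule.Quotient.mk_eq_zero] at h
    obtain ⟨ψ'', hψ''⟩ := h
    obtain ⟨ψ, rfl⟩ := exists_lift (L := L0 P) g hg ψ''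
    -- `c - ψ ∘ d₁`
    have hcoc : (c : L1 P →ₗ[B] M) - ψ ∘ₗ d1 P ∈ cocycles1 P M := by
      refine Submodule.sub_mem _ c.2 (dZ P M ψ).2
    have h0 : g ∘ₗ ((c : L1 P →ₗ[B] M) - ψ ∘ₗ d1 P) = 0 := by
      rw [LinearMap.comp_sub, sub_eq_zero, ← LinearMap.comp_assoc]
      exact hψ''.symm
    obtain ⟨⟨c', hc'⟩, hcc⟩ := (exact_Z1 P f g hf hfg ⟨_, hcoc⟩).1 (Subtype.ext h0)
    refine ⟨Submodule.Quotient.mk ⟨c', hc'⟩, ?_⟩
    rw [T1map_mk, hcc, Submodule.Quotient.eq]
    refine ⟨-ψ, ?_⟩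
    change (-ψ) ∘ₗ d1 P = ((c : L1 P →ₗ[B] M) - ψ ∘ₗ d1 P) - (c : L1 P →ₗ[B] M)
    rw [LinearMap.neg_comp]; abel
  · rintro ⟨y, rfl⟩
    obtain ⟨c', rfl⟩ := Submodule.Quotient.mk_surjective _ y
    rw [T1map_mk, T1map_mk]
    have := (exact_Z1 P f g hf hfg (cocycles1Map P f c')).2 ⟨c', rfl⟩
    rw [this, Submodule.Quotient.mk_zero]

include hf hg hfg in
lemma exact_T2 : Exact (T2map P f) (T2map P g) :=
  exact_cokerMap (d2 P) f g hf hg hfg

include hf hg hfg in
lemma exact_Q1 : Exact (Q1map P f) (Q1map P g) := by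
  intro x
  constructor
  · intro h
    obtain ⟨c, rfl⟩ := Submodule.Quotient.mk_surjective _ x
    rw [Q1map_mk, Submodule.Quotient.mk_eq_zero] at h
    obtain ⟨ψ'', hψ''⟩ := h
    obtain ⟨ψ, rfl⟩ := exists_lift (L := L0 P) g hg ψ''
    have h0 : g ∘ₗ (c - ψ ∘ₗ d1 P) = 0 := by
      rw [LinearMap.comp_sub, sub_eq_zero, ← LinearMap.comp_assoc]
      exact hψ''.symm
    obtain ⟨c', hc'⟩ := exists_factor f g hf hfg _ h0
    refine ⟨Submodule.Quotient.mk c', ?_⟩
    rw [Q1map_mk, hc', Submodule.Quotient.eq]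
    refine ⟨-ψ, ?_⟩
    rw [d1Star_apply, LinearMap.neg_comp]; abel
  · rintro ⟨y, rfl⟩
    obtain ⟨c', rfl⟩ := Submodule.Quotient.mk_surjective _ y
    rw [Q1map_mk, Q1map_mk, ← LinearMap.comp_assoc, hfg.linearMap_comp_eq_zero,
      LinearMap.zero_comp, Submodule.Quotient.mk_zero]

include hg in
lemma Q1map_surjective : Surjective (Q1map P g) := by
  intro x
  obtain ⟨c'', rfl⟩ := Submodule.Quotient.mk_surjective _ x
  obtain ⟨c, rfl⟩ := exists_lift (L := L1 P) g hg c''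
  exact ⟨Submodule.Quotient.mk c, rfl⟩

/-- the first connecting map -/
noncomputable def delta0 : T0 P M'' →ₗ[B] T1 P M' :=
  SnakeLemma.δ' (dZ P M') (dZ P M) (dZ P M'') (C0map P f) (C0map P g) (exact_C0 P f g hf hfg)
    (cocycles1Map P f) (cocycles1Map P g) (exact_Z1 P f g hf hfg) (dZ_C0map P f) (dZ_C0map P g)
    (LinearMap.ker (d1Star P M'')).subtype (exact_T0_dZ P) (coboundaries1 P M').mkQ (exact_dZ_mkQ P)
    (C0map_surjective P g hg) (cocycles1Map_injective P f hf)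

lemma exact_T0map_delta0 : Exact (T0map P g) (delta0 P f g hf hg hfg) :=
  SnakeLemma.exact_δ'_right (dZ P M') (dZ P M) (dZ P M'') (C0map P f) (C0map P g)
    (exact_C0 P f g hf hfg)
    (cocycles1Map P f) (cocycles1Map P g) (exact_Z1 P f g hf hfg) (dZ_C0map P f) (dZ_C0map P g)
    (LinearMap.ker (d1Star P M)).subtype (exact_T0_dZ P)
    (LinearMap.ker (d1Star P M'')).subtype (exact_T0_dZ P) (coboundaries1 P M').mkQ (exact_dZ_mkQ P)
    (C0map_surjective P g hg) (cocycles1Map_injective P f hf) (T0map P g) (by ext φ : 1; rfl)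
    (Submodule.injective_subtype _)

lemma exact_delta0_T1map : Exact (delta0 P f g hf hg hfg) (T1map P f) :=
  SnakeLemma.exact_δ'_left (dZ P M') (dZ P M) (dZ P M'') (C0map P f) (C0map P g)
    (exact_C0 P f g hf hfg)
    (cocycles1Map P f) (cocycles1Map P g) (exact_Z1 P f g hf hfg) (dZ_C0map P f) (dZ_C0map P g)
    (LinearMap.ker (d1Star P M'')).subtype (exact_T0_dZ P) (coboundaries1 P M').mkQ (exact_dZ_mkQ P)
    (coboundaries1 P M).mkQ (exact_dZ_mkQ P)
    (C0map_surjective P g hg) (cocycles1Map_injective P f hf) (T1map P f) (by ext c : 1; rfl)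
    (Submodule.mkQ_surjective _)

/-- the second connecting map -/
noncomputable def delta1 : T1 P M'' →ₗ[B] T2 P M' :=
  SnakeLemma.δ' (dQ P M') (dQ P M) (dQ P M'') (Q1map P f) (Q1map P g) (exact_Q1 P f g hf hg hfg)
    (C2map P f) (C2map P g) (exact_C2 P f g hf hfg) (dQ_Q1map P f) (dQ_Q1map P g)
    (iQ P M'') (exact_iQ_dQ P M'') (LinearMap.range (d2Star P M')).mkQ (exact_dQ_mkQ P M')
    (Q1map_surjective P g hg) (C2map_injective P f hf)

lemma exact_T1map_delta1 : Exact (T1map P g) (delta1 P f g hf hg hfg) :=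
  SnakeLemma.exact_δ'_right (dQ P M') (dQ P M) (dQ P M'') (Q1map P f) (Q1map P g)
    (exact_Q1 P f g hf hg hfg)
    (C2map P f) (C2map P g) (exact_C2 P f g hf hfg) (dQ_Q1map P f) (dQ_Q1map P g)
    (iQ P M) (exact_iQ_dQ P M)
    (iQ P M'') (exact_iQ_dQ P M'') (LinearMap.range (d2Star P M')).mkQ (exact_dQ_mkQ P M')
    (Q1map_surjective P g hg) (C2map_injective P f hf) (T1map P g) (Q1map_iQ P g)
    (iQ_injective P M'')

lemma exact_delta1_T2map : Exact (delta1 P f g hf hg hfg) (T2map P f) :=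
  SnakeLemma.exact_δ'_left (dQ P M') (dQ P M) (dQ P M'') (Q1map P f) (Q1map P g)
    (exact_Q1 P f g hf hg hfg)
    (C2map P f) (C2map P g) (exact_C2 P f g hf hfg) (dQ_Q1map P f) (dQ_Q1map P g)
    (iQ P M'') (exact_iQ_dQ P M'') (LinearMap.range (d2Star P M')).mkQ (exact_dQ_mkQ P M')
    (LinearMap.range (d2Star P M)).mkQ (exact_dQ_mkQ P M)
    (Q1map_surjective P g hg) (C2map_injective P f hf) (T2map P f) (by ext e : 1; rfl)
    (Submodule.mkQ_surjective _)

include hf hg hfg in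
theorem main12284 :
    Injective (T0map P f) ∧ Exact (T0map P f) (T0map P g) ∧
      Exact (T1map P f) (T1map P g) ∧ Exact (T2map P f) (T2map P g) ∧
      ∃ (δ₀ : T0 P M'' →ₗ[B] T1 P M') (δ₁ : T1 P M'' →ₗ[B] T2 P M'),
        Exact (T0map P g) δ₀ ∧ Exact δ₀ (T1map P f) ∧
        Exact (T1map P g) δ₁ ∧ Exact δ₁ (T2map P f) :=
  ⟨T0map_injective P f hf, exact_T0 P f g hf hfg, exact_T1 P f g hf hg hfg,
    exact_T2 P f g hf hg hfg, delta0 P f g hf hg hfg, delta1 P f g hf hg hfg,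
    exact_T0map_delta0 P f g hf hg hfg, exact_delta0_T1map P f g hf hg hfg,
    exact_T1map_delta1 P f g hf hg hfg, exact_delta1_T2map P f g hf hg hfg⟩

end Main

end Groth.Agent.Helper9.CotLib
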