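import Mathlib

/-!
# Resolutions built from a functorial-free "cover" (helper9)

Given, in an abelian category, for every object `K` an object `obj K` with an epimorphism
`π K : obj K ⟶ K`, we build the chain complex
`… → obj (ker d₁) → obj (ker (π Z)) → obj Z` with augmentation to `Z`, show the augmentation is a
quasi-isomorphism, and give an induction principle for properties of its terms.
(Generalises `Groth.Agent.Helper1.FinFreeRes`.)
-/

set_option autoImplicit false
universe v u

open CategoryTheory CategoryTheory.Limits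

namespace Groth.Agent.Helper9.CoverRes

variable {C : Type u} [Category.{v} C] [Abelian C]

/-- a choice of an epimorphism onto every object -/
structure Cover (C : Type u) [Category.{v} C] where
  obj : C → C
  π : ∀ K, obj K ⟶ K
  epi : ∀ K, Epi (π K)

variable (cov : Cover C)

instance (K : C) : Epi (cov.π K) := cov.epi K

/-- The inductive step. -/
noncomputable def succ' {X₀ X₁ : C} (f : X₁ ⟶ X₀) :
    Σ' (X₂ : C) (d : X₂ ⟶ X₁), d ≫ f = 0 :=
  ⟨cov.obj (kernel f), cov.π (kernel f) ≫ kernel.ι f, by simp⟩

set_option backward.isDefEq.respectTransparency false in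
theorem exact_succ {X Y : C} (f : X ⟶ Y) :
    (ShortComplex.mk (succ' cov f).2.1 f (succ' cov f).2.2).Exact := by
  let α : ShortComplex.mk (succ' cov f).2.1 f (succ' cov f).2.2 ⟶
      ShortComplex.mk (kernel.ι f) f (by simp) :=
    { τ₁ := cov.π (kernel f)
      τ₂ := 𝟙 _
      τ₃ := 𝟙 _
      comm₁₂ := by simp [succ'] }
  haveI : Epi α.τ₁ := cov.epi _
  rw [ShortComplex.exact_iff_of_epi_of_isIso_of_mono α]
  apply ShortComplex.exact_of_f_is_kernel
  apply kernelIsKernel

variable (Z : C)

set_option backward.isDefEq.respectTransparency.types false in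
/-- The complex. -/
noncomputable def cx : ChainComplex C ℕ :=
  ChainComplex.mk' (cov.obj Z) (succ' cov (cov.π Z)).1 (succ' cov (cov.π Z)).2.1
    (fun f => succ' cov f)

lemma cx_d_1_0 : (cx cov Z).d 1 0 = (succ' cov (cov.π Z)).2.1 := by
  simp [cx]

set_option backward.isDefEq.respectTransparency.types false in
lemma cx_exactAt_succ (n : ℕ) : (cx cov Z).ExactAt (n + 1) := by
  rw [HomologicalComplex.exactAt_iff' _ (n + 1 + 1) (n + 1) n (by simp) (by simp)]
  simp only [HomologicalComplex.sc', HomologicalComplex.shortComplexFunctor', cx,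
    ChainComplex.mk', ChainComplex.mk, ChainComplex.of_d]
  match n with
  | 0 => apply exact_succ
  | n + 1 => apply exact_succ

/-- the augmentation -/
noncomputable def aug : cx cov Z ⟶ (ChainComplex.single₀ C).obj Z :=
  (ChainComplex.toSingle₀Equiv _ _).symm ⟨cov.π Z, by
    rw [cx_d_1_0]; exact (succ' cov (cov.π Z)).2.2⟩

set_option backward.defeqAttrib.useBackward true in
set_option backward.isDefEq.respectTransparency false in
theorem quasiIso_aug : QuasiIso (aug cov Z) := ⟨fun n => by
    cases n
    · rw [ChainComplex.quasiIsoAt₀_iff, ShortComplex.quasiIso_iff_of_zeros']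
      · dsimp
        refine (ShortComplex.exact_and_epi_g_iff_of_iso ?_).2
          ⟨exact_succ cov (cov.π Z), by dsimp; infer_instance⟩
        exact ShortComplex.isoMk (Iso.refl _) (Iso.refl _) (Iso.refl _)
          (by simp [cx]) (by simp [aug])
      all_goals rfl
    · rw [quasiIsoAt_iff_exactAt']
      · apply cx_exactAt_succ
      · apply ChainComplex.exactAt_succ_single_obj⟩

/-- induction principle for the terms of the complex -/
theorem X_induction (T Q : C → Prop) (hT : ∀ X Y : C, (X ≅ Y) → T X → T Y)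
    (hQ : ∀ X Y : C, (X ≅ Y) → Q X → Q Y)
    (hcov : ∀ K, T K → T (cov.obj K) ∧ Q (cov.obj K))
    (hker : ∀ {X Y : C} (f : X ⟶ Y), T X → T (kernel f)) (hZ : T Z) (n : ℕ) :
    T ((cx cov Z).X n) ∧ Q ((cx cov Z).X n) := by
  have h0 : T ((cx cov Z).X 0) ∧ Q ((cx cov Z).X 0) := hcov Z hZ
  have h1 : T ((cx cov Z).X 1) ∧ Q ((cx cov Z).X 1) := hcov _ (hker _ h0.1)
  have hstep : ∀ n, T ((cx cov Z).X (n + 1)) →
      T ((cx cov Z).X (n + 2)) ∧ Q ((cx cov Z).X (n + 2)) := by
    intro n hn
    let e : (cx cov Z).X (n + 2) ≅ (succ' cov ((cx cov Z).d (n + 1) n)).1 :=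
      ChainComplex.mk'XIso (cov.obj Z) (succ' cov (cov.π Z)).1 (succ' cov (cov.π Z)).2.1
        (fun f => succ' cov f) n
    have hcf := hcov _ (hker ((cx cov Z).d (n + 1) n) hn)
    exact ⟨hT _ _ e.symm hcf.1, hQ _ _ e.symm hcf.2⟩
  induction n using Nat.twoStepInduction with
  | zero => exact h0
  | one => exact h1
  | more n _ ih => exact hstep n ih.1

end Groth.Agent.Helper9.CoverRes
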