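import Mathlib.LinearAlgebra.RootSystem.Base
import Mathlib.RingTheory.TensorProduct.Basic

set_option autoImplicit false
universe u
open scoped TensorProduct

namespace Groth.Agent.Helper9.CoxFix

variable {ι M N : Type u} [AddCommGroup M] [AddCommGroup N] (P : RootPairing ι ℤ M N)
variable (k : Type u) [Field k]

/-- base change of a `ℤ`-functional on `N`, landing in `k`. -/
noncomputable def bcF (f : N →ₗ[ℤ] ℤ) : k ⊗[ℤ] N →ₗ[k] k :=
  (TensorProduct.AlgebraTensorModule.rid ℤ k k).toLinearMap ∘ₗ f.baseChange k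

lemma bcF_tmul (f : N →ₗ[ℤ] ℤ) (t : k) (n : N) : bcF k f (t ⊗ₜ n) = f n • t := by
  simp [bcF]

lemma bcF_eq_zero_iff (f : N →ₗ[ℤ] ℤ) (x : k ⊗[ℤ] N) : bcF k f x = 0 ↔ f.baseChange k x = 0 := by
  simp [bcF]

/-- base-changed coroot -/
noncomputable def cc (i : ι) : k ⊗[ℤ] N := (1 : k) ⊗ₜ P.coroot i

/-- base-changed coreflection -/
noncomputable def ss (i : ι) : k ⊗[ℤ] N →ₗ[k] k ⊗[ℤ] N :=
  ((P.coreflection i : N ≃ₗ[ℤ] N) : N →ₗ[ℤ] N).baseChange k

lemma ss_apply (i : ι) (x : k ⊗[ℤ] N) :
    ss P k i x = x - bcF k (P.root' i) x • cc P k i := by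
  induction x using TensorProduct.induction_on with
  | zero => simp
  | tmul t n =>
    simp only [ss, LinearMap.baseChange_tmul, bcF_tmul, cc]
    rw [LinearEquiv.coe_coe, P.coreflection_apply, TensorProduct.tmul_sub, TensorProduct.smul_tmul']
    congr 1
    rw [smul_eq_mul, mul_one, TensorProduct.tmul_smul, TensorProduct.smul_tmul']
  | add x y hx hy =>
    rw [map_add, hx, hy, map_add, add_smul]; abel

lemma prod_baseChange (l : List ι) :
    ((l.map (fun i => ((P.coreflection i : N ≃ₗ[ℤ] N) : N →ₗ[ℤ] N))).prod).baseChange k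
      = (l.map (ss P k)).prod := by
  induction l with
  | nil => simp [LinearMap.baseChange_one]
  | cons i l ih =>
    simp only [List.map_cons, List.prod_cons, LinearMap.baseChange_mul, ih, ss]

lemma functional_prod (F : k ⊗[ℤ] N →ₗ[k] k) (l : List ι) (hF : ∀ j ∈ l, F (cc P k j) = 0)
    (x : k ⊗[ℤ] N) : F ((l.map (ss P k)).prod x) = F x := by
  induction l with
  | nil => simp
  | cons i l ih =>
    simp only [List.map_cons, List.prod_cons, Module.End.mul_apply]
    rw [ss_apply, map_sub, map_smul, hF i (by simp), smul_zero, sub_zero]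
    exact ih (fun j hj => hF j (by simp [hj]))

lemma main (l : List ι) (hl : l.Nodup)
    (hsc : ∀ i ∈ l, ∃ ω : M, P.coroot' i ω = 1 ∧ ∀ j ∈ l, j ≠ i → P.coroot' j ω = 0)
    (H : k ⊗[ℤ] N) (hH : (l.map (ss P k)).prod H = H) :
    ∀ i ∈ l, bcF k (P.root' i) H = 0 := by
  induction l with
  | nil => simp
  | cons i l ih =>
    simp only [List.map_cons, List.prod_cons, Module.End.mul_apply] at hH
    have hnd := List.nodup_cons.mp hl
    obtain ⟨ω, hω1, hω0⟩ := hsc i (by simp)
    set H' := (l.map (ss P k)).prod H with hH'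
    set F : k ⊗[ℤ] N →ₗ[k] k := bcF k (P.toLinearMap ω) with hFdef
    have hFc : ∀ j, F (cc P k j) = ((P.coroot' j ω : ℤ) : k) := by
      intro j
      simp only [hFdef, cc, bcF_tmul]
      simp [RootPairing.coroot']
    have hF0 : ∀ j ∈ l, F (cc P k j) = 0 := by
      intro j hj
      rw [hFc, hω0 j (by simp [hj]) (by rintro rfl; exact hnd.1 hj)]; simp
    have hF1 : F (cc P k i) = 1 := by rw [hFc, hω1]; simp
    have e1 : F H' = F H := functional_prod P k F l hF0 H
    rw [ss_apply] at hH
    have e2 : F H' - bcF k (P.root' i) H' * 1 = F H := by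
      have := congrArg F hH
      rwa [map_sub, map_smul, hF1, smul_eq_mul] at this
    have e3 : bcF k (P.root' i) H' = 0 := by
      rw [e1, mul_one] at e2
      have : F H - bcF k (P.root' i) H' = F H - 0 := by rw [e2, sub_zero]
      exact sub_right_injective this
    rw [e3, zero_smul, sub_zero] at hH
    have ih' := ih hnd.2 (fun j hj => by
      obtain ⟨ω', h1, h0⟩ := hsc j (by simp [hj])
      exact ⟨ω', h1, fun j' hj' hne => h0 j' (by simp [hj']) hne⟩) (hH'.symm.trans hH |>.symm ▸ rfl)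
    intro j hj
    rcases List.mem_cons.mp hj with rfl | hj
    · rw [← hH]; exact e3
    · exact ih' j hj

end Groth.Agent.Helper9.CoxFix
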