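import Mathlib
set_option autoImplicit false
universe u v

namespace Groth.Agent.Helper9.CrimpQuad

section L1
variable {R : Type u} {S : Type v} [CommRing R] [CommRing S] [Algebra R S]

/-- discriminant of a quadratic algebra with basis `1, y`, `y² = β + α y`. -/
theorem discr_quad (b : Module.Basis (Fin 2) R S) (h0 : b 0 = 1) (α β : R)
    (hy : b 1 * b 1 = β • (1 : S) + α • b 1) :
    Algebra.discr R ⇑b = 4 * β + α ^ 2 := by
  have t1 : Algebra.trace R S 1 = 2 := by
    have := Algebra.trace_algebraMap_of_basis b (1 : R)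
    simpa using this
  have ty : Algebra.trace R S (b 1) = α := by
    rw [Algebra.trace_eq_matrix_trace b, Matrix.trace_fin_two]
    rw [Algebra.leftMulMatrix_eq_repr_mul, Algebra.leftMulMatrix_eq_repr_mul]
    rw [h0, mul_one, hy, ← h0]
    simp [Module.Basis.repr_self]
  have tyy : Algebra.trace R S (b 1 * b 1) = 2 * β + α ^ 2 := by
    rw [hy, map_add, map_smul, map_smul, t1, ty]
    simp only [smul_eq_mul]; ring
  rw [Algebra.discr_def, Matrix.det_fin_two]
  simp only [Algebra.traceMatrix_apply, Algebra.traceForm_apply]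
  simp only [h0, mul_one, one_mul, t1, ty, tyy]
  ring

end L1

section L2
variable {R : Type u} {S : Type v} [CommRing R] [CommRing S] [Algebra R S]

/-- a quadratic algebra with basis `1, y`, `y² = γ` is `R[y]/(y² - γ)` -/
theorem nonempty_algEquiv_adjoinRoot [Nontrivial R] (b : Module.Basis (Fin 2) R S) (h0 : b 0 = 1)
    (γ : R) (hy : b 1 * b 1 = algebraMap R S γ) :
    Nonempty (S ≃ₐ[R] AdjoinRoot (Polynomial.X ^ 2 - Polynomial.C γ)) := by
  classical
  set g : Polynomial R := Polynomial.X ^ 2 - Polynomial.C γ with hg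
  have hmonic : g.Monic := Polynomial.monic_X_pow_sub_C γ (by norm_num)
  have hdeg : g.natDegree = 2 := Polynomial.natDegree_X_pow_sub_C
  have hroot : Polynomial.aeval (b 1) g = 0 := by
    rw [hg, map_sub, map_pow, Polynomial.aeval_X, Polynomial.aeval_C, sq, hy, sub_self]
  let φ : AdjoinRoot g →ₐ[R] S := AdjoinRoot.liftAlgHom g (Algebra.ofId R S) (b 1) (by
    rw [show ((Algebra.ofId R S : R →ₐ[R] S) : R →+* S) = algebraMap R S from rfl,
      ← Polynomial.aeval_def]
    exact hroot)
  have hφroot : φ (AdjoinRoot.root g) = b 1 := by simp [φ]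
  let pb := AdjoinRoot.powerBasis' hmonic
  have hdim : pb.dim = 2 := by simp [pb, hdeg]
  let e : Fin pb.dim ≃ Fin 2 := finCongr hdim
  let L : AdjoinRoot g ≃ₗ[R] S := pb.basis.equiv b e
  have hL : ∀ x, φ x = L x := by
    intro x
    have : φ.toLinearMap = L.toLinearMap := by
      apply pb.basis.ext
      intro i
      rw [LinearEquiv.coe_coe, Module.Basis.equiv_apply]
      show φ (pb.basis i) = _
      rw [PowerBasis.coe_basis]
      have hgen : pb.gen = AdjoinRoot.root g := by simp [pb]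
      rw [hgen, map_pow, hφroot]
      have hi : (i : ℕ) < 2 := by have := i.2; omega
      interval_cases h : (i : ℕ)
      · have : e i = 0 := by ext; simp [e, h]
        rw [this, pow_zero, h0]
      · have : e i = 1 := by ext; simp [e, h]
        rw [this, pow_one]
    exact LinearMap.congr_fun this x
  have hbij : Function.Bijective φ := by
    have : (φ : AdjoinRoot g → S) = L := funext hL
    rw [this]; exact L.bijective
  exact ⟨(AlgEquiv.ofBijective φ hbij).symm⟩

end L2

section L3
variable {R : Type u} {S' : Type v} [CommRing R] [IsDomain R] [IsDiscreteValuationRing R]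
  [CommRing S'] [Algebra R S']

/-- the standard shape of a rank two subalgebra -/
abbrev stdSub (ϖ : R) (n : ℕ) : Submodule R S' :=
  Submodule.span R {(1 : S')} ⊔ Ideal.span {ϖ ^ n} • (⊤ : Submodule R S')

theorem eq_of_coord_eq_zero (bt : Module.Basis (Fin 2) R S') (h0 : bt 0 = 1) (x : S')
    (hx : bt.coord 1 x = 0) : x = bt.coord 0 x • (1 : S') := by
  conv_lhs => rw [← bt.sum_repr x, Fin.sum_univ_two, h0]
  have : bt.repr x 1 = 0 := hx
  rw [this, zero_smul, add_zero]
  rfl

theorem decomp (bt : Module.Basis (Fin 2) R S') (h0 : bt 0 = 1) (x : S') :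
    x = bt.coord 0 x • (1 : S') + bt.coord 1 x • bt 1 := by
  conv_lhs => rw [← bt.sum_repr x, Fin.sum_univ_two, h0]
  rfl

theorem mem_stdSub_iff (ϖ : R) (n : ℕ) (bt : Module.Basis (Fin 2) R S') (h0 : bt 0 = 1)
    (x : S') : x ∈ stdSub (S' := S') ϖ n ↔ ϖ ^ n ∣ bt.coord 1 x := by
  constructor
  · intro hx
    rw [stdSub, Submodule.mem_sup] at hx
    obtain ⟨y, hy, z, hz, rfl⟩ := hx
    rw [Submodule.mem_span_singleton] at hy
    obtain ⟨a, rfl⟩ := hy
    rw [Submodule.ideal_span_singleton_smul, Submodule.mem_smul_pointwise_iff_exists] at hz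
    obtain ⟨m, _, rfl⟩ := hz
    rw [map_add, map_smul, map_smul, ← h0]
    simp only [Module.Basis.coord_apply, Module.Basis.repr_self]
    simp
  · rintro ⟨c, hc⟩
    rw [decomp bt h0 x, hc]
    apply Submodule.add_mem
    · exact Submodule.mem_sup_left (Submodule.smul_mem _ _ (Submodule.subset_span rfl))
    · apply Submodule.mem_sup_right
      rw [mul_smul]
      exact Submodule.smul_mem_smul (Ideal.subset_span rfl) Submodule.mem_top

theorem exists_eq_stdSub (ϖ : R) (hϖ : Irreducible ϖ)
    (bt : Module.Basis (Fin 2) R S') (h0 : bt 0 = 1) (S : Subalgebra R S')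
    (bS : Module.Basis (Fin 2) R S) :
    ∃ n : ℕ, Subalgebra.toSubmodule S = stdSub (S' := S') ϖ n := by
  let φ : S' →ₗ[R] R := bt.coord 1
  let J : Ideal R := Submodule.map φ (Subalgebra.toSubmodule S)
  have hone : ∀ a : R, a • (1 : S') ∈ S := fun a => S.smul_mem S.one_mem a
  have hJ : J ≠ ⊥ := by
    intro hJ
    have hS : ∀ s : S, (s : S') = bt.coord 0 (s : S') • (1 : S') := by
      intro s
      apply eq_of_coord_eq_zero bt h0
      have : φ (s : S') ∈ J := ⟨s, s.2, rfl⟩
      rw [hJ] at this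
      exact this
    have hli := bS.linearIndependent
    rw [Fintype.linearIndependent_iff] at hli
    set a := bt.coord 0 (bS 0 : S') with ha
    set c := bt.coord 0 (bS 1 : S') with hc
    have h1 : (![c, -a] 0) • bS 0 + (![c, -a] 1) • bS 1 = 0 := by
      apply Subtype.ext
      simp only [Matrix.cons_val_zero, Matrix.cons_val_one, Subalgebra.coe_add,
        Subalgebra.coe_smul, Subalgebra.coe_zero]
      rw [hS (bS 0), hS (bS 1), ← ha, ← hc, smul_smul, smul_smul, ← add_smul]
      rw [show c * a + -a * c = 0 by ring, zero_smul]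
    have h2 := hli ![c, -a] (by rw [Fin.sum_univ_two]; exact h1)
    have hc0 : c = 0 := h2 0
    have ha0 : a = 0 := by simpa using h2 1
    have : (bS 0 : S') = 0 := by rw [hS (bS 0), ← ha, ha0, zero_smul]
    exact bS.ne_zero 0 (Subtype.ext this)
  obtain ⟨n, hn⟩ := IsDiscreteValuationRing.ideal_eq_span_pow_irreducible hJ hϖ
  refine ⟨n, ?_⟩
  ext x
  rw [mem_stdSub_iff ϖ n bt h0]
  constructor
  · intro hx
    have : φ x ∈ J := ⟨x, hx, rfl⟩
    rw [hn, Ideal.mem_span_singleton] at this
    exact this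
  · intro hx
    have h1 : ϖ ^ n ∈ J := by rw [hn]; exact Ideal.subset_span rfl
    obtain ⟨s₀, hs₀, hφ⟩ := h1
    obtain ⟨c, hc⟩ := hx
    have h2 : bt.coord 1 (x - c • s₀) = 0 := by
      rw [map_sub, map_smul, hc]
      show _ - c • φ s₀ = 0
      rw [hφ, smul_eq_mul]; ring
    have h3 := eq_of_coord_eq_zero bt h0 _ h2
    have h4 : x = (x - c • s₀) + c • s₀ := by ring
    rw [h4, h3]
    exact (Subalgebra.toSubmodule S).add_mem (hone _) ((Subalgebra.toSubmodule S).smul_mem c hs₀)

theorem exists_basis_of_eq_stdSub (ϖ : R) (hϖ0 : ϖ ≠ 0) (n : ℕ)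
    (bt : Module.Basis (Fin 2) R S') (h0 : bt 0 = 1) (S : Subalgebra R S')
    (hS : Subalgebra.toSubmodule S = stdSub (S' := S') ϖ n) :
    ∃ b₀ : Module.Basis (Fin 2) R S, (b₀ 0 : S') = 1 ∧ (b₀ 1 : S') = ϖ ^ n • bt 1 := by
  have hmem : ϖ ^ n • bt 1 ∈ S := by
    show _ ∈ Subalgebra.toSubmodule S
    rw [hS, mem_stdSub_iff ϖ n bt h0, map_smul]
    simp
  let v : Fin 2 → S := ![⟨1, S.one_mem⟩, ⟨ϖ ^ n • bt 1, hmem⟩]
  have hli : LinearIndependent R v := by
    rw [Fintype.linearIndependent_iff]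
    intro g hg
    have hg' := congrArg (Subtype.val) hg
    rw [Fin.sum_univ_two] at hg'
    simp only [v, Matrix.cons_val_zero, Matrix.cons_val_one, Subalgebra.coe_add,
      Subalgebra.coe_smul, Subalgebra.coe_zero] at hg'
    rw [← h0, smul_smul] at hg'
    have hbt := bt.linearIndependent
    rw [Fintype.linearIndependent_iff] at hbt
    have h2 := hbt ![g 0, g 1 * ϖ ^ n] (by rw [Fin.sum_univ_two]; simpa using hg')
    intro i
    fin_cases i
    · exact h2 0
    · have : g 1 * ϖ ^ n = 0 := by simpa using h2 1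
      exact (mul_eq_zero.mp this).resolve_right (pow_ne_zero _ hϖ0)
  have hsp : ⊤ ≤ Submodule.span R (Set.range v) := by
    rintro s -
    have hs : (s : S') ∈ stdSub (S' := S') ϖ n := by rw [← hS]; exact s.2
    rw [mem_stdSub_iff ϖ n bt h0] at hs
    obtain ⟨c, hc⟩ := hs
    have : s = bt.coord 0 (s : S') • v 0 + c • v 1 := by
      apply Subtype.ext
      simp only [v, Matrix.cons_val_zero, Matrix.cons_val_one, Subalgebra.coe_add,
        Subalgebra.coe_smul]
      conv_lhs => rw [decomp bt h0 (s : S'), hc]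
      rw [smul_smul, mul_comm]
    rw [this]
    exact Submodule.add_mem _ (Submodule.smul_mem _ _ (Submodule.subset_span ⟨0, rfl⟩))
      (Submodule.smul_mem _ _ (Submodule.subset_span ⟨1, rfl⟩))
  refine ⟨Module.Basis.mk hli hsp, ?_, ?_⟩
  · rw [Module.Basis.mk_apply]; rfl
  · rw [Module.Basis.mk_apply]; rfl

end L3

section general
variable {R : Type u} {S : Type v} [CommRing R] [CommRing S] [Algebra R S]

theorem discr_span_eq [IsDomain R] {ι : Type*} [Fintype ι] [DecidableEq ι]
    (b₁ b₂ : Module.Basis ι R S) :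
    Ideal.span {Algebra.discr R ⇑b₁} = Ideal.span {Algebra.discr R ⇑b₂} := by
  set P := b₁.toMatrix b₂ with hP
  have h1 : (Matrix.vecMul ⇑b₁ (P.map (algebraMap R S))) = ⇑b₂ := by
    funext j
    rw [← b₁.sum_toMatrix_smul_self (v := ⇑b₂) (j := j)]
    simp only [Matrix.vecMul, dotProduct, Matrix.map_apply]
    apply Finset.sum_congr rfl
    intro i _
    rw [Algebra.smul_def, mul_comm]
  have h2 := Algebra.discr_of_matrix_vecMul (A := R) ⇑b₁ P
  rw [h1] at h2
  have hu : IsUnit P.det := by
    have := b₁.isUnit_det b₂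
    rwa [Module.Basis.det_apply] at this
  rw [Ideal.span_singleton_eq_span_singleton]
  obtain ⟨u, hu'⟩ := hu
  refine ⟨u ^ 2, ?_⟩
  rw [h2, Units.val_pow_eq_pow_val, hu']; ring

end general

section L6
open PowerSeries
variable {k : Type u} [Field k] [CharZero k] {S' : Type v} [CommRing S']
  [Algebra (PowerSeries k) S']

theorem X_pow_span_eq {a b : ℕ}
    (h : Ideal.span {(X : PowerSeries k) ^ a} = Ideal.span {(X : PowerSeries k) ^ b}) : a = b := by
  rw [Ideal.span_singleton_eq_span_singleton] at h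
  have hX0 : (X : PowerSeries k) ≠ 0 := X_ne_zero
  have hXu : ¬ IsUnit (X : PowerSeries k) := X_irreducible.not_isUnit
  have h1 := (pow_dvd_pow_iff hX0 hXu).mp h.dvd
  have h2 := (pow_dvd_pow_iff hX0 hXu).mp h.symm.dvd
  omega

theorem isUnit_four : IsUnit (4 : PowerSeries k) := by
  have : (4 : PowerSeries k) = C (4 : k) := (map_ofNat (C (R := k)) 4).symm
  rw [this]
  exact (isUnit_iff_ne_zero.mpr (by norm_num : (4 : k) ≠ 0)).map C

theorem span_four_mul (x : PowerSeries k) :
    Ideal.span {4 * x} = Ideal.span {x} := by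
  rw [Ideal.span_singleton_eq_span_singleton]
  obtain ⟨u, hu⟩ := (isUnit_four (k := k))
  exact ⟨u⁻¹, by rw [← hu]; simp [mul_comm, mul_assoc]⟩

theorem crimp_quad_exists (bt : Module.Basis (Fin 2) (PowerSeries k) S') (h0 : bt 0 = 1)
    (S : Subalgebra (PowerSeries k) S') (bS : Module.Basis (Fin 2) (PowerSeries k) S) :
    ∃ n : ℕ, Subalgebra.toSubmodule S = stdSub (S' := S') (X : PowerSeries k) n :=
  exists_eq_stdSub X X_irreducible bt h0 S bS

theorem crimp_quad_std (bt : Module.Basis (Fin 2) (PowerSeries k) S') (h0 : bt 0 = 1)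
    (β' : PowerSeries k) (hx : bt 1 * bt 1 = algebraMap _ S' β')
    (S : Subalgebra (PowerSeries k) S') (n : ℕ)
    (hS : Subalgebra.toSubmodule S = stdSub (S' := S') (X : PowerSeries k) n) :
    (∃ b₀ : Module.Basis (Fin 2) (PowerSeries k) S,
      Ideal.span {Algebra.discr (PowerSeries k) ⇑b₀} = Ideal.span {X ^ (2 * n) * β'}) ∧
    Nonempty (S ≃ₐ[PowerSeries k]
      AdjoinRoot (Polynomial.X ^ 2 - Polynomial.C ((X : PowerSeries k) ^ (2 * n) * β'))) := by
  obtain ⟨b₀, hb0, hb1⟩ := exists_basis_of_eq_stdSub X X_ne_zero n bt h0 S hS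
  have e0 : b₀ 0 = 1 := Subtype.ext hb0
  have e1 : b₀ 1 * b₀ 1 = algebraMap (PowerSeries k) S (X ^ (2 * n) * β') := by
    apply Subtype.ext
    rw [Subalgebra.coe_mul, hb1, Subalgebra.coe_algebraMap, smul_mul_smul_comm, hx,
      ← pow_add, ← two_mul, Algebra.smul_def, ← map_mul]
  constructor
  · refine ⟨b₀, ?_⟩
    have := discr_quad b₀ e0 0 (X ^ (2 * n) * β') (by
      rw [e1, zero_smul, add_zero, Algebra.smul_def, mul_one])
    rw [this]
    simp only [ne_eq, OfNat.ofNat_ne_zero, not_false_eq_true, zero_pow, add_zero]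
    exact span_four_mul _
  · exact nonempty_algEquiv_adjoinRoot b₀ e0 _ e1

end L6

end Groth.Agent.Helper9.CrimpQuad
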