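import Mathlib
import Groth.Prelude.Def_CycDet

set_option autoImplicit false
universe u v w

namespace Groth.Agent.Lib.Helper9.CycDetL

open CycDet IsLocalRing

variable {R : Type u} [CommRing R] [IsLocalRing R] {M : Type v} [AddCommGroup M] [Module R M]

section span

variable {l : ℕ}

lemma spanBefore_mono (e : Fin l → M) {i j : ℕ} (h : i ≤ j) :
    spanBefore R M e i ≤ spanBefore R M e j := by
  unfold spanBefore
  apply Submodule.span_mono
  apply Set.image_mono
  intro x hx
  exact lt_of_lt_of_le hx h

lemma mem_spanBefore (e : Fin l → M) {i : ℕ} (j : Fin l) (h : (j : ℕ) < i) :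
    e j ∈ spanBefore R M e i :=
  Submodule.subset_span ⟨j, h, rfl⟩

lemma spanBefore_zero (e : Fin l → M) : spanBefore R M e 0 = ⊥ := by
  unfold spanBefore
  have : {j : Fin l | (j : ℕ) < 0} = ∅ := by ext; simp
  rw [this, Set.image_empty, Submodule.span_empty]

lemma spanBefore_of_le (e : Fin l → M) {i : ℕ} (h : l ≤ i) :
    spanBefore R M e i = Submodule.span R (Set.range e) := by
  unfold spanBefore
  have : {j : Fin l | (j : ℕ) < i} = Set.univ := by
    ext j; simp; exact lt_of_lt_of_le j.2 h
  rw [this, Set.image_univ]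

lemma spanBefore_succ (e : Fin l → M) (a : Fin l) :
    spanBefore R M e ((a : ℕ) + 1) = spanBefore R M e a ⊔ Submodule.span R {e a} := by
  unfold spanBefore
  rw [← Submodule.span_union]
  congr 1
  ext x
  constructor
  · rintro ⟨j, hj, rfl⟩
    rcases Nat.lt_succ_iff_lt_or_eq.mp hj with h | h
    · exact Or.inl ⟨j, h, rfl⟩
    · right
      have : j = a := Fin.ext h
      rw [this]; rfl
  · rintro (⟨j, hj, rfl⟩ | hx)
    · exact ⟨j, Nat.lt_succ_of_lt hj, rfl⟩
    · rw [Set.mem_singleton_iff] at hx
      exact ⟨a, Nat.lt_succ_self _, hx.symm⟩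

/-- if two tuples agree below `i`, the spans before `i` agree -/
lemma spanBefore_congr (e e' : Fin l → M) (i : ℕ) (h : ∀ j : Fin l, (j : ℕ) < i → e j = e' j) :
    spanBefore R M e i = spanBefore R M e' i := by
  unfold spanBefore
  congr 1
  ext x
  constructor
  · rintro ⟨j, hj, rfl⟩; exact ⟨j, hj, (h j hj).symm⟩
  · rintro ⟨j, hj, rfl⟩; exact ⟨j, hj, h j hj⟩

/-- permuting entries below `i` does not change the span before `i` -/
lemma spanBefore_comp_perm (e : Fin l → M) (σ : Equiv.Perm (Fin l)) (i : ℕ)
    (h : ∀ x : Fin l, ((σ x : Fin l) : ℕ) < i ↔ (x : ℕ) < i) :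
    spanBefore R M (e ∘ σ) i = spanBefore R M e i := by
  unfold spanBefore
  congr 1
  ext x
  constructor
  · rintro ⟨j, hj, rfl⟩
    exact ⟨σ j, (h j).mpr hj, rfl⟩
  · rintro ⟨j, hj, rfl⟩
    refine ⟨σ.symm j, ?_, by simp⟩
    have := h (σ.symm j)
    rw [Equiv.apply_symm_apply] at this
    exact this.mp hj

/-- replacing the entry `a` by a unit multiple plus earlier terms does not change any span -/
lemma spanBefore_update [DecidableEq (Fin l)] (e : Fin l → M) (a : Fin l) (y : M) (c : Rˣ)
    (hy : y - (c : R) • e a ∈ spanBefore R M e a) (i : ℕ) :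
    spanBefore R M (Function.update e a y) i = spanBefore R M e i := by
  by_cases hi : i ≤ a
  · apply spanBefore_congr
    intro j hj
    have : j ≠ a := by
      intro h; rw [h] at hj; omega
    rw [Function.update_of_ne this]
  · push Not at hi
    have hya : y ∈ spanBefore R M e i := by
      have h1 : y = (y - (c : R) • e a) + (c : R) • e a := by abel
      rw [h1]
      exact Submodule.add_mem _ (spanBefore_mono e hi.le hy)
        (Submodule.smul_mem _ _ (mem_spanBefore e a hi))
    have hlow : spanBefore R M (Function.update e a y) a = spanBefore R M e a := by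
      apply spanBefore_congr
      intro j hj
      have : j ≠ a := by
        intro h; rw [h] at hj; omega
      rw [Function.update_of_ne this]
    have hea : e a ∈ spanBefore R M (Function.update e a y) i := by
      have h1 : e a = ((c⁻¹ : Rˣ) : R) • (y - (y - (c : R) • e a)) := by
        rw [sub_sub_cancel, smul_smul, Units.inv_mul, one_smul]
      rw [h1]
      apply Submodule.smul_mem
      apply Submodule.sub_mem
      · have := mem_spanBefore (R := R) (Function.update e a y) a hi
        rwa [Function.update_self] at this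
      · rw [← hlow] at hy
        exact spanBefore_mono _ hi.le hy
    apply le_antisymm
    · unfold spanBefore
      rw [Submodule.span_le]
      rintro _ ⟨j, hj, rfl⟩
      by_cases hja : j = a
      · rw [hja, Function.update_self]; exact hya
      · rw [Function.update_of_ne hja]; exact mem_spanBefore e j hj
    · unfold spanBefore
      rw [Submodule.span_le]
      rintro _ ⟨j, hj, rfl⟩
      by_cases hja : j = a
      · rw [hja]; exact hea
      · have := mem_spanBefore (R := R) (Function.update e a y) j hj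
        rwa [Function.update_of_ne hja] at this

end span

section lift

variable {l : ℕ}

/-- class of an admissible tuple in `DetOfLen` -/
noncomputable def cls (e : Adm R M l) : DetOfLen R M l :=
  Submodule.Quotient.mk (sym R M e)

lemma cls_eq_zero_of_mem (e : Adm R M l) (a : Fin l) (h : e.1 a ∈ spanBefore R M e.1 a) :
    cls e = 0 := by
  unfold cls
  rw [Submodule.Quotient.mk_eq_zero]
  apply Submodule.subset_span
  left; left
  exact ⟨e, a, h, rfl⟩

lemma cls_rel_b (e e' : Adm R M l) (a : Fin l) (c : Rˣ) (h1 : ∀ j, j ≠ a → e.1 j = e'.1 j)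
    (h2 : e.1 a - (c : R) • e'.1 a ∈ spanBefore R M e.1 a) :
    cls e = IsLocalRing.residue R (c : R) • cls e' := by
  unfold cls
  rw [← Submodule.Quotient.mk_smul, ← sub_eq_zero, ← Submodule.Quotient.mk_sub,
    Submodule.Quotient.mk_eq_zero]
  apply Submodule.subset_span
  left; right
  exact ⟨e, e', a, c, h1, h2, rfl⟩

lemma cls_rel_c (e e' : Adm R M l) (a b : Fin l) (hab : (b : ℕ) + 1 = (a : ℕ))
    (h1 : ∀ r ∈ maximalIdeal R, r • e.1 a ∈ spanBefore R M e.1 b)
    (h2 : e'.1 = e.1 ∘ Equiv.swap a b) : cls e = - cls e' := by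
  unfold cls
  rw [eq_neg_iff_add_eq_zero, ← Submodule.Quotient.mk_add, Submodule.Quotient.mk_eq_zero]
  apply Submodule.subset_span
  right
  exact ⟨e, e', a, b, hab, h1, h2, rfl⟩

/-- linear maps out of `DetOfLen` -/
noncomputable def liftDet {V : Type w} [AddCommGroup V] [Module (ResidueField R) V]
    (φ : Adm R M l → V)
    (ha : ∀ (e : Adm R M l) (a : Fin l), e.1 a ∈ spanBefore R M e.1 a → φ e = 0)
    (hb : ∀ (e e' : Adm R M l) (a : Fin l) (c : Rˣ), (∀ j, j ≠ a → e.1 j = e'.1 j) →
      e.1 a - (c : R) • e'.1 a ∈ spanBefore R M e.1 a → φ e = IsLocalRing.residue R (c : R) • φ e')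
    (hc : ∀ (e e' : Adm R M l) (a b : Fin l), (b : ℕ) + 1 = (a : ℕ) →
      (∀ r ∈ maximalIdeal R, r • e.1 a ∈ spanBefore R M e.1 b) →
      e'.1 = e.1 ∘ Equiv.swap a b → φ e + φ e' = 0) :
    DetOfLen R M l →ₗ[ResidueField R] V :=
  Submodule.liftQ _ (Finsupp.lift V (ResidueField R) (Adm R M l) φ) (by
    have key : ∀ e : Adm R M l, Finsupp.lift V (ResidueField R) (Adm R M l) φ (sym R M e) = φ e := by
      intro e
      simp [sym]
    rw [Submodule.span_le]
    rintro x ((⟨e, a, h, rfl⟩ | ⟨e, e', a, c, h1, h2, rfl⟩) | ⟨e, e', a, b, hab, h1, h2, rfl⟩)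
    · rw [SetLike.mem_coe, LinearMap.mem_ker, key, ha e a h]
    · rw [SetLike.mem_coe, LinearMap.mem_ker, map_sub, map_smul, key, key, hb e e' a c h1 h2,
        sub_self]
    · rw [SetLike.mem_coe, LinearMap.mem_ker, map_add, key, key, hc e e' a b hab h1 h2])

lemma liftDet_cls {V : Type w} [AddCommGroup V] [Module (ResidueField R) V]
    (φ : Adm R M l → V) (ha) (hb) (hc) (e : Adm R M l) :
    liftDet φ ha hb hc (cls e) = φ e := by
  unfold liftDet cls
  rw [Submodule.liftQ_apply]
  simp [sym]

/-- the classes span -/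
lemma span_cls : Submodule.span (ResidueField R) (Set.range (cls : Adm R M l → DetOfLen R M l)) = ⊤ := by
  rw [eq_top_iff]
  rintro x -
  obtain ⟨y, rfl⟩ := Submodule.Quotient.mk_surjective _ x
  induction y using Finsupp.induction_linear with
  | zero => simp
  | add f g hf hg =>
    rw [Submodule.Quotient.mk_add]
    exact Submodule.add_mem _ hf hg
  | single e c =>
    have : (Finsupp.single e c : Free R M l) = c • sym R M e := by
      simp [sym]
    rw [this, Submodule.Quotient.mk_smul]
    exact Submodule.smul_mem _ _ (Submodule.subset_span ⟨e, rfl⟩)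

end lift

section ops

variable {l : ℕ}

lemma swap_lt_iff (a b x : Fin l) (i : ℕ)
    (h : ((a : ℕ) < i ∧ (b : ℕ) < i) ∨ (i ≤ (a : ℕ) ∧ i ≤ (b : ℕ))) :
    ((Equiv.swap a b x : Fin l) : ℕ) < i ↔ (x : ℕ) < i := by
  rw [Equiv.swap_apply_def]
  split_ifs with h1 h2
  · subst h1; omega
  · subst h2; omega
  · rfl

/-- replace an entry by a unit multiple plus earlier terms -/
def updAdm (e : Adm R M l) (a : Fin l) (y : M) (c : Rˣ)
    (hy : y - (c : R) • e.1 a ∈ spanBefore R M e.1 a) : Adm R M l :=
  ⟨Function.update e.1 a y, by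
    classical
    intro j r hr
    rw [spanBefore_update e.1 a y c hy]
    by_cases hja : j = a
    · subst hja
      rw [Function.update_self]
      have h1 : r • y = r • (y - (c : R) • e.1 j) + (c : R) • (r • e.1 j) := by
        rw [smul_sub, smul_comm r (c : R)]; abel
      rw [h1]
      exact Submodule.add_mem _ (Submodule.smul_mem _ _ hy)
        (Submodule.smul_mem _ _ (e.2 j r hr))
    · rw [Function.update_of_ne hja]
      exact e.2 j r hr⟩

lemma updAdm_val (e : Adm R M l) (a : Fin l) (y : M) (c : Rˣ) (hy) :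
    (updAdm e a y c hy).1 = Function.update e.1 a y := rfl

lemma cls_updAdm (e : Adm R M l) (a : Fin l) (y : M) (c : Rˣ)
    (hy : y - (c : R) • e.1 a ∈ spanBefore R M e.1 a) :
    cls (updAdm e a y c hy) = IsLocalRing.residue R (c : R) • cls e := by
  classical
  apply cls_rel_b _ _ a c
  · intro j hj
    rw [updAdm_val, Function.update_of_ne hj]
  · rw [updAdm_val, Function.update_self, spanBefore_update e.1 a y c hy]
    exact hy

/-- swap two adjacent entries -/
def swapAdm (e : Adm R M l) (a b : Fin l) (hab : (b : ℕ) + 1 = (a : ℕ))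
    (h : ∀ r ∈ maximalIdeal R, r • e.1 a ∈ spanBefore R M e.1 b) : Adm R M l :=
  ⟨e.1 ∘ Equiv.swap a b, by
    intro j r hr
    have hlow : spanBefore R M (e.1 ∘ Equiv.swap a b) b = spanBefore R M e.1 b := by
      apply spanBefore_comp_perm
      intro x
      exact swap_lt_iff a b x b (Or.inr ⟨by omega, le_refl _⟩)
    by_cases hjb : j = b
    · subst hjb
      rw [hlow, Function.comp_apply, Equiv.swap_apply_right]
      exact h r hr
    by_cases hja : j = a
    · subst hja
      rw [Function.comp_apply, Equiv.swap_apply_left]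
      apply spanBefore_mono _ (show (b : ℕ) ≤ (j : ℕ) by omega)
      rw [hlow]
      exact e.2 b r hr
    · rw [Function.comp_apply, Equiv.swap_apply_of_ne_of_ne hja hjb]
      have hj : (j : ℕ) < b ∨ (a : ℕ) < j := by
        have h1 : (j : ℕ) ≠ b := fun h => hjb (Fin.ext h)
        have h2 : (j : ℕ) ≠ a := fun h => hja (Fin.ext h)
        omega
      have : spanBefore R M (e.1 ∘ Equiv.swap a b) j = spanBefore R M e.1 j := by
        apply spanBefore_comp_perm
        intro x
        apply swap_lt_iff
        rcases hj with hj | hj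
        · right; omega
        · left; omega
      rw [this]
      exact e.2 j r hr⟩

lemma swapAdm_val (e : Adm R M l) (a b : Fin l) (hab) (h) :
    (swapAdm e a b hab h).1 = e.1 ∘ Equiv.swap a b := rfl

lemma cls_swapAdm (e : Adm R M l) (a b : Fin l) (hab : (b : ℕ) + 1 = (a : ℕ))
    (h : ∀ r ∈ maximalIdeal R, r • e.1 a ∈ spanBefore R M e.1 b) :
    cls e = - cls (swapAdm e a b hab h) :=
  cls_rel_c e _ a b hab h rfl

lemma range_swapAdm (e : Adm R M l) (a b : Fin l) (hab) (h) :
    Set.range (swapAdm e a b hab h).1 = Set.range e.1 := by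
  rw [swapAdm_val]
  exact (Equiv.swap a b).surjective.range_comp e.1

/-- move the entry at position `i` down to position `k` by adjacent transpositions -/
lemma move_down : ∀ (d : ℕ) (e : Adm R M l) (k : ℕ) (i : Fin l), k + d = (i : ℕ) →
    (∀ r ∈ maximalIdeal R, r • e.1 i ∈ spanBefore R M e.1 k) →
    ∃ e' : Adm R M l, (cls e = cls e' ∨ cls e = - cls e') ∧
      (∀ j : Fin l, (j : ℕ) < k → e'.1 j = e.1 j) ∧
      (∃ hk : k < l, e'.1 ⟨k, hk⟩ = e.1 i) ∧ Set.range e'.1 = Set.range e.1 := by
  intro d
  induction d with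
  | zero =>
    intro e k i hki h
    refine ⟨e, Or.inl rfl, fun _ _ => rfl, ⟨by omega, ?_⟩, rfl⟩
    have : (⟨k, by omega⟩ : Fin l) = i := Fin.ext (by simpa using hki)
    rw [this]
  | succ d ih =>
    intro e k i hki h
    have hi1 : (i : ℕ) - 1 < l := by omega
    set b : Fin l := ⟨(i : ℕ) - 1, hi1⟩ with hb
    have hab : (b : ℕ) + 1 = (i : ℕ) := by simp [hb]; omega
    have hkb : k ≤ (b : ℕ) := by simp [hb]; omega
    have h' : ∀ r ∈ maximalIdeal R, r • e.1 i ∈ spanBefore R M e.1 b :=
      fun r hr => spanBefore_mono e.1 hkb (h r hr)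
    set e1 := swapAdm e i b hab h' with he1
    have hlow : ∀ j : Fin l, (j : ℕ) < k → e1.1 j = e.1 j := by
      intro j hj
      rw [he1, swapAdm_val, Function.comp_apply, Equiv.swap_apply_of_ne_of_ne]
      · intro h; rw [h] at hj; omega
      · intro h; rw [h] at hj; omega
    have he1b : e1.1 b = e.1 i := by
      rw [he1, swapAdm_val, Function.comp_apply, Equiv.swap_apply_right]
    have hspan : spanBefore R M e1.1 k = spanBefore R M e.1 k :=
      spanBefore_congr _ _ _ hlow
    obtain ⟨e2, hcls, hlow2, ⟨hk, hk2⟩, hrange⟩ := ih e1 k b (by omega) (by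
      intro r hr
      rw [he1b, hspan]
      exact h r hr)
    refine ⟨e2, ?_, fun j hj => (hlow2 j hj).trans (hlow j hj), ⟨hk, hk2.trans he1b⟩,
      hrange.trans (range_swapAdm e i b hab h')⟩
    have h1 := cls_swapAdm e i b hab h'
    rw [← he1] at h1
    rcases hcls with h2 | h2
    · right; rw [h1, h2]
    · left; rw [h1, h2, neg_neg]

end ops

section partA

variable {l : ℕ}

/-- no entry lies in the span of the earlier ones -/
def Nondeg (e : Fin l → M) : Prop := ∀ a : Fin l, e a ∉ spanBefore R M e a

theorem prop_of_agree : ∀ (n k : ℕ), k + n = l → ∀ e f : Adm R M l,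
    Submodule.span R (Set.range e.1) = ⊤ → Nondeg (R := R) f.1 →
    (∀ j : Fin l, (j : ℕ) < k → e.1 j = f.1 j) →
    ∃ u : ResidueField R, cls f = u • cls e := by
  classical
  intro n
  induction n with
  | zero =>
    intro k hk e f _ _ hagree
    have : e = f := by
      apply Subtype.ext
      funext j
      exact hagree j (by omega)
    exact ⟨1, by rw [this, one_smul]⟩
  | succ n ih =>
    intro k hk e f hgen hnd hagree
    have hkl : k < l := by omega
    set kk : Fin l := ⟨k, hkl⟩ with hkk
    set y := f.1 kk with hy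
    have hspan_low : spanBefore R M e.1 k = spanBefore R M f.1 k :=
      spanBefore_congr _ _ _ hagree
    have hy_notin : y ∉ spanBefore R M e.1 k := by
      rw [hspan_low]; exact hnd kk
    have hy_in : y ∈ spanBefore R M e.1 l := by
      rw [spanBefore_of_le e.1 (le_refl l), hgen]; trivial
    have hex : ∃ m, y ∈ spanBefore R M e.1 m := ⟨l, hy_in⟩
    set n₀ := Nat.find hex with hn₀
    have hn₀_spec : y ∈ spanBefore R M e.1 n₀ := Nat.find_spec hex
    have hn₀_le : n₀ ≤ l := Nat.find_min' hex hy_in
    have hn₀_gt : k < n₀ := by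
      by_contra hcon
      push Not at hcon
      exact hy_notin (spanBefore_mono e.1 hcon hn₀_spec)
    have hil : n₀ - 1 < l := by omega
    set ii : Fin l := ⟨n₀ - 1, hil⟩ with hii
    have hii1 : (ii : ℕ) + 1 = n₀ := by simp [hii]; omega
    have hy_notin' : y ∉ spanBefore R M e.1 ii := by
      apply Nat.find_min hex
      show (ii : ℕ) < n₀
      omega
    have hmem : y ∈ spanBefore R M e.1 ii ⊔ Submodule.span R {e.1 ii} := by
      rw [← spanBefore_succ, hii1]; exact hn₀_spec
    obtain ⟨s, hs, z, hz, hsz⟩ := Submodule.mem_sup.mp hmem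
    obtain ⟨a, rfl⟩ := Submodule.mem_span_singleton.mp hz
    have ha : IsUnit a := by
      by_contra hna
      have ham : a ∈ maximalIdeal R := (IsLocalRing.mem_maximalIdeal a).mpr hna
      apply hy_notin'
      rw [← hsz]
      exact Submodule.add_mem _ hs (e.2 ii a ham)
    set c : Rˣ := ha.unit with hc
    have hcy : y - (c : R) • e.1 ii ∈ spanBefore R M e.1 ii := by
      have : y - (c : R) • e.1 ii = s := by
        rw [← hsz, hc, IsUnit.unit_spec]; abel
      rw [this]; exact hs
    set e1 := updAdm e ii y c hcy with he1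
    have hcls1 : cls e1 = IsLocalRing.residue R (c : R) • cls e := cls_updAdm e ii y c hcy
    have hspan1 : ∀ m, spanBefore R M e1.1 m = spanBefore R M e.1 m :=
      fun m => spanBefore_update e.1 ii y c hcy m
    have hgen1 : Submodule.span R (Set.range e1.1) = ⊤ := by
      rw [← spanBefore_of_le e1.1 (le_refl l), hspan1, spanBefore_of_le e.1 (le_refl l), hgen]
    have hki : k ≤ (ii : ℕ) := by simp [hii]; omega
    have he1ii : e1.1 ii = y := by rw [he1, updAdm_val, Function.update_self]
    obtain ⟨e2, hcls2, hlow2, ⟨_, hk2⟩, hrange2⟩ := move_down ((ii : ℕ) - k) e1 k ii (by omega) (by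
      intro r hr
      rw [he1ii, hspan1, hspan_low]
      exact f.2 kk r hr)
    have hgen2 : Submodule.span R (Set.range e2.1) = ⊤ := by rw [hrange2, hgen1]
    obtain ⟨u, hu⟩ := ih (k + 1) (by omega) e2 f hgen2 hnd (by
      intro j hj
      rcases Nat.lt_succ_iff_lt_or_eq.mp hj with hj' | hj'
      · rw [hlow2 j hj', he1, updAdm_val, Function.update_of_ne, hagree j hj']
        intro h; rw [h] at hj'; omega
      · have : j = kk := Fin.ext hj'
        rw [this, hk2, he1ii])
    rcases hcls2 with h2 | h2
    · refine ⟨u * IsLocalRing.residue R (c : R), ?_⟩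
      rw [hu, ← h2, hcls1, smul_smul]
    · refine ⟨-(u * IsLocalRing.residue R (c : R)), ?_⟩
      have h3 : cls e2 = - cls e1 := by rw [h2, neg_neg]
      rw [hu, h3, hcls1, smul_neg, neg_smul, smul_smul]

end partA

section length

lemma length_quot_maximal : Module.length R (R ⧸ maximalIdeal R) = 1 := by
  have : IsSimpleModule R (R ⧸ maximalIdeal R) :=
    isSimpleModule_iff_isCoatom.mpr (Ideal.isMaximal_def.mp (maximalIdeal.isMaximal R))
  exact Module.length_eq_one R _

/-- adding one element killed by the maximal ideal modulo `S` raises the length by at most one -/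
lemma length_sup_span_le (S : Submodule R M) (x : M)
    (hx : ∀ r ∈ maximalIdeal R, r • x ∈ S) :
    Module.length R ↥(S ⊔ Submodule.span R {x}) ≤ Module.length R ↥S + 1 := by
  set S' := S ⊔ Submodule.span R {x} with hS'
  let f : S →ₗ[R] S' := Submodule.inclusion le_sup_left
  have hf : Function.Injective f := Submodule.inclusion_injective _
  have hexact := Module.length_eq_add_of_exact f (LinearMap.range f).mkQ hf
    (Submodule.mkQ_surjective _) (LinearMap.exact_map_mkQ_range f)
  rw [hexact]
  gcongr
  -- the quotient is a quotient of the residue field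
  have hxS' : x ∈ S' := Submodule.mem_sup_right (Submodule.mem_span_singleton_self x)
  let x' : S' := ⟨x, hxS'⟩
  let h0 : R →ₗ[R] (S' ⧸ LinearMap.range f) :=
    (LinearMap.range f).mkQ ∘ₗ (LinearMap.toSpanSingleton R S' x')
  have hker : (maximalIdeal R : Submodule R R) ≤ LinearMap.ker h0 := by
    intro r hr
    rw [LinearMap.mem_ker]
    show (LinearMap.range f).mkQ (r • x') = 0
    rw [Submodule.mkQ_apply, Submodule.Quotient.mk_eq_zero]
    exact ⟨⟨r • x, hx r hr⟩, rfl⟩
  let h1 : (R ⧸ maximalIdeal R) →ₗ[R] (S' ⧸ LinearMap.range f) :=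
    Submodule.liftQ _ h0 hker
  have hsurj : Function.Surjective h1 := by
    intro q
    obtain ⟨⟨z, hz⟩, rfl⟩ := Submodule.Quotient.mk_surjective _ q
    obtain ⟨s, hs, t, ht, rfl⟩ := Submodule.mem_sup.mp hz
    obtain ⟨r, rfl⟩ := Submodule.mem_span_singleton.mp ht
    refine ⟨Submodule.Quotient.mk r, ?_⟩
    show h0 r = _
    show (LinearMap.range f).mkQ (r • x') = _
    rw [Submodule.mkQ_apply, eq_comm, ← sub_eq_zero, ← Submodule.Quotient.mk_sub,
      Submodule.Quotient.mk_eq_zero]
    refine ⟨⟨s, hs⟩, ?_⟩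
    apply Subtype.ext
    simp [f, x']
  calc Module.length R (S' ⧸ LinearMap.range f) ≤ Module.length R (R ⧸ maximalIdeal R) :=
        Module.length_le_of_surjective h1 hsurj
    _ = 1 := length_quot_maximal

/-- an admissible generating `n`-tuple bounds the length by `n` -/
lemma length_spanBefore_le {n : ℕ} (e : Fin n → M) (he : IsAdmissible R M e) :
    ∀ i : ℕ, i ≤ n → Module.length R ↥(spanBefore R M e i) ≤ i := by
  intro i
  induction i with
  | zero =>
    intro _
    rw [spanBefore_zero]
    simp
  | succ i ih =>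
    intro hi
    have hi' : i < n := hi
    have h1 := spanBefore_succ (R := R) e ⟨i, hi'⟩
    simp only [] at h1
    rw [h1]
    calc _ ≤ Module.length R ↥(spanBefore R M e i) + 1 :=
          length_sup_span_le _ _ (fun r hr => he ⟨i, hi'⟩ r hr)
      _ ≤ (i : ℕ∞) + 1 := by gcongr; exact ih (by omega)
      _ = ((i + 1 : ℕ) : ℕ∞) := by push_cast; rfl

lemma length_le_of_adm_gen {n : ℕ} (e : Fin n → M) (he : IsAdmissible R M e)
    (hgen : Submodule.span R (Set.range e) = ⊤) : Module.length R M ≤ n := by
  have := length_spanBefore_le e he n (le_refl n)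
  rwa [spanBefore_of_le e (le_refl n), hgen, Module.length_top] at this

lemma length_spanBefore_lt_of_deg {n : ℕ} (e : Fin n → M) (he : IsAdmissible R M e)
    (a : Fin n) (ha : e a ∈ spanBefore R M e a) :
    ∀ i : ℕ, (a : ℕ) < i → i ≤ n → Module.length R ↥(spanBefore R M e i) + 1 ≤ i := by
  intro i
  induction i with
  | zero => intro h; omega
  | succ i ih =>
    intro hai hi
    have hi' : i < n := hi
    rcases Nat.lt_succ_iff_lt_or_eq.mp hai with h | h
    · have h1 := spanBefore_succ (R := R) e ⟨i, hi'⟩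
      simp only [] at h1
      rw [h1]
      calc _ ≤ (Module.length R ↥(spanBefore R M e i) + 1) + 1 := by
            gcongr
            exact length_sup_span_le _ _ (fun r hr => he ⟨i, hi'⟩ r hr)
        _ ≤ (i : ℕ∞) + 1 := by gcongr; exact ih h (by omega)
        _ = ((i + 1 : ℕ) : ℕ∞) := by push_cast; rfl
    · have hai' : a = ⟨i, hi'⟩ := Fin.ext h
      have h1 := spanBefore_succ (R := R) e ⟨i, hi'⟩
      simp only [] at h1
      have h2 : Submodule.span R {e ⟨i, hi'⟩} ≤ spanBefore R M e i := by
        rw [Submodule.span_singleton_le_iff_mem, ← hai', ← h]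
        exact ha
      rw [h1, sup_eq_left.mpr h2]
      calc _ ≤ (i : ℕ∞) + 1 := by gcongr; exact length_spanBefore_le e he i (by omega)
        _ = ((i + 1 : ℕ) : ℕ∞) := by push_cast; rfl

/-- a generating admissible tuple of length `length M` is nondegenerate -/
lemma nondeg_of_gen {n : ℕ} (e : Fin n → M) (he : IsAdmissible R M e)
    (hgen : Submodule.span R (Set.range e) = ⊤) (hlen : Module.length R M = n) :
    Nondeg (R := R) e := by
  intro a ha
  have := length_spanBefore_lt_of_deg e he a ha n a.2 (le_refl n)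
  rw [spanBefore_of_le e (le_refl n), hgen, Module.length_top, hlen] at this
  have h2 : ((n + 1 : ℕ) : ℕ∞) ≤ (n : ℕ∞) := by exact_mod_cast this
  have h3 : n + 1 ≤ n := by exact_mod_cast h2
  omega

/-- a nondegenerate tuple of length `length M` generates -/
lemma gen_of_nondeg {n : ℕ} (e : Fin n → M) (hnd : Nondeg (R := R) e)
    (hlen : Module.length R M = n) : Submodule.span R (Set.range e) = ⊤ := by
  by_contra hne
  let toFun : Fin (n + 1 + 1) → Submodule R M :=
    fun i => if (i : ℕ) ≤ n then spanBefore R M e i else ⊤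
  have hsm : StrictMono toFun := by
    rw [Fin.strictMono_iff_lt_succ]
    intro i
    have hi : (i : ℕ) ≤ n := Nat.lt_succ_iff.mp i.2
    show (if ((Fin.castSucc i : Fin (n + 1 + 1)) : ℕ) ≤ n then
        spanBefore R M e ((Fin.castSucc i : Fin (n + 1 + 1)) : ℕ) else ⊤) <
      (if ((Fin.succ i : Fin (n + 1 + 1)) : ℕ) ≤ n then
        spanBefore R M e ((Fin.succ i : Fin (n + 1 + 1)) : ℕ) else ⊤)
    rw [Fin.val_castSucc, Fin.val_succ]
    rw [if_pos hi]
    rcases Nat.lt_or_eq_of_le hi with h | h
    · rw [if_pos (by omega)]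
      refine lt_of_le_of_ne (spanBefore_mono e (Nat.le_succ _)) ?_
      intro heq
      apply hnd ⟨i, h⟩
      show e ⟨i, h⟩ ∈ spanBefore R M e (i : ℕ)
      rw [heq]
      exact mem_spanBefore e ⟨i, h⟩ (Nat.lt_succ_self _)
    · rw [if_neg (by omega), h, spanBefore_of_le e (le_refl n)]
      exact lt_top_iff_ne_top.mpr hne
  let p : LTSeries (Submodule R M) := LTSeries.mk (n + 1) toFun hsm
  have h1 := Order.LTSeries.length_le_krullDim p
  rw [← Module.coe_length, hlen] at h1
  have h2 : ((n + 1 : ℕ) : ℕ∞) ≤ (n : ℕ∞) := by exact_mod_cast h1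
  have h3 : n + 1 ≤ n := by exact_mod_cast h2
  omega

end length

end Groth.Agent.Lib.Helper9.CycDetL
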