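import Mathlib
import Groth.Agent.Lib.Helper9.CycDetA

set_option autoImplicit false
universe u v w

namespace Groth.Agent.Lib.Helper9.CycDetL

open CycDet IsLocalRing

variable {R : Type u} [CommRing R] [IsLocalRing R] {M : Type v} [AddCommGroup M] [Module R M]

/-- a nondegenerate `n`-tuple gives a chain of length `n` -/
lemma le_length_of_nondeg {n : ℕ} (e : Fin n → M) (hnd : Nondeg (R := R) e) :
    (n : ℕ∞) ≤ Module.length R M := by
  let toFun : Fin (n + 1) → Submodule R M := fun i => spanBefore R M e i
  have hsm : StrictMono toFun := by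
    rw [Fin.strictMono_iff_lt_succ]
    intro i
    show spanBefore R M e ((Fin.castSucc i : Fin (n + 1)) : ℕ) <
      spanBefore R M e ((Fin.succ i : Fin (n + 1)) : ℕ)
    rw [Fin.val_castSucc, Fin.val_succ]
    refine lt_of_le_of_ne (spanBefore_mono e (Nat.le_succ _)) ?_
    intro heq
    apply hnd i
    rw [heq]
    exact mem_spanBefore e i (Nat.lt_succ_self _)
  let p : LTSeries (Submodule R M) := LTSeries.mk n toFun hsm
  have h1 := Order.LTSeries.length_le_krullDim p
  rw [← Module.coe_length] at h1
  exact_mod_cast h1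

theorem rank_detOfLen_le_one {l : ℕ} (hlen : Module.length R M = l) :
    Module.rank (ResidueField R) (DetOfLen R M l) ≤ 1 := by
  rw [rank_le_one_iff]
  by_cases hex : ∃ e₀ : Adm R M l, Nondeg (R := R) e₀.1
  · obtain ⟨e₀, he₀⟩ := hex
    have hgen := gen_of_nondeg e₀.1 he₀ hlen
    refine ⟨cls e₀, ?_⟩
    have hle : Submodule.span (ResidueField R) (Set.range (cls : Adm R M l → DetOfLen R M l)) ≤
        Submodule.span (ResidueField R) {cls e₀} := by
      rw [Submodule.span_le]
      rintro _ ⟨f, rfl⟩
      by_cases hf : Nondeg (R := R) f.1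
      · obtain ⟨u, hu⟩ := prop_of_agree l 0 (by omega) e₀ f hgen hf (by intro j hj; omega)
        rw [hu]
        exact Submodule.smul_mem _ _ (Submodule.subset_span rfl)
      · unfold Nondeg at hf
        push Not at hf
        obtain ⟨a, ha⟩ := hf
        rw [cls_eq_zero_of_mem f a ha]
        exact Submodule.zero_mem _
    intro v
    have hv : v ∈ Submodule.span (ResidueField R) {cls e₀} := hle (by rw [span_cls]; trivial)
    exact Submodule.mem_span_singleton.mp hv
  · refine ⟨0, fun v => ⟨0, ?_⟩⟩
    have hle : Submodule.span (ResidueField R) (Set.range (cls : Adm R M l → DetOfLen R M l)) ≤ ⊥ := by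
      rw [Submodule.span_le]
      rintro _ ⟨f, rfl⟩
      have hf : ¬ Nondeg (R := R) f.1 := fun h => hex ⟨f, h⟩
      unfold Nondeg at hf
      push Not at hf
      obtain ⟨a, ha⟩ := hf
      rw [cls_eq_zero_of_mem f a ha]
      exact Submodule.zero_mem _
    have hv : v ∈ (⊥ : Submodule (ResidueField R) (DetOfLen R M l)) := hle (by rw [span_cls]; trivial)
    rw [Submodule.mem_bot] at hv
    rw [hv, smul_zero]

lemma length_eq_toNat (hM : IsFiniteLength R M) :
    Module.length R M = ((Module.length R M).toNat : ℕ∞) := by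
  rw [ENat.coe_toNat]
  exact Module.length_ne_top_iff.mpr hM

end Groth.Agent.Lib.Helper9.CycDetL
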