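import Mathlib
import Groth.Agent.Lib.Helper9.CycDetB

set_option autoImplicit false
universe u v w

namespace Groth.Agent.Lib.Helper9.CycDetL

open CycDet IsLocalRing

variable {R : Type u} [CommRing R] [IsLocalRing R] {M : Type v} [AddCommGroup M] [Module R M]

section basics

variable {l : ℕ}

lemma spanBefore_le_iff (e : Fin l → M) (m : ℕ) (S : Submodule R M) :
    spanBefore R M e m ≤ S ↔ ∀ j : Fin l, (j : ℕ) < m → e j ∈ S := by
  unfold spanBefore
  rw [Submodule.span_le]
  constructor
  · intro h j hj; exact h ⟨j, hj, rfl⟩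
  · rintro h _ ⟨j, hj, rfl⟩; exact h j hj

lemma spanBefore_map {N : Type w} [AddCommGroup N] [Module R N] (π : M →ₗ[R] N)
    (e : Fin l → M) (i : ℕ) :
    spanBefore R N (π ∘ e) i = (spanBefore R M e i).map π := by
  unfold spanBefore
  rw [Submodule.map_span, Set.image_comp]

lemma adm_map {N : Type w} [AddCommGroup N] [Module R N] (π : M →ₗ[R] N)
    (e : Fin l → M) (he : IsAdmissible R M e) : IsAdmissible R N (π ∘ e) := by
  intro i r hr
  rw [spanBefore_map, Function.comp_apply, ← map_smul]
  exact Submodule.mem_map_of_mem (he i r hr)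

lemma succAbove_val (i : Fin (l + 1)) (j : Fin l) :
    ((i.succAbove j : Fin (l + 1)) : ℕ) = if (j : ℕ) < i then (j : ℕ) else j + 1 := by
  by_cases h : (j : ℕ) < i
  · rw [if_pos h, Fin.succAbove_of_castSucc_lt _ _ (by simpa [Fin.lt_def] using h)]
    rfl
  · rw [if_neg h, Fin.succAbove_of_le_castSucc _ _ (by simpa [Fin.le_def] using h)]
    rfl

/-- removing a dependent entry: spans -/
lemma spanBefore_succAbove (g : Fin (l + 1) → M) (i : Fin (l + 1))
    (hi : g i ∈ spanBefore R M g i) (j : Fin l) :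
    spanBefore R M (g ∘ i.succAbove) j = spanBefore R M g (i.succAbove j) := by
  have hval := succAbove_val i
  apply le_antisymm
  · rw [spanBefore_le_iff]
    intro j' hj'
    apply mem_spanBefore
    rw [hval, hval]
    split_ifs <;> omega
  · rw [spanBefore_le_iff]
    intro k hk
    have key : ∀ k : Fin (l + 1), k ≠ i → (k : ℕ) < i.succAbove j →
        g k ∈ spanBefore R M (g ∘ i.succAbove) j := by
      intro k hki hk
      obtain ⟨z, rfl⟩ := Fin.exists_succAbove_eq hki
      apply mem_spanBefore (g ∘ i.succAbove) z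
      rw [hval, hval] at hk
      split_ifs at hk <;> omega
    by_cases hki : k = i
    · subst hki
      have h1 : spanBefore R M g k ≤ spanBefore R M (g ∘ k.succAbove) j := by
        rw [spanBefore_le_iff]
        intro k' hk'
        apply key k' (by intro h; rw [h] at hk'; omega) (by omega)
      exact h1 hi
    · exact key k hki hk

lemma adm_rem (g : Fin (l + 1) → M) (hg : IsAdmissible R M g) (i : Fin (l + 1))
    (hi : g i ∈ spanBefore R M g i) : IsAdmissible R M (g ∘ i.succAbove) := by
  intro j r hr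
  rw [spanBefore_succAbove g i hi j]
  exact hg _ r hr

/-- total class function on raw tuples -/
noncomputable def clsT (g : Fin l → M) : DetOfLen R M l := by
  classical
  exact if h : IsAdmissible R M g then cls ⟨g, h⟩ else 0

lemma clsT_eq (g : Fin l → M) (h : IsAdmissible R M g) : clsT (R := R) g = cls ⟨g, h⟩ := by
  unfold clsT
  rw [dif_pos h]

end basics

section psi

variable {l : ℕ} (x : M)

/-- the tuple with entry `i` removed, modulo `x` -/
def rem (f : Fin (l + 1) → M) (i : Fin (l + 1)) : Fin l → M ⧸ Submodule.span R {x} :=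
  ((Submodule.span R {x}).mkQ ∘ f) ∘ i.succAbove

/-- `x` first appears in the span at position `i`, with unit coefficient `α` -/
def Piv (f : Fin (l + 1) → M) (i : Fin (l + 1)) (α : Rˣ) : Prop :=
  x - (α : R) • f i ∈ spanBefore R M f i ∧ x ∉ spanBefore R M f i

variable {x}

lemma piv_notMem {f : Fin (l + 1) → M} {i : Fin (l + 1)} {α : Rˣ} (h : Piv x f i α) :
    f i ∉ spanBefore R M f i := by
  intro hf
  apply h.2
  have : x = (x - (α : R) • f i) + (α : R) • f i := by abel
  rw [this]
  exact Submodule.add_mem _ h.1 (Submodule.smul_mem _ _ hf)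

lemma piv_unique {f : Fin (l + 1) → M} {i i' : Fin (l + 1)} {α α' : Rˣ}
    (h : Piv x f i α) (h' : Piv x f i' α') :
    i = i' ∧ IsLocalRing.residue R (α : R) = IsLocalRing.residue R (α' : R) := by
  have hlt : ∀ {i i' : Fin (l + 1)} {α α' : Rˣ}, Piv x f i α → Piv x f i' α' → ¬ (i : ℕ) < i' := by
    intro i i' α α' h h' hlt
    apply h'.2
    have : x = (x - (α : R) • f i) + (α : R) • f i := by abel
    rw [this]
    exact Submodule.add_mem _ (spanBefore_mono f hlt.le h.1)
      (Submodule.smul_mem _ _ (mem_spanBefore f i hlt))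
  have hii : i = i' := by
    apply Fin.ext
    have h1 := hlt h h'
    have h2 := hlt h' h
    omega
  subst hii
  refine ⟨rfl, ?_⟩
  rw [← sub_eq_zero, ← map_sub, IsLocalRing.residue_eq_zero_iff]
  by_contra hu
  have hu' : IsUnit ((α : R) - (α' : R)) := by
    by_contra hnu
    exact hu ((IsLocalRing.mem_maximalIdeal _).mpr hnu)
  apply piv_notMem h
  have h3 : ((α : R) - (α' : R)) • f i ∈ spanBefore R M f i := by
    have : ((α : R) - (α' : R)) • f i = (x - (α' : R) • f i) - (x - (α : R) • f i) := by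
      rw [sub_smul]; abel
    rw [this]
    exact Submodule.sub_mem _ h'.1 h.1
  have h4 : f i = ((hu'.unit⁻¹ : Rˣ) : R) • (((α : R) - (α' : R)) • f i) := by
    rw [smul_smul]
    have : ((hu'.unit⁻¹ : Rˣ) : R) * ((α : R) - (α' : R)) = 1 := by
      have := Units.inv_mul hu'.unit
      rwa [IsUnit.unit_spec] at this
    rw [this, one_smul]
  rw [h4]
  exact Submodule.smul_mem _ _ h3

lemma mkQ_x : (Submodule.span R {x}).mkQ x = 0 := by
  rw [Submodule.mkQ_apply, Submodule.Quotient.mk_eq_zero]
  exact Submodule.mem_span_singleton_self x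

lemma piv_pi_mem {f : Fin (l + 1) → M} {i : Fin (l + 1)} {α : Rˣ} (h : Piv x f i α) :
    ((Submodule.span R {x}).mkQ ∘ f) i ∈
      spanBefore R (M ⧸ Submodule.span R {x}) ((Submodule.span R {x}).mkQ ∘ f) i := by
  rw [spanBefore_map, Function.comp_apply]
  have h1 : (Submodule.span R {x}).mkQ (f i) =
      (Submodule.span R {x}).mkQ (-((α⁻¹ : Rˣ) : R) • (x - (α : R) • f i)) := by
    rw [map_smul, map_sub, mkQ_x, zero_sub, map_smul, smul_neg, neg_smul, neg_neg, smul_smul,
      Units.inv_mul, one_smul]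
  rw [h1]
  exact Submodule.mem_map_of_mem (Submodule.smul_mem _ _ h.1)

lemma rem_adm {f : Fin (l + 1) → M} (hf : IsAdmissible R M f) {i : Fin (l + 1)} {α : Rˣ}
    (h : Piv x f i α) : IsAdmissible R (M ⧸ Submodule.span R {x}) (rem x f i) :=
  adm_rem _ (adm_map _ f hf) i (piv_pi_mem h)

lemma spanBefore_rem {f : Fin (l + 1) → M} {i : Fin (l + 1)} {α : Rˣ}
    (h : Piv x f i α) (j : Fin l) :
    spanBefore R (M ⧸ Submodule.span R {x}) (rem x f i) j =
      (spanBefore R M f (i.succAbove j)).map (Submodule.span R {x}).mkQ := by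
  unfold rem
  rw [spanBefore_succAbove _ i (piv_pi_mem h) j, spanBefore_map]

variable (x)

open Classical in
/-- the map on admissible tuples inducing `ψ` -/
noncomputable def psiFun (f : Adm R M (l + 1)) : DetOfLen R (M ⧸ Submodule.span R {x}) l :=
  if h : ∃ (i : Fin (l + 1)) (α : Rˣ), Piv x f.1 i α then
    ((-1 : ResidueField R) ^ (h.choose : ℕ) *
      (IsLocalRing.residue R (h.choose_spec.choose : R))⁻¹) • clsT (rem x f.1 h.choose)
  else 0

variable {x}

lemma psiFun_eq (f : Adm R M (l + 1)) {i : Fin (l + 1)} {α : Rˣ} (h : Piv x f.1 i α) :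
    psiFun x f = ((-1 : ResidueField R) ^ (i : ℕ) * (IsLocalRing.residue R (α : R))⁻¹) •
      cls ⟨rem x f.1 i, rem_adm f.2 h⟩ := by
  have hex : ∃ (i : Fin (l + 1)) (α : Rˣ), Piv x f.1 i α := ⟨i, α, h⟩
  unfold psiFun
  rw [dif_pos hex]
  obtain ⟨h1, h2⟩ := piv_unique hex.choose_spec.choose_spec h
  rw [h2, clsT_eq _ (rem_adm f.2 hex.choose_spec.choose_spec)]
  congr 1
  · rw [h1]
  · congr 1
    apply Subtype.ext
    show rem x f.1 hex.choose = rem x f.1 i
    rw [h1]

lemma psiFun_eq_zero (f : Adm R M (l + 1)) (h : ¬ ∃ (i : Fin (l + 1)) (α : Rˣ), Piv x f.1 i α) :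
    psiFun x f = 0 := by
  unfold psiFun
  rw [dif_neg h]

lemma res_unit_ne_zero (c : Rˣ) : IsLocalRing.residue R (c : R) ≠ 0 :=
  (IsLocalRing.residue_ne_zero_iff_isUnit _).mpr c.isUnit

lemma psiFun_rel_a (f : Adm R M (l + 1)) (a : Fin (l + 1))
    (ha : f.1 a ∈ spanBefore R M f.1 a) : psiFun x f = 0 := by
  by_cases hex : ∃ (i : Fin (l + 1)) (α : Rˣ), Piv x f.1 i α
  · obtain ⟨i, α, h⟩ := hex
    rw [psiFun_eq f h]
    have hai : a ≠ i := by
      intro e; subst e; exact piv_notMem h ha
    obtain ⟨a', rfl⟩ := Fin.exists_succAbove_eq hai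
    have h0 : cls ⟨rem x f.1 i, rem_adm f.2 h⟩ = 0 := by
      apply cls_eq_zero_of_mem _ a'
      show rem x f.1 i a' ∈ spanBefore R _ (rem x f.1 i) a'
      rw [spanBefore_rem h a']
      exact Submodule.mem_map_of_mem ha
    rw [h0, smul_zero]
  · exact psiFun_eq_zero f hex

lemma spanBefore_eq_of_rel_b {n : ℕ} (e e' : Fin n → M) (a : Fin n) (c : Rˣ)
    (h1 : ∀ j, j ≠ a → e j = e' j)
    (h2 : e a - (c : R) • e' a ∈ spanBefore R M e a) (m : ℕ) :
    spanBefore R M e m = spanBefore R M e' m := by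
  classical
  have hlow : spanBefore R M e a = spanBefore R M e' a := by
    apply spanBefore_congr
    intro j hj
    apply h1
    intro hja; rw [hja] at hj; omega
  have he : e = Function.update e' a (e a) := by
    funext j
    by_cases hj : j = a
    · subst hj; rw [Function.update_self]
    · rw [Function.update_of_ne hj]; exact h1 j hj
  rw [he]
  rw [hlow] at h2
  exact spanBefore_update e' a (e a) c h2 m

lemma psiFun_rel_b_aux (f f' : Adm R M (l + 1)) (a : Fin (l + 1)) (c : Rˣ)
    (h1 : ∀ j, j ≠ a → f.1 j = f'.1 j)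
    (h2 : f.1 a - (c : R) • f'.1 a ∈ spanBefore R M f.1 a)
    {i : Fin (l + 1)} {α : Rˣ} (h : Piv x f.1 i α) :
    psiFun x f = IsLocalRing.residue R (c : R) • psiFun x f' := by
  have hsp := spanBefore_eq_of_rel_b f.1 f'.1 a c h1 h2
  by_cases hai : a = i
  · subst hai
    have h' : Piv x f'.1 a (α * c) := by
      refine ⟨?_, by rw [← hsp]; exact h.2⟩
      rw [← hsp]
      have : x - ((α * c : Rˣ) : R) • f'.1 a =
          (x - (α : R) • f.1 a) + (α : R) • (f.1 a - (c : R) • f'.1 a) := by
        rw [Units.val_mul, smul_sub, smul_smul]; abel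
      rw [this]
      exact Submodule.add_mem _ h.1 (Submodule.smul_mem _ _ h2)
    rw [psiFun_eq f h, psiFun_eq f' h']
    have hrem : rem (R := R) x f.1 a = rem x f'.1 a := by
      funext j
      unfold rem
      simp only [Function.comp_apply]
      rw [h1 _ (Fin.succAbove_ne a j)]
    have hcls : cls ⟨rem x f.1 a, rem_adm f.2 h⟩ = cls ⟨rem x f'.1 a, rem_adm f'.2 h'⟩ := by
      congr 1
      exact Subtype.ext hrem
    rw [hcls, smul_smul]
    congr 1
    rw [Units.val_mul, map_mul]
    have hα := res_unit_ne_zero α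
    have hc := res_unit_ne_zero c
    field_simp
  · have h' : Piv x f'.1 i α := by
      refine ⟨?_, by rw [← hsp]; exact h.2⟩
      rw [← hsp, ← h1 i (Ne.symm hai)]
      exact h.1
    rw [psiFun_eq f h, psiFun_eq f' h', smul_comm]
    congr 1
    obtain ⟨a', rfl⟩ := Fin.exists_succAbove_eq hai
    apply cls_rel_b _ _ a' c
    · intro j hj
      show rem x f.1 i j = rem x f'.1 i j
      unfold rem
      simp only [Function.comp_apply]
      rw [h1]
      intro e
      exact hj (Fin.succAbove_right_injective e)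
    · show rem x f.1 i a' - (c : R) • rem x f'.1 i a' ∈ spanBefore R _ (rem x f.1 i) a'
      rw [spanBefore_rem h a']
      have : rem x f.1 i a' - (c : R) • rem x f'.1 i a' =
          (Submodule.span R {x}).mkQ (f.1 (i.succAbove a') - (c : R) • f'.1 (i.succAbove a')) := by
        simp [rem]
      rw [this]
      exact Submodule.mem_map_of_mem h2

lemma psiFun_rel_b (f f' : Adm R M (l + 1)) (a : Fin (l + 1)) (c : Rˣ)
    (h1 : ∀ j, j ≠ a → f.1 j = f'.1 j)
    (h2 : f.1 a - (c : R) • f'.1 a ∈ spanBefore R M f.1 a) :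
    psiFun x f = IsLocalRing.residue R (c : R) • psiFun x f' := by
  by_cases hex : ∃ (i : Fin (l + 1)) (α : Rˣ), Piv x f.1 i α
  · obtain ⟨i, α, h⟩ := hex
    exact psiFun_rel_b_aux f f' a c h1 h2 h
  · rw [psiFun_eq_zero f hex]
    by_cases hex' : ∃ (i : Fin (l + 1)) (α : Rˣ), Piv x f'.1 i α
    · obtain ⟨i, α, h⟩ := hex'
      have hsp := spanBefore_eq_of_rel_b f.1 f'.1 a c h1 h2
      have h2' : f'.1 a - ((c⁻¹ : Rˣ) : R) • f.1 a ∈ spanBefore R M f'.1 a := by
        rw [← hsp]
        have : f'.1 a - ((c⁻¹ : Rˣ) : R) • f.1 a =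
            -((c⁻¹ : Rˣ) : R) • (f.1 a - (c : R) • f'.1 a) := by
          rw [smul_sub, smul_smul, neg_mul, Units.inv_mul, neg_smul, neg_smul, one_smul]; abel
        rw [this]
        exact Submodule.smul_mem _ _ h2
      have := psiFun_rel_b_aux f' f a c⁻¹ (fun j hj => (h1 j hj).symm) h2' h
      rw [psiFun_eq_zero f hex, smul_zero] at this
      rw [this, smul_zero]
    · rw [psiFun_eq_zero f' hex', smul_zero]

end psi

section swap

/-- hypotheses of relation (c) -/
structure SwapRel (R : Type u) [CommRing R] [IsLocalRing R] {M : Type v} [AddCommGroup M]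
    [Module R M] {n : ℕ} (f f' : Fin n → M) (a b : Fin n) : Prop where
  hab : (b : ℕ) + 1 = (a : ℕ)
  hm : ∀ r ∈ maximalIdeal R, r • f a ∈ spanBefore R M f b
  hf' : f' = f ∘ Equiv.swap a b

namespace SwapRel

variable {n : ℕ} {f f' : Fin n → M} {a b : Fin n}

lemma ne (H : SwapRel R f f' a b) : a ≠ b := by
  intro h
  have := H.hab
  rw [h] at this
  omega

lemma f'_a (H : SwapRel R f f' a b) : f' a = f b := by
  rw [H.hf', Function.comp_apply, Equiv.swap_apply_left]

lemma f'_b (H : SwapRel R f f' a b) : f' b = f a := by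
  rw [H.hf', Function.comp_apply, Equiv.swap_apply_right]

lemma f'_of_ne (H : SwapRel R f f' a b) (j : Fin n) (h1 : j ≠ a) (h2 : j ≠ b) : f' j = f j := by
  rw [H.hf', Function.comp_apply, Equiv.swap_apply_of_ne_of_ne h1 h2]

lemma span_eq (H : SwapRel R f f' a b) (m : ℕ) (hm : m ≤ (b : ℕ) ∨ (a : ℕ) + 1 ≤ m) :
    spanBefore R M f' m = spanBefore R M f m := by
  rw [H.hf']
  apply spanBefore_comp_perm
  intro y
  apply swap_lt_iff
  have := H.hab
  rcases hm with h | h
  · right; omega
  · left; omega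

lemma span_a (H : SwapRel R f f' a b) :
    spanBefore R M f a = spanBefore R M f b ⊔ Submodule.span R {f b} := by
  rw [← H.hab]
  exact spanBefore_succ f b

lemma span'_a (H : SwapRel R f f' a b) :
    spanBefore R M f' a = spanBefore R M f b ⊔ Submodule.span R {f a} := by
  rw [← H.hab, spanBefore_succ f' b, H.span_eq b (Or.inl le_rfl), H.f'_b]

lemma symm (H : SwapRel R f f' a b) (hf : IsAdmissible R M f) : SwapRel R f' f a b := by
  refine ⟨H.hab, ?_, ?_⟩
  · intro r hr
    rw [H.f'_a, H.span_eq b (Or.inl le_rfl)]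
    exact hf b r hr
  · rw [H.hf']
    funext j
    simp

/-- degeneracy is preserved by admissible swaps -/
lemma deg_swap (H : SwapRel R f f' a b) (hf : IsAdmissible R M f) (c : Fin n)
    (hc : f c ∈ spanBefore R M f c) : ∃ c' : Fin n, f' c' ∈ spanBefore R M f' c' := by
  have hab := H.hab
  by_cases hca : c = a
  · subst hca
    rw [H.span_a] at hc
    obtain ⟨t, ht, z, hz, htz⟩ := Submodule.mem_sup.mp hc
    obtain ⟨γ, rfl⟩ := Submodule.mem_span_singleton.mp hz
    by_cases hγ : γ ∈ maximalIdeal R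
    · refine ⟨b, ?_⟩
      rw [H.f'_b, H.span_eq b (Or.inl le_rfl), ← htz]
      exact Submodule.add_mem _ ht (hf b γ hγ)
    · have hu : IsUnit γ := by
        by_contra hnu
        exact hγ ((IsLocalRing.mem_maximalIdeal _).mpr hnu)
      refine ⟨c, ?_⟩
      rw [H.f'_a]
      have h1 : f b = ((hu.unit⁻¹ : Rˣ) : R) • (f c - t) := by
        rw [← htz, add_sub_cancel_left, smul_smul]
        have : ((hu.unit⁻¹ : Rˣ) : R) * γ = 1 := by
          have := Units.inv_mul hu.unit
          rwa [IsUnit.unit_spec] at this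
        rw [this, one_smul]
      rw [h1]
      apply Submodule.smul_mem
      apply Submodule.sub_mem
      · rw [← H.f'_b]
        exact mem_spanBefore f' b (by omega)
      · rw [← H.span_eq b (Or.inl le_rfl)] at ht
        exact spanBefore_mono f' (by omega) ht
  by_cases hcb : c = b
  · subst hcb
    refine ⟨a, ?_⟩
    rw [H.f'_a]
    rw [← H.span_eq c (Or.inl le_rfl)] at hc
    exact spanBefore_mono f' (by omega) hc
  · refine ⟨c, ?_⟩
    rw [H.f'_of_ne c hca hcb, H.span_eq]
    · exact hc
    · have h1 : (c : ℕ) ≠ a := fun h => hca (Fin.ext h)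
      have h2 : (c : ℕ) ≠ b := fun h => hcb (Fin.ext h)
      omega

end SwapRel

end swap

section relc

variable {l : ℕ} {x : M}

lemma swap_succAbove {a b : Fin (l + 1)} (hab : (b : ℕ) + 1 = (a : ℕ)) (j : Fin l) :
    Equiv.swap a b (a.succAbove j) = b.succAbove j := by
  have h1 := succAbove_val a j
  have h2 := succAbove_val b j
  rcases Nat.lt_trichotomy (j : ℕ) (b : ℕ) with h | h | h
  · rw [if_pos (by omega)] at h1
    rw [if_pos h] at h2
    rw [Equiv.swap_apply_of_ne_of_ne]
    · apply Fin.ext; omega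
    · intro e; rw [e] at h1; omega
    · intro e; rw [e] at h1; omega
  · rw [if_pos (by omega)] at h1
    rw [if_neg (by omega)] at h2
    have : a.succAbove j = b := Fin.ext (by omega)
    rw [this, Equiv.swap_apply_right]
    apply Fin.ext; omega
  · rw [if_neg (by omega)] at h1
    rw [if_neg (by omega)] at h2
    rw [Equiv.swap_apply_of_ne_of_ne]
    · apply Fin.ext; omega
    · intro e; rw [e] at h1; omega
    · intro e; rw [e] at h1; omega

lemma piv_of_notMem {f : Fin (l + 1) → M} {i : Fin (l + 1)} {α : Rˣ}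
    (h1 : x - (α : R) • f i ∈ spanBefore R M f i) (h2 : f i ∉ spanBefore R M f i) :
    Piv x f i α := by
  refine ⟨h1, ?_⟩
  intro hx
  apply h2
  have : f i = ((α⁻¹ : Rˣ) : R) • (x - (x - (α : R) • f i)) := by
    rw [sub_sub_cancel, smul_smul, Units.inv_mul, one_smul]
  rw [this]
  exact Submodule.smul_mem _ _ (Submodule.sub_mem _ hx h1)

/-- pivot away from the swapped positions -/
lemma psiFun_swap_away (f f' : Adm R M (l + 1)) {a b : Fin (l + 1)}
    (H : SwapRel R f.1 f'.1 a b) {i : Fin (l + 1)} {α : Rˣ} (h : Piv x f.1 i α)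
    (hia : i ≠ a) (hib : i ≠ b) : psiFun x f + psiFun x f' = 0 := by
  have hab := H.hab
  have hia' : (i : ℕ) ≠ a := fun e => hia (Fin.ext e)
  have hib' : (i : ℕ) ≠ b := fun e => hib (Fin.ext e)
  have hsp : spanBefore R M f'.1 i = spanBefore R M f.1 i := H.span_eq i (by omega)
  have h' : Piv x f'.1 i α := by
    refine ⟨?_, by rw [hsp]; exact h.2⟩
    rw [hsp, H.f'_of_ne i hia hib]
    exact h.1
  rw [psiFun_eq f h, psiFun_eq f' h']
  obtain ⟨a', ha'⟩ := Fin.exists_succAbove_eq (Ne.symm hia)
  obtain ⟨b', hb'⟩ := Fin.exists_succAbove_eq (Ne.symm hib)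
  have hva := succAbove_val i a'
  have hvb := succAbove_val i b'
  rw [ha'] at hva
  rw [hb'] at hvb
  have hab' : (b' : ℕ) + 1 = (a' : ℕ) := by
    split_ifs at hva hvb <;> omega
  have hrel : cls ⟨rem x f.1 i, rem_adm f.2 h⟩ = - cls ⟨rem x f'.1 i, rem_adm f'.2 h'⟩ := by
    apply cls_rel_c _ _ a' b' hab'
    · intro r hr
      show r • rem x f.1 i a' ∈ spanBefore R _ (rem x f.1 i) b'
      rw [spanBefore_rem h b', hb']
      have : r • rem x f.1 i a' = (Submodule.span R {x}).mkQ (r • f.1 a) := by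
        rw [map_smul]
        unfold rem
        simp only [Function.comp_apply]
        rw [ha']
      rw [this]
      exact Submodule.mem_map_of_mem (H.hm r hr)
    · show rem x f'.1 i = rem x f.1 i ∘ Equiv.swap a' b'
      funext j
      unfold rem
      simp only [Function.comp_apply]
      rw [H.hf', Function.comp_apply, ← ha', ← hb',
        (Fin.succAbove_right_injective (p := i)).swap_apply]
  rw [hrel, smul_neg, neg_add_cancel]

/-- pivot of `f` at `b`, pivot of `f'` at `a`, same unit -/
lemma psiFun_swap_ba (f f' : Adm R M (l + 1)) {a b : Fin (l + 1)}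
    (H : SwapRel R f.1 f'.1 a b) {β : Rˣ} (h : Piv x f.1 b β) (h' : Piv x f'.1 a β) :
    psiFun x f + psiFun x f' = 0 := by
  rw [psiFun_eq f h, psiFun_eq f' h']
  have hrem : rem (R := R) x f'.1 a = rem x f.1 b := by
    funext j
    unfold rem
    simp only [Function.comp_apply]
    rw [H.hf', Function.comp_apply, swap_succAbove H.hab]
  have hcls : cls ⟨rem x f'.1 a, rem_adm f'.2 h'⟩ = cls ⟨rem x f.1 b, rem_adm f.2 h⟩ := by
    congr 1
    exact Subtype.ext hrem
  rw [hcls, ← add_smul, ← H.hab, pow_succ]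
  have : (-1 : ResidueField R) ^ (b : ℕ) * (IsLocalRing.residue R (β : R))⁻¹ +
      (-1) ^ (b : ℕ) * -1 * (IsLocalRing.residue R (β : R))⁻¹ = 0 := by ring
  rw [this, zero_smul]

/-- both pivots at `a` -/
lemma psiFun_swap_aa (f f' : Adm R M (l + 1)) {a b : Fin (l + 1)}
    (H : SwapRel R f.1 f'.1 a b) {α β : Rˣ} (s₀ : M) (hs₀ : s₀ ∈ spanBefore R M f.1 b)
    (hx : x = s₀ + (β : R) • f.1 b + (α : R) • f.1 a)
    (h : Piv x f.1 a α) (h' : Piv x f'.1 a β) :
    psiFun x f + psiFun x f' = 0 := by
  have hab := H.hab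
  rw [psiFun_eq f h, psiFun_eq f' h']
  obtain ⟨b', hb'⟩ := Fin.exists_succAbove_eq (Ne.symm H.ne)
  set u : Rˣ := -(β⁻¹ * α) with hu
  have hrel : cls ⟨rem x f.1 a, rem_adm f.2 h⟩ =
      IsLocalRing.residue R (u : R) • cls ⟨rem x f'.1 a, rem_adm f'.2 h'⟩ := by
    apply cls_rel_b _ _ b' u
    · intro j hj
      show rem x f.1 a j = rem x f'.1 a j
      unfold rem
      simp only [Function.comp_apply]
      rw [H.hf', Function.comp_apply, Equiv.swap_apply_of_ne_of_ne (Fin.succAbove_ne a j)]
      intro e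
      rw [← hb'] at e
      exact hj (Fin.succAbove_right_injective e)
    · show rem x f.1 a b' - (u : R) • rem x f'.1 a b' ∈ spanBefore R _ (rem x f.1 a) b'
      rw [spanBefore_rem h b', hb']
      have h1 : rem x f.1 a b' = (Submodule.span R {x}).mkQ (f.1 b) := by
        unfold rem
        simp only [Function.comp_apply]
        rw [hb']
      have h2 : rem x f'.1 a b' = (Submodule.span R {x}).mkQ (f.1 a) := by
        unfold rem
        simp only [Function.comp_apply]
        rw [hb', H.f'_b]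
      have h3 : rem x f.1 a b' - (u : R) • rem x f'.1 a b' =
          (Submodule.span R {x}).mkQ (-((β⁻¹ : Rˣ) : R) • s₀) := by
        rw [h1, h2, ← map_smul, ← map_sub]
        have h4 : f.1 b - (u : R) • f.1 a = -((β⁻¹ : Rˣ) : R) • s₀ + ((β⁻¹ : Rˣ) : R) • x := by
          rw [hx, hu, Units.val_neg, Units.val_mul, smul_add, smul_add, smul_smul, smul_smul,
            Units.inv_mul, one_smul, neg_smul, neg_smul]
          abel
        rw [h4, map_add, map_smul _ _ x, mkQ_x, smul_zero, add_zero]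
      rw [h3]
      exact Submodule.mem_map_of_mem (Submodule.smul_mem _ _ hs₀)
  rw [hrel, smul_smul, ← add_smul]
  have hα := res_unit_ne_zero α
  have hβ := res_unit_ne_zero β
  have h5 : IsLocalRing.residue R (u : R) =
      -((IsLocalRing.residue R (β : R))⁻¹ * IsLocalRing.residue R (α : R)) := by
    rw [hu, Units.val_neg, Units.val_mul, map_neg, map_mul, map_units_inv]
  rw [h5]
  have : (-1 : ResidueField R) ^ (a : ℕ) * (IsLocalRing.residue R (α : R))⁻¹ *
      -((IsLocalRing.residue R (β : R))⁻¹ * IsLocalRing.residue R (α : R)) +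
      (-1) ^ (a : ℕ) * (IsLocalRing.residue R (β : R))⁻¹ = 0 := by
    field_simp
    ring
  rw [this, zero_smul]

lemma psiFun_swap_main (f f' : Adm R M (l + 1)) {a b : Fin (l + 1)}
    (H : SwapRel R f.1 f'.1 a b) (hnd' : f'.1 a ∉ spanBefore R M f'.1 a)
    {i : Fin (l + 1)} {α : Rˣ} (h : Piv x f.1 i α) :
    psiFun x f + psiFun x f' = 0 := by
  have hab := H.hab
  by_cases hia : i = a
  · subst hia
    have h1 := h.1
    rw [H.span_a] at h1
    obtain ⟨s₀, hs₀, z, hz, hsz⟩ := Submodule.mem_sup.mp h1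
    obtain ⟨β', rfl⟩ := Submodule.mem_span_singleton.mp hz
    by_cases hβ : β' ∈ maximalIdeal R
    · have hpb : Piv x f'.1 b α := by
        refine ⟨?_, ?_⟩
        · rw [H.f'_b, H.span_eq b (Or.inl le_rfl), ← hsz]
          exact Submodule.add_mem _ hs₀ (f.2 b β' hβ)
        · rw [H.span_eq b (Or.inl le_rfl)]
          intro hx
          exact h.2 (spanBefore_mono f.1 (by omega) hx)
      have := psiFun_swap_ba f' f (H.symm f.2) hpb h
      rw [add_comm]; exact this
    · have hu : IsUnit β' := by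
        by_contra hnu
        exact hβ ((IsLocalRing.mem_maximalIdeal _).mpr hnu)
      have hxeq : x = s₀ + ((hu.unit : Rˣ) : R) • f.1 b + (α : R) • f.1 i := by
        rw [IsUnit.unit_spec, hsz]; abel
      have hpa : Piv x f'.1 i hu.unit := by
        apply piv_of_notMem _ hnd'
        rw [H.f'_a]
        have : x - ((hu.unit : Rˣ) : R) • f.1 b = s₀ + (α : R) • f.1 i := by
          rw [IsUnit.unit_spec]
          rw [IsUnit.unit_spec] at hxeq
          rw [hxeq]; abel
        rw [this]
        apply Submodule.add_mem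
        · rw [← H.span_eq b (Or.inl le_rfl)] at hs₀
          exact spanBefore_mono f'.1 (by omega) hs₀
        · apply Submodule.smul_mem
          rw [← H.f'_b]
          exact mem_spanBefore f'.1 b (by omega)
      exact psiFun_swap_aa f f' H s₀ hs₀ hxeq h hpa
  by_cases hib : i = b
  · subst hib
    have hpa : Piv x f'.1 a α := by
      apply piv_of_notMem _ hnd'
      rw [H.f'_a]
      have := h.1
      rw [← H.span_eq i (Or.inl le_rfl)] at this
      exact spanBefore_mono f'.1 (by omega) this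
    exact psiFun_swap_ba f f' H h hpa
  · exact psiFun_swap_away f f' H h hia hib

lemma psiFun_rel_c (f f' : Adm R M (l + 1)) (a b : Fin (l + 1)) (hab : (b : ℕ) + 1 = (a : ℕ))
    (hm : ∀ r ∈ maximalIdeal R, r • f.1 a ∈ spanBefore R M f.1 b)
    (hf' : f'.1 = f.1 ∘ Equiv.swap a b) : psiFun x f + psiFun x f' = 0 := by
  have H : SwapRel R f.1 f'.1 a b := ⟨hab, hm, hf'⟩
  by_cases hd : ∃ c : Fin (l + 1), f.1 c ∈ spanBefore R M f.1 c
  · obtain ⟨c, hc⟩ := hd
    obtain ⟨c', hc'⟩ := H.deg_swap f.2 c hc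
    rw [psiFun_rel_a f c hc, psiFun_rel_a f' c' hc', add_zero]
  · push Not at hd
    have hd' : ∀ c : Fin (l + 1), f'.1 c ∉ spanBefore R M f'.1 c := by
      intro c hc
      obtain ⟨c', hc'⟩ := (H.symm f.2).deg_swap f'.2 c hc
      exact hd c' hc'
    by_cases hex : ∃ (i : Fin (l + 1)) (α : Rˣ), Piv x f.1 i α
    · obtain ⟨i, α, h⟩ := hex
      exact psiFun_swap_main f f' H (hd' a) h
    · by_cases hex' : ∃ (i : Fin (l + 1)) (α : Rˣ), Piv x f'.1 i α
      · obtain ⟨i, α, h⟩ := hex'
        rw [add_comm]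
        exact psiFun_swap_main f' f (H.symm f.2) (hd a) h
      · rw [psiFun_eq_zero f hex, psiFun_eq_zero f' hex', add_zero]

/-- the map `det(M) → det(M/Rx)` -/
noncomputable def psi (x : M) (l : ℕ) :
    DetOfLen R M (l + 1) →ₗ[ResidueField R] DetOfLen R (M ⧸ Submodule.span R {x}) l :=
  liftDet (psiFun x) (fun e a h => psiFun_rel_a e a h)
    (fun e e' a c h1 h2 => psiFun_rel_b e e' a c h1 h2)
    (fun e e' a b hab h1 h2 => psiFun_rel_c e e' a b hab h1 h2)

lemma psi_cls (x : M) (l : ℕ) (f : Adm R M (l + 1)) : psi x l (cls f) = psiFun x f :=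
  liftDet_cls _ _ _ _ f

end relc

section nonvanishing

/-- the class of a nondegenerate admissible tuple is nonzero -/
theorem cls_ne_zero_of_nondeg : ∀ (l : ℕ) (M : Type v) [AddCommGroup M] [Module R M]
    (f : Adm R M l), Nondeg (R := R) f.1 → cls f ≠ 0 := by
  intro l
  induction l with
  | zero =>
    intro M _ _ f _ h0
    let φ : DetOfLen R M 0 →ₗ[ResidueField R] ResidueField R :=
      liftDet (fun _ => 1) (fun _ a => a.elim0) (fun _ _ a => a.elim0) (fun _ _ a => a.elim0)
    have h1 : φ (cls f) = 1 := liftDet_cls _ _ _ _ f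
    rw [h0, map_zero] at h1
    exact zero_ne_one h1
  | succ l ih =>
    intro M _ _ f hnd h0
    set x := f.1 0 with hx
    have hpiv : Piv (R := R) x f.1 0 1 := by
      refine ⟨?_, hnd 0⟩
      rw [Units.val_one, one_smul, sub_self]
      exact Submodule.zero_mem _
    have h1 : psi x l (cls f) = cls ⟨rem x f.1 0, rem_adm f.2 hpiv⟩ := by
      rw [psi_cls, psiFun_eq f hpiv]
      simp
    apply ih (M ⧸ Submodule.span R {x}) ⟨rem x f.1 0, rem_adm f.2 hpiv⟩ ?_ ?_
    · intro j hj
      change rem (R := R) x f.1 0 j ∈ spanBefore R _ (rem x f.1 0) j at hj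
      rw [spanBefore_rem hpiv j] at hj
      obtain ⟨y, hy, hyj⟩ := Submodule.mem_map.mp hj
      have hyj' : (Submodule.span R {x}).mkQ (f.1 ((0 : Fin (l + 1)).succAbove j) - y) = 0 := by
        rw [map_sub, hyj]
        unfold rem
        simp only [Function.comp_apply]
        rw [sub_self]
      rw [Submodule.mkQ_apply, Submodule.Quotient.mk_eq_zero] at hyj'
      apply hnd ((0 : Fin (l + 1)).succAbove j)
      have h2 : f.1 ((0 : Fin (l + 1)).succAbove j) =
          y + (f.1 ((0 : Fin (l + 1)).succAbove j) - y) := by abel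
      rw [h2]
      apply Submodule.add_mem _ hy
      have h3 : Submodule.span R {x} ≤ spanBefore R M f.1 ((0 : Fin (l + 1)).succAbove j) := by
        rw [Submodule.span_singleton_le_iff_mem]
        apply mem_spanBefore f.1 0
        rw [succAbove_val]
        simp
      exact h3 hyj'
    · rw [← h1, h0, map_zero]

end nonvanishing

end Groth.Agent.Lib.Helper9.CycDetL
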