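import Mathlib
import Groth.Agent.Lib.Helper9.CycDetC

set_option autoImplicit false
universe u v w

namespace Groth.Agent.Lib.Helper9.CycDetL

open CycDet IsLocalRing

variable {R : Type u} [CommRing R] [IsLocalRing R] {M : Type v} [AddCommGroup M] [Module R M]

section append

variable {k m : ℕ}

omit [IsLocalRing R] [AddCommGroup M] [Module R M] in
lemma append_of_lt (p : Fin k → M) (q : Fin m → M) (j : Fin (k + m)) (h : (j : ℕ) < k) :
    Fin.append p q j = p ⟨j, h⟩ :=
  (congrArg (Fin.append p q) (show j = Fin.castAdd m ⟨j, h⟩ from Fin.ext rfl)).trans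
    (Fin.append_left p q _)

omit [IsLocalRing R] [AddCommGroup M] [Module R M] in
lemma append_of_ge (p : Fin k → M) (q : Fin m → M) (j : Fin (k + m)) (h : k ≤ (j : ℕ)) :
    Fin.append p q j = q ⟨(j : ℕ) - k, by omega⟩ :=
  (congrArg (Fin.append p q) (show j = Fin.natAdd k ⟨(j : ℕ) - k, by omega⟩ from
    Fin.ext (by simp; omega))).trans (Fin.append_right p q _)

lemma spanBefore_append_le (p : Fin k → M) (q : Fin m → M) (i : ℕ) (hi : i ≤ k) :
    spanBefore R M (Fin.append p q) i = spanBefore R M p i := by
  apply le_antisymm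
  · rw [spanBefore_le_iff]
    intro j hj
    rw [append_of_lt p q j (by omega)]
    exact mem_spanBefore p _ hj
  · rw [spanBefore_le_iff]
    intro j hj
    rw [← Fin.append_left p q j]
    exact mem_spanBefore _ _ (by simpa using hj)

lemma spanBefore_append_add (p : Fin k → M) (q : Fin m → M) (j : ℕ) :
    spanBefore R M (Fin.append p q) (k + j) =
      Submodule.span R (Set.range p) ⊔ spanBefore R M q j := by
  apply le_antisymm
  · rw [spanBefore_le_iff]
    intro i hi
    by_cases hik : (i : ℕ) < k
    · rw [append_of_lt p q i hik]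
      exact Submodule.mem_sup_left (Submodule.subset_span ⟨_, rfl⟩)
    · rw [append_of_ge p q i (by omega)]
      exact Submodule.mem_sup_right (mem_spanBefore q _ (by simp; omega))
  · apply sup_le
    · rw [Submodule.span_le]
      rintro _ ⟨i, rfl⟩
      rw [← Fin.append_left p q i]
      exact mem_spanBefore _ _ (by simp; omega)
    · rw [spanBefore_le_iff]
      intro i hi
      rw [← Fin.append_right p q i]
      exact mem_spanBefore _ _ (by simp; omega)

omit [IsLocalRing R] [AddCommGroup M] [Module R M] in
lemma append_comp_swap_right (p : Fin k → M) (q : Fin m → M) (a b : Fin m) :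
    Fin.append p (q ∘ Equiv.swap a b) =
      Fin.append p q ∘ Equiv.swap (Fin.natAdd k a) (Fin.natAdd k b) := by
  funext i
  induction i using Fin.addCases with
  | left i =>
    rw [Fin.append_left, Function.comp_apply, Equiv.swap_apply_of_ne_of_ne, Fin.append_left]
    · intro h
      have := congrArg Fin.val h
      simp at this
      omega
    · intro h
      have := congrArg Fin.val h
      simp at this
      omega
  | right j =>
    rw [Fin.append_right, Function.comp_apply, Function.comp_apply,
      (Fin.natAdd_injective m k).swap_apply, Fin.append_right]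

omit [IsLocalRing R] [AddCommGroup M] [Module R M] in
lemma append_comp_swap_left (p : Fin k → M) (q : Fin m → M) (a b : Fin k) :
    Fin.append (p ∘ Equiv.swap a b) q =
      Fin.append p q ∘ Equiv.swap (Fin.castAdd m a) (Fin.castAdd m b) := by
  funext i
  induction i using Fin.addCases with
  | left i =>
    rw [Fin.append_left, Function.comp_apply, Function.comp_apply,
      (Fin.castAdd_injective k m).swap_apply, Fin.append_left]
  | right j =>
    rw [Fin.append_right, Function.comp_apply, Equiv.swap_apply_of_ne_of_ne, Fin.append_right]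
    · intro h
      have := congrArg Fin.val h
      simp at this
      omega
    · intro h
      have := congrArg Fin.val h
      simp at this
      omega

end append

section raw

variable {l : ℕ}

lemma clsT_of_not_adm (e : Fin l → M) (he : ¬ IsAdmissible R M e) : clsT (R := R) e = 0 := by
  unfold clsT
  rw [dif_neg he]

lemma clsT_eq_zero_of_mem (e : Fin l → M) (a : Fin l) (h : e a ∈ spanBefore R M e a) :
    clsT (R := R) e = 0 := by
  by_cases he : IsAdmissible R M e
  · rw [clsT_eq e he]
    exact cls_eq_zero_of_mem ⟨e, he⟩ a h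
  · exact clsT_of_not_adm e he

lemma adm_of_rel_b (e e' : Fin l → M) (a : Fin l) (c : Rˣ) (h1 : ∀ j, j ≠ a → e j = e' j)
    (h2 : e a - (c : R) • e' a ∈ spanBefore R M e a) (he' : IsAdmissible R M e') :
    IsAdmissible R M e := by
  classical
  have hlow : spanBefore R M e a = spanBefore R M e' a := by
    apply spanBefore_congr
    intro j hj
    apply h1
    intro hja; rw [hja] at hj; omega
  have he : e = Function.update e' a (e a) := by
    funext j
    by_cases hj : j = a
    · subst hj; rw [Function.update_self]
    · rw [Function.update_of_ne hj]; exact h1 j hj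
  rw [he]
  exact (updAdm ⟨e', he'⟩ a (e a) c (hlow ▸ h2)).2

lemma rel_b_symm (e e' : Fin l → M) (a : Fin l) (c : Rˣ) (h1 : ∀ j, j ≠ a → e j = e' j)
    (h2 : e a - (c : R) • e' a ∈ spanBefore R M e a) :
    e' a - ((c⁻¹ : Rˣ) : R) • e a ∈ spanBefore R M e' a := by
  rw [← spanBefore_eq_of_rel_b e e' a c h1 h2]
  have : e' a - ((c⁻¹ : Rˣ) : R) • e a = -((c⁻¹ : Rˣ) : R) • (e a - (c : R) • e' a) := by
    rw [smul_sub, smul_smul, neg_mul, Units.inv_mul, neg_smul, neg_smul, one_smul]; abel
  rw [this]
  exact Submodule.smul_mem _ _ h2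

lemma clsT_rel_b (e e' : Fin l → M) (a : Fin l) (c : Rˣ) (h1 : ∀ j, j ≠ a → e j = e' j)
    (h2 : e a - (c : R) • e' a ∈ spanBefore R M e a) :
    clsT (R := R) e = IsLocalRing.residue R (c : R) • clsT e' := by
  by_cases he' : IsAdmissible R M e'
  · have he := adm_of_rel_b e e' a c h1 h2 he'
    rw [clsT_eq e he, clsT_eq e' he']
    exact cls_rel_b ⟨e, he⟩ ⟨e', he'⟩ a c h1 h2
  · have he : ¬ IsAdmissible R M e := fun he =>
      he' (adm_of_rel_b e' e a c⁻¹ (fun j hj => (h1 j hj).symm) (rel_b_symm e e' a c h1 h2) he)
    rw [clsT_of_not_adm e he, clsT_of_not_adm e' he', smul_zero]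

lemma clsT_rel_c (e : Fin l → M) (a b : Fin l) (hab : (b : ℕ) + 1 = (a : ℕ))
    (h1 : ∀ r ∈ maximalIdeal R, r • e a ∈ spanBefore R M e b)
    (h1' : ∀ r ∈ maximalIdeal R, r • e b ∈ spanBefore R M e b) :
    clsT (R := R) e + clsT (e ∘ Equiv.swap a b) = 0 := by
  by_cases he : IsAdmissible R M e
  · have h3 := cls_swapAdm ⟨e, he⟩ a b hab h1
    have h4 : IsAdmissible R M (e ∘ Equiv.swap a b) := (swapAdm ⟨e, he⟩ a b hab h1).2
    rw [clsT_eq e he, clsT_eq _ h4, h3]
    exact neg_add_cancel _
  · have he' : ¬ IsAdmissible R M (e ∘ Equiv.swap a b) := by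
      intro he'
      apply he
      have H : SwapRel R e (e ∘ Equiv.swap a b) a b := ⟨hab, h1, rfl⟩
      have h5 : IsAdmissible R M ((e ∘ Equiv.swap a b) ∘ Equiv.swap a b) :=
        (swapAdm ⟨e ∘ Equiv.swap a b, he'⟩ a b hab (by
          intro r hr
          show r • (e ∘ Equiv.swap a b) a ∈ spanBefore R M (e ∘ Equiv.swap a b) b
          rw [H.f'_a, H.span_eq b (Or.inl le_rfl)]
          exact h1' r hr)).2
      have h6 : (e ∘ Equiv.swap a b) ∘ Equiv.swap a b = e := by
        funext j; simp
      rwa [h6] at h5
    rw [clsT_of_not_adm e he, clsT_of_not_adm _ he', add_zero]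

end raw

section ext

variable {K : Type v} [AddCommGroup K] [Module R K] {L : Type v} [AddCommGroup L] [Module R L]
variable {k m : ℕ}

/-- lifting membership through `g` when `ker g` lies in the span of `p` -/
lemma mem_spanBefore_append_of_map (g : L →ₗ[R] M) (p : Fin k → L)
    (hker : LinearMap.ker g ≤ Submodule.span R (Set.range p)) (q : Fin m → L) (j : ℕ) (z : L)
    (hz : g z ∈ spanBefore R M (g ∘ q) j) :
    z ∈ spanBefore R L (Fin.append p q) (k + j) := by
  rw [spanBefore_map] at hz
  obtain ⟨y, hy, hyz⟩ := Submodule.mem_map.mp hz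
  rw [spanBefore_append_add]
  have h1 : z = (z - y) + y := by abel
  rw [h1]
  refine Submodule.add_mem _ (Submodule.mem_sup_left (hker ?_)) (Submodule.mem_sup_right hy)
  rw [LinearMap.mem_ker, map_sub, hyz, sub_self]

lemma adm_append (g : L →ₗ[R] M) (p : Fin k → L) (hp : IsAdmissible R L p)
    (hker : LinearMap.ker g ≤ Submodule.span R (Set.range p)) (q : Fin m → L)
    (hq : IsAdmissible R M (g ∘ q)) : IsAdmissible R L (Fin.append p q) := by
  intro i r hr
  induction i using Fin.addCases with
  | left i =>
    rw [Fin.append_left, Fin.val_castAdd, spanBefore_append_le p q i (by omega)]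
    exact hp i r hr
  | right j =>
    rw [Fin.append_right, Fin.val_natAdd]
    apply mem_spanBefore_append_of_map g p hker
    rw [map_smul]
    exact hq j r hr

omit [IsLocalRing R] in
lemma comp_sec (g : L →ₗ[R] M) (σ : M → L) (hσ : ∀ y, g (σ y) = y) (e : Fin m → M) :
    g ∘ (σ ∘ e) = e := by
  funext j; simp [hσ]

/-- the map on admissible tuples of `M` given by appending lifts to `p` -/
noncomputable def phiM (σ : M → L) (p : Fin k → L) (eM : Adm R M m) : DetOfLen R L (k + m) :=
  clsT (Fin.append p (σ ∘ eM.1))

/-- the induced map `det M → det L` -/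
noncomputable def PhiM (g : L →ₗ[R] M) (σ : M → L) (hσ : ∀ y, g (σ y) = y) (p : Fin k → L)
    (hker : LinearMap.ker g ≤ Submodule.span R (Set.range p)) :
    DetOfLen R M m →ₗ[ResidueField R] DetOfLen R L (k + m) :=
  liftDet (phiM σ p)
    (by
      have hgσ := comp_sec g σ hσ (m := m)
      intro e a h
      apply clsT_eq_zero_of_mem _ (Fin.natAdd k a)
      rw [Fin.append_right, Fin.val_natAdd]
      apply mem_spanBefore_append_of_map g p hker
      rw [hgσ, Function.comp_apply, hσ]
      exact h)
    (by
      have hgσ := comp_sec g σ hσ (m := m)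
      intro e e' a c h1 h2
      apply clsT_rel_b _ _ (Fin.natAdd k a) c
      · intro j hj
        induction j using Fin.addCases with
        | left i => rw [Fin.append_left, Fin.append_left]
        | right j =>
          rw [Fin.append_right, Fin.append_right, Function.comp_apply, Function.comp_apply, h1]
          intro hja
          exact hj (by rw [hja])
      · rw [Fin.append_right, Fin.append_right, Fin.val_natAdd]
        apply mem_spanBefore_append_of_map g p hker
        rw [hgσ, map_sub, map_smul, Function.comp_apply, Function.comp_apply, hσ, hσ]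
        exact h2)
    (by
      have hgσ := comp_sec g σ hσ (m := m)
      intro e e' a b hab h1 h2
      unfold phiM
      rw [h2, ← Function.comp_assoc, append_comp_swap_right]
      apply clsT_rel_c _ (Fin.natAdd k a) (Fin.natAdd k b)
      · rw [Fin.val_natAdd, Fin.val_natAdd]; omega
      · intro r hr
        rw [Fin.append_right, Fin.val_natAdd]
        apply mem_spanBefore_append_of_map g p hker
        rw [hgσ, map_smul, Function.comp_apply, hσ]
        exact h1 r hr
      · intro r hr
        rw [Fin.append_right, Fin.val_natAdd]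
        apply mem_spanBefore_append_of_map g p hker
        rw [hgσ, map_smul, Function.comp_apply, hσ]
        exact e.2 b r hr)

lemma PhiM_cls (g : L →ₗ[R] M) (σ : M → L) (hσ : ∀ y, g (σ y) = y) (p : Fin k → L)
    (hker : LinearMap.ker g ≤ Submodule.span R (Set.range p)) (eM : Adm R M m) :
    PhiM g σ hσ p hker (cls eM) = clsT (Fin.append p (σ ∘ eM.1)) :=
  liftDet_cls _ _ _ _ eM

/-- the map on admissible tuples of `K` given by appending a fixed `q` -/
noncomputable def chiK (f : K →ₗ[R] L) (q : Fin m → L) (eK : Adm R K k) :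
    DetOfLen R L (k + m) :=
  clsT (Fin.append (f ∘ eK.1) q)

/-- the induced map `det K → det L` -/
noncomputable def ChiK (f : K →ₗ[R] L) (q : Fin m → L) :
    DetOfLen R K k →ₗ[ResidueField R] DetOfLen R L (k + m) :=
  liftDet (chiK f q)
    (by
      intro e a h
      apply clsT_eq_zero_of_mem _ (Fin.castAdd m a)
      rw [Fin.append_left, Fin.val_castAdd, spanBefore_append_le _ _ _ (by omega),
        spanBefore_map]
      exact Submodule.mem_map_of_mem h)
    (by
      intro e e' a c h1 h2
      apply clsT_rel_b _ _ (Fin.castAdd m a) c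
      · intro j hj
        induction j using Fin.addCases with
        | left i =>
          rw [Fin.append_left, Fin.append_left, Function.comp_apply, Function.comp_apply, h1]
          intro hia
          exact hj (by rw [hia])
        | right j => rw [Fin.append_right, Fin.append_right]
      · rw [Fin.append_left, Fin.append_left, Fin.val_castAdd,
          spanBefore_append_le _ _ _ (by omega), spanBefore_map, Function.comp_apply,
          Function.comp_apply, ← map_smul, ← map_sub]
        exact Submodule.mem_map_of_mem h2)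
    (by
      intro e e' a b hab h1 h2
      unfold chiK
      rw [h2, ← Function.comp_assoc, append_comp_swap_left]
      apply clsT_rel_c _ (Fin.castAdd m a) (Fin.castAdd m b)
      · rw [Fin.val_castAdd, Fin.val_castAdd]; exact hab
      · intro r hr
        rw [Fin.append_left, Fin.val_castAdd, spanBefore_append_le _ _ _ (by omega),
          spanBefore_map, Function.comp_apply, ← map_smul]
        exact Submodule.mem_map_of_mem (h1 r hr)
      · intro r hr
        rw [Fin.append_left, Fin.val_castAdd, spanBefore_append_le _ _ _ (by omega),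
          spanBefore_map, Function.comp_apply, ← map_smul]
        exact Submodule.mem_map_of_mem (e.2 b r hr))

lemma ChiK_cls (f : K →ₗ[R] L) (q : Fin m → L) (eK : Adm R K k) :
    ChiK f q (cls eK) = clsT (Fin.append (f ∘ eK.1) q) :=
  liftDet_cls _ _ _ _ eK

/-- independence of the choice of lifts -/
lemma clsT_append_congr (g : L →ₗ[R] M) (p : Fin k → L)
    (hker : LinearMap.ker g ≤ Submodule.span R (Set.range p)) (q q' : Fin m → L)
    (hqq : ∀ j, g (q j) = g (q' j)) :
    clsT (R := R) (Fin.append p q) = clsT (Fin.append p q') := by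
  classical
  let h : ℕ → Fin m → L := fun t j => if (j : ℕ) < t then q' j else q j
  have key : ∀ t : ℕ, clsT (R := R) (Fin.append p (h t)) = clsT (Fin.append p q) := by
    intro t
    induction t with
    | zero =>
      congr 2
    | succ t ih =>
      rw [← ih]
      by_cases htm : t < m
      · have h3 := clsT_rel_b (R := R) (Fin.append p (h (t + 1))) (Fin.append p (h t))
          (Fin.natAdd k ⟨t, htm⟩) 1 ?_ ?_
        · rw [h3, Units.val_one, map_one, one_smul]
        · intro j hj
          induction j using Fin.addCases with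
          | left i => rw [Fin.append_left, Fin.append_left]
          | right j =>
            rw [Fin.append_right, Fin.append_right]
            have hjt : (j : ℕ) ≠ t := by
              intro e
              apply hj
              congr 1
              exact Fin.ext e
            show (if (j : ℕ) < t + 1 then q' j else q j) = if (j : ℕ) < t then q' j else q j
            by_cases hlt : (j : ℕ) < t
            · rw [if_pos hlt, if_pos (by omega)]
            · rw [if_neg hlt, if_neg (by omega)]
        · rw [Fin.append_right, Fin.append_right, Fin.val_natAdd]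
          apply mem_spanBefore_append_of_map g p hker
          have : g (h (t + 1) ⟨t, htm⟩ - ((1 : Rˣ) : R) • h t ⟨t, htm⟩) = 0 := by
            show g ((if t < t + 1 then q' ⟨t, htm⟩ else q ⟨t, htm⟩) -
              ((1 : Rˣ) : R) • (if t < t then q' ⟨t, htm⟩ else q ⟨t, htm⟩)) = 0
            rw [if_pos (by omega), if_neg (by omega), Units.val_one, one_smul, map_sub, hqq,
              sub_self]
          rw [this]
          exact Submodule.zero_mem _
      · have : h (t + 1) = h t := by
          funext j
          show (if (j : ℕ) < t + 1 then q' j else q j) = if (j : ℕ) < t then q' j else q j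
          have := j.2
          rw [if_pos (by omega), if_pos (by omega)]
        rw [this]
  have hm : h m = q' := by
    funext j
    show (if (j : ℕ) < m then q' j else q j) = q' j
    rw [if_pos j.2]
  rw [← key m, hm]

end ext

section existence

/-- a coatom submodule contains `𝔪 • y` for every `y` -/
lemma smul_mem_of_isCoatom (N : Submodule R M) (hN : IsCoatom N) (y : M) (r : R)
    (hr : r ∈ maximalIdeal R) : r • y ∈ N := by
  by_contra hry
  have hlt : N < N ⊔ Submodule.span R {r • y} := by
    apply lt_of_le_of_ne le_sup_left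
    intro heq
    apply hry
    rw [heq]
    exact Submodule.mem_sup_right (Submodule.mem_span_singleton_self _)
  have htop := hN.2 _ hlt
  have hy : y ∈ N ⊔ Submodule.span R {r • y} := by rw [htop]; exact Submodule.mem_top
  obtain ⟨n, hn, z, hz, hnz⟩ := Submodule.mem_sup.mp hy
  obtain ⟨s, rfl⟩ := Submodule.mem_span_singleton.mp hz
  have hu : IsUnit (1 - s * r) := by
    by_contra hnu
    have h1 : 1 - s * r ∈ maximalIdeal R := (IsLocalRing.mem_maximalIdeal _).mpr hnu
    have h2 : s * r ∈ maximalIdeal R := Ideal.mul_mem_left _ _ hr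
    have h3 : (1 : R) ∈ maximalIdeal R := by
      have := Ideal.add_mem _ h1 h2
      rwa [sub_add_cancel] at this
    exact (Ideal.ne_top_iff_one _).mp (maximalIdeal.isMaximal R).ne_top h3
  have h4 : (1 - s * r) • y = n := by
    rw [sub_smul, one_smul, ← smul_smul]
    exact sub_eq_of_eq_add hnz.symm
  have h5 : y ∈ N := by
    have : y = ((hu.unit⁻¹ : Rˣ) : R) • ((1 - s * r) • y) := by
      rw [smul_smul]
      have := Units.inv_mul hu.unit
      rw [IsUnit.unit_spec] at this
      rw [this, one_smul]
    rw [this, h4]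
    exact Submodule.smul_mem _ _ hn
  exact hry (Submodule.smul_mem _ _ h5)

theorem exists_adm_gen_nondeg (hM : IsFiniteLength R M) :
    ∃ (l : ℕ) (e : Adm R M l), Submodule.span R (Set.range e.1) = ⊤ ∧ Nondeg (R := R) e.1 := by
  induction hM with
  | of_subsingleton =>
    refine ⟨0, ⟨fun i => i.elim0, fun i => i.elim0⟩, Subsingleton.elim _ _, fun i => i.elim0⟩
  | @of_simple_quotient M _ _ N hN _ ih =>
    obtain ⟨l, e, hgen, hnd⟩ := ih
    have hco : IsCoatom N := isSimpleModule_iff_isCoatom.mp hN
    obtain ⟨y, hy⟩ : ∃ y : M, y ∉ N := by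
      by_contra hcon
      push Not at hcon
      exact hco.1 (eq_top_iff.mpr fun y _ => hcon y)
    let p : Fin l → M := N.subtype ∘ e.1
    let q : Fin 1 → M := fun _ => y
    have hp_span : Submodule.span R (Set.range p) = N := by
      have : Set.range p = N.subtype '' (Set.range e.1) := by
        rw [Set.range_comp]
      rw [this, ← Submodule.map_span, hgen, Submodule.map_top, Submodule.range_subtype]
    have hsp_le : ∀ i : ℕ, i ≤ l →
        spanBefore R M (Fin.append p q) i = (spanBefore R N e.1 i).map N.subtype := by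
      intro i hi
      rw [spanBefore_append_le p q i hi, spanBefore_map]
    have hsp_l : spanBefore R M (Fin.append p q) (l + 0) = N := by
      rw [spanBefore_append_add, spanBefore_zero, sup_bot_eq, hp_span]
    have hadm : IsAdmissible R M (Fin.append p q) := by
      intro i r hr
      induction i using Fin.addCases with
      | left i =>
        rw [Fin.append_left, Fin.val_castAdd, hsp_le i (by omega)]
        have : r • p i = N.subtype (r • e.1 i) := by
          rw [map_smul]; rfl
        rw [this]
        exact Submodule.mem_map_of_mem (e.2 i r hr)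
      | right j =>
        rw [Fin.append_right, Fin.val_natAdd]
        have hj : (j : ℕ) = 0 := by omega
        rw [hj, hsp_l]
        exact smul_mem_of_isCoatom N hco y r hr
    refine ⟨l + 1, ⟨Fin.append p q, hadm⟩, ?_, ?_⟩
    · show Submodule.span R (Set.range (Fin.append p q)) = ⊤
      rw [← spanBefore_of_le (Fin.append p q) (le_refl (l + 1))]
      have h1 := spanBefore_append_add (R := R) p q 1
      rw [h1, hp_span]
      apply hco.2
      apply lt_of_le_of_ne le_sup_left
      intro heq
      apply hy
      rw [heq]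
      apply Submodule.mem_sup_right
      have := mem_spanBefore (R := R) q 0 (show ((0 : Fin 1) : ℕ) < 1 by simp)
      exact this
    · intro i hi
      change Fin.append p q i ∈ spanBefore R M (Fin.append p q) i at hi
      induction i using Fin.addCases with
      | left i =>
        rw [Fin.append_left, Fin.val_castAdd, hsp_le i (by omega)] at hi
        obtain ⟨z, hz, hzi⟩ := Submodule.mem_map.mp hi
        have : z = e.1 i := Subtype.ext hzi
        rw [this] at hz
        exact hnd i hz
      | right j =>
        rw [Fin.append_right, Fin.val_natAdd] at hi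
        have hj : (j : ℕ) = 0 := by omega
        rw [hj, hsp_l] at hi
        exact hy hi

/-- the length of a generating nondegenerate admissible tuple is the length of the module -/
lemma length_eq_of_gen_nondeg {l : ℕ} (e : Adm R M l)
    (hgen : Submodule.span R (Set.range e.1) = ⊤) (hnd : Nondeg (R := R) e.1) :
    Module.length R M = l :=
  le_antisymm (length_le_of_adm_gen e.1 e.2 hgen) (le_length_of_nondeg e.1 hnd)

theorem exists_adm_gen {l : ℕ} (hlen : Module.length R M = l) :
    ∃ e : Adm R M l, Submodule.span R (Set.range e.1) = ⊤ ∧ Nondeg (R := R) e.1 := by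
  have hM : IsFiniteLength R M := by
    rw [← Module.length_ne_top_iff, hlen]
    exact ENat.natCast_ne_top l
  obtain ⟨l', e, hgen, hnd⟩ := exists_adm_gen_nondeg (R := R) hM
  have h1 := length_eq_of_gen_nondeg e hgen hnd
  rw [hlen] at h1
  have h2 : l = l' := by exact_mod_cast h1
  subst h2
  exact ⟨e, hgen, hnd⟩

end existence

section gamma

open TensorProduct

lemma exists_equiv_of_rank_le_one {F : Type*} [Field F] {V : Type*} [AddCommGroup V] [Module F V]
    (hr : Module.rank F V ≤ 1) (v₀ : V) (h0 : v₀ ≠ 0) :
    ∃ ε : V ≃ₗ[F] F, ∀ w, w = ε w • v₀ := by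
  obtain ⟨v₁, hv₁⟩ := rank_le_one_iff.mp hr
  obtain ⟨r₀, hr₀⟩ := hv₁ v₀
  have hr₀0 : r₀ ≠ 0 := by
    rintro rfl
    rw [zero_smul] at hr₀
    exact h0 hr₀.symm
  have hsurj : Function.Surjective (LinearMap.toSpanSingleton F V v₀) := by
    intro w
    obtain ⟨r, hr⟩ := hv₁ w
    refine ⟨r * r₀⁻¹, ?_⟩
    rw [LinearMap.toSpanSingleton_apply, ← hr₀, smul_smul, mul_assoc, inv_mul_cancel₀ hr₀0,
      mul_one, hr]
  have hinj : Function.Injective (LinearMap.toSpanSingleton F V v₀) := by
    rw [← LinearMap.ker_eq_bot, LinearMap.ker_eq_bot']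
    intro r hr
    rw [LinearMap.toSpanSingleton_apply] at hr
    exact (smul_eq_zero.mp hr).resolve_right h0
  refine ⟨(LinearEquiv.ofBijective _ ⟨hinj, hsurj⟩).symm, fun w => ?_⟩
  exact ((LinearEquiv.ofBijective _ ⟨hinj, hsurj⟩).apply_symm_apply w).symm

variable {K : Type v} [AddCommGroup K] [Module R K] {L : Type v} [AddCommGroup L] [Module R L]

lemma ker_le_of_gen (f : K →ₗ[R] L) (g : L →ₗ[R] M) (hfg : LinearMap.range f = LinearMap.ker g)
    {k : ℕ} (eK : Fin k → K) (hgen : Submodule.span R (Set.range eK) = ⊤) :
    LinearMap.ker g ≤ Submodule.span R (Set.range (f ∘ eK)) := by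
  rw [Set.range_comp, ← Submodule.map_span, hgen, Submodule.map_top, hfg]

theorem exists_gamma (k m : ℕ) (hk : Module.length R K = k) (hm : Module.length R M = m)
    (f : K →ₗ[R] L) (g : L →ₗ[R] M) (hf : Function.Injective f) (hg : Function.Surjective g)
    (hfg : LinearMap.range f = LinearMap.ker g) :
    ∃ γ : (DetOfLen R K k ⊗[ResidueField R] DetOfLen R M m) ≃ₗ[ResidueField R]
        DetOfLen R L (k + m),
      ∀ (eK : Adm R K k) (eM : Adm R M m) (eL : Adm R L (k + m)), cls eK ≠ 0 →
        (∀ i, eL.1 (Fin.castAdd m i) = f (eK.1 i)) →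
        (∀ j, g (eL.1 (Fin.natAdd k j)) = eM.1 j) →
        γ (cls eK ⊗ₜ cls eM) = cls eL := by
  classical
  set σ : M → L := Function.surjInv hg with hσdef
  have hσ : ∀ y, g (σ y) = y := Function.surjInv_eq hg
  have hlenL : Module.length R L = ((k + m : ℕ) : ℕ∞) := by
    rw [Module.length_eq_add_of_exact f g hf hg (LinearMap.exact_iff.mpr hfg.symm), hk, hm]
    push_cast; rfl
  obtain ⟨eK0, hgenK0, hndK0⟩ := exists_adm_gen (R := R) (M := K) hk
  obtain ⟨eM0, hgenM0, hndM0⟩ := exists_adm_gen (R := R) (M := M) hm
  have hker0 := ker_le_of_gen f g hfg eK0.1 hgenK0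
  have hadm0 : IsAdmissible R L (Fin.append (f ∘ eK0.1) (σ ∘ eM0.1)) := by
    apply adm_append g _ (adm_map f _ eK0.2) hker0
    rw [comp_sec g σ hσ]
    exact eM0.2
  have hgen0 : Submodule.span R (Set.range (Fin.append (f ∘ eK0.1) (σ ∘ eM0.1))) = ⊤ := by
    rw [← spanBefore_of_le _ (le_refl (k + m)), eq_top_iff]
    intro z _
    apply mem_spanBefore_append_of_map g _ hker0
    rw [comp_sec g σ hσ, spanBefore_of_le _ (le_refl m), hgenM0]
    exact Submodule.mem_top
  have hnd0 := nondeg_of_gen _ hadm0 hgen0 hlenL
  have hL0 : cls (⟨_, hadm0⟩ : Adm R L (k + m)) ≠ 0 := cls_ne_zero_of_nondeg _ L ⟨_, hadm0⟩ hnd0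
  have hK0 : cls eK0 ≠ 0 := cls_ne_zero_of_nondeg _ K eK0 hndK0
  have hM0 : cls eM0 ≠ 0 := cls_ne_zero_of_nondeg _ M eM0 hndM0
  obtain ⟨εK, hεK⟩ := exists_equiv_of_rank_le_one (rank_detOfLen_le_one hk) _ hK0
  obtain ⟨εM, hεM⟩ := exists_equiv_of_rank_le_one (rank_detOfLen_le_one hm) _ hM0
  obtain ⟨εL, hεL⟩ := exists_equiv_of_rank_le_one (rank_detOfLen_le_one hlenL) _ hL0
  refine ⟨(TensorProduct.congr εK εM) ≪≫ₗ (TensorProduct.lid (ResidueField R) (ResidueField R))
    ≪≫ₗ εL.symm, ?_⟩
  intro eK eM eL hKne h1 h2
  have hndK : Nondeg (R := R) eK.1 := by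
    intro a ha
    exact hKne (cls_eq_zero_of_mem eK a ha)
  have hgenK := gen_of_nondeg eK.1 hndK hk
  have hker := ker_le_of_gen f g hfg eK.1 hgenK
  -- compute the left hand side
  have hlhs : ((TensorProduct.congr εK εM) ≪≫ₗ
      (TensorProduct.lid (ResidueField R) (ResidueField R)) ≪≫ₗ εL.symm) (cls eK ⊗ₜ cls eM) =
      (εK (cls eK) * εM (cls eM)) • cls (⟨_, hadm0⟩ : Adm R L (k + m)) := by
    rw [LinearEquiv.trans_apply, LinearEquiv.trans_apply, TensorProduct.congr_tmul,
      TensorProduct.lid_tmul, smul_eq_mul]
    have := hεL (εL.symm (εK (cls eK) * εM (cls eM)))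
    rw [LinearEquiv.apply_symm_apply] at this
    exact this
  rw [hlhs]
  -- compute the right hand side
  have heL : eL.1 = Fin.append (f ∘ eK.1) (fun j => eL.1 (Fin.natAdd k j)) := by
    funext i
    induction i using Fin.addCases with
    | left i => rw [Fin.append_left, h1]; rfl
    | right j => rw [Fin.append_right]
  have hrhs1 : cls eL = PhiM g σ hσ (f ∘ eK.1) hker (cls eM) := by
    have h3 : cls eL = clsT eL.1 := (clsT_eq eL.1 eL.2).symm
    rw [PhiM_cls, h3]
    conv_lhs => rw [heL]
    apply clsT_append_congr g _ hker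
    intro j
    rw [h2, Function.comp_apply, hσ]
  have hrhs2 : PhiM g σ hσ (f ∘ eK.1) hker (cls eM0) = ChiK f (σ ∘ eM0.1) (cls eK) := by
    rw [PhiM_cls, ChiK_cls]
  have hrhs3 : ChiK f (σ ∘ eM0.1) (cls eK0) = cls (⟨_, hadm0⟩ : Adm R L (k + m)) := by
    rw [ChiK_cls, clsT_eq _ hadm0]
  have e1 : PhiM g σ hσ (f ∘ eK.1) hker (cls eM) =
      εM (cls eM) • PhiM g σ hσ (f ∘ eK.1) hker (cls eM0) := by
    conv_lhs => rw [hεM (cls eM)]
    rw [map_smul]
  have e2 : ChiK f (σ ∘ eM0.1) (cls eK) = εK (cls eK) • ChiK f (σ ∘ eM0.1) (cls eK0) := by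
    conv_lhs => rw [hεK (cls eK)]
    rw [map_smul]
  rw [hrhs1, e1, hrhs2, e2, hrhs3, smul_smul, mul_comm]

theorem exists_gamma' (k m n : ℕ) (hlen : k + m = n) (hk : Module.length R K = k)
    (hm : Module.length R M = m)
    (f : K →ₗ[R] L) (g : L →ₗ[R] M) (hf : Function.Injective f) (hg : Function.Surjective g)
    (hfg : LinearMap.range f = LinearMap.ker g) :
    ∃ γ : (DetOfLen R K k ⊗[ResidueField R] DetOfLen R M m) ≃ₗ[ResidueField R]
        DetOfLen R L n,
      ∀ (eK : Adm R K k) (eM : Adm R M m) (eL : Adm R L n), cls eK ≠ 0 →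
        (∀ i, eL.1 (Fin.cast hlen (Fin.castAdd m i)) = f (eK.1 i)) →
        (∀ j, g (eL.1 (Fin.cast hlen (Fin.natAdd k j))) = eM.1 j) →
        γ (cls eK ⊗ₜ cls eM) = cls eL := by
  subst hlen
  exact exists_gamma k m hk hm f g hf hg hfg

end gamma

end Groth.Agent.Lib.Helper9.CycDetL
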