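import Mathlib
import Groth.Prelude.Def_W4c3severiratdpLat

/-!
Verified enumeration of conic classes in the lattices `DP δ`, `δ ≤ 8`.
-/

set_option autoImplicit false

namespace Groth.Agent.Helper9.DPConic

open W4c3severiratdp

/-- number of integer vectors of length `n` with entries in `[-B, B]`, sum `s`, sum of squares `q`
(pruned by Cauchy–Schwarz). -/
def cnt (B : ℕ) : ℕ → ℤ → ℤ → ℕ
  | 0, s, q => if s = 0 ∧ q = 0 then 1 else 0
  | n+1, s, q => if q < 0 ∨ ((n:ℤ)+1) * q < s * s then 0 else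
      ∑ i ∈ Finset.range (2*B+1), cnt B n (s - ((i:ℤ) - B)) (q - ((i:ℤ) - B) * ((i:ℤ) - B))

/-- the finset of solutions -/
def solF (B : ℕ) : (n : ℕ) → ℤ → ℤ → Finset (Fin n → ℤ)
  | 0, s, q => if s = 0 ∧ q = 0 then Finset.univ else ∅
  | n+1, s, q => if q < 0 ∨ ((n:ℤ)+1) * q < s * s then ∅ else
      (Finset.range (2*B+1)).biUnion (fun i =>
        (solF B n (s - ((i:ℤ) - B)) (q - ((i:ℤ) - B) * ((i:ℤ) - B))).map
          ⟨Fin.cons (α := fun _ => ℤ) ((i:ℤ) - B), Fin.cons_right_injective _⟩)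

lemma cs_bound {n : ℕ} (b : Fin n → ℤ) :
    (∑ i, b i) * (∑ i, b i) ≤ (n : ℤ) * ∑ i, b i * b i := by
  have := sq_sum_le_card_mul_sum_sq (s := (Finset.univ : Finset (Fin n))) (f := b)
  simpa [sq] using this

lemma sq_le_sum {n : ℕ} (b : Fin n → ℤ) (j : Fin n) : b j * b j ≤ ∑ i, b i * b i :=
  Finset.single_le_sum (f := fun i => b i * b i) (fun i _ => mul_self_nonneg (b i))
    (Finset.mem_univ j)

lemma mem_solF (B : ℕ) : ∀ (n : ℕ) (s q : ℤ), q ≤ (B:ℤ) * B → ∀ b : Fin n → ℤ,
    b ∈ solF B n s q ↔ (∑ i, b i = s ∧ ∑ i, b i * b i = q) := by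
  intro n
  induction n with
  | zero =>
    intro s q _ b
    simp only [solF, Finset.univ_eq_empty, Finset.sum_empty]
    split_ifs with h
    · simp only [h.1, h.2, and_self, iff_true]
      exact Finset.mem_univ _
    · simp only [Finset.notMem_empty, false_iff]
      rintro ⟨h1, h2⟩
      exact h ⟨h1.symm, h2.symm⟩
  | succ n ih =>
    intro s q hq b
    rw [solF]
    split_ifs with h
    · simp only [Finset.notMem_empty, false_iff]
      rintro ⟨h1, h2⟩
      rcases h with h | h
      · have : 0 ≤ ∑ i, b i * b i := Finset.sum_nonneg (fun i _ => mul_self_nonneg (b i))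
        omega
      · have := cs_bound b
        rw [h1, h2] at this
        push_cast at this
        omega
    · simp only [Finset.mem_biUnion, Finset.mem_range, Finset.mem_map,
        Function.Embedding.coeFn_mk]
      constructor
      · rintro ⟨i, hi, b', hb', rfl⟩
        have hq' : q - ((i:ℤ) - B) * ((i:ℤ) - B) ≤ (B:ℤ) * B := by
          have := mul_self_nonneg ((i:ℤ) - B)
          omega
        obtain ⟨h1, h2⟩ := (ih _ _ hq' b').mp hb'
        simp only [Fin.sum_univ_succ, Fin.cons_zero, Fin.cons_succ, h1, h2]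
        constructor <;> ring
      · rintro ⟨h1, h2⟩
        have hb0 : b 0 * b 0 ≤ (B:ℤ) * B := (sq_le_sum b 0).trans (h2 ▸ hq)
        have habs : |b 0| ≤ (B:ℤ) := by
          have := abs_le_of_sq_le_sq' (by simpa [sq] using hb0) (Int.natCast_nonneg B)
          exact abs_le.mpr this
        obtain ⟨hlo, hhi⟩ := abs_le.mp habs
        refine ⟨(b 0 + B).toNat, by omega, Fin.tail b, ?_, ?_⟩
        · have hx : (((b 0 + B).toNat : ℕ) : ℤ) - B = b 0 := by omega
          rw [hx]
          have hq' : q - b 0 * b 0 ≤ (B:ℤ) * B := by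
            have := mul_self_nonneg (b 0)
            omega
          refine (ih _ _ hq' _).mpr ⟨?_, ?_⟩
          · rw [Fin.sum_univ_succ] at h1
            simp only [Fin.tail]
            omega
          · rw [Fin.sum_univ_succ] at h2
            simp only [Fin.tail]
            omega
        · have hx : (((b 0 + B).toNat : ℕ) : ℤ) - B = b 0 := by omega
          rw [hx]
          exact Fin.cons_self_tail b

lemma card_solF (B : ℕ) : ∀ (n : ℕ) (s q : ℤ), (solF B n s q).card = cnt B n s q := by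
  intro n
  induction n with
  | zero =>
    intro s q
    simp only [solF, cnt]
    split_ifs <;> simp
  | succ n ih =>
    intro s q
    rw [solF, cnt]
    split_ifs with h
    · simp
    · rw [Finset.card_biUnion]
      · refine Finset.sum_congr rfl (fun i _ => ?_)
        rw [Finset.card_map, ih]
      · intro i _ j _ hij
        rw [Function.onFun, Finset.disjoint_left]
        intro b hbi hbj
        simp only [Finset.mem_map, Function.Embedding.coeFn_mk] at hbi hbj
        obtain ⟨b1, _, rfl⟩ := hbi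
        obtain ⟨b2, _, h2⟩ := hbj
        have := congrFun h2 0
        simp only [Fin.cons_zero] at this
        apply hij
        omega

lemma isConic_iff {δ : ℕ} (v : DP δ) : IsConic v ↔
    (∑ i : Fin δ, v i.succ = 3 * v 0 - 2 ∧ ∑ i : Fin δ, v i.succ * v i.succ = v 0 * v 0) := by
  have h0 : ∑ i : Fin δ, canon δ i.succ * v i.succ = - ∑ i : Fin δ, v i.succ := by
    simp [canon]
  have h1 : canon δ 0 = -3 := rfl
  simp only [IsConic, form, h0, h1]
  constructor <;> rintro ⟨h1, h2⟩ <;> constructor <;> omega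

/-- the finset of conic classes -/
def conicF (δ : ℕ) : Finset (DP δ) :=
  (Finset.range 12).biUnion (fun a =>
    (solF a δ (3 * (a:ℤ) - 2) ((a:ℤ) * a)).map
      ⟨Fin.cons (α := fun _ => ℤ) (a:ℤ), Fin.cons_right_injective _⟩)

lemma conic_bound {δ : ℕ} (hδ : δ ≤ 8) (v : DP δ) (hv : IsConic v) : 1 ≤ v 0 ∧ v 0 ≤ 11 := by
  rw [isConic_iff] at hv
  obtain ⟨h1, h2⟩ := hv
  have := cs_bound (fun i : Fin δ => v i.succ)
  simp only [h1, h2] at this
  have hδ' : (δ : ℤ) ≤ 8 := by exact_mod_cast hδ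
  have h3 : (δ : ℤ) * (v 0 * v 0) ≤ 8 * (v 0 * v 0) :=
    mul_le_mul_of_nonneg_right hδ' (mul_self_nonneg _)
  constructor <;> nlinarith

lemma mem_conicF {δ : ℕ} (hδ : δ ≤ 8) (v : DP δ) : v ∈ conicF δ ↔ IsConic v := by
  simp only [conicF, Finset.mem_biUnion, Finset.mem_range, Finset.mem_map,
    Function.Embedding.coeFn_mk]
  constructor
  · rintro ⟨a, _, b, hb, rfl⟩
    rw [mem_solF a δ _ _ le_rfl] at hb
    rw [isConic_iff]
    simpa using hb
  · intro hv
    obtain ⟨hlo, hhi⟩ := conic_bound hδ v hv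
    rw [isConic_iff] at hv
    refine ⟨(v 0).toNat, by omega, Fin.tail v, ?_, ?_⟩
    · have hx : (((v 0).toNat : ℕ) : ℤ) = v 0 := by omega
      rw [mem_solF _ δ _ _ le_rfl, hx]
      exact hv
    · have hx : (((v 0).toNat : ℕ) : ℤ) = v 0 := by omega
      rw [hx]
      exact Fin.cons_self_tail v

lemma card_conicF (δ : ℕ) :
    (conicF δ).card = ∑ a ∈ Finset.range 12, cnt a δ (3 * (a:ℤ) - 2) ((a:ℤ) * a) := by
  rw [conicF, Finset.card_biUnion]
  · refine Finset.sum_congr rfl (fun i _ => ?_)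
    rw [Finset.card_map, card_solF]
  · intro i _ j _ hij
    rw [Function.onFun, Finset.disjoint_left]
    intro b hbi hbj
    simp only [Finset.mem_map, Function.Embedding.coeFn_mk] at hbi hbj
    obtain ⟨b1, _, rfl⟩ := hbi
    obtain ⟨b2, _, h2⟩ := hbj
    have := congrFun h2 0
    simp only [Fin.cons_zero] at this
    apply hij
    omega

theorem ncard_conic {δ : ℕ} (hδ : δ ≤ 8) :
    {v : DP δ | IsConic v}.ncard = ∑ a ∈ Finset.range 12, cnt a δ (3 * (a:ℤ) - 2) ((a:ℤ) * a) := by
  have : {v : DP δ | IsConic v} = ↑(conicF δ) := by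
    ext v
    simp [mem_conicF hδ]
  rw [this, Set.ncard_coe_finset, card_conicF]

/-- list of non-increasing integer lists of length `n`, entries in `[-B, min B m]`, sum `s`,
sum of squares `q`. -/
def sortedSols (B : ℕ) : ℕ → ℤ → ℤ → ℤ → List (List ℤ)
  | 0, _, s, q => if s = 0 ∧ q = 0 then [[]] else []
  | n+1, m, s, q => if q < 0 ∨ ((n:ℤ)+1) * q < s * s then [] else
      (List.range (2*B+1)).flatMap (fun (i : ℕ) =>
        if ((i:ℤ) - B) ≤ m then
          (sortedSols B n ((i:ℤ) - B) (s - ((i:ℤ) - B)) (q - ((i:ℤ) - B) * ((i:ℤ) - B))).map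
            (fun l => ((i:ℤ) - B) :: l)
        else [])

lemma mem_sortedSols (B : ℕ) : ∀ (n : ℕ) (m s q : ℤ), q ≤ (B:ℤ) * B → ∀ b : Fin n → ℤ,
    Antitone b → (∀ i, b i ≤ m) → ∑ i, b i = s → ∑ i, b i * b i = q →
    List.ofFn b ∈ sortedSols B n m s q := by
  intro n
  induction n with
  | zero =>
    intro m s q _ b _ _ h1 h2
    simp only [Finset.univ_eq_empty, Finset.sum_empty] at h1 h2
    simp [sortedSols, ← h1, ← h2]
  | succ n ih =>
    intro m s q hq b hanti hm h1 h2
    rw [sortedSols]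
    have hnp : ¬ (q < 0 ∨ ((n:ℤ)+1) * q < s * s) := by
      rintro (h | h)
      · have : 0 ≤ ∑ i, b i * b i := Finset.sum_nonneg (fun i _ => mul_self_nonneg (b i))
        omega
      · have := cs_bound b
        rw [h1, h2] at this
        push_cast at this
        omega
    rw [if_neg hnp]
    have hb0 : b 0 * b 0 ≤ (B:ℤ) * B := (sq_le_sum b 0).trans (h2 ▸ hq)
    have habs : |b 0| ≤ (B:ℤ) := by
      have := abs_le_of_sq_le_sq' (by simpa [sq] using hb0) (Int.natCast_nonneg B)
      exact abs_le.mpr this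
    obtain ⟨hlo, hhi⟩ := abs_le.mp habs
    rw [List.mem_flatMap]
    have hi : (b 0 + B).toNat < 2 * B + 1 := by omega
    refine ⟨(b 0 + B).toNat, List.mem_range.mpr hi, ?_⟩
    have hx : (((b 0 + B).toNat : ℕ) : ℤ) - B = b 0 := by omega
    rw [hx, if_pos (hm 0), List.ofFn_succ, List.mem_map]
    refine ⟨List.ofFn (fun i => b i.succ), ?_, rfl⟩
    have hq' : q - b 0 * b 0 ≤ (B:ℤ) * B := by
      have := mul_self_nonneg (b 0)
      omega
    refine ih (b 0) _ _ hq' (fun i => b i.succ) ?_ ?_ ?_ ?_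
    · intro i j hij
      exact hanti (Fin.succ_le_succ_iff.mpr hij)
    · intro i
      exact hanti (Fin.zero_le _)
    · rw [Fin.sum_univ_succ] at h1
      omega
    · rw [Fin.sum_univ_succ] at h2
      omega

/-- a conic class in `DP 8` with non-increasing `b`-part appears in the sorted enumeration -/
theorem ofFn_mem_sortedSols (v : DP 8) (hv : IsConic v)
    (hanti : Antitone (fun i : Fin 8 => v i.succ)) :
    ∃ a ∈ List.range 12, ∃ l ∈ sortedSols a 8 a (3 * (a:ℤ) - 2) ((a:ℤ) * a),
      List.ofFn v = (a:ℤ) :: l := by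
  obtain ⟨hlo, hhi⟩ := conic_bound le_rfl v hv
  rw [isConic_iff] at hv
  have hx : (((v 0).toNat : ℕ) : ℤ) = v 0 := by omega
  have hi : (v 0).toNat < 12 := by omega
  refine ⟨(v 0).toNat, List.mem_range.mpr hi, List.ofFn (fun i : Fin 8 => v i.succ), ?_, ?_⟩
  · rw [hx]
    have := mem_sortedSols (v 0).toNat 8 (v 0) (3 * v 0 - 2) (v 0 * v 0) (by rw [hx])
      (fun i : Fin 8 => v i.succ) hanti ?_ hv.1 hv.2
    · exact this
    · intro i
      have h1 := sq_le_sum (fun i : Fin 8 => v i.succ) i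
      rw [hv.2] at h1
      have := abs_le_of_sq_le_sq' (by simpa [sq] using h1) (by omega : (0:ℤ) ≤ v 0)
      exact this.2
  · rw [hx, List.ofFn_succ]

end Groth.Agent.Helper9.DPConic
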