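import Mathlib
import Groth.Prelude.Def_W4c3severiratdpLat
import Groth.Agent.Lib.Helper9.DPConic

/-!
Function-valued enumerators of (semi-)sorted integer vectors with prescribed sum and sum of squares.
-/

set_option autoImplicit false

namespace Groth.Agent.Helper9.DPEnum

open W4c3severiratdp Groth.Agent.Helper9.DPConic

/-- non-increasing integer vectors of length `n`, entries in `[-B, min B m]`, sum `s`,
sum of squares `q`. -/
def sortedSolsF (B : ℕ) : (n : ℕ) → ℤ → ℤ → ℤ → List (Fin n → ℤ)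
  | 0, _, s, q => if s = 0 ∧ q = 0 then [Fin.elim0] else []
  | n+1, m, s, q => if q < 0 ∨ ((n:ℤ)+1) * q < s * s then [] else
      (List.range (2*B+1)).flatMap (fun (i : ℕ) =>
        if ((i:ℤ) - B) ≤ m then
          (sortedSolsF B n ((i:ℤ) - B) (s - ((i:ℤ) - B)) (q - ((i:ℤ) - B) * ((i:ℤ) - B))).map
            (Fin.cons (α := fun _ => ℤ) ((i:ℤ) - B))
        else [])

/-- first coordinate free, the rest non-increasing -/
def semi1 (B : ℕ) (n : ℕ) (s q : ℤ) : List (Fin (n+1) → ℤ) :=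
  (List.range (2*B+1)).flatMap (fun (i : ℕ) =>
    (sortedSolsF B n B (s - ((i:ℤ) - B)) (q - ((i:ℤ) - B) * ((i:ℤ) - B))).map
      (Fin.cons (α := fun _ => ℤ) ((i:ℤ) - B)))

/-- first two coordinates free, the rest non-increasing -/
def semi2 (B : ℕ) (n : ℕ) (s q : ℤ) : List (Fin (n+2) → ℤ) :=
  (List.range (2*B+1)).flatMap (fun (i : ℕ) =>
    (semi1 B n (s - ((i:ℤ) - B)) (q - ((i:ℤ) - B) * ((i:ℤ) - B))).map
      (Fin.cons (α := fun _ => ℤ) ((i:ℤ) - B)))

lemma abs_le_of_sq (B : ℕ) {n : ℕ} (b : Fin n → ℤ) {q : ℤ} (hq : q ≤ (B:ℤ) * B)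
    (h2 : ∑ i, b i * b i = q) (j : Fin n) : -(B:ℤ) ≤ b j ∧ b j ≤ B := by
  have hb0 : b j * b j ≤ (B:ℤ) * B := (sq_le_sum b j).trans (h2 ▸ hq)
  have := abs_le_of_sq_le_sq' (by simpa [sq] using hb0) (Int.natCast_nonneg B)
  exact this

lemma mem_sortedSolsF (B : ℕ) : ∀ (n : ℕ) (m s q : ℤ), q ≤ (B:ℤ) * B → ∀ b : Fin n → ℤ,
    Antitone b → (∀ i, b i ≤ m) → ∑ i, b i = s → ∑ i, b i * b i = q →
    b ∈ sortedSolsF B n m s q := by
  intro n
  induction n with
  | zero =>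
    intro m s q _ b _ _ h1 h2
    simp only [Finset.univ_eq_empty, Finset.sum_empty] at h1 h2
    have : b = Fin.elim0 := Subsingleton.elim _ _
    simp [sortedSolsF, ← h1, ← h2, this]
  | succ n ih =>
    intro m s q hq b hanti hm h1 h2
    rw [sortedSolsF]
    have hnp : ¬ (q < 0 ∨ ((n:ℤ)+1) * q < s * s) := by
      rintro (h | h)
      · have : 0 ≤ ∑ i, b i * b i := Finset.sum_nonneg (fun i _ => mul_self_nonneg (b i))
        omega
      · have := cs_bound b
        rw [h1, h2] at this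
        push_cast at this
        omega
    rw [if_neg hnp]
    obtain ⟨hlo, hhi⟩ := abs_le_of_sq B b hq h2 0
    rw [List.mem_flatMap]
    have hi : (b 0 + B).toNat < 2 * B + 1 := by omega
    refine ⟨(b 0 + B).toNat, List.mem_range.mpr hi, ?_⟩
    have hx : (((b 0 + B).toNat : ℕ) : ℤ) - B = b 0 := by omega
    rw [hx, if_pos (hm 0), List.mem_map]
    refine ⟨Fin.tail b, ?_, Fin.cons_self_tail b⟩
    have hq' : q - b 0 * b 0 ≤ (B:ℤ) * B := by
      have := mul_self_nonneg (b 0)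
      omega
    refine ih (b 0) _ _ hq' (Fin.tail b) ?_ ?_ ?_ ?_
    · intro i j hij
      exact hanti (Fin.succ_le_succ_iff.mpr hij)
    · intro i
      exact hanti (Fin.zero_le _)
    · rw [Fin.sum_univ_succ] at h1
      simp only [Fin.tail]
      omega
    · rw [Fin.sum_univ_succ] at h2
      simp only [Fin.tail]
      omega

lemma mem_semi1 (B n : ℕ) (s q : ℤ) (hq : q ≤ (B:ℤ) * B) (b : Fin (n+1) → ℤ)
    (hanti : Antitone (fun j : Fin n => b j.succ)) (h1 : ∑ i, b i = s)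
    (h2 : ∑ i, b i * b i = q) : b ∈ semi1 B n s q := by
  rw [semi1]
  obtain ⟨hlo, hhi⟩ := abs_le_of_sq B b hq h2 0
  rw [List.mem_flatMap]
  have hi : (b 0 + B).toNat < 2 * B + 1 := by omega
  refine ⟨(b 0 + B).toNat, List.mem_range.mpr hi, ?_⟩
  have hx : (((b 0 + B).toNat : ℕ) : ℤ) - B = b 0 := by omega
  rw [hx, List.mem_map]
  refine ⟨Fin.tail b, ?_, Fin.cons_self_tail b⟩
  have hq' : q - b 0 * b 0 ≤ (B:ℤ) * B := by
    have := mul_self_nonneg (b 0)
    omega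
  refine mem_sortedSolsF B n B _ _ hq' (Fin.tail b) hanti ?_ ?_ ?_
  · intro i
    exact (abs_le_of_sq B b hq h2 i.succ).2
  · rw [Fin.sum_univ_succ] at h1
    simp only [Fin.tail]
    omega
  · rw [Fin.sum_univ_succ] at h2
    simp only [Fin.tail]
    omega

lemma mem_semi2 (B n : ℕ) (s q : ℤ) (hq : q ≤ (B:ℤ) * B) (b : Fin (n+2) → ℤ)
    (hanti : Antitone (fun j : Fin n => b j.succ.succ)) (h1 : ∑ i, b i = s)
    (h2 : ∑ i, b i * b i = q) : b ∈ semi2 B n s q := by
  rw [semi2]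
  obtain ⟨hlo, hhi⟩ := abs_le_of_sq B b hq h2 0
  rw [List.mem_flatMap]
  have hi : (b 0 + B).toNat < 2 * B + 1 := by omega
  refine ⟨(b 0 + B).toNat, List.mem_range.mpr hi, ?_⟩
  have hx : (((b 0 + B).toNat : ℕ) : ℤ) - B = b 0 := by omega
  rw [hx, List.mem_map]
  refine ⟨Fin.tail b, ?_, Fin.cons_self_tail b⟩
  have hq' : q - b 0 * b 0 ≤ (B:ℤ) * B := by
    have := mul_self_nonneg (b 0)
    omega
  refine mem_semi1 B n _ _ hq' (Fin.tail b) hanti ?_ ?_
  · rw [Fin.sum_univ_succ] at h1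
    simp only [Fin.tail]
    omega
  · rw [Fin.sum_univ_succ] at h2
    simp only [Fin.tail]
    omega

end Groth.Agent.Helper9.DPEnum
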