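import Mathlib
import Groth.Prelude.Def_W4c3severiratdpLat
import Groth.Agent.Lib.Helper9.DPConic

/-!
Weyl group elements (reflections, permutations) on the lattices `DP δ` and a generic reduction
procedure.
-/

set_option autoImplicit false

namespace Groth.Agent.Helper9.DPWeyl

open W4c3severiratdp

variable {δ : ℕ}

lemma form_add_left (u v w : DP δ) : form (u + v) w = form u w + form v w := by
  simp only [form, Pi.add_apply, add_mul, Finset.sum_add_distrib]; ring

lemma form_add_right (u v w : DP δ) : form u (v + w) = form u v + form u w := by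
  simp only [form, Pi.add_apply, mul_add, Finset.sum_add_distrib]; ring

lemma form_smul_left (c : ℤ) (v w : DP δ) : form (c • v) w = c * form v w := by
  simp only [form, Pi.smul_apply, smul_eq_mul, mul_assoc, ← Finset.mul_sum]; ring

lemma form_smul_right (c : ℤ) (v w : DP δ) : form v (c • w) = c * form v w := by
  simp only [form, Pi.smul_apply, smul_eq_mul, mul_left_comm _ c, ← Finset.mul_sum]; ring

lemma form_comm (v w : DP δ) : form v w = form w v := by
  simp only [form, mul_comm]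

/-- the reflection in a root `r` -/
def refl (r : DP δ) (hr : form r r = -2) : DP δ ≃ₗ[ℤ] DP δ where
  toFun v := v + form v r • r
  invFun v := v + form v r • r
  map_add' u v := by
    simp only [form_add_left, add_smul]; abel
  map_smul' c v := by
    simp only [form_smul_left, RingHom.id_apply, smul_add, smul_smul]
  left_inv v := by
    simp only [form_add_left, form_smul_left, hr]
    rw [add_assoc, ← add_smul]
    have : form v r + (form v r + form v r * -2) = 0 := by ring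
    rw [this, zero_smul, add_zero]
  right_inv v := by
    simp only [form_add_left, form_smul_left, hr]
    rw [add_assoc, ← add_smul]
    have : form v r + (form v r + form v r * -2) = 0 := by ring
    rw [this, zero_smul, add_zero]

@[simp] lemma refl_apply (r : DP δ) (hr : form r r = -2) (v : DP δ) :
    refl r hr v = v + form v r • r := rfl

lemma isWeyl_refl (r : DP δ) (hr : form r r = -2) (hrK : form (canon δ) r = 0) :
    IsWeyl (refl r hr) := by
  refine ⟨fun v w => ?_, ?_⟩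
  · simp only [refl_apply, form_add_left, form_add_right, form_smul_left, form_smul_right, hr,
      form_comm r w]
    ring
  · simp only [refl_apply, hrK, zero_smul, add_zero]

/-- extension of a permutation of `Fin δ` to `Fin (δ+1)` fixing `0` -/
def ext0 (σ : Equiv.Perm (Fin δ)) : Equiv.Perm (Fin (δ + 1)) :=
  Equiv.Perm.decomposeFin.symm (0, σ)

@[simp] lemma ext0_zero (σ : Equiv.Perm (Fin δ)) : ext0 σ 0 = 0 := by
  simp [ext0]

@[simp] lemma ext0_succ (σ : Equiv.Perm (Fin δ)) (i : Fin δ) : ext0 σ i.succ = (σ i).succ := by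
  simp [ext0]

/-- the permutation automorphism -/
def permW (σ : Equiv.Perm (Fin δ)) : DP δ ≃ₗ[ℤ] DP δ :=
  LinearEquiv.funCongrLeft ℤ ℤ (ext0 σ)

@[simp] lemma permW_zero (σ : Equiv.Perm (Fin δ)) (v : DP δ) : permW σ v 0 = v 0 := by
  simp [permW, LinearEquiv.funCongrLeft_apply, LinearMap.funLeft_apply]

@[simp] lemma permW_succ (σ : Equiv.Perm (Fin δ)) (v : DP δ) (i : Fin δ) :
    permW σ v i.succ = v (σ i).succ := by
  simp [permW, LinearEquiv.funCongrLeft_apply, LinearMap.funLeft_apply]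

lemma isWeyl_permW (σ : Equiv.Perm (Fin δ)) : IsWeyl (permW σ) := by
  refine ⟨fun v w => ?_, ?_⟩
  · simp only [form, permW_zero, permW_succ]
    rw [Equiv.sum_comp σ (fun i => v i.succ * w i.succ)]
  · funext i
    refine Fin.cases ?_ (fun j => ?_) i
    · simp [canon]
    · simp [canon]

lemma isWeyl_one : IsWeyl (LinearEquiv.refl ℤ (DP δ)) :=
  ⟨fun _ _ => rfl, rfl⟩

lemma isWeyl_trans {g h : DP δ ≃ₗ[ℤ] DP δ} (hg : IsWeyl g) (hh : IsWeyl h) :
    IsWeyl (g.trans h) := by
  refine ⟨fun v w => ?_, ?_⟩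
  · simp only [LinearEquiv.trans_apply, hh.1, hg.1]
  · simp only [LinearEquiv.trans_apply, hg.2, hh.2]

lemma isWeyl_symm {g : DP δ ≃ₗ[ℤ] DP δ} (hg : IsWeyl g) : IsWeyl g.symm := by
  refine ⟨fun v w => ?_, ?_⟩
  · have := hg.1 (g.symm v) (g.symm w)
    simpa using this.symm
  · rw [LinearEquiv.symm_apply_eq, hg.2]

lemma form_canon_weyl {g : DP δ ≃ₗ[ℤ] DP δ} (hg : IsWeyl g) (v : DP δ) :
    form (canon δ) (g v) = form (canon δ) v := by
  have := hg.1 (canon δ) v
  rwa [hg.2] at this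

/-- the class of vectors with given self-intersection and degree -/
def Cls (n₁ n₂ : ℤ) (v : DP δ) : Prop := form v v = n₁ ∧ form (canon δ) v = n₂

lemma cls_weyl {n₁ n₂ : ℤ} {g : DP δ ≃ₗ[ℤ] DP δ} (hg : IsWeyl g) {v : DP δ} (hv : Cls n₁ n₂ v) :
    Cls n₁ n₂ (g v) :=
  ⟨(hg.1 v v).trans hv.1, (form_canon_weyl hg v).trans hv.2⟩

lemma isConic_iff_cls (v : DP δ) : IsConic v ↔ Cls 0 (-2) v := Iff.rfl

lemma isExc_iff_cls (v : DP δ) : IsExc v ↔ Cls (-1) (-1) v := Iff.rfl

/-- the subgroup-like predicate: Weyl elements fixing all members of `S` -/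
def Stab (S : Set (DP δ)) (g : DP δ ≃ₗ[ℤ] DP δ) : Prop := IsWeyl g ∧ ∀ F ∈ S, g F = F

lemma stab_one (S : Set (DP δ)) : Stab S (LinearEquiv.refl ℤ (DP δ)) :=
  ⟨isWeyl_one, fun _ _ => rfl⟩

lemma stab_trans {S : Set (DP δ)} {g h : DP δ ≃ₗ[ℤ] DP δ} (hg : Stab S g) (hh : Stab S h) :
    Stab S (g.trans h) :=
  ⟨isWeyl_trans hg.1 hh.1, fun F hF => by
    simp only [LinearEquiv.trans_apply, hg.2 F hF, hh.2 F hF]⟩

lemma stab_symm {S : Set (DP δ)} {g : DP δ ≃ₗ[ℤ] DP δ} (hg : Stab S g) : Stab S g.symm :=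
  ⟨isWeyl_symm hg.1, fun F hF => by rw [LinearEquiv.symm_apply_eq, hg.2 F hF]⟩

lemma stab_refl {S : Set (DP δ)} {r : DP δ} (hr : form r r = -2) (hrK : form (canon δ) r = 0)
    (hrF : ∀ F ∈ S, form F r = 0) : Stab S (refl r hr) :=
  ⟨isWeyl_refl r hr hrK, fun F hF => by
    simp only [refl_apply, hrF F hF, zero_smul, add_zero]⟩

/-- "reduced with respect to the root `r`": the reflection does not lower the degree. -/
def Red (r : DP δ) (v : DP δ) : Prop := ¬ (form v r * r 0 < 0)

instance (r v : DP δ) : Decidable (Red r v) := by unfold Red; infer_instance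

/-- generic reduction; the root conditions are only required when `r 0 ≠ 0` (so `r = 0` is
allowed and means "no reflection"). -/
theorem reduce_exists (n₁ n₂ : ℤ) (F : Set (DP δ)) (r : DP δ)
    (hroot : r 0 ≠ 0 → form r r = -2 ∧ form (canon δ) r = 0 ∧ ∀ f ∈ F, form f r = 0)
    (Srt : DP δ → Prop)
    (hsort : ∀ v : DP δ, ∃ g, Stab F g ∧ Srt (g v) ∧ (g v) 0 = v 0)
    (c : ℤ) (hbound : ∀ v : DP δ, Cls n₁ n₂ v → c ≤ v 0) :
    ∀ v : DP δ, Cls n₁ n₂ v → ∃ g, Stab F g ∧ Srt (g v) ∧ Red r (g v) := by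
  suffices H : ∀ (N : ℕ) (v : DP δ), Cls n₁ n₂ v → (v 0 - c).toNat = N →
      ∃ g, Stab F g ∧ Srt (g v) ∧ Red r (g v) from fun v hv => H _ v hv rfl
  intro N
  induction N using Nat.strong_induction_on with
  | _ N ih =>
    intro v hv hN
    obtain ⟨g₁, hg₁, hs₁, h0⟩ := hsort v
    by_cases hred : Red r (g₁ v)
    · exact ⟨g₁, hg₁, hs₁, hred⟩
    · have hlt : form (g₁ v) r * r 0 < 0 := not_not.mp hred
      have hr0 : r 0 ≠ 0 := by
        rintro h0
        rw [h0, mul_zero] at hlt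
        exact lt_irrefl _ hlt
      obtain ⟨hr, hrK, hrF⟩ := hroot hr0
      have hc1 : Cls n₁ n₂ (g₁ v) := cls_weyl hg₁.1 hv
      have hg₂ : Stab F (refl r hr) := stab_refl hr hrK hrF
      have hc2 : Cls n₁ n₂ (refl r hr (g₁ v)) := cls_weyl hg₂.1 hc1
      have h0' : (refl r hr (g₁ v)) 0 = v 0 + form (g₁ v) r * r 0 := by
        simp [refl_apply, h0]
      have hb1 := hbound _ hv
      have hb2 := hbound _ hc2
      have hlt' : ((refl r hr (g₁ v)) 0 - c).toNat < N := by
        rw [← hN]; omega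
      obtain ⟨g₃, hg₃, hs₃, hr₃⟩ := ih _ hlt' _ hc2 rfl
      refine ⟨(g₁.trans (refl r hr)).trans g₃, stab_trans (stab_trans hg₁ hg₂) hg₃, ?_, ?_⟩
      · simpa using hs₃
      · simpa using hr₃

/-! ### Sorting by permutations -/

/-- sorted `b`-part -/
def Srt0 (v : DP δ) : Prop := Antitone (fun i : Fin δ => v i.succ)

/-- first `b`-coordinate free, the others sorted -/
def Srt1 {n : ℕ} (v : DP (n+1)) : Prop := Antitone (fun j : Fin n => v j.succ.succ)

/-- first two `b`-coordinates free, the others sorted -/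
def Srt2 {n : ℕ} (v : DP (n+2)) : Prop := Antitone (fun j : Fin n => v j.succ.succ.succ)

lemma antitone_sort {n : ℕ} (f : Fin n → ℤ) :
    Antitone (fun i => f (Tuple.sort (fun i => - f i) i)) := by
  intro i j hij
  have := Tuple.monotone_sort (fun i => - f i) hij
  simp only [Function.comp] at this
  exact neg_le_neg_iff.mp this

theorem hsort0 (S : Set (DP δ)) (hS : ∀ F ∈ S, ∀ σ : Equiv.Perm (Fin δ), permW σ F = F)
    (v : DP δ) : ∃ g, Stab S g ∧ Srt0 (g v) ∧ (g v) 0 = v 0 := by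
  refine ⟨permW (Tuple.sort (fun i : Fin δ => - v i.succ)),
    ⟨isWeyl_permW _, fun F hF => hS F hF _⟩, ?_, permW_zero _ _⟩
  simp only [Srt0, permW_succ]
  exact antitone_sort (fun i : Fin δ => v i.succ)

theorem hsort1 {n : ℕ} (S : Set (DP (n+1)))
    (hS : ∀ F ∈ S, ∀ τ : Equiv.Perm (Fin n), permW (ext0 τ) F = F)
    (v : DP (n+1)) : ∃ g, Stab S g ∧ Srt1 (g v) ∧ (g v) 0 = v 0 ∧ (g v) 1 = v 1 := by
  refine ⟨permW (ext0 (Tuple.sort (fun j : Fin n => - v j.succ.succ))),
    ⟨isWeyl_permW _, fun F hF => hS F hF _⟩, ?_, permW_zero _ _, ?_⟩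
  · simp only [Srt1, permW_succ, ext0_succ]
    exact antitone_sort (fun j : Fin n => v j.succ.succ)
  · have : (1 : Fin (n+1+1)) = (0 : Fin (n+1)).succ := rfl
    rw [this, permW_succ, ext0_zero]

theorem hsort2 {n : ℕ} (S : Set (DP (n+2)))
    (hS : ∀ F ∈ S, ∀ τ : Equiv.Perm (Fin n), permW (ext0 (ext0 τ)) F = F)
    (v : DP (n+2)) : ∃ g, Stab S g ∧ Srt2 (g v) ∧ (g v) 0 = v 0 := by
  refine ⟨permW (ext0 (ext0 (Tuple.sort (fun j : Fin n => - v j.succ.succ.succ)))),
    ⟨isWeyl_permW _, fun F hF => hS F hF _⟩, ?_, permW_zero _ _⟩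
  simp only [Srt2, permW_succ, ext0_succ]
  exact antitone_sort (fun j : Fin n => v j.succ.succ.succ)

lemma fix0 (F : DP δ) (c : ℤ) (hF : ∀ i : Fin δ, F i.succ = c) (σ : Equiv.Perm (Fin δ)) :
    permW σ F = F := by
  funext i
  refine Fin.cases ?_ (fun j => ?_) i
  · simp
  · simp [hF]

lemma fix1 {n : ℕ} (F : DP (n+1)) (c : ℤ) (hF : ∀ j : Fin n, F j.succ.succ = c)
    (τ : Equiv.Perm (Fin n)) : permW (ext0 τ) F = F := by
  funext i
  refine Fin.cases ?_ (fun j => ?_) i
  · simp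
  · refine Fin.cases ?_ (fun k => ?_) j
    · rw [permW_succ, ext0_zero]
    · simp [hF]

lemma fix2 {n : ℕ} (F : DP (n+2)) (c : ℤ) (hF : ∀ j : Fin n, F j.succ.succ.succ = c)
    (τ : Equiv.Perm (Fin n)) : permW (ext0 (ext0 τ)) F = F := by
  funext i
  refine Fin.cases ?_ (fun j => ?_) i
  · simp
  · refine Fin.cases ?_ (fun k => ?_) j
    · rw [permW_succ, ext0_zero]
    · refine Fin.cases ?_ (fun l => ?_) k
      · rw [permW_succ, ext0_succ, ext0_zero]
      · simp [hF]

end Groth.Agent.Helper9.DPWeyl
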