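import Mathlib
import Groth.Prelude.Def_W4c3severiratdpLat
import Groth.Agent.Lib.Helper9.DPConic
import Groth.Agent.Lib.Helper9.DPWeyl
import Groth.Agent.Lib.Helper9.DPEnum

/-!
Enumerated lists of (semi-)sorted conic and exceptional classes in `DP δ`, `δ ≤ 8`.
-/

set_option autoImplicit false

namespace Groth.Agent.Helper9.DPCls

open W4c3severiratdp Groth.Agent.Helper9.DPConic Groth.Agent.Helper9.DPWeyl
  Groth.Agent.Helper9.DPEnum

variable {δ : ℕ}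

lemma cls_iff (n₁ n₂ : ℤ) (v : DP δ) : Cls n₁ n₂ v ↔
    (∑ i : Fin δ, v i.succ = 3 * v 0 + n₂ ∧
      ∑ i : Fin δ, v i.succ * v i.succ = v 0 * v 0 - n₁) := by
  have h0 : ∑ i : Fin δ, canon δ i.succ * v i.succ = - ∑ i : Fin δ, v i.succ := by
    simp [canon]
  have h1 : canon δ 0 = -3 := rfl
  simp only [Cls, form, h0, h1]
  constructor <;> rintro ⟨h1, h2⟩ <;> constructor <;> omega

/-- list of members of a class, from an enumerator of the `b`-parts -/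
def clsList (enum : ℤ → ℤ → List (Fin δ → ℤ)) (A : ℕ) (c n₁ n₂ : ℤ) : List (DP δ) :=
  (List.range A).flatMap (fun (i : ℕ) =>
    (enum (3 * (c + i) + n₂) ((c + i) * (c + i) - n₁)).map
      (Fin.cons (α := fun _ => ℤ) (c + i)))

lemma mem_clsList (enum : ℤ → ℤ → List (Fin δ → ℤ)) (A : ℕ) (c n₁ n₂ : ℤ) (v : DP δ)
    (hlo : c ≤ v 0) (hhi : v 0 < c + A)
    (hmem : Fin.tail v ∈ enum (3 * v 0 + n₂) (v 0 * v 0 - n₁)) :
    v ∈ clsList enum A c n₁ n₂ := by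
  rw [clsList, List.mem_flatMap]
  have hi : (v 0 - c).toNat < A := by omega
  refine ⟨(v 0 - c).toNat, List.mem_range.mpr hi, ?_⟩
  have hx : c + (((v 0 - c).toNat : ℕ) : ℤ) = v 0 := by omega
  rw [hx, List.mem_map]
  exact ⟨Fin.tail v, hmem, Fin.cons_self_tail v⟩

lemma exc_bound (hδ : δ ≤ 8) (v : DP δ) (hv : IsExc v) : -1 ≤ v 0 ∧ v 0 ≤ 7 := by
  rw [isExc_iff_cls, cls_iff] at hv
  obtain ⟨h1, h2⟩ := hv
  have := cs_bound (fun i : Fin δ => v i.succ)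
  simp only [h1, h2] at this
  have hδ' : (δ : ℤ) ≤ 8 := by exact_mod_cast hδ
  have h3 : (δ : ℤ) * (v 0 * v 0 - -1) ≤ 8 * (v 0 * v 0 - -1) :=
    mul_le_mul_of_nonneg_right hδ' (by nlinarith [mul_self_nonneg (v 0)])
  constructor <;> nlinarith

/-- sorted conic classes -/
def conSorted (δ : ℕ) : List (DP δ) := clsList (sortedSolsF 11 δ 11) 12 0 0 (-2)

/-- conic classes with sorted `b₂ ≥ b₃ ≥ …` -/
def conSemi1 (n : ℕ) : List (DP (n+1)) := clsList (semi1 11 n) 12 0 0 (-2)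

/-- sorted exceptional classes -/
def excSorted (δ : ℕ) : List (DP δ) := clsList (sortedSolsF 8 δ 8) 9 (-1) (-1) (-1)

/-- exceptional classes with sorted `b₂ ≥ b₃ ≥ …` -/
def excSemi1 (n : ℕ) : List (DP (n+1)) := clsList (semi1 8 n) 9 (-1) (-1) (-1)

/-- exceptional classes with sorted `b₃ ≥ b₄ ≥ …` -/
def excSemi2 (n : ℕ) : List (DP (n+2)) := clsList (semi2 8 n) 9 (-1) (-1) (-1)

lemma conic_q_le (hδ : δ ≤ 8) (v : DP δ) (hv : IsConic v) :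
    v 0 * v 0 - 0 ≤ ((11 : ℕ) : ℤ) * (11 : ℕ) := by
  obtain ⟨h1, h2⟩ := conic_bound hδ v hv
  push_cast
  nlinarith

lemma exc_q_le (hδ : δ ≤ 8) (v : DP δ) (hv : IsExc v) :
    v 0 * v 0 - -1 ≤ ((8 : ℕ) : ℤ) * (8 : ℕ) := by
  obtain ⟨h1, h2⟩ := exc_bound hδ v hv
  push_cast
  nlinarith

lemma mem_conSorted (hδ : δ ≤ 8) (v : DP δ) (hv : IsConic v) (hs : Srt0 v) :
    v ∈ conSorted δ := by
  obtain ⟨h1, h2⟩ := conic_bound hδ v hv
  have hq := conic_q_le hδ v hv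
  have hv' := (cls_iff 0 (-2) v).mp hv
  refine mem_clsList _ _ _ _ _ v (by omega) (by push_cast; omega) ?_
  refine mem_sortedSolsF 11 δ _ _ _ hq (Fin.tail v) hs ?_ hv'.1 hv'.2
  intro i
  exact (abs_le_of_sq 11 (Fin.tail v) hq hv'.2 i).2

lemma mem_conSemi1 {n : ℕ} (hδ : n + 1 ≤ 8) (v : DP (n+1)) (hv : IsConic v) (hs : Srt1 v) :
    v ∈ conSemi1 n := by
  obtain ⟨h1, h2⟩ := conic_bound hδ v hv
  have hq := conic_q_le hδ v hv
  have hv' := (cls_iff 0 (-2) v).mp hv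
  refine mem_clsList _ _ _ _ _ v (by omega) (by push_cast; omega) ?_
  exact mem_semi1 11 n _ _ hq (Fin.tail v) hs hv'.1 hv'.2

lemma mem_excSorted (hδ : δ ≤ 8) (v : DP δ) (hv : IsExc v) (hs : Srt0 v) :
    v ∈ excSorted δ := by
  obtain ⟨h1, h2⟩ := exc_bound hδ v hv
  have hq := exc_q_le hδ v hv
  have hv' := (cls_iff (-1) (-1) v).mp hv
  refine mem_clsList _ _ _ _ _ v (by omega) (by push_cast; omega) ?_
  refine mem_sortedSolsF 8 δ _ _ _ hq (Fin.tail v) hs ?_ hv'.1 hv'.2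
  intro i
  exact (abs_le_of_sq 8 (Fin.tail v) hq hv'.2 i).2

lemma mem_excSemi1 {n : ℕ} (hδ : n + 1 ≤ 8) (v : DP (n+1)) (hv : IsExc v) (hs : Srt1 v) :
    v ∈ excSemi1 n := by
  obtain ⟨h1, h2⟩ := exc_bound hδ v hv
  have hq := exc_q_le hδ v hv
  have hv' := (cls_iff (-1) (-1) v).mp hv
  refine mem_clsList _ _ _ _ _ v (by omega) (by push_cast; omega) ?_
  exact mem_semi1 8 n _ _ hq (Fin.tail v) hs hv'.1 hv'.2

lemma mem_excSemi2 {n : ℕ} (hδ : n + 2 ≤ 8) (v : DP (n+2)) (hv : IsExc v) (hs : Srt2 v) :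
    v ∈ excSemi2 n := by
  obtain ⟨h1, h2⟩ := exc_bound hδ v hv
  have hq := exc_q_le hδ v hv
  have hv' := (cls_iff (-1) (-1) v).mp hv
  refine mem_clsList _ _ _ _ _ v (by omega) (by push_cast; omega) ?_
  exact mem_semi2 8 n _ _ hq (Fin.tail v) hs hv'.1 hv'.2

end Groth.Agent.Helper9.DPCls
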