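import Mathlib

set_option autoImplicit false
universe u v w x y

namespace Groth.Agent.Helper9.DefModLib

variable {K : Type u} [Field K] {O : Type v} [CommRing O] [Algebra K O] (δ : Derivation K O O)
  {D : Type w} [Ring D] [Algebra K D] (ι : O →ₐ[K] D) (d : D)

/-- the linear map `(ℕ →₀ O) → R`, `c ↦ ∑ φ(c_i) t^i` -/
noncomputable def Lmap {R : Type y} [Ring R] [Algebra K R] (φ : O →ₐ[K] R) (t : R) :
    (ℕ →₀ O) →ₗ[K] R :=
  Finsupp.lsum K (fun i => (LinearMap.mulRight K (t ^ i)).comp φ.toLinearMap)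

lemma Lmap_apply {R : Type y} [Ring R] [Algebra K R] (φ : O →ₐ[K] R) (t : R) (c : ℕ →₀ O) :
    Lmap φ t c = c.sum (fun i f => φ f * t ^ i) := by
  simp only [Lmap, Finsupp.lsum_apply]
  rfl

lemma Lmap_single {R : Type y} [Ring R] [Algebra K R] (φ : O →ₐ[K] R) (t : R) (i : ℕ) (f : O) :
    Lmap φ t (Finsupp.single i f) = φ f * t ^ i := by
  simp [Lmap]

variable (hbasis : Function.Bijective (fun c : ℕ →₀ O => c.sum (fun i f => ι f * d ^ i)))

include hbasis in
lemma bij : Function.Bijective (Lmap ι d) := by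
  have : (Lmap ι d : (ℕ →₀ O) → D) = (fun c : ℕ →₀ O => c.sum (fun i f => ι f * d ^ i)) := by
    funext c; exact Lmap_apply ι d c
  rw [this]; exact hbasis

include hbasis in
lemma D_induction {p : D → Prop} (h0 : p 0) (hadd : ∀ a b, p a → p b → p (a + b))
    (hm : ∀ g j, p (ι g * d ^ j)) : ∀ Q, p Q := by
  intro Q
  obtain ⟨c, rfl⟩ := (bij ι d hbasis).2 Q
  induction c using Finsupp.induction_linear with
  | zero => rw [map_zero]; exact h0
  | add f g hf hg => rw [map_add]; exact hadd _ _ hf hg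
  | single i f => rw [Lmap_single]; exact hm f i

/-- the linear equivalence -/
noncomputable def Phi : (ℕ →₀ O) ≃ₗ[K] D := LinearEquiv.ofBijective (Lmap ι d) (bij ι d hbasis)

/-- the candidate hom, as a linear map -/
noncomputable def PsiL {R : Type y} [Ring R] [Algebra K R] (φ : O →ₐ[K] R) (t : R) : D →ₗ[K] R :=
  (Lmap φ t).comp (Phi ι d hbasis).symm.toLinearMap

lemma PsiL_mul_pow {R : Type y} [Ring R] [Algebra K R] (φ : O →ₐ[K] R) (t : R) (f : O) (i : ℕ) :
    PsiL ι d hbasis φ t (ι f * d ^ i) = φ f * t ^ i := by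
  have : (Phi ι d hbasis).symm (ι f * d ^ i) = Finsupp.single i f := by
    rw [LinearEquiv.symm_apply_eq]
    simp [Phi, Lmap_single]
  simp [PsiL, this, Lmap_single]

variable (hd : ∀ f : O, d * ι f = ι f * d + ι (δ f))

section UP
variable {R : Type y} [Ring R] [Algebra K R] (φ : O →ₐ[K] R) (t : R)
  (ht : ∀ f : O, t * φ f = φ f * t + φ (δ f))

lemma PsiL_iota_mul (f : O) (Q : D) :
    PsiL ι d hbasis φ t (ι f * Q) = φ f * PsiL ι d hbasis φ t Q := by
  refine D_induction ι d hbasis (p := fun Q => PsiL ι d hbasis φ t (ι f * Q) = φ f * PsiL ι d hbasis φ t Q)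
    ?_ ?_ ?_ Q
  · simp
  · intro a b ha hb; simp only [mul_add, map_add, ha, hb]
  · intro g j
    rw [← mul_assoc, ← map_mul, PsiL_mul_pow, PsiL_mul_pow, map_mul, mul_assoc]

include hd ht in
lemma PsiL_d_mul (Q : D) :
    PsiL ι d hbasis φ t (d * Q) = t * PsiL ι d hbasis φ t Q := by
  refine D_induction ι d hbasis (p := fun Q => PsiL ι d hbasis φ t (d * Q) = t * PsiL ι d hbasis φ t Q)
    ?_ ?_ ?_ Q
  · simp
  · intro a b ha hb; simp only [mul_add, map_add, ha, hb]
  · intro g j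
    rw [← mul_assoc, hd, add_mul, mul_assoc, ← pow_succ', map_add, PsiL_mul_pow, PsiL_mul_pow,
      PsiL_mul_pow, ← mul_assoc, ht, add_mul, mul_assoc, ← pow_succ']

include hd ht in
lemma PsiL_mul (P Q : D) :
    PsiL ι d hbasis φ t (P * Q) = PsiL ι d hbasis φ t P * PsiL ι d hbasis φ t Q := by
  refine D_induction ι d hbasis
    (p := fun P => ∀ Q, PsiL ι d hbasis φ t (P * Q) = PsiL ι d hbasis φ t P * PsiL ι d hbasis φ t Q)
    ?_ ?_ ?_ P Q
  · intro Q; simp
  · intro a b ha hb Q; simp only [add_mul, map_add, ha, hb]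
  · intro f i
    induction i with
    | zero => intro Q; rw [pow_zero, mul_one, PsiL_iota_mul]; congr 1; simpa using (PsiL_mul_pow ι d hbasis φ t f 0).symm
    | succ i ih =>
      intro Q
      rw [pow_succ, ← mul_assoc, mul_assoc (ι f * d ^ i), ih, PsiL_d_mul δ ι d hbasis hd φ t ht,
        PsiL_mul_pow, mul_assoc (ι f), ← pow_succ, PsiL_mul_pow, pow_succ, mul_assoc, mul_assoc,
        mul_assoc]

lemma PsiL_one : PsiL ι d hbasis φ t 1 = 1 := by
  have := PsiL_mul_pow ι d hbasis φ t 1 0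
  simpa using this

/-- universal property of the Ore extension -/
noncomputable def Psi : D →ₐ[K] R :=
  AlgHom.ofLinearMap (PsiL ι d hbasis φ t) (PsiL_one ι d hbasis φ t)
    (PsiL_mul δ ι d hbasis hd φ t ht)

lemma Psi_iota (f : O) : Psi δ ι d hbasis hd φ t ht (ι f) = φ f := by
  have := PsiL_mul_pow ι d hbasis φ t f 0
  simpa [Psi] using this

lemma Psi_d : Psi δ ι d hbasis hd φ t ht d = t := by
  have := PsiL_mul_pow ι d hbasis φ t 1 1
  simpa [Psi] using this

end UP

include hbasis in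
lemma algHom_ext {R : Type y} [Ring R] [Algebra K R] (a b : D →ₐ[K] R)
    (h1 : ∀ f, a (ι f) = b (ι f)) (h2 : a d = b d) : a = b := by
  ext Q
  refine D_induction ι d hbasis (p := fun Q => a Q = b Q) ?_ ?_ ?_ Q
  · simp
  · intro x y hx hy; rw [map_add, map_add, hx, hy]
  · intro g j; rw [map_mul, map_mul, map_pow, map_pow, h1, h2]


section Main
variable {E : Type x} [AddCommGroup E] [Module K E] (ρ : D →ₐ[K] Module.End K E)

local notation "Λ" => Module.End K E
local notation "T" => TrivSqZeroExt (Module.End K E) (Module.End K E)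

/-- the linear map `f ↦ (ρ(ι f), r f)` -/
noncomputable def phiL (r : O →ₗ[K] Module.End K E) : O →ₗ[K] T :=
  (TrivSqZeroExt.inlAlgHom K Λ Λ).toLinearMap ∘ₗ ρ.toLinearMap ∘ₗ ι.toLinearMap +
    ((TrivSqZeroExt.inrHom Λ Λ).restrictScalars K) ∘ₗ r

lemma phiL_fst (r : O →ₗ[K] Module.End K E) (f : O) : (phiL ι ρ r f).fst = ρ (ι f) := by
  simp [phiL]

lemma phiL_snd (r : O →ₗ[K] Module.End K E) (f : O) : (phiL ι ρ r f).snd = r f := by
  simp [phiL]

lemma r_one (r : O →ₗ[K] Module.End K E)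
    (hr : ∀ f g : O, r (f * g) = r f * ρ (ι g) + ρ (ι f) * r g) : r 1 = 0 := by
  have := hr 1 1
  simp only [mul_one, map_one, one_mul] at this
  have h2 : r 1 + 0 = r 1 + r 1 := by rw [add_zero]; exact this
  exact (add_left_cancel h2).symm

/-- `φ : O → T` as an algebra hom -/
noncomputable def phiA (r : O →ₗ[K] Module.End K E)
    (hr : ∀ f g : O, r (f * g) = r f * ρ (ι g) + ρ (ι f) * r g) : O →ₐ[K] T :=
  AlgHom.ofLinearMap (phiL ι ρ r)
    (by
      apply TrivSqZeroExt.ext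
      · rw [phiL_fst]; simp
      · rw [phiL_snd, r_one ι ρ r hr]; simp)
    (by
      intro f g
      apply TrivSqZeroExt.ext
      · rw [TrivSqZeroExt.fst_mul, phiL_fst, phiL_fst, phiL_fst, map_mul, map_mul]
      · rw [TrivSqZeroExt.snd_mul, phiL_fst, phiL_fst, phiL_snd, phiL_snd, phiL_snd, hr]
        simp [add_comm])


lemma der_one (s : D →ₗ[K] Module.End K E)
    (hs : ∀ P Q : D, s (P * Q) = s P * ρ Q + ρ P * s Q) : s 1 = 0 := by
  have := hs 1 1
  simp only [mul_one, map_one, one_mul] at this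
  have h2 : s 1 + 0 = s 1 + s 1 := by rw [add_zero]; exact this
  exact (add_left_cancel h2).symm

include hbasis in
lemma der_unique (s s' : D →ₗ[K] Module.End K E)
    (hs : ∀ P Q : D, s (P * Q) = s P * ρ Q + ρ P * s Q)
    (hs' : ∀ P Q : D, s' (P * Q) = s' P * ρ Q + ρ P * s' Q)
    (h1 : ∀ f, s (ι f) = s' (ι f)) (h2 : s d = s' d) : s = s' := by
  have hpow : ∀ j : ℕ, s (d ^ j) = s' (d ^ j) := by
    intro j
    induction j with
    | zero => rw [pow_zero, der_one ρ s hs, der_one ρ s' hs']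
    | succ j ih => rw [pow_succ, hs, hs', ih, h2]
  ext1 Q
  refine D_induction ι d hbasis (p := fun Q => s Q = s' Q) ?_ ?_ ?_ Q
  · simp
  · intro a b ha hb; rw [map_add, map_add, ha, hb]
  · intro g j; rw [hs, hs', h1, hpow]

include hd hbasis in
theorem main :
    (∀ s : D →ₗ[K] Module.End K E, (∀ P Q : D, s (P * Q) = s P * ρ Q + ρ P * s Q) →
      ∀ f : O, (s (ι f) * ρ d - ρ d * s (ι f)) + (ρ (ι f) * s d - s d * ρ (ι f)) + s (ι (δ f)) = 0) ∧
    ∀ (r : O →ₗ[K] Module.End K E) (v : Module.End K E),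
      (∀ f g : O, r (f * g) = r f * ρ (ι g) + ρ (ι f) * r g) →
      (∀ f : O, (r f * ρ d - ρ d * r f) + (ρ (ι f) * v - v * ρ (ι f)) + r (δ f) = 0) →
      ∃! s : D →ₗ[K] Module.End K E,
        (∀ P Q : D, s (P * Q) = s P * ρ Q + ρ P * s Q) ∧ s ∘ₗ ι.toLinearMap = r ∧ s d = v := by
  constructor
  · intro s hs f
    have h := congrArg s (hd f)
    rw [hs, map_add, hs] at h
    calc (s (ι f) * ρ d - ρ d * s (ι f)) + (ρ (ι f) * s d - s d * ρ (ι f)) + s (ι (δ f))
        = (s (ι f) * ρ d + ρ (ι f) * s d + s (ι (δ f))) - (s d * ρ (ι f) + ρ d * s (ι f)) := by abel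
      _ = 0 := by rw [← h, sub_self]
  · intro r v hr hv
    set t : T := TrivSqZeroExt.inl (ρ d) + TrivSqZeroExt.inr v with ht_def
    have htf : t.fst = ρ d := by simp [ht_def]
    have hts : t.snd = v := by simp [ht_def]
    have hρd : ∀ f : O, ρ d * ρ (ι f) = ρ (ι f) * ρ d + ρ (ι (δ f)) := by
      intro f; rw [← map_mul, hd, map_add, map_mul]
    have ht : ∀ f : O, t * phiA ι ρ r hr f = phiA ι ρ r hr f * t + phiA ι ρ r hr (δ f) := by
      intro f
      change t * phiL ι ρ r f = phiL ι ρ r f * t + phiL ι ρ r (δ f)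
      apply TrivSqZeroExt.ext
      · simp only [TrivSqZeroExt.fst_mul, TrivSqZeroExt.fst_add, phiL_fst, htf]
        exact hρd f
      · simp only [TrivSqZeroExt.snd_mul, TrivSqZeroExt.snd_add, phiL_fst, phiL_snd, htf, hts,
          MulOpposite.smul_eq_mul_unop, MulOpposite.unop_op, smul_eq_mul]
        have := hv f
        calc ρ d * r f + v * ρ (ι f)
            = (ρ (ι f) * v + r f * ρ d + r (δ f)) -
              ((r f * ρ d - ρ d * r f) + (ρ (ι f) * v - v * ρ (ι f)) + r (δ f)) := by abel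
          _ = ρ (ι f) * v + r f * ρ d + r (δ f) := by rw [this, sub_zero]
    let Ψ : D →ₐ[K] T := Psi δ ι d hbasis hd (phiA ι ρ r hr) t ht
    have hΨι : ∀ f, Ψ (ι f) = phiL ι ρ r f := fun f => Psi_iota δ ι d hbasis hd (phiA ι ρ r hr) t ht f
    have hΨd : Ψ d = t := Psi_d δ ι d hbasis hd (phiA ι ρ r hr) t ht
    have hfst : (TrivSqZeroExt.fstHom K Λ Λ).comp Ψ = ρ := by
      apply algHom_ext ι d hbasis
      · intro f; simp only [AlgHom.comp_apply, hΨι, TrivSqZeroExt.fstHom_apply, phiL_fst]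
      · simp only [AlgHom.comp_apply, hΨd, TrivSqZeroExt.fstHom_apply, htf]
    have hfst' : ∀ P, (Ψ P).fst = ρ P := fun P => congrArg (fun a => a P) hfst
    let s : D →ₗ[K] Module.End K E :=
      ((TrivSqZeroExt.sndHom Λ Λ).restrictScalars K) ∘ₗ Ψ.toLinearMap
    have hs_apply : ∀ P, s P = (Ψ P).snd := fun P => rfl
    have hsL : ∀ P Q : D, s (P * Q) = s P * ρ Q + ρ P * s Q := by
      intro P Q
      rw [hs_apply, hs_apply, hs_apply, map_mul, TrivSqZeroExt.snd_mul, hfst', hfst']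
      simp only [MulOpposite.smul_eq_mul_unop, MulOpposite.unop_op, smul_eq_mul]
      exact add_comm _ _
    have hsι : ∀ f, s (ι f) = r f := fun f => by rw [hs_apply, hΨι, phiL_snd]
    have hsd : s d = v := by rw [hs_apply, hΨd, hts]
    refine ⟨s, ⟨hsL, ?_, hsd⟩, ?_⟩
    · apply LinearMap.ext; intro f; exact hsι f
    · rintro s' ⟨hs'L, hs'ι, hs'd⟩
      apply der_unique ι d hbasis ρ s' s hs'L hsL
      · intro f
        rw [hsι]
        exact congrArg (fun a => a f) hs'ι
      · rw [hs'd, hsd]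

end Main

end Groth.Agent.Helper9.DefModLib
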