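import Mathlib

set_option autoImplicit false
universe u v

namespace Groth.Agent.Lib.Helper9.DieuL

section criterion

variable {R : Type u} [CommRing R] {M : Type v} [AddCommGroup M] [Module R M]

/-- elements of `𝔪_A • ⊤` in the localized module -/
lemma mem_maximal_smul_top (I : Ideal R) [I.IsPrime] (z : LocalizedModule I.primeCompl M)
    (hz : z ∈ (IsLocalRing.maximalIdeal (Localization.AtPrime I)) •
      (⊤ : Submodule (Localization.AtPrime I) (LocalizedModule I.primeCompl M))) :
    ∃ m ∈ (I • ⊤ : Submodule R M), ∃ s : I.primeCompl, z = LocalizedModule.mk m s := by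
  rw [← Localization.AtPrime.map_eq_maximalIdeal] at hz
  refine Submodule.smul_induction_on hz ?_ ?_
  · intro a ha y _
    obtain ⟨⟨i, s⟩, hi⟩ := (IsLocalization.mem_map_algebraMap_iff I.primeCompl _).mp ha
    have ha' : a = Localization.mk (i : R) s := by
      rw [Localization.mk_eq_mk', IsLocalization.eq_mk'_iff_mul_eq]
      exact hi
    induction y using LocalizedModule.induction_on with
    | h m t =>
      refine ⟨(i : R) • m, Submodule.smul_mem_smul i.2 Submodule.mem_top, s * t, ?_⟩
      rw [ha', LocalizedModule.mk_smul_mk]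
  · rintro x y ⟨m₁, hm₁, s₁, rfl⟩ ⟨m₂, hm₂, s₂, rfl⟩
    refine ⟨s₂ • m₁ + s₁ • m₂, ?_, s₁ * s₂, LocalizedModule.mk_add_mk⟩
    exact Submodule.add_mem _ (Submodule.smul_mem _ _ hm₁) (Submodule.smul_mem _ _ hm₂)

/-- conversely -/
lemma mk_mem_maximal_smul_top (I : Ideal R) [I.IsPrime] (m : M) (hm : m ∈ (I • ⊤ : Submodule R M))
    (s : I.primeCompl) :
    LocalizedModule.mk m s ∈ (IsLocalRing.maximalIdeal (Localization.AtPrime I)) •
      (⊤ : Submodule (Localization.AtPrime I) (LocalizedModule I.primeCompl M)) := by
  rw [← Localization.AtPrime.map_eq_maximalIdeal]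
  have h1 : LocalizedModule.mk m s = (Localization.mk (1 : R) s : Localization.AtPrime I) •
      LocalizedModule.mk m (1 : I.primeCompl) := by
    rw [LocalizedModule.mk_smul_mk, one_smul, mul_one]
  rw [h1]
  apply Submodule.smul_mem
  refine Submodule.smul_induction_on hm ?_ ?_
  · intro i hi x _
    have : LocalizedModule.mk (i • x) (1 : I.primeCompl) =
        (algebraMap R (Localization.AtPrime I) i) • LocalizedModule.mk x (1 : I.primeCompl) := by
      rw [← Localization.mk_one_eq_algebraMap, LocalizedModule.mk_smul_mk, mul_one]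
    rw [this]
    exact Submodule.smul_mem_smul (Ideal.mem_map_of_mem _ hi) Submodule.mem_top
  · intro x y hx hy
    have : LocalizedModule.mk (x + y) (1 : I.primeCompl) =
        LocalizedModule.mk x (1 : I.primeCompl) + LocalizedModule.mk y (1 : I.primeCompl) := by
      rw [LocalizedModule.mk_add_mk]
      simp
    rw [this]
    exact Submodule.add_mem _ hx hy

open IsLocalRing in
lemma one_tmul_eq_zero_iff {A : Type u} [CommRing A] [IsLocalRing A] {X : Type v} [AddCommGroup X]
    [Module A X] (x : X) :
    (1 : ResidueField A) ⊗ₜ[A] x = 0 ↔ x ∈ maximalIdeal A • (⊤ : Submodule A X) := by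
  constructor
  · intro h
    have h2 : (TensorProduct.quotTensorEquivQuotSMul X (maximalIdeal A))
        ((1 : A ⧸ maximalIdeal A) ⊗ₜ[A] x) = 0 := by
      have : ((1 : A ⧸ maximalIdeal A) ⊗ₜ[A] x : TensorProduct A (A ⧸ maximalIdeal A) X) = 0 := h
      rw [this, map_zero]
    rwa [TensorProduct.quotTensorEquivQuotSMul_mk_one_tmul, Submodule.Quotient.mk_eq_zero] at h2
  · intro h
    have h2 : ((1 : A ⧸ maximalIdeal A) ⊗ₜ[A] x : TensorProduct A (A ⧸ maximalIdeal A) X) = 0 := by
      apply (TensorProduct.quotTensorEquivQuotSMul X (maximalIdeal A)).injective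
      rw [TensorProduct.quotTensorEquivQuotSMul_mk_one_tmul, map_zero,
        Submodule.Quotient.mk_eq_zero]
      exact h
    exact h2

open IsLocalRing in
theorem projective_quotient_of_forall_maximal [Module.Finite R M] [Module.Projective R M]
    (Q : Submodule R M) (hQ : Q.FG)
    (h : ∀ I : Ideal R, I.IsMaximal → Q ⊓ I • (⊤ : Submodule R M) ≤ I • Q) :
    Module.Projective R (M ⧸ Q) := by
  have hfp : Module.FinitePresentation R (M ⧸ Q) := by
    have := Module.finitePresentation_of_projective R M
    apply Module.finitePresentation_of_surjective Q.mkQ (Submodule.mkQ_surjective Q)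
    rw [Submodule.ker_mkQ]; exact hQ
  apply Module.projective_of_localization_maximal
  intro I hI
  have hIp := hI.isPrime
  let f : LocalizedModule I.primeCompl Q →ₗ[Localization.AtPrime I] LocalizedModule I.primeCompl M :=
    LocalizedModule.map I.primeCompl Q.subtype
  let g : LocalizedModule I.primeCompl M →ₗ[Localization.AtPrime I]
      LocalizedModule I.primeCompl (M ⧸ Q) :=
    LocalizedModule.map I.primeCompl Q.mkQ
  have hex : Function.Exact f g :=
    LocalizedModule.map_exact I.primeCompl _ _ (LinearMap.exact_subtype_mkQ Q)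
  have hg : Function.Surjective g :=
    LocalizedModule.map_surjective I.primeCompl _ (Submodule.mkQ_surjective Q)
  have hQfin : Module.Finite R Q := Module.Finite.iff_fg.mpr hQ
  have hfree : Module.Free (Localization.AtPrime I) (LocalizedModule I.primeCompl M) :=
    Module.free_of_flat_of_isLocalRing
  have hf : Function.Injective (f.lTensor (ResidueField (Localization.AtPrime I))) := by
    rw [injective_iff_map_eq_zero]
    intro z hz
    obtain ⟨y, rfl⟩ := TensorProduct.mk_surjective (Localization.AtPrime I)
      (LocalizedModule I.primeCompl Q) (ResidueField (Localization.AtPrime I))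
      Ideal.Quotient.mk_surjective z
    induction y using LocalizedModule.induction_on with
    | h q s =>
      rw [TensorProduct.mk_apply, LinearMap.lTensor_tmul] at hz
      have hfq : f (LocalizedModule.mk q s) = LocalizedModule.mk (q : M) s := by
        show LocalizedModule.map I.primeCompl Q.subtype (LocalizedModule.mk q s) = _
        rw [LocalizedModule.map_mk]; rfl
      rw [hfq] at hz
      have h1 : LocalizedModule.mk (q : M) s ∈ (maximalIdeal (Localization.AtPrime I)) •
          (⊤ : Submodule (Localization.AtPrime I) (LocalizedModule I.primeCompl M)) := by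
        exact (one_tmul_eq_zero_iff _).mp hz
      obtain ⟨m, hm, s', hms⟩ := mem_maximal_smul_top I _ h1
      obtain ⟨u, hu⟩ := LocalizedModule.mk_eq.mp hms
      have hq1 : (u * s' : I.primeCompl) • (q : M) ∈ Q ⊓ I • (⊤ : Submodule R M) := by
        refine ⟨Q.smul_mem _ q.2, ?_⟩
        rw [mul_smul, hu]
        exact Submodule.smul_mem _ _ (Submodule.smul_mem _ _ hm)
      have hq2 := h I hI hq1
      have hq3 : ((u * s' : I.primeCompl) • q : Q) ∈ (I • ⊤ : Submodule R Q) := by
        have h5 : (I • Q : Submodule R M) = (I • (⊤ : Submodule R Q)).map Q.subtype := by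
          rw [Submodule.map_smul'', Submodule.map_top, Submodule.range_subtype]
        rw [h5] at hq2
        obtain ⟨w, hw, hwq⟩ := hq2
        have : w = (u * s' : I.primeCompl) • q := Subtype.ext hwq
        rwa [this] at hw
      have h4 : LocalizedModule.mk q s =
          (Localization.mk (1 : R) (s * (u * s')) : Localization.AtPrime I) •
            LocalizedModule.mk ((u * s' : I.primeCompl) • q) (1 : I.primeCompl) := by
        rw [LocalizedModule.mk_smul_mk, one_smul, mul_one, LocalizedModule.mk_eq]
        refine ⟨1, ?_⟩
        simp only [one_smul]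
        rw [mul_smul]
      rw [TensorProduct.mk_apply, one_tmul_eq_zero_iff, h4]
      exact Submodule.smul_mem _ _ (mk_mem_maximal_smul_top I _ hq3 1)
  have := Module.free_of_lTensor_residueField_injective f g hg hex hf
  infer_instance

end criterion

end Groth.Agent.Lib.Helper9.DieuL
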