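import Mathlib

set_option autoImplicit false
universe u v

namespace Groth.Agent.Lib.Helper9.DieuL

open WittVector

section witt

variable {p : ℕ} [hp : Fact p.Prime] {k : Type u} [CommRing k]

/-- Witt vectors with all coefficients in `J` -/
noncomputable def wittIdeal (J : Ideal k) : Ideal (WittVector p k) :=
  RingHom.ker (WittVector.map (Ideal.Quotient.mk J))

lemma mem_wittIdeal (J : Ideal k) (w : WittVector p k) :
    w ∈ wittIdeal J ↔ ∀ n, w.coeff n ∈ J := by
  unfold wittIdeal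
  rw [RingHom.mem_ker, WittVector.ext_iff]
  simp only [WittVector.map_coeff, WittVector.zero_coeff, Ideal.Quotient.eq_zero_iff_mem]

variable [CharP k p]

lemma frobenius_mem_wittIdeal (J : Ideal k) (w : WittVector p k) (h : w ∈ wittIdeal J) :
    frobenius w ∈ wittIdeal J := by
  rw [mem_wittIdeal] at *
  intro n
  rw [coeff_frobenius_charP]
  exact Ideal.pow_mem_of_mem _ (h n) _ hp.out.pos

lemma mem_wittIdeal_of_p_mul (J : Ideal k) (hJ : J.IsRadical) (c : WittVector p k)
    (h : (p : WittVector p k) * c ∈ wittIdeal J) : c ∈ wittIdeal J := by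
  rw [mem_wittIdeal] at *
  intro n
  have := h (n + 1)
  rw [mul_comm, mul_charP_coeff_succ] at this
  exact hJ ⟨p, this⟩

variable [PerfectRing k p]

lemma mem_span_p_of_coeff_zero (w : WittVector p k) (h : w.coeff 0 = 0) :
    w ∈ Ideal.span {(p : WittVector p k)} := by
  have h1 : verschiebung (w.shift 1) = w := by
    have := verschiebung_shift w 0 (by
      intro i hi
      have : i = 0 := by omega
      rw [this, h])
    rw [this]
    ext n
    simp [shift_coeff]
  obtain ⟨y, hy⟩ := (frobenius_bijective p k).2 (w.shift 1)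
  rw [← h1, ← hy, verschiebung_frobenius]
  exact Ideal.mul_mem_left _ _ (Ideal.subset_span rfl)

/-- the ideal of `k` attached to an ideal of `W(k)` -/
noncomputable def coeffIdeal (𝔫 : Ideal (WittVector p k)) : Ideal k :=
  Ideal.map (constantCoeff : WittVector p k →+* k) 𝔫

lemma constantCoeff_surj : Function.Surjective (constantCoeff : WittVector p k →+* k) :=
  fun a => ⟨teichmuller p a, teichmuller_coeff_zero p a⟩

lemma mem_iff_coeff_zero_mem (𝔫 : Ideal (WittVector p k)) (h𝔫 : (p : WittVector p k) ∈ 𝔫)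
    (w : WittVector p k) : w ∈ 𝔫 ↔ w.coeff 0 ∈ coeffIdeal 𝔫 := by
  unfold coeffIdeal
  rw [Ideal.mem_map_iff_of_surjective _ constantCoeff_surj]
  constructor
  · intro hw
    exact ⟨w, hw, rfl⟩
  · rintro ⟨w', hw', hww⟩
    have h0 : (w - w').coeff 0 = 0 := by
      have : constantCoeff (w - w') = 0 := by
        rw [map_sub, hww]
        show w.coeff 0 - w.coeff 0 = 0
        exact sub_self _
      exact this
    have h1 : w - w' ∈ 𝔫 :=
      (Ideal.span_singleton_le_iff_mem _).mpr h𝔫 (mem_span_p_of_coeff_zero _ h0)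
    have : w = (w - w') + w' := by ring
    rw [this]
    exact Ideal.add_mem _ h1 hw'

lemma coeffIdeal_isRadical (𝔫 : Ideal (WittVector p k)) [𝔫.IsPrime]
    (h𝔫 : (p : WittVector p k) ∈ 𝔫) : (coeffIdeal 𝔫).IsRadical := by
  rintro a ⟨n, hn⟩
  have h1 : teichmuller p (a ^ n) ∈ 𝔫 := by
    rw [mem_iff_coeff_zero_mem 𝔫 h𝔫, teichmuller_coeff_zero]
    exact hn
  rw [map_pow] at h1
  have h2 := Ideal.IsPrime.mem_of_pow_mem ‹𝔫.IsPrime› n h1
  have := (mem_iff_coeff_zero_mem 𝔫 h𝔫 _).mp h2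
  rwa [teichmuller_coeff_zero] at this

lemma wittIdeal_le (𝔫 : Ideal (WittVector p k)) (h𝔫 : (p : WittVector p k) ∈ 𝔫) :
    wittIdeal (coeffIdeal 𝔫) ≤ 𝔫 := by
  intro w hw
  rw [mem_iff_coeff_zero_mem 𝔫 h𝔫]
  exact (mem_wittIdeal _ w).mp hw 0

lemma le_wittIdeal_sup (𝔫 : Ideal (WittVector p k)) (h𝔫 : (p : WittVector p k) ∈ 𝔫) :
    𝔫 ≤ wittIdeal (coeffIdeal 𝔫) ⊔ Ideal.span {(p : WittVector p k)} := by
  intro w hw
  have h1 : teichmuller p (w.coeff 0) ∈ wittIdeal (coeffIdeal 𝔫) := by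
    rw [mem_wittIdeal]
    intro n
    rcases Nat.eq_zero_or_pos n with h | h
    · rw [h, teichmuller_coeff_zero]
      exact (mem_iff_coeff_zero_mem 𝔫 h𝔫 w).mp hw
    · rw [teichmuller_coeff_pos p _ n h]
      exact Ideal.zero_mem _
  have h2 : w - teichmuller p (w.coeff 0) ∈ Ideal.span {(p : WittVector p k)} := by
    apply mem_span_p_of_coeff_zero
    have : constantCoeff (w - teichmuller p (w.coeff 0)) = 0 := by
      rw [map_sub]
      show w.coeff 0 - (teichmuller p (w.coeff 0)).coeff 0 = 0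
      rw [teichmuller_coeff_zero, sub_self]
    exact this
  have : w = teichmuller p (w.coeff 0) + (w - teichmuller p (w.coeff 0)) := by ring
  rw [this]
  exact Submodule.add_mem_sup h1 h2

lemma frobenius_mem (𝔫 : Ideal (WittVector p k)) (h𝔫 : (p : WittVector p k) ∈ 𝔫)
    (w : WittVector p k) (hw : w ∈ 𝔫) : frobenius w ∈ 𝔫 := by
  rw [mem_iff_coeff_zero_mem 𝔫 h𝔫] at *
  rw [coeff_frobenius_charP]
  exact Ideal.pow_mem_of_mem _ hw _ hp.out.pos

lemma frobeniusEquiv_symm_mem (𝔫 : Ideal (WittVector p k)) [𝔫.IsPrime]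
    (h𝔫 : (p : WittVector p k) ∈ 𝔫)
    (w : WittVector p k) (hw : w ∈ 𝔫) : (frobeniusEquiv p k).symm w ∈ 𝔫 := by
  have hrad := coeffIdeal_isRadical 𝔫 h𝔫
  rw [mem_iff_coeff_zero_mem 𝔫 h𝔫] at hw ⊢
  apply hrad
  refine ⟨p, ?_⟩
  rw [← coeff_frobenius_charP]
  have : frobenius ((frobeniusEquiv p k).symm w) = w := (frobeniusEquiv p k).apply_symm_apply w
  rw [this]
  exact hw

lemma frobeniusEquiv_symm_mem_wittIdeal (J : Ideal k) (hJ : J.IsRadical) (w : WittVector p k)
    (hw : w ∈ wittIdeal J) : (frobeniusEquiv p k).symm w ∈ wittIdeal J := by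
  rw [mem_wittIdeal] at *
  intro n
  apply hJ
  refine ⟨p, ?_⟩
  rw [← coeff_frobenius_charP]
  have : frobenius ((frobeniusEquiv p k).symm w) = w := (frobeniusEquiv p k).apply_symm_apply w
  rw [this]
  exact hw n

end witt

end Groth.Agent.Lib.Helper9.DieuL
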