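import Mathlib
import Groth.Agent.Lib.Helper9.DieuA
import Groth.Agent.Lib.Helper9.DieuB

set_option autoImplicit false
universe u v

namespace Groth.Agent.Lib.Helper9.DieuL

open WittVector

section dieu

variable {p : ℕ} [hp : Fact p.Prime] {k : Type u} [CommRing k] [CharP k p] [PerfectRing k p]
variable {M : Type v} [AddCommGroup M] [Module (WittVector p k) M]
variable (F : M →ₛₗ[(WittVector.frobenius : WittVector p k →+* WittVector p k)] M)
variable (V : M →ₛₗ[((WittVector.frobeniusEquiv p k).symm : WittVector p k →+* WittVector p k)] M)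

/-- `pM` as elements -/
lemma mem_pM_iff (x : M) :
    x ∈ Ideal.span {(p : WittVector p k)} • (⊤ : Submodule (WittVector p k) M) ↔
      ∃ y : M, x = (p : WittVector p k) • y := by
  rw [Submodule.ideal_span_singleton_smul, Submodule.mem_smul_pointwise_iff_exists]
  constructor
  · rintro ⟨y, -, rfl⟩; exact ⟨y, rfl⟩
  · rintro ⟨y, rfl⟩; exact ⟨y, Submodule.mem_top, rfl⟩

lemma F_p_smul (y : M) : F ((p : WittVector p k) • y) = (p : WittVector p k) • F y := by
  rw [map_smulₛₗ, map_natCast]

lemma V_p_smul (y : M) : V ((p : WittVector p k) • y) = (p : WittVector p k) • V y := by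
  rw [map_smulₛₗ, map_natCast]

lemma V_frob_smul (c : WittVector p k) (x : M) : V (WittVector.frobenius c • x) = c • V x := by
  rw [map_smulₛₗ]
  congr 1
  exact (WittVector.frobeniusEquiv p k).symm_apply_apply c

/-- `F` preserves `𝔞 M` for Frobenius-stable `𝔞` -/
lemma F_mem_smul_top (𝔞 : Ideal (WittVector p k))
    (h𝔞 : ∀ w ∈ 𝔞, WittVector.frobenius w ∈ 𝔞) (x : M)
    (hx : x ∈ 𝔞 • (⊤ : Submodule (WittVector p k) M)) :
    F x ∈ 𝔞 • (⊤ : Submodule (WittVector p k) M) := by
  refine Submodule.smul_induction_on hx ?_ ?_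
  · intro a ha m _
    rw [map_smulₛₗ]
    exact Submodule.smul_mem_smul (h𝔞 a ha) Submodule.mem_top
  · intro x y hx hy
    rw [map_add]
    exact Submodule.add_mem _ hx hy

/-- membership in `Ī • M̄` lifts -/
lemma mem_comap_smul_top_of_mk_mem (Ibar : Ideal (WittVector p k ⧸ Ideal.span {(p : WittVector p k)}))
    (m : M)
    (hm : (Ideal.span {(p : WittVector p k)} • (⊤ : Submodule (WittVector p k) M)).mkQ m ∈
      Ibar • (⊤ : Submodule (WittVector p k ⧸ Ideal.span {(p : WittVector p k)})
        (M ⧸ Ideal.span {(p : WittVector p k)} • (⊤ : Submodule (WittVector p k) M)))) :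
    m ∈ (Ibar.comap (Ideal.Quotient.mk (Ideal.span {(p : WittVector p k)}))) •
      (⊤ : Submodule (WittVector p k) M) := by
  have hle : Ideal.span {(p : WittVector p k)} ≤
      Ibar.comap (Ideal.Quotient.mk (Ideal.span {(p : WittVector p k)})) := by
    intro a ha
    rw [Ideal.mem_comap, Ideal.Quotient.eq_zero_iff_mem.mpr ha]
    exact Ideal.zero_mem _
  have key : ∀ y ∈ Ibar • (⊤ : Submodule (WittVector p k ⧸ Ideal.span {(p : WittVector p k)})
        (M ⧸ Ideal.span {(p : WittVector p k)} • (⊤ : Submodule (WittVector p k) M))),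
      ∃ m' ∈ (Ibar.comap (Ideal.Quotient.mk (Ideal.span {(p : WittVector p k)}))) •
        (⊤ : Submodule (WittVector p k) M),
        (Ideal.span {(p : WittVector p k)} • (⊤ : Submodule (WittVector p k) M)).mkQ m' = y := by
    intro y hy
    refine Submodule.smul_induction_on hy ?_ ?_
    · intro a ha z _
      obtain ⟨a', rfl⟩ := Ideal.Quotient.mk_surjective a
      obtain ⟨z', rfl⟩ := Submodule.Quotient.mk_surjective _ z
      exact ⟨a' • z', Submodule.smul_mem_smul ha Submodule.mem_top, rfl⟩
    · rintro x y ⟨m₁, hm₁, rfl⟩ ⟨m₂, hm₂, rfl⟩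
      exact ⟨m₁ + m₂, Submodule.add_mem _ hm₁ hm₂, map_add _ _ _⟩
  obtain ⟨m', hm', hmm⟩ := key _ hm
  have h1 : m - m' ∈ Ideal.span {(p : WittVector p k)} • (⊤ : Submodule (WittVector p k) M) := by
    rw [← Submodule.Quotient.mk_eq_zero, Submodule.Quotient.mk_sub, sub_eq_zero]
    exact hmm.symm
  have h2 : m = (m - m') + m' := by abel
  rw [h2]
  exact Submodule.add_mem _ (Submodule.smul_mono_left hle h1) hm'

theorem projective_mod_V [Module.Finite (WittVector p k) M]
    (hFV : ∀ m : M, F (V m) = (p : WittVector p k) • m)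
    (hVF : ∀ m : M, V (F m) = (p : WittVector p k) • m)
    (H1 : Module.Projective (WittVector p k ⧸ Ideal.span {(p : WittVector p k)})
      (M ⧸ Ideal.span {(p : WittVector p k)} • (⊤ : Submodule (WittVector p k) M)))
    (H2 : ∀ J : Ideal k, J.IsRadical → ∀ u : M,
      (p : WittVector p k) • u ∈ wittIdeal (p := p) J • (⊤ : Submodule (WittVector p k) M) →
      u ∈ wittIdeal (p := p) J • (⊤ : Submodule (WittVector p k) M) ⊔
        Ideal.span {(p : WittVector p k)} • (⊤ : Submodule (WittVector p k) M)) :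
    Module.Projective (WittVector p k ⧸ Ideal.span {(p : WittVector p k)})
      ((M ⧸ (Ideal.span {(p : WittVector p k)} • (⊤ : Submodule (WittVector p k) M))) ⧸
        Submodule.span (WittVector p k ⧸ Ideal.span {(p : WittVector p k)})
          (Set.range fun m : M =>
            (Ideal.span {(p : WittVector p k)} • (⊤ : Submodule (WittVector p k) M)).mkQ (V m))) := by
  set I : Ideal (WittVector p k) := Ideal.span {(p : WittVector p k)} with hI
  set pM : Submodule (WittVector p k) M := I • (⊤ : Submodule (WittVector p k) M) with hpM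
  set Q : Submodule (WittVector p k ⧸ I) (M ⧸ pM) :=
    Submodule.span (WittVector p k ⧸ I) (Set.range fun m : M => pM.mkQ (V m)) with hQ
  -- scalar multiplication on generators
  have hsmul : ∀ (c : WittVector p k) (x : M),
      (Ideal.Quotient.mk I c) • pM.mkQ (V x) = pM.mkQ (V (WittVector.frobenius c • x)) := by
    intro c x
    rw [V_frob_smul]
    rfl
  -- every element of Q is of the form mk (V x)
  have hQelt : ∀ y ∈ Q, ∃ x : M, pM.mkQ (V x) = y := by
    intro y hy
    refine Submodule.span_induction ?_ ?_ ?_ ?_ hy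
    · rintro _ ⟨m, rfl⟩; exact ⟨m, rfl⟩
    · exact ⟨0, by rw [map_zero, map_zero]⟩
    · rintro _ _ _ _ ⟨x, rfl⟩ ⟨x', rfl⟩
      exact ⟨x + x', by rw [map_add, map_add]⟩
    · rintro c _ _ ⟨x, rfl⟩
      obtain ⟨c', rfl⟩ := Ideal.Quotient.mk_surjective c
      exact ⟨WittVector.frobenius c' • x, (hsmul c' x).symm⟩
  -- finite generation
  have hQfg : Q.FG := by
    obtain ⟨S, hS⟩ := (Module.Finite.fg_top : (⊤ : Submodule (WittVector p k) M).FG)
    classical
    refine ⟨S.image (fun m => pM.mkQ (V m)), ?_⟩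
    apply le_antisymm
    · apply Submodule.span_mono
      intro y hy
      rw [Finset.coe_image] at hy
      obtain ⟨m, _, rfl⟩ := hy
      exact ⟨m, rfl⟩
    · rw [hQ, Submodule.span_le]
      rintro _ ⟨m, rfl⟩
      have hm : m ∈ Submodule.span (WittVector p k) (S : Set M) := by rw [hS]; trivial
      have key : ∀ m ∈ Submodule.span (WittVector p k) (S : Set M), pM.mkQ (V m) ∈
          Submodule.span (WittVector p k ⧸ I) ((S.image (fun m => pM.mkQ (V m)) : Finset _) : Set _) := by
        intro m hm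
        induction hm using Submodule.span_induction with
        | mem x hx =>
          apply Submodule.subset_span
          rw [Finset.coe_image]
          exact ⟨x, hx, rfl⟩
        | zero => rw [map_zero, map_zero]; exact Submodule.zero_mem _
        | add x y _ _ hx hy =>
          rw [map_add, map_add]; exact Submodule.add_mem _ hx hy
        | smul c x _ hx =>
          have : pM.mkQ (V (c • x)) =
              Ideal.Quotient.mk I ((WittVector.frobeniusEquiv p k).symm c) • pM.mkQ (V x) := by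
            rw [hsmul]
            congr 3
            exact ((WittVector.frobeniusEquiv p k).apply_symm_apply c).symm
          rw [this]
          exact Submodule.smul_mem _ _ hx
      exact key m hm
  have := H1
  apply projective_quotient_of_forall_maximal Q hQfg
  intro Ibar hIbar
  have hIbarp := hIbar.isPrime
  set 𝔫 : Ideal (WittVector p k) := Ibar.comap (Ideal.Quotient.mk I) with h𝔫
  have h𝔫prime : 𝔫.IsPrime := Ideal.comap_isPrime _ _
  have hp𝔫 : (p : WittVector p k) ∈ 𝔫 := by
    have h0 : (Ideal.Quotient.mk I) (p : WittVector p k) = 0 :=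
      Ideal.Quotient.eq_zero_iff_mem.mpr (by rw [hI]; exact Ideal.subset_span rfl)
    rw [h𝔫, Ideal.mem_comap, h0]
    exact Ideal.zero_mem _
  have hI𝔫 : I ≤ 𝔫 := (Ideal.span_singleton_le_iff_mem _).mpr hp𝔫
  set J := coeffIdeal 𝔫 with hJ
  have hJrad : J.IsRadical := coeffIdeal_isRadical 𝔫 hp𝔫
  set 𝔞 : Ideal (WittVector p k) := wittIdeal (p := p) J with h𝔞
  rintro y ⟨hyQ, hyI⟩
  obtain ⟨x, rfl⟩ := hQelt y hyQ
  -- V x ∈ 𝔫 M
  have hVx : V x ∈ 𝔫 • (⊤ : Submodule (WittVector p k) M) :=
    mem_comap_smul_top_of_mk_mem Ibar (V x) hyI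
  -- decompose
  have hle : 𝔫 • (⊤ : Submodule (WittVector p k) M) ≤
      𝔞 • (⊤ : Submodule (WittVector p k) M) ⊔ pM := by
    rw [hpM, ← Submodule.sup_smul]
    exact Submodule.smul_mono_left (le_wittIdeal_sup 𝔫 hp𝔫)
  obtain ⟨w, hw, z, hz, hwz⟩ := Submodule.mem_sup.mp (hle hVx)
  obtain ⟨m₀, rfl⟩ := (mem_pM_iff z).mp hz
  -- p (x - F m₀) ∈ 𝔞 M
  have h1 : (p : WittVector p k) • (x - F m₀) = F w := by
    rw [smul_sub, ← hFV x, ← hwz, map_add, F_p_smul]
    abel
  have h2 : (p : WittVector p k) • (x - F m₀) ∈ 𝔞 • (⊤ : Submodule (WittVector p k) M) := by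
    rw [h1]
    exact F_mem_smul_top F 𝔞 (fun a ha => frobenius_mem_wittIdeal J a ha) w hw
  have h3 := H2 J hJrad (x - F m₀) h2
  have h4 : x - F m₀ ∈ 𝔫 • (⊤ : Submodule (WittVector p k) M) := by
    have : 𝔞 • (⊤ : Submodule (WittVector p k) M) ⊔ pM ≤
        𝔫 • (⊤ : Submodule (WittVector p k) M) :=
      sup_le (Submodule.smul_mono_left (wittIdeal_le 𝔫 hp𝔫)) (Submodule.smul_mono_left hI𝔫)
    exact this h3
  -- V x = p m₀ + V (x - F m₀)
  have h5 : pM.mkQ (V x) = pM.mkQ (V (x - F m₀)) := by
    have : V x = V (x - F m₀) + (p : WittVector p k) • m₀ := by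
      rw [map_sub, hVF]; abel
    rw [this, map_add]
    have : pM.mkQ ((p : WittVector p k) • m₀) = 0 := by
      rw [Submodule.mkQ_apply, Submodule.Quotient.mk_eq_zero]
      exact (mem_pM_iff _).mpr ⟨m₀, rfl⟩
    rw [this, add_zero]
  rw [h5]
  -- V maps 𝔫 M into Ibar • Q
  refine Submodule.smul_induction_on h4 ?_ ?_
  · intro a ha m _
    have : pM.mkQ (V (a • m)) =
        Ideal.Quotient.mk I ((WittVector.frobeniusEquiv p k).symm a) • pM.mkQ (V m) := by
      rw [hsmul]
      congr 3
      exact ((WittVector.frobeniusEquiv p k).apply_symm_apply a).symm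
    rw [this]
    apply Submodule.smul_mem_smul
    · have := frobeniusEquiv_symm_mem 𝔫 hp𝔫 a ha
      exact this
    · exact Submodule.subset_span ⟨m, rfl⟩
  · intro x y hx hy
    rw [map_add, map_add]
    exact Submodule.add_mem _ hx hy

end dieu

section proj

variable {R : Type u} [CommRing R] {M : Type v} [AddCommGroup M] [Module R M]

lemma coords_mem_of_mem_smul_top {ι : Type*} (𝔞 : Ideal R) (f : ι →₀ R)
    (hf : f ∈ 𝔞 • (⊤ : Submodule R (ι →₀ R))) (i : ι) : f i ∈ 𝔞 := by
  refine Submodule.smul_induction_on hf ?_ ?_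
  · intro a ha g _
    rw [Finsupp.smul_apply, smul_eq_mul]
    exact 𝔞.mul_mem_right _ ha
  · intro x y hx hy
    rw [Finsupp.add_apply]
    exact 𝔞.add_mem hx hy

lemma mem_smul_top_of_smul_mem [Module.Projective R M] (𝔞 : Ideal R) (r : R)
    (hr : ∀ c, r * c ∈ 𝔞 → c ∈ 𝔞) (u : M)
    (hu : r • u ∈ 𝔞 • (⊤ : Submodule R M)) : u ∈ 𝔞 • (⊤ : Submodule R M) := by
  obtain ⟨s, hs⟩ := Module.projective_def'.mp ‹Module.Projective R M›
  have h1 : s (r • u) ∈ 𝔞 • (⊤ : Submodule R (M →₀ R)) := by
    have := Submodule.mem_map_of_mem (f := s) hu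
    rw [Submodule.map_smul''] at this
    exact Submodule.smul_mono le_rfl le_top this
  have h2 : ∀ m, (s u) m ∈ 𝔞 := by
    intro m
    apply hr
    have := coords_mem_of_mem_smul_top 𝔞 _ h1 m
    rwa [map_smul, Finsupp.smul_apply, smul_eq_mul] at this
  have h3 : u = Finsupp.linearCombination R id (s u) := by
    have := LinearMap.congr_fun hs u
    simpa using this.symm
  rw [h3, Finsupp.linearCombination_apply]
  apply Submodule.sum_mem
  intro m _
  exact Submodule.smul_mem_smul (h2 m) Submodule.mem_top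

lemma projective_quot (I : Ideal R) [Module.Projective R M] :
    Module.Projective (R ⧸ I) (M ⧸ I • (⊤ : Submodule R M)) :=
  Module.Projective.of_equiv
    ((TensorProduct.quotTensorEquivQuotSMul M I).extendScalarsOfSurjective
      Ideal.Quotient.mk_surjective)

end proj

end Groth.Agent.Lib.Helper9.DieuL
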