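import Mathlib
import Groth.Prelude.Def_W4c1chowmix47Eta
open EtaPt
universe u
namespace Groth.Agent.Helper9.EtaPtLib

variable (η : EtaPt.FieldEndo.{u})

section basic
variable {A B C : Type u} [CommRing A] [CommRing B] [CommRing C]

lemma resmap_comp {I : Ideal A} [I.IsPrime] {J : Ideal B} [J.IsPrime] {K : Ideal C} [K.IsPrime]
    (f : A →+* B) (g : B →+* C) (h1 : I = J.comap f) (h2 : J = K.comap g)
    (h3 : I = K.comap (g.comp f)) :
    Ideal.ResidueField.map I K (g.comp f) h3 =
      (Ideal.ResidueField.map J K g h2).comp (Ideal.ResidueField.map I J f h1) := by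
  apply Ideal.ResidueField.ringHom_ext
  ext a
  simp only [RingHom.comp_apply, Ideal.ResidueField.map_algebraMap]

lemma resmap_id {I : Ideal A} [I.IsPrime] (h : I = I.comap (RingHom.id A)) :
    Ideal.ResidueField.map I I (RingHom.id A) h = RingHom.id _ := by
  apply Ideal.ResidueField.ringHom_ext
  ext a
  simp only [RingHom.comp_apply, Ideal.ResidueField.map_algebraMap, RingHom.id_apply]

/-- flexible form of the component formula for `Nmap` -/
lemma Nmap_apply' (f : A →+* B) (x : η.N A) (q : PrimeSpectrum B) (p : PrimeSpectrum A)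
    (h : p.asIdeal = q.asIdeal.comap f) :
    η.Nmap f x q = η.map (Ideal.ResidueField.map p.asIdeal q.asIdeal f h) (x p) := by
  have hp : p = PrimeSpectrum.comap f q := PrimeSpectrum.ext h
  subst hp
  rfl

lemma t_apply (a : A) (p : PrimeSpectrum A) :
    η.t A a p = η.eta p.asIdeal.ResidueField (algebraMap A p.asIdeal.ResidueField a) := rfl

lemma Nmap_comp_apply (f : A →+* B) (g : B →+* C) (x : η.N A) :
    η.Nmap (g.comp f) x = η.Nmap g (η.Nmap f x) := by
  funext r
  have h2 : (PrimeSpectrum.comap g r).asIdeal = r.asIdeal.comap g := rfl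
  have h1 : (PrimeSpectrum.comap f (PrimeSpectrum.comap g r)).asIdeal =
      (PrimeSpectrum.comap g r).asIdeal.comap f := rfl
  have h3 : (PrimeSpectrum.comap f (PrimeSpectrum.comap g r)).asIdeal =
      r.asIdeal.comap (g.comp f) := by
    rw [h1, h2, Ideal.comap_comap]
  rw [Nmap_apply' η (g.comp f) x r _ h3, Nmap_apply' η g _ r _ h2, Nmap_apply' η f x _ _ h1,
    resmap_comp f g h1 h2 h3, η.map_comp]
  rfl

lemma Nmap_comp (f : A →+* B) (g : B →+* C) :
    η.Nmap (g.comp f) = (η.Nmap g).comp (η.Nmap f) :=
  RingHom.ext fun x => Nmap_comp_apply η f g x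

lemma Nmap_id_apply (x : η.N A) : η.Nmap (RingHom.id A) x = x := by
  funext p
  have h : p.asIdeal = p.asIdeal.comap (RingHom.id A) := rfl
  rw [Nmap_apply' η (RingHom.id A) x p p h, resmap_id, η.map_id]
  rfl

end basic

section field
variable {K L : Type u} [Field K] [Field L]

lemma map_bijective_of_bijective (f : K →+* L) (hf : Function.Bijective f) :
    Function.Bijective (η.map f) := by
  let e := RingEquiv.ofBijective f hf
  have h1 : (e.symm : L →+* K).comp f = RingHom.id K := by
    ext a; exact e.symm_apply_apply a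
  have h2 : f.comp (e.symm : L →+* K) = RingHom.id L := by
    ext a; exact e.apply_symm_apply a
  have h3 : (η.map (e.symm : L →+* K)).comp (η.map f) = RingHom.id _ := by
    rw [← η.map_comp, h1, η.map_id]
  have h4 : (η.map f).comp (η.map (e.symm : L →+* K)) = RingHom.id _ := by
    rw [← η.map_comp, h2, η.map_id]
  refine ⟨(η.map f).injective, fun y => ⟨η.map (e.symm : L →+* K) y, ?_⟩⟩
  exact congrArg (fun h => h y) (congrArg DFunLike.coe h4)

lemma eta_natural_apply (f : K →+* L) (a : K) : η.map f (η.eta K a) = η.eta L (f a) :=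
  congrArg (fun h => h a) (congrArg DFunLike.coe (η.eta_natural f))

lemma eta_bijective_of_bijective (f : K →+* L) (hf : Function.Bijective f)
    (h : Function.Bijective (η.eta K)) : Function.Bijective (η.eta L) := by
  refine ⟨(η.eta L).injective, fun y => ?_⟩
  obtain ⟨z, hz⟩ := (map_bijective_of_bijective η f hf).2 y
  obtain ⟨a, ha⟩ := h.2 z
  exact ⟨f a, by rw [← eta_natural_apply, ha, hz]⟩

/-- Frobenius-injectivity in `F L` for the exponential characteristic of a subfield `K`. -/
lemma eq_of_pow_eq (ψ : K →+* L) {u v : η.obj L} {n : ℕ}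
    (h : u ^ ringExpChar K ^ n = v ^ ringExpChar K ^ n) : u = v := by
  have : ExpChar (η.obj L) (ringExpChar K) :=
    expChar_of_injective_ringHom ((η.eta L).comp ψ).injective (ringExpChar K)
  exact iterateFrobenius_inj (η.obj L) (ringExpChar K) n h

end field

end Groth.Agent.Helper9.EtaPtLib
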