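import Mathlib
import Groth.Prelude.Def_W4c1chowmix47Eta
import Groth.Agent.Lib.Helper9.EtaPt
open EtaPt
universe u
namespace Groth.Agent.Helper9.EtaPtLib

variable (η : EtaPt.FieldEndo.{u})

section
variable {A B C : Type u} [CommRing A] [CommRing B] [CommRing C]

lemma inV_bot (R : Type u) [CommRing R] [IsDomain R] (hR : η.InV R) :
    Function.Bijective (η.eta (⊥ : Ideal R).ResidueField) := by
  let e := FractionRing.algEquiv R (⊥ : Ideal R).ResidueField
  exact eta_bijective_of_bijective η (e : FractionRing R →+* (⊥ : Ideal R).ResidueField)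
    e.bijective hR

/-- membership in `M` is preserved by `Nmap`. -/
lemma Nmap_mem_M (f : A →+* B) {x : η.N A} (hx : x ∈ η.M A) : η.Nmap f x ∈ η.M B := by
  intro R _ _ _ hR g
  rw [← Nmap_comp_apply]
  exact hx R hR (g.comp f)

lemma exists_over_of_Nmap_injective (f : A →+* B) (hN : Function.Injective (η.Nmap f))
    (p : PrimeSpectrum A) : ∃ q : PrimeSpectrum B, PrimeSpectrum.comap f q = p := by
  classical
  by_contra hcon
  push Not at hcon
  have h0 : η.Nmap f (Pi.single p 1) = η.Nmap f 0 := by
    rw [map_zero]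
    funext q
    rw [Nmap_apply' η f _ q (PrimeSpectrum.comap f q) rfl, Pi.single_eq_of_ne (hcon q), map_zero]
    rfl
  have h1 := congrFun (hN h0) p
  rw [Pi.single_eq_same] at h1
  exact one_ne_zero h1

lemma map_surjective_of_Nmap_surjective (f : A →+* B) (hN : Function.Surjective (η.Nmap f))
    (q : PrimeSpectrum B) (p : PrimeSpectrum A) (h : p.asIdeal = q.asIdeal.comap f) :
    Function.Surjective (η.map (Ideal.ResidueField.map p.asIdeal q.asIdeal f h)) := by
  classical
  intro z
  obtain ⟨x, hx⟩ := hN (Pi.single q z)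
  refine ⟨x p, ?_⟩
  rw [← Nmap_apply' η f x q p h, hx, Pi.single_eq_same]

lemma comap_injective_of_Nmap_surjective (f : A →+* B) (hN : Function.Surjective (η.Nmap f)) :
    Function.Injective (PrimeSpectrum.comap f) := by
  classical
  intro q q' hqq
  by_contra hne
  obtain ⟨x, hx⟩ := hN (Pi.single q 1)
  have h1 := congrFun hx q
  have h2 := congrFun hx q'
  rw [Pi.single_eq_same, Nmap_apply' η f x q (PrimeSpectrum.comap f q) rfl] at h1
  rw [Pi.single_eq_of_ne (Ne.symm hne),
    Nmap_apply' η f x q' (PrimeSpectrum.comap f q) (by rw [hqq]; rfl)] at h2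
  have h3 : x (PrimeSpectrum.comap f q) = 0 := by
    apply (η.map (Ideal.ResidueField.map (PrimeSpectrum.comap f q).asIdeal q'.asIdeal f
      (by rw [hqq]; rfl))).injective
    rw [h2, map_zero]
  rw [h3, map_zero] at h1
  exact zero_ne_one h1

end

end Groth.Agent.Helper9.EtaPtLib
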