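import Mathlib
import Groth.Prelude.Def_W4c1chowmix47Eta
import Groth.Agent.Lib.Helper9.EtaPt
import Groth.Agent.Lib.Helper9.EtaPt2
open EtaPt
universe u
namespace Groth.Agent.Helper9.EtaPtLib

variable (η : EtaPt.FieldEndo.{u})

/-- a valuation subring of the fraction field of a domain dominating the localization at `p`. -/
lemma exists_valuationSubring_dominating (A : Type u) [CommRing A] [IsDomain A]
    (p : PrimeSpectrum A) :
    ∃ (V : ValuationSubring (FractionRing A)) (g : A →+* V),
      (∀ a, ((g a : V) : FractionRing A) = algebraMap A (FractionRing A) a) ∧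
      p.asIdeal = (IsLocalRing.maximalIdeal V).comap g := by
  let Ap := Localization.AtPrime p.asIdeal
  have hunit : ∀ y : p.asIdeal.primeCompl, IsUnit (algebraMap A (FractionRing A) y) := by
    intro y
    apply IsUnit.mk0
    intro h0
    have : (y : A) = 0 := (IsFractionRing.injective A (FractionRing A)) (by rw [h0, map_zero])
    exact y.2 (by rw [this]; exact p.asIdeal.zero_mem)
  let f : Ap →+* FractionRing A := IsLocalization.lift (M := p.asIdeal.primeCompl) hunit
  have hf : ∀ a, f (algebraMap A Ap a) = algebraMap A (FractionRing A) a :=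
    fun a => IsLocalization.lift_eq hunit a
  obtain ⟨V, h, hloc⟩ := IsLocalRing.exists_factor_valuationRing f
  let f' : Ap →+* V := f.codRestrict V.toSubring h
  have hloc' : IsLocalHom f' := hloc
  refine ⟨V, f'.comp (algebraMap A Ap), fun a => hf a, ?_⟩
  have h5 : (IsLocalRing.maximalIdeal V).comap f' = IsLocalRing.maximalIdeal Ap :=
    ((IsLocalRing.local_hom_TFAE f').out 0 4).1 hloc'
  rw [← Ideal.comap_comap, h5]
  exact (Localization.AtPrime.under_maximalIdeal (I := p.asIdeal)).symm

lemma inV_valuationSubring (A : Type u) [CommRing A] [IsDomain A] (hA : η.InV A)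
    (V : ValuationSubring (FractionRing A)) : η.InV V := by
  let e := FractionRing.algEquiv V (FractionRing A)
  exact eta_bijective_of_bijective η (e.symm : FractionRing A →+* FractionRing V)
    e.symm.bijective hA

end Groth.Agent.Helper9.EtaPtLib
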