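import Mathlib
import Groth.Prelude.Def_W4c1chowmix47Eta
import Groth.Agent.Lib.Helper9.EtaPt
import Groth.Agent.Lib.Helper9.EtaPt2
import Groth.Agent.Lib.Helper9.EtaPt3
open EtaPt
universe u
namespace Groth.Agent.Helper9.EtaPtLib

variable (η : EtaPt.FieldEndo.{u})

lemma ringExpChar_pos (K : Type u) [Field K] : 0 < ringExpChar K := by
  unfold ringExpChar; exact lt_of_lt_of_le Nat.zero_lt_one (le_max_right _ _)

/-- `η` is bijective at algebraically closed fields. -/
lemma eta_bijective_of_isAlgClosed (K : Type u) [Field K] [IsAlgClosed K] :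
    Function.Bijective (η.eta K) := by
  refine ⟨(η.eta K).injective, fun x => ?_⟩
  obtain ⟨n, a, ha⟩ := η.exists_pow_mem_range_eta K x
  obtain ⟨b, hb⟩ := IsAlgClosed.exists_pow_nat_eq a (pow_pos (ringExpChar_pos K) n)
  refine ⟨b, ?_⟩
  apply eq_of_pow_eq η (RingHom.id K) (n := n)
  rw [← map_pow, hb, ha]

lemma inV_valuationSubring_of_isAlgClosed (L : Type u) [Field L] [IsAlgClosed L]
    (V : ValuationSubring L) : η.InV V := by
  let e := FractionRing.algEquiv V L
  exact eta_bijective_of_bijective η (e.symm : L →+* FractionRing V)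
    e.symm.bijective (eta_bijective_of_isAlgClosed η L)

section
variable {A B : Type u} [CommRing A] [CommRing B]

/-- Lemma V: a valuation ring of the algebraic closure of `k(p)` centred at `P ⊇ p`. -/
lemma exists_val (p P : PrimeSpectrum A) (hpP : p.asIdeal ≤ P.asIdeal) :
    ∃ (V : ValuationSubring (AlgebraicClosure p.asIdeal.ResidueField)) (g : A →+* V),
      (∀ a, ((g a : V) : AlgebraicClosure p.asIdeal.ResidueField) =
        algebraMap p.asIdeal.ResidueField _ (algebraMap A p.asIdeal.ResidueField a)) ∧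
      P.asIdeal = (IsLocalRing.maximalIdeal V).comap g := by
  let Ω := AlgebraicClosure p.asIdeal.ResidueField
  let AP := Localization.AtPrime P.asIdeal
  let φ₀ : A →+* Ω := (algebraMap p.asIdeal.ResidueField Ω).comp (algebraMap A p.asIdeal.ResidueField)
  have hunit : ∀ y : P.asIdeal.primeCompl, IsUnit (φ₀ y) := by
    intro y
    apply IsUnit.mk0
    intro h0
    have h1 : algebraMap A p.asIdeal.ResidueField y = 0 :=
      (algebraMap p.asIdeal.ResidueField Ω).injective (h0.trans (map_zero _).symm)
    rw [Ideal.algebraMap_residueField_eq_zero] at h1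
    exact y.2 (hpP h1)
  let f : AP →+* Ω := IsLocalization.lift (M := P.asIdeal.primeCompl) hunit
  have hf : ∀ a, f (algebraMap A AP a) = φ₀ a := fun a => IsLocalization.lift_eq hunit a
  obtain ⟨V, h, hloc⟩ := IsLocalRing.exists_factor_valuationRing f
  let f' : AP →+* V := f.codRestrict V.toSubring h
  have hloc' : IsLocalHom f' := hloc
  refine ⟨V, f'.comp (algebraMap A AP), fun a => hf a, ?_⟩
  have h5 : (IsLocalRing.maximalIdeal V).comap f' = IsLocalRing.maximalIdeal AP :=
    ((IsLocalRing.local_hom_TFAE f').out 0 4).1 hloc'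
  rw [← Ideal.comap_comap, h5]
  exact (Localization.AtPrime.under_maximalIdeal (I := P.asIdeal)).symm

lemma exists_val_ker (p : PrimeSpectrum A)
    (V : ValuationSubring (AlgebraicClosure p.asIdeal.ResidueField)) (g : A →+* V)
    (hg : ∀ a, ((g a : V) : AlgebraicClosure p.asIdeal.ResidueField) =
        algebraMap p.asIdeal.ResidueField _ (algebraMap A p.asIdeal.ResidueField a)) :
    p.asIdeal = (⊥ : Ideal V).comap g := by
  ext a
  rw [Ideal.mem_comap, Ideal.mem_bot, ← Ideal.algebraMap_residueField_eq_zero]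
  constructor
  · intro h
    apply Subtype.ext
    rw [hg, h, map_zero]; rfl
  · intro h
    have h1 := hg a
    rw [h] at h1
    exact (algebraMap p.asIdeal.ResidueField (AlgebraicClosure p.asIdeal.ResidueField)).injective
      (h1.symm.trans (map_zero _).symm)

/-- residue field extensions along integral maps are algebraic. -/
lemma resmap_isIntegral (f : A →+* B) (hf : f.IsIntegral) (q : PrimeSpectrum B)
    (p : PrimeSpectrum A) (h : p.asIdeal = q.asIdeal.comap f) (z : q.asIdeal.ResidueField) :
    (Ideal.ResidueField.map p.asIdeal q.asIdeal f h).IsIntegralElem z := by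
  set ψ := Ideal.ResidueField.map p.asIdeal q.asIdeal f h with hψ
  let _ := ψ.toAlgebra
  show IsIntegral p.asIdeal.ResidueField z
  have hB : ∀ b : B, IsIntegral p.asIdeal.ResidueField (algebraMap B q.asIdeal.ResidueField b) := by
    intro b
    obtain ⟨P, hPm, hP⟩ := hf b
    refine ⟨P.map (algebraMap A p.asIdeal.ResidueField), hPm.map _, ?_⟩
    rw [Polynomial.eval₂_map]
    have hcomp : (algebraMap p.asIdeal.ResidueField q.asIdeal.ResidueField).comp
        (algebraMap A p.asIdeal.ResidueField) = (algebraMap B q.asIdeal.ResidueField).comp f := by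
      ext a
      show ψ (algebraMap A _ a) = _
      rw [hψ, Ideal.ResidueField.map_algebraMap]; rfl
    rw [hcomp, ← Polynomial.hom_eval₂, hP, map_zero]
  obtain ⟨x, y, -, rfl⟩ := IsFractionRing.div_surjective (A := B ⧸ q.asIdeal) z
  obtain ⟨x, rfl⟩ := Ideal.Quotient.mk_surjective x
  obtain ⟨y, rfl⟩ := Ideal.Quotient.mk_surjective y
  rw [Ideal.algebraMap_quotient_residueField_mk, Ideal.algebraMap_quotient_residueField_mk,
    div_eq_mul_inv]
  exact (hB x).mul (hB y).inv

/-- Lemma E: extension of a place of `k(p)` to `k(q)` along an integral map. -/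
lemma exists_lift_algClosed (f : A →+* B) (hf : f.IsIntegral) (q : PrimeSpectrum B)
    (p : PrimeSpectrum A) (h : p.asIdeal = q.asIdeal.comap f)
    (Ω : Type u) [Field Ω] [IsAlgClosed Ω] (σ : p.asIdeal.ResidueField →+* Ω) :
    ∃ τ : q.asIdeal.ResidueField →+* Ω,
      τ.comp (Ideal.ResidueField.map p.asIdeal q.asIdeal f h) = σ := by
  set ψ := Ideal.ResidueField.map p.asIdeal q.asIdeal f h with hψ
  let _ := ψ.toAlgebra
  let _ := σ.toAlgebra
  have : Algebra.IsAlgebraic p.asIdeal.ResidueField q.asIdeal.ResidueField :=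
    ⟨fun z => IsIntegral.isAlgebraic (resmap_isIntegral f hf q p h z)⟩
  let τ : q.asIdeal.ResidueField →ₐ[p.asIdeal.ResidueField] Ω := IsAlgClosed.lift
  exact ⟨τ, RingHom.ext fun a => τ.commutes a⟩

/-- Lemma A: if `N(g) x = t (g a)` then `x` agrees with `t a` at every prime in the image of
`Spec g`. -/
lemma eq_t_of_Nmap_eq_t (g : A →+* B) (x : η.N A) (a : A) (hx : η.Nmap g x = η.t B (g a))
    (Q : PrimeSpectrum B) (P : PrimeSpectrum A) (h : P.asIdeal = Q.asIdeal.comap g) :
    x P = η.eta P.asIdeal.ResidueField (algebraMap A P.asIdeal.ResidueField a) := by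
  have h1 := congrFun hx Q
  rw [Nmap_apply' η g x Q P h, t_apply,
    ← Ideal.ResidueField.map_algebraMap P.asIdeal Q.asIdeal g h a, ← eta_natural_apply] at h1
  exact (η.map (Ideal.ResidueField.map P.asIdeal Q.asIdeal g h)).injective h1

/-- Lemma B: the generic component of `x` seen in the algebraic closure. -/
lemma generic_eq_of_Nmap_eq_t (p : PrimeSpectrum A)
    (V : ValuationSubring (AlgebraicClosure p.asIdeal.ResidueField)) (g : A →+* V)
    (hg : ∀ a, ((g a : V) : AlgebraicClosure p.asIdeal.ResidueField) =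
        algebraMap p.asIdeal.ResidueField _ (algebraMap A p.asIdeal.ResidueField a))
    (x : η.N A) (r' : V) (hx : η.Nmap g x = η.t V r') :
    η.map (algebraMap p.asIdeal.ResidueField (AlgebraicClosure p.asIdeal.ResidueField)) (x p) =
      η.eta _ (r' : AlgebraicClosure p.asIdeal.ResidueField) := by
  set Ω := AlgebraicClosure p.asIdeal.ResidueField with hΩ
  let q₀ : PrimeSpectrum V := ⟨⊥, Ideal.isPrime_bot⟩
  have hp : p.asIdeal = q₀.asIdeal.comap g := exists_val_ker p V g hg
  set χ := Ideal.ResidueField.map p.asIdeal q₀.asIdeal g hp with hχ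
  let eV : Ω ≃ₐ[V] (⊥ : Ideal V).ResidueField :=
    IsLocalization.algEquiv (nonZeroDivisors V) Ω (⊥ : Ideal V).ResidueField
  have hcomp : χ = (eV : Ω →+* (⊥ : Ideal V).ResidueField).comp
      (algebraMap p.asIdeal.ResidueField Ω) := by
    apply Ideal.ResidueField.ringHom_ext
    ext a
    simp only [RingHom.comp_apply]
    rw [hχ, Ideal.ResidueField.map_algebraMap, ← hg a]
    exact (eV.commutes (g a)).symm
  have h1 := congrFun hx q₀
  rw [Nmap_apply' η g x q₀ p hp, t_apply, ← hχ, hcomp, η.map_comp] at h1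
  have h2 : algebraMap V q₀.asIdeal.ResidueField r' =
      (eV : Ω →+* (⊥ : Ideal V).ResidueField) (r' : Ω) := (eV.commutes r').symm
  rw [h2, ← eta_natural_apply] at h1
  exact (η.map (eV : Ω →+* (⊥ : Ideal V).ResidueField)).injective h1

end

end Groth.Agent.Helper9.EtaPtLib
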