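import Mathlib
import Groth.Prelude.Def_W4c1chowmix47Eta
import Groth.Agent.Lib.Helper9.EtaPt
import Groth.Agent.Lib.Helper9.EtaPt2
import Groth.Agent.Lib.Helper9.EtaPt3
import Groth.Agent.Lib.Helper9.EtaPt4
open EtaPt
universe u
namespace Groth.Agent.Helper9.EtaPtLib

variable (η : EtaPt.FieldEndo.{u})

/-- integrality over the subring generated by the image descends to `A`. -/
lemma isIntegral_of_closure {A K : Type u} [CommRing A] [Field K] [Algebra A K] (y : K)
    (hy : IsIntegral (Subring.closure (Set.range (algebraMap A K))) y) : IsIntegral A y := by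
  have hcl : Subring.closure (Set.range (algebraMap A K)) = (algebraMap A K).range := by
    rw [← RingHom.coe_range, Subring.closure_eq]
  let f : A →+* Subring.closure (Set.range (algebraMap A K)) :=
    (algebraMap A K).codRestrict _ (fun a => Subring.subset_closure ⟨a, rfl⟩)
  have hf : Function.Surjective f := by
    rintro ⟨z, hz⟩
    rw [hcl] at hz
    obtain ⟨a, rfl⟩ := hz
    exact ⟨a, rfl⟩
  obtain ⟨P, hPm, hP⟩ := hy
  obtain ⟨Q, hQ, -, hQm⟩ := Polynomial.lifts_and_natDegree_eq_and_monic
    ((Polynomial.mem_lifts P).2 (Polynomial.map_surjective f hf P)) hPm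
  refine ⟨Q, hQm, ?_⟩
  rw [← hQ, Polynomial.eval₂_map] at hP
  exact hP

section
variable {A : Type u} [CommRing A]

/-- Lemma Z: an element of `M A` vanishing at all minimal primes is zero. -/
lemma eq_zero_of_minimal (z : η.N A) (hz : z ∈ η.M A)
    (h0 : ∀ p : PrimeSpectrum A, p.asIdeal ∈ minimalPrimes A → z p = 0) : z = 0 := by
  funext P
  obtain ⟨p', hp'min, hp'P⟩ := Ideal.exists_minimalPrimes_le (I := ⊥) (J := P.asIdeal) bot_le
  have : p'.IsPrime := hp'min.1.1
  let p : PrimeSpectrum A := ⟨p', this⟩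
  obtain ⟨V, g, hg, hP⟩ := exists_val p P hp'P
  obtain ⟨r', hr'⟩ := hz V (inV_valuationSubring_of_isAlgClosed η _ V) g
  have h1 := generic_eq_of_Nmap_eq_t η p V g hg z r' hr'.symm
  rw [h0 p hp'min, map_zero] at h1
  have h2 : (r' : AlgebraicClosure p.asIdeal.ResidueField) = 0 :=
    (η.eta _).injective (h1.symm.trans (map_zero _).symm)
  have h3 : r' = g 0 := by
    rw [map_zero]; exact Subtype.ext h2
  rw [h3] at hr'
  let 𝔐 : PrimeSpectrum V := ⟨IsLocalRing.maximalIdeal V, inferInstance⟩
  have h4 := eq_t_of_Nmap_eq_t η g z 0 hr'.symm 𝔐 P hP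
  rw [h4, map_zero, map_zero]
  rfl

/-- Lemma I: a `p`-power of a component of an element of `M A` is integral over `A`. -/
lemma isIntegralElem_of_pow (x : η.N A) (hx : x ∈ η.M A) (p : PrimeSpectrum A)
    (a : p.asIdeal.ResidueField) (m : ℕ)
    (ha : (x p) ^ m = η.eta p.asIdeal.ResidueField a) :
    (algebraMap A p.asIdeal.ResidueField).IsIntegralElem a := by
  set Ω := AlgebraicClosure p.asIdeal.ResidueField with hΩ
  show IsIntegral A a
  rw [← isIntegral_algebraMap_iff (B := Ω) (algebraMap p.asIdeal.ResidueField Ω).injective]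
  apply isIntegral_of_closure
  have h5 : algebraMap p.asIdeal.ResidueField Ω a ∈
      (⨅ V : {V : ValuationSubring Ω // Set.range (algebraMap A Ω) ⊆ V.toSubring},
        V.1.toSubring) := by
    rw [Subring.mem_iInf]
    rintro ⟨V, hV⟩
    let g : A →+* V := (algebraMap A Ω).codRestrict V.toSubring (fun a => hV ⟨a, rfl⟩)
    have hg : ∀ a, ((g a : V) : Ω) =
        algebraMap p.asIdeal.ResidueField _ (algebraMap A p.asIdeal.ResidueField a) := by
      intro a
      show algebraMap A Ω a = _
      rw [IsScalarTower.algebraMap_apply A p.asIdeal.ResidueField Ω]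
    obtain ⟨r', hr'⟩ := hx V (inV_valuationSubring_of_isAlgClosed η _ V) g
    have h1 := generic_eq_of_Nmap_eq_t η p V g hg x r' hr'.symm
    have h2 : η.eta Ω (algebraMap p.asIdeal.ResidueField Ω a) = η.eta Ω ((r' : Ω) ^ m) := by
      rw [← eta_natural_apply, ← ha, map_pow, h1, map_pow]
    have h3 := (η.eta Ω).injective h2
    show algebraMap p.asIdeal.ResidueField Ω a ∈ V
    rw [h3]
    exact (r' ^ m).2
  rw [iInf_valuationSubring_superset] at h5
  exact h5

end

end Groth.Agent.Helper9.EtaPtLib
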