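import Mathlib
import Groth.Prelude.Def_W4c1chowmix47Eta
import Groth.Agent.Lib.Helper9.EtaPt
import Groth.Agent.Lib.Helper9.EtaPt2
import Groth.Agent.Lib.Helper9.EtaPt3
import Groth.Agent.Lib.Helper9.EtaPt4
import Groth.Agent.Lib.Helper9.EtaPt5
import Groth.Agent.S13802
open EtaPt
universe u
namespace Groth.Agent.Helper9.EtaPtLib

variable (η : EtaPt.FieldEndo.{u})

section
variable (A : Type u) [CommRing A]

/-- projection of `M A` to the factor at `P`. -/
noncomputable def piP (P : PrimeSpectrum A) : η.M A →+* η.obj P.asIdeal.ResidueField :=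
  (Pi.evalRingHom (fun p : PrimeSpectrum A => η.obj p.asIdeal.ResidueField) P).comp (η.M A).subtype

lemma piP_apply (P : PrimeSpectrum A) (x : η.M A) : piP η A P x = (x : η.N A) P := rfl

lemma piP_q (P : PrimeSpectrum A) (a : A) :
    piP η A P (η.q A a) = η.eta P.asIdeal.ResidueField (algebraMap A P.asIdeal.ResidueField a) := rfl

/-- the prime `Q_P` of `M A`. -/
noncomputable def QP (P : PrimeSpectrum A) : PrimeSpectrum (η.M A) :=
  ⟨RingHom.ker (piP η A P), RingHom.ker_isPrime _⟩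

lemma mem_QP (P : PrimeSpectrum A) (x : η.M A) : x ∈ (QP η A P).asIdeal ↔ (x : η.N A) P = 0 :=
  Iff.rfl

lemma comap_q_QP (P : PrimeSpectrum A) :
    P.asIdeal = (QP η A P).asIdeal.comap (η.q A) := by
  ext a
  rw [Ideal.mem_comap, mem_QP]
  show a ∈ P.asIdeal ↔ η.eta _ (algebraMap A P.asIdeal.ResidueField a) = 0
  rw [map_eq_zero, Ideal.algebraMap_residueField_eq_zero]

variable {A}

/-- Lemma H: any extension `h` of `g` to `M A` with kernel `Q_p` computes the element `r`. -/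
lemma h_eq_r (R : Type u) [CommRing R] [IsDomain R] (h : η.M A →+* R) (p : PrimeSpectrum A)
    (hker : (QP η A p).asIdeal = (⊥ : Ideal R).comap h) (x : η.M A) (r : R)
    (hx : η.Nmap (h.comp (η.q A)) (x : η.N A) = η.t R r) : h x = r := by
  set g := h.comp (η.q A) with hg
  let q₀ : PrimeSpectrum R := ⟨⊥, Ideal.isPrime_bot⟩
  have hp : p.asIdeal = q₀.asIdeal.comap g := by
    rw [hg, ← Ideal.comap_comap, ← hker]
    exact comap_q_QP η A p
  have hgker : ∀ a, g a = 0 ↔ a ∈ p.asIdeal := by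
    intro a
    rw [hp, Ideal.mem_comap]; exact (Ideal.mem_bot).symm
  obtain ⟨n, a, ha⟩ := η.exists_pow_mem_range_eta p.asIdeal.ResidueField ((x : η.N A) p)
  set m := ringExpChar p.asIdeal.ResidueField ^ n with hm
  obtain ⟨⟨a', s⟩, has⟩ := IsLocalization.surj (nonZeroDivisors (A ⧸ p.asIdeal)) a
  obtain ⟨a', rfl⟩ := Ideal.Quotient.mk_surjective a'
  obtain ⟨⟨s', hs'⟩, rfl⟩ : ∃ s'' : {y : A // Ideal.Quotient.mk p.asIdeal y ∈ nonZeroDivisors (A ⧸ p.asIdeal)},
      (⟨Ideal.Quotient.mk p.asIdeal s''.1, s''.2⟩ : nonZeroDivisors (A ⧸ p.asIdeal)) = s := by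
    obtain ⟨s0, hs0⟩ := s
    obtain ⟨s1, rfl⟩ := Ideal.Quotient.mk_surjective s0
    exact ⟨⟨s1, hs0⟩, rfl⟩
  simp only [Ideal.algebraMap_quotient_residueField_mk] at has
  have hs'p : s' ∉ p.asIdeal := by
    intro hmem
    have : Ideal.Quotient.mk p.asIdeal s' = 0 := Ideal.Quotient.eq_zero_iff_mem.2 hmem
    rw [this] at hs'
    exact zero_notMem_nonZeroDivisors hs'
  -- the element z
  let z : η.M A := η.q A s' * x ^ m - η.q A a'
  have hzp : (z : η.N A) p = 0 := by
    show (η.t A s') p * ((x : η.N A) p) ^ m - (η.t A a') p = 0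
    rw [t_apply, t_apply, ← ha, ← map_mul, ← map_sub, mul_comm, has, sub_self, map_zero]
  have hzker : h z = 0 := by
    have : z ∈ (QP η A p).asIdeal := (mem_QP η A p z).2 hzp
    rw [hker, Ideal.mem_comap] at this
    exact (Ideal.mem_bot).1 this
  have hhz : g s' * (h x) ^ m = g a' := by
    have : h z = g s' * (h x) ^ m - g a' := by
      show h (η.q A s' * x ^ m - η.q A a') = _
      rw [map_sub, map_mul, map_pow]; rfl
    rw [this] at hzker
    exact sub_eq_zero.1 hzker
  have hNz : η.Nmap g (z : η.N A) = η.t R (g s' * r ^ m - g a') := by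
    show η.Nmap g (η.t A s' * (x : η.N A) ^ m - η.t A a') = _
    rw [map_sub, map_mul, map_pow, η.Nmap_t_apply, η.Nmap_t_apply, hx, map_sub, map_mul, map_pow]
  have hgr : g s' * r ^ m = g a' := by
    have h1 := congrFun hNz q₀
    rw [Nmap_apply' η g _ q₀ p hp, hzp, map_zero, t_apply] at h1
    have h2 : algebraMap R q₀.asIdeal.ResidueField (g s' * r ^ m - g a') = 0 :=
      (η.eta q₀.asIdeal.ResidueField).injective (h1.symm.trans (map_zero _).symm)
    have h3 : g s' * r ^ m - g a' = 0 :=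
      IsFractionRing.injective R (⊥ : Ideal R).ResidueField
        (h2.trans (map_zero (algebraMap R (⊥ : Ideal R).ResidueField)).symm)
    exact sub_eq_zero.1 h3
  have hgs : g s' ≠ 0 := fun h0 => hs'p ((hgker s').1 h0)
  have hpow : (h x) ^ m = r ^ m := mul_left_cancel₀ hgs (hhz.trans hgr.symm)
  -- Frobenius injectivity in the residue field at the generic point of R
  set χ := Ideal.ResidueField.map p.asIdeal q₀.asIdeal g hp with hχ
  have : ExpChar q₀.asIdeal.ResidueField (ringExpChar p.asIdeal.ResidueField) :=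
    expChar_of_injective_ringHom χ.injective _
  have h4 : (algebraMap R q₀.asIdeal.ResidueField (h x)) ^ m =
      (algebraMap R q₀.asIdeal.ResidueField r) ^ m := by
    rw [← map_pow (algebraMap R q₀.asIdeal.ResidueField) (h x),
      ← map_pow (algebraMap R q₀.asIdeal.ResidueField) r, hpow]
  have h5 := iterateFrobenius_inj q₀.asIdeal.ResidueField (ringExpChar p.asIdeal.ResidueField) n h4
  exact IsFractionRing.injective R (⊥ : Ideal R).ResidueField h5

lemma exists_minimal_QP_le (hA : (minimalPrimes A).Finite) (Q : PrimeSpectrum (η.M A)) :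
    ∃ p : PrimeSpectrum A, p.asIdeal ∈ minimalPrimes A ∧ (QP η A p).asIdeal ≤ Q.asIdeal := by
  classical
  let f : Ideal A → Ideal (η.M A) := fun I =>
    if hI : I.IsPrime then (QP η A ⟨I, hI⟩).asIdeal else ⊤
  have hinf : hA.toFinset.inf f ≤ Q.asIdeal := by
    intro x hx
    rw [Submodule.mem_finsetInf] at hx
    have hx0 : (x : η.N A) = 0 := by
      apply eq_zero_of_minimal η _ x.2
      intro p hp
      have h1 := hx p.asIdeal (by rw [Set.Finite.mem_toFinset]; exact hp)
      simp only [f, dif_pos p.isPrime] at h1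
      exact (mem_QP η A _ x).1 h1
    have : x = 0 := Subtype.ext hx0
    rw [this]; exact Q.asIdeal.zero_mem
  obtain ⟨I, hI, hIQ⟩ := (Ideal.IsPrime.inf_le' Q.isPrime).1 hinf
  rw [Set.Finite.mem_toFinset] at hI
  have hIp : I.IsPrime := hI.1.1
  refine ⟨⟨I, hIp⟩, hI, ?_⟩
  simp only [f, dif_pos hIp] at hIQ
  exact hIQ

lemma h_mem_of_comp_zero (R : Type u) [CommRing R] [IsDomain R] [ValuationRing R]
    (hR : η.InV R) (h : η.M A →+* R) (p : PrimeSpectrum A)
    (hker : (QP η A p).asIdeal = (⊥ : Ideal R).comap h) (x : η.M A)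
    (𝔐 : PrimeSpectrum R) (P : PrimeSpectrum A)
    (hPg : P.asIdeal = 𝔐.asIdeal.comap (h.comp (η.q A))) (hx : (x : η.N A) P = 0) :
    h x ∈ 𝔐.asIdeal := by
  obtain ⟨r, hr⟩ := x.2 R hR (h.comp (η.q A))
  have hhx : h x = r := h_eq_r η R h p hker x r hr.symm
  have h1 : η.t R r 𝔐 = η.Nmap (h.comp (η.q A)) (x : η.N A) 𝔐 := congrFun hr 𝔐
  have h1' : η.Nmap (h.comp (η.q A)) (x : η.N A) 𝔐 = 0 := by
    rw [Nmap_apply' η (h.comp (η.q A)) _ 𝔐 P hPg, hx]
    exact map_zero (η.map (Ideal.ResidueField.map P.asIdeal 𝔐.asIdeal (h.comp (η.q A)) hPg))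
  have h2 : algebraMap R 𝔐.asIdeal.ResidueField r = 0 := by
    apply (η.eta 𝔐.asIdeal.ResidueField).injective
    rw [map_zero]
    exact h1.trans h1'
  rw [Ideal.algebraMap_residueField_eq_zero] at h2
  rw [hhx]
  exact h2

lemma QP_le_of_comap (hA : (minimalPrimes A).Finite) (Q : PrimeSpectrum (η.M A))
    (P : PrimeSpectrum A) (hP : P.asIdeal = Q.asIdeal.comap (η.q A)) :
    (QP η A P).asIdeal ≤ Q.asIdeal := by
  obtain ⟨p, -, hpQ⟩ := exists_minimal_QP_le η hA Q
  obtain ⟨V, h, hh, hQ⟩ := exists_val (QP η A p) Q hpQ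
  have hker := exists_val_ker (QP η A p) V h hh
  intro x hx
  rw [mem_QP] at hx
  let 𝔐 : PrimeSpectrum V := ⟨IsLocalRing.maximalIdeal V, inferInstance⟩
  have hPg : P.asIdeal = 𝔐.asIdeal.comap (h.comp (η.q A)) := by
    rw [← Ideal.comap_comap, ← hQ, hP]
  have := h_mem_of_comp_zero η V (inV_valuationSubring_of_isAlgClosed η _ V) h p hker x 𝔐 P hPg hx
  rw [hQ, Ideal.mem_comap]
  exact this

lemma eq_QP_of_comap (hA : (minimalPrimes A).Finite) (Q : PrimeSpectrum (η.M A))
    (P : PrimeSpectrum A) (hP : P.asIdeal = Q.asIdeal.comap (η.q A)) :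
    Q = QP η A P := by
  have hle := QP_le_of_comap η hA Q P hP
  by_contra hne
  have hlt : ¬ Q.asIdeal ≤ (QP η A P).asIdeal := by
    intro h
    exact hne (PrimeSpectrum.ext (le_antisymm h hle))
  obtain ⟨x, hxQ, hxn⟩ := Set.not_subset.1 hlt
  obtain ⟨Pol, hPm, hPol⟩ := Groth.Agent.S13802.result η A hA x
  have : (QP η A P).asIdeal.IsPrime := (QP η A P).isPrime
  have hcomapPrime : ((QP η A P).asIdeal.comap (η.q A)).IsPrime := inferInstance
  have h3 := Ideal.comap_lt_comap_of_root_mem_sdiff (f := η.q A) hle ⟨hxQ, hxn⟩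
    (Polynomial.map_monic_ne_zero hPm) (by rw [hPol]; exact Ideal.zero_mem _)
  rw [← comap_q_QP, ← hP] at h3
  exact lt_irrefl _ h3

end

end Groth.Agent.Helper9.EtaPtLib
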