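import Mathlib
import Groth.Prelude.Def_W4c1chowmix47Eta
import Groth.Agent.Lib.Helper9.EtaPt
import Groth.Agent.Lib.Helper9.EtaPt2
import Groth.Agent.Lib.Helper9.EtaPt3
import Groth.Agent.Lib.Helper9.EtaPt4
import Groth.Agent.Lib.Helper9.EtaPt5
import Groth.Agent.Lib.Helper9.EtaPt6
open EtaPt
universe u
namespace Groth.Agent.Helper9.EtaPtLib

variable (η : EtaPt.FieldEndo.{u})

section
variable {A B : Type u} [CommRing A] [CommRing B]

lemma Nmap_injective_of_comap_surjective (f : A →+* B)
    (hs : Function.Surjective (PrimeSpectrum.comap f)) : Function.Injective (η.Nmap f) := by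
  intro x x' hxx
  funext P
  obtain ⟨Q, rfl⟩ := hs P
  have h1 := congrFun hxx Q
  rw [Nmap_apply' η f x Q (PrimeSpectrum.comap f Q) rfl,
    Nmap_apply' η f x' Q (PrimeSpectrum.comap f Q) rfl] at h1
  exact (η.map _).injective h1

/-- A map with bijective `Spec` and bijective residue field maps after `F` induces a bijection
on `N`. -/
lemma Nmap_bijective_of (f : A →+* B) (hs : Function.Bijective (PrimeSpectrum.comap f))
    (hres : ∀ Q : PrimeSpectrum B, Function.Surjective
      (η.map (Ideal.ResidueField.map (PrimeSpectrum.comap f Q).asIdeal Q.asIdeal f rfl))) :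
    Function.Bijective (η.Nmap f) := by
  refine ⟨Nmap_injective_of_comap_surjective η f hs.2, fun y => ?_⟩
  have hex : ∀ P : PrimeSpectrum A, ∃ w : η.obj P.asIdeal.ResidueField,
      ∀ (Q : PrimeSpectrum B) (h : P.asIdeal = Q.asIdeal.comap f),
        η.map (Ideal.ResidueField.map P.asIdeal Q.asIdeal f h) w = y Q := by
    intro P
    obtain ⟨Q₀, rfl⟩ := hs.2 P
    obtain ⟨w, hw⟩ := hres Q₀ (y Q₀)
    refine ⟨w, fun Q h => ?_⟩
    have : Q = Q₀ := hs.1 (PrimeSpectrum.ext h.symm)
    subst this
    exact hw
  choose x hx using hex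
  refine ⟨x, ?_⟩
  funext Q
  rw [Nmap_apply' η f x Q (PrimeSpectrum.comap f Q) rfl]
  exact hx _ Q rfl

/-- the kernel of `t` is the nilradical. -/
lemma t_eq_zero_iff (b : B) : η.t B b = 0 ↔ IsNilpotent b := by
  rw [← mem_nilradical, nilradical_eq_sInf, Ideal.mem_sInf]
  constructor
  · intro hb I hI
    have hI' : I.IsPrime := hI
    let P : PrimeSpectrum B := ⟨I, hI'⟩
    have h1 := congrFun hb P
    rw [t_apply] at h1
    have h2 : algebraMap B P.asIdeal.ResidueField b = 0 :=
      (η.eta P.asIdeal.ResidueField).injective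
        (h1.trans (map_zero (η.eta P.asIdeal.ResidueField)).symm)
    exact Ideal.algebraMap_residueField_eq_zero.1 h2
  · intro h
    funext P
    rw [t_apply]
    have : b ∈ P.asIdeal := h P.isPrime
    rw [Ideal.algebraMap_residueField_eq_zero.2 this, map_zero]
    rfl

variable (f : A →+* B) (hs : Function.Surjective (PrimeSpectrum.comap f))

/-- the canonical map `ρ : (B/A)_η → M A`. -/
noncomputable def rho : η.rel f →+* η.M A where
  toFun c := ⟨Classical.choose c.2, (Classical.choose_spec c.2).1⟩
  map_one' := by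
    apply Subtype.ext
    apply Nmap_injective_of_comap_surjective η f hs
    rw [(Classical.choose_spec (1 : η.rel f).2).2]
    show η.t B 1 = η.Nmap f 1
    rw [map_one, map_one]
  map_mul' c c' := by
    apply Subtype.ext
    apply Nmap_injective_of_comap_surjective η f hs
    rw [(Classical.choose_spec (c * c').2).2]
    show η.t B (c * c') = η.Nmap f (Classical.choose c.2 * Classical.choose c'.2)
    rw [map_mul, map_mul, (Classical.choose_spec c.2).2, (Classical.choose_spec c'.2).2]
  map_zero' := by
    apply Subtype.ext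
    apply Nmap_injective_of_comap_surjective η f hs
    rw [(Classical.choose_spec (0 : η.rel f).2).2]
    show η.t B 0 = η.Nmap f 0
    rw [map_zero, map_zero]
  map_add' c c' := by
    apply Subtype.ext
    apply Nmap_injective_of_comap_surjective η f hs
    rw [(Classical.choose_spec (c + c').2).2]
    show η.t B (c + c') = η.Nmap f (Classical.choose c.2 + Classical.choose c'.2)
    rw [map_add, map_add, (Classical.choose_spec c.2).2, (Classical.choose_spec c'.2).2]

lemma Nmap_rho (c : η.rel f) : η.Nmap f (rho η f hs c : η.N A) = η.t B c :=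
  (Classical.choose_spec c.2).2

lemma rho_qRel (a : A) : rho η f hs (η.qRel f a) = η.q A a := by
  apply Subtype.ext
  apply Nmap_injective_of_comap_surjective η f hs
  rw [Nmap_rho]
  show η.t B (f a) = η.Nmap f (η.t A a)
  rw [η.Nmap_t_apply]

lemma rho_comp_qRel : (rho η f hs).comp (η.qRel f) = η.q A :=
  RingHom.ext (rho_qRel η f hs)

lemma rho_eq_zero_iff (c : η.rel f) : rho η f hs c = 0 ↔ IsNilpotent (c : B) := by
  rw [← t_eq_zero_iff η, ← Nmap_rho η f hs c]
  constructor
  · intro h; rw [h]; exact map_zero _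
  · intro h
    apply Subtype.ext
    apply Nmap_injective_of_comap_surjective η f hs
    rw [h]; exact (map_zero _).symm

end

/-- lying over for integral ring homs, `RingHom` form. -/
lemma exists_prime_over {C S : Type u} [CommRing C] [CommRing S] (g : C →+* S)
    (hg : g.IsIntegral) (𝔠 : Ideal C) [𝔠.IsPrime] (hker : RingHom.ker g ≤ 𝔠) :
    ∃ Q : Ideal S, Q.IsPrime ∧ Q.comap g = 𝔠 := by
  let _ := g.toAlgebra
  have : Algebra.IsIntegral C S := ⟨hg⟩
  obtain ⟨Q, -, hQ, hQc⟩ := Ideal.exists_ideal_over_prime_of_isIntegral 𝔠 (⊥ : Ideal S)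
    (by
      intro c hc
      exact hker hc)
  exact ⟨Q, hQ, hQc⟩

end Groth.Agent.Helper9.EtaPtLib
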