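import Mathlib
import Groth.Prelude.Def_W4c1chowmix47Eta
import Groth.Agent.Lib.Helper9.EtaPt7
import Groth.Agent.S13805
open EtaPt
universe u
namespace Groth.Agent.Helper9.EtaPtLib

variable (η : EtaPt.FieldEndo.{u})

section
variable {A B : Type u} [CommRing A] [CommRing B]

/-- Surjectivity of `Nmap` (with extension by zero) when `Spec` is injective and the residue field
maps become surjective after `F`. -/
lemma exists_Nmap_eq (f : A →+* B) (hinj : Function.Injective (PrimeSpectrum.comap f))
    (hsurj : ∀ Q : PrimeSpectrum B, Function.Surjective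
      (η.map (Ideal.ResidueField.map (PrimeSpectrum.comap f Q).asIdeal Q.asIdeal f rfl)))
    (y : η.N B) : ∃ x : η.N A, η.Nmap f x = y ∧
      ∀ p, p ∉ Set.range (PrimeSpectrum.comap f) → x p = 0 := by
  have hex : ∀ p : PrimeSpectrum A, ∃ v : η.obj p.asIdeal.ResidueField,
      (∀ Q (hQ : p.asIdeal = Ideal.comap f Q.asIdeal),
        η.map (Ideal.ResidueField.map p.asIdeal Q.asIdeal f hQ) v = y Q) ∧
      (p ∉ Set.range (PrimeSpectrum.comap f) → v = 0) := by
    intro p
    by_cases hp : p ∈ Set.range (PrimeSpectrum.comap f)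
    · obtain ⟨Q₀, rfl⟩ := hp
      obtain ⟨v, hv⟩ := hsurj Q₀ (y Q₀)
      refine ⟨v, fun Q hQ => ?_, fun h => (h ⟨Q₀, rfl⟩).elim⟩
      obtain rfl : Q₀ = Q := hinj (PrimeSpectrum.ext hQ)
      exact hv
    · exact ⟨0, fun Q hQ => (hp ⟨Q, PrimeSpectrum.ext hQ.symm⟩).elim, fun _ => rfl⟩
  choose x hx1 hx2 using hex
  refine ⟨x, ?_, hx2⟩
  funext Q
  rw [Nmap_apply' η f x Q (PrimeSpectrum.comap f Q) rfl]
  exact hx1 _ Q rfl

end

section Away
variable {A S : Type u} [CommRing A] [CommRing S] [Algebra A S]

lemma away_map_resmap_bijective (f : A) [IsLocalization.Away f S] (Q : PrimeSpectrum S)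
    (p : PrimeSpectrum A) (h : p.asIdeal = Q.asIdeal.comap (algebraMap A S)) :
    Function.Bijective (η.map (Ideal.ResidueField.map p.asIdeal Q.asIdeal (algebraMap A S) h)) :=
  map_bijective_of_bijective η _
    ((RingHom.surjectiveOnStalks_of_isLocalization (.powers f) S).residueFieldMap_bijective _ _ h)

lemma away_mem_range_iff (f : A) [IsLocalization.Away f S] (p : PrimeSpectrum A) :
    p ∈ Set.range (PrimeSpectrum.comap (algebraMap A S)) ↔ f ∉ p.asIdeal := by
  rw [PrimeSpectrum.localization_away_comap_range S f]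
  exact PrimeSpectrum.mem_basicOpen f p

lemma away_exists_Nmap_eq (f : A) [IsLocalization.Away f S] (y : η.N S) :
    ∃ x : η.N A, η.Nmap (algebraMap A S) x = y ∧ ∀ p : PrimeSpectrum A, f ∈ p.asIdeal → x p = 0 := by
  obtain ⟨x, hx, hx0⟩ := exists_Nmap_eq η (algebraMap A S)
    (PrimeSpectrum.localization_comap_injective S (.powers f))
    (fun Q => (away_map_resmap_bijective η f Q _ rfl).2) y
  refine ⟨x, hx, fun p hp => hx0 p ?_⟩
  rw [away_mem_range_iff f p]
  exact fun h => h hp

lemma away_component_eq_zero (f : A) [IsLocalization.Away f S] (u : η.N A)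
    (hu : η.Nmap (algebraMap A S) u = 0) (p : PrimeSpectrum A) (hp : f ∉ p.asIdeal) : u p = 0 := by
  obtain ⟨Q, rfl⟩ := (away_mem_range_iff (S := S) f p).mpr hp
  have h1 := congrFun hu Q
  rw [Nmap_apply' η _ u Q (PrimeSpectrum.comap (algebraMap A S) Q) rfl] at h1
  exact (map_eq_zero_iff _ (RingHom.injective _)).mp h1

lemma t_apply_eq_zero_of_mem {A : Type u} [CommRing A] (f : A) (p : PrimeSpectrum A)
    (hp : f ∈ p.asIdeal) : η.t A f p = 0 := by
  rw [t_apply, Ideal.algebraMap_residueField_eq_zero.mpr hp, map_zero]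

lemma away_t_mul_eq_zero (f : A) [IsLocalization.Away f S] (u : η.N A)
    (hu : η.Nmap (algebraMap A S) u = 0) : η.t A f * u = 0 := by
  funext p
  rw [Pi.mul_apply, Pi.zero_apply]
  by_cases hp : f ∈ p.asIdeal
  · rw [t_apply_eq_zero_of_mem η f p hp, zero_mul]
  · rw [away_component_eq_zero η f u hu p hp, mul_zero]

end Away

section Val

/-- A localization (which is a domain) of a valuation ring is a valuation ring. -/
lemma valuationRing_of_isLocalization {R S : Type*} [CommRing R] [IsDomain R] [ValuationRing R]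
    [CommRing S] [IsDomain S] [Algebra R S] (M : Submonoid R) [IsLocalization M S] :
    ValuationRing S := by
  refine { cond' := fun a b => ?_ }
  obtain ⟨a₀, s, rfl⟩ := IsLocalization.exists_mk'_eq M a
  obtain ⟨b₀, t, rfl⟩ := IsLocalization.exists_mk'_eq M b
  obtain ⟨c, hc | hc⟩ := ValuationRing.cond (a₀ * t) (b₀ * s)
  · refine ⟨algebraMap R S c, Or.inl ?_⟩
    rw [← IsLocalization.mk'_one (M := M) S c, ← IsLocalization.mk'_mul, mul_one]
    apply IsLocalization.mk'_eq_of_eq
    rw [mul_comm (s : R) b₀, ← hc]; ring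
  · refine ⟨algebraMap R S c, Or.inr ?_⟩
    rw [← IsLocalization.mk'_one (M := M) S c, ← IsLocalization.mk'_mul, mul_one]
    apply IsLocalization.mk'_eq_of_eq
    rw [mul_comm (t : R) a₀, ← hc]; ring

variable {R S : Type u} [CommRing R] [IsDomain R] [CommRing S] [IsDomain S] [Algebra R S]

/-- `InV` passes to localizations. -/
lemma inV_of_isLocalization (M : Submonoid R) [IsLocalization M S] (hR : η.InV R) : η.InV S := by
  have hM : M ≤ nonZeroDivisors R := by
    intro x hx
    rw [mem_nonZeroDivisors_iff_ne_zero]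
    rintro rfl
    have := IsLocalization.map_units S (⟨0, hx⟩ : M)
    rw [map_zero] at this
    exact not_isUnit_zero this
  let g : S →+* FractionRing R := IsLocalization.lift (M := M) (g := algebraMap R (FractionRing R))
    (fun y => IsLocalization.map_units _ (⟨y, hM y.2⟩ : nonZeroDivisors R))
  let _ : Algebra S (FractionRing R) := g.toAlgebra
  have : IsScalarTower R S (FractionRing R) :=
    IsScalarTower.of_algebraMap_eq (fun x => (IsLocalization.lift_eq _ x).symm)
  have : IsFractionRing S (FractionRing R) :=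
    IsFractionRing.isFractionRing_of_isDomain_of_isLocalization M S (FractionRing R)
  let e : FractionRing S ≃ₐ[S] FractionRing R := FractionRing.algEquiv S (FractionRing R)
  exact eta_bijective_of_bijective η (e.symm : FractionRing R →+* FractionRing S) e.symm.bijective hR

end Val

end Groth.Agent.Helper9.EtaPtLib
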