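import Mathlib
import Groth.Prelude.Def_Exal
import Groth.Prelude.Def_Exal2
import Groth.Agent.Lib.Helper9.ExalLib

set_option autoImplicit false
set_option linter.unusedSectionVars false
set_option linter.style.haveILetI false
universe u v w

namespace Groth.Agent.Helper9.ExalLib

open Exal

section sqzero
variable {A : Type u} {B E : Type v} [CommRing A] [CommRing B] [Algebra A B] [CommRing E]
  [Algebra A E] (p : E →ₐ[A] B) (hp : Function.Surjective p)
  (hsq : ∀ x y, p x = 0 → p y = 0 → x * y = 0)

/-- the kernel of `p` as a type -/
def KerType : Type v := RingHom.ker (p : E →+* B)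

instance : AddCommGroup (KerType p) :=
  inferInstanceAs (AddCommGroup (RingHom.ker (p : E →+* B)))

/-- underlying element -/
def KerType.val (z : KerType p) : E := Subtype.val z

lemma KerType.proj_val (z : KerType p) : p z.val = 0 := z.2

lemma KerType.ext {z z' : KerType p} (h : z.val = z'.val) : z = z' := Subtype.ext h

lemma KerType.val_add (z z' : KerType p) : (z + z').val = z.val + z'.val := rfl
lemma KerType.val_zero : (0 : KerType p).val = 0 := rfl

/-- set-theoretic section -/
noncomputable def sInv (b : B) : E := Function.surjInv hp b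

lemma p_sInv (b : B) : p (sInv p hp b) = b := Function.surjInv_eq hp b

include hsq in
lemma surjInv_mul_eq (x : E) (z : KerType p) :
    sInv p hp (p x) * z.val = x * z.val := by
  have h1 : p (sInv p hp (p x) - x) = 0 := by
    rw [map_sub, p_sInv, sub_self]
  have := hsq _ _ h1 z.proj_val
  rw [sub_mul, sub_eq_zero] at this
  exact this

/-- the `B`-module structure on the kernel of a square-zero surjection -/
@[instance_reducible]
noncomputable def kerModule : Module B (KerType p) where
  smul b z := ⟨sInv p hp b * z.val, Ideal.mul_mem_left _ _ z.2⟩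
  one_smul z := by
    apply KerType.ext
    change sInv p hp 1 * z.val = z.val
    have := surjInv_mul_eq p hp hsq 1 z
    rw [map_one] at this
    rw [this, one_mul]
  mul_smul b b' z := by
    apply KerType.ext
    change sInv p hp (b * b') * z.val =
      sInv p hp b * (sInv p hp b' * z.val)
    have := surjInv_mul_eq p hp hsq (sInv p hp b * sInv p hp b') z
    rw [map_mul, p_sInv, p_sInv] at this
    rw [this, mul_assoc]
  smul_zero b := by
    apply KerType.ext
    change sInv p hp b * (0 : E) = 0
    rw [mul_zero]
  smul_add b z z' := by
    apply KerType.ext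
    change sInv p hp b * (z.val + z'.val) = _
    rw [mul_add]; rfl
  add_smul b b' z := by
    apply KerType.ext
    change sInv p hp (b + b') * z.val =
      sInv p hp b * z.val + sInv p hp b' * z.val
    have := surjInv_mul_eq p hp hsq (sInv p hp b + sInv p hp b') z
    rw [map_add, p_sInv, p_sInv] at this
    rw [this, add_mul]
  zero_smul z := by
    apply KerType.ext
    change sInv p hp 0 * z.val = 0
    have := surjInv_mul_eq p hp hsq 0 z
    rw [map_zero] at this
    rw [this, zero_mul]

/-- the extension attached to a square-zero surjection -/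
noncomputable def extOfSqZero :
    @Exal.Ext A B (KerType p) _ _ _ _ (kerModule p hp hsq) :=
  letI := kerModule p hp hsq
  { E := E
    proj := p
    incl := { toFun := fun z => z.val, map_zero' := rfl, map_add' := fun _ _ => rfl }
    isExtension :=
      { proj_surjective := hp
        incl_injective := fun z z' h => KerType.ext p h
        exact := fun x => ⟨fun hx => ⟨⟨x, hx⟩, rfl⟩, by rintro ⟨z, rfl⟩; exact z.proj_val⟩
        mul_incl := fun x z => (surjInv_mul_eq p hp hsq x z).symm } }

end sqzero

section s5815
variable (A B : Type u) [CommRing A] [CommRing B] [Algebra A B]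

theorem main5815 :
    Algebra.FormallySmooth A B ↔
      ∀ (L : Type u) [AddCommGroup L] [Module B L] (X : Exal.Ext A B L), X.IsTrivial := by
  constructor
  · intro h L _ _ X
    have hnil : IsNilpotent (RingHom.ker (X.proj : X.E →+* B)) := by
      refine ⟨2, ?_⟩
      rw [Ideal.zero_eq_bot, eq_bot_iff, pow_two, Ideal.mul_le]
      intro x hx y hy
      rw [Ideal.mem_bot]
      obtain ⟨z, rfl⟩ := (X.isExtension.exact x).1 hx
      obtain ⟨z', rfl⟩ := (X.isExtension.exact y).1 hy
      exact incl_mul_incl X z z'
    exact ⟨Algebra.FormallySmooth.liftOfSurjective (AlgHom.id A B) X.proj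
      X.isExtension.proj_surjective hnil,
      fun b => Algebra.FormallySmooth.liftOfSurjective_apply _ _ _ _ b⟩
  · intro H
    let f : MvPolynomial B A →ₐ[A] B := MvPolynomial.aeval id
    have hf : Function.Surjective f := fun b => ⟨MvPolynomial.X b, by simp [f]⟩
    have hsurj : Function.Surjective f.kerSquareLift := by
      intro b
      obtain ⟨x, rfl⟩ := hf b
      exact ⟨Ideal.Quotient.mk _ x, rfl⟩
    have hsq : ∀ x y, f.kerSquareLift x = 0 → f.kerSquareLift y = 0 → x * y = 0 := by
      intro x y hx hy
      have h1 : x * y ∈ RingHom.ker f.kerSquareLift.toRingHom *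
          RingHom.ker f.kerSquareLift.toRingHom := Ideal.mul_mem_mul hx hy
      rw [← pow_two, AlgHom.ker_kerSquareLift, Ideal.cotangentIdeal_square] at h1
      exact h1
    letI := kerModule f.kerSquareLift hsurj hsq
    obtain ⟨s, hs⟩ := H _ (extOfSqZero f.kerSquareLift hsurj hsq)
    let s' : B →ₐ[A] (MvPolynomial B A ⧸ RingHom.ker f.toRingHom ^ 2) := s
    exact Algebra.FormallySmooth.of_split f s' (AlgHom.ext hs)

end s5815

end Groth.Agent.Helper9.ExalLib
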