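import Mathlib
import Groth.Prelude.Def_Exal
import Groth.Prelude.Def_Exal2
import Groth.Prelude.Def_FSRel
import Groth.Agent.Lib.Helper9.ExalLib5
import Groth.Agent.Lib.Helper9.ExalLib2

set_option autoImplicit false
set_option linter.unusedSectionVars false
set_option linter.style.haveILetI false
universe u v w

namespace Groth.Agent.Helper9.ExalLib

open Exal

section s5816
variable (Λ A B : Type u) [CommRing Λ]
    [CommRing A] [CommRing B] [Algebra Λ A] [Algebra Λ B] [Algebra A B] [IsScalarTower Λ A B]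

theorem main5816_mp (h : EGA41.IsFormallySmoothRel Λ A B)
    (L : Type u) [AddCommGroup L] [Module B L] (X : Exal.Ext A B L)
    (hX : X.IsTrivialOver Λ) : X.IsTrivial := by
  obtain ⟨σ, hσ, hσΛ⟩ := (isTrivialOver_iff X).1 hX
  letI : Algebra Λ X.E := ((algebraMap A X.E).comp (algebraMap Λ A)).toAlgebra
  haveI : IsScalarTower Λ A X.E := IsScalarTower.of_algebraMap_eq (fun _ => rfl)
  set J : Ideal X.E := RingHom.ker (X.proj : X.E →+* B) with hJ
  have hJ2 : J ^ 2 = ⊥ := by
    rw [eq_bot_iff, pow_two, Ideal.mul_le]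
    intro x hx y hy
    rw [Ideal.mem_bot]
    obtain ⟨z, rfl⟩ := (X.isExtension.exact x).1 hx
    obtain ⟨z', rfl⟩ := (X.isExtension.exact y).1 hy
    exact incl_mul_incl X z z'
  let eq : (X.E ⧸ J) ≃ₐ[A] B := Ideal.quotientKerAlgEquivOfSurjective X.isExtension.proj_surjective
  have heq : ∀ x : X.E, eq (Ideal.Quotient.mk J x) = X.proj x := fun x => rfl
  let u₀ : B →ₐ[A] X.E ⧸ J := eq.symm
  let uΛ : B →ₐ[Λ] X.E :=
    { toRingHom := σ
      commutes' := fun r => by
        change σ (algebraMap Λ B r) = algebraMap A X.E (algebraMap Λ A r)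
        exact hσΛ r }
  have hu : (Ideal.Quotient.mkₐ Λ J).comp uΛ = u₀.restrictScalars Λ := by
    ext b
    change Ideal.Quotient.mk J (σ b) = eq.symm b
    rw [AlgEquiv.eq_symm_apply, heq, hσ]
  obtain ⟨v, hv⟩ := h X.E J hJ2 u₀ ⟨uΛ, hu⟩
  refine ⟨v, fun b => ?_⟩
  have h1 := AlgHom.congr_fun hv b
  change Ideal.Quotient.mk J (v b) = eq.symm b at h1
  rw [AlgEquiv.eq_symm_apply, heq] at h1
  exact h1

theorem main5816_mpr
    (H : ∀ (L : Type u) [AddCommGroup L] [Module B L] (X : Exal.Ext A B L),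
        X.IsTrivialOver Λ → X.IsTrivial) : EGA41.IsFormallySmoothRel Λ A B := by
  intro C _ _ _ _ J hJ2 u₀ ⟨u, hu⟩
  -- the fibre product `C ×_{C/J} B`
  let E' : Subalgebra A (C × B) :=
    AlgHom.equalizer ((Ideal.Quotient.mkₐ A J).comp (AlgHom.fst A C B))
      (u₀.comp (AlgHom.snd A C B))
  have hmem : ∀ x : C × B, x ∈ E' ↔ Ideal.Quotient.mk J x.1 = u₀ x.2 := fun x => Iff.rfl
  let p : E' →ₐ[A] B := (AlgHom.snd A C B).comp E'.val
  have hp : Function.Surjective p := by
    intro b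
    obtain ⟨c, hc⟩ := Ideal.Quotient.mk_surjective (u₀ b)
    exact ⟨⟨(c, b), (hmem _).2 hc⟩, rfl⟩
  have hsq : ∀ x y, p x = 0 → p y = 0 → x * y = 0 := by
    rintro ⟨⟨c, b⟩, hx⟩ ⟨⟨c', b'⟩, hy⟩ hb hb'
    change b = 0 at hb
    change b' = 0 at hb'
    subst hb hb'
    have hc : c ∈ J := by
      have := (hmem _).1 hx
      simpa [Ideal.Quotient.eq_zero_iff_mem] using this
    have hc' : c' ∈ J := by
      have := (hmem _).1 hy
      simpa [Ideal.Quotient.eq_zero_iff_mem] using this
    have hcc : c * c' = 0 := by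
      have : c * c' ∈ J ^ 2 := by rw [pow_two]; exact Ideal.mul_mem_mul hc hc'
      rw [hJ2] at this
      exact this
    apply Subtype.ext
    apply Prod.ext
    · exact hcc
    · change (0 : B) * 0 = 0
      rw [mul_zero]
  letI := kerModule p hp hsq
  have hΛ : (extOfSqZero p hp hsq).IsTrivialOver Λ := by
    rw [isTrivialOver_iff]
    have hmemu : ∀ b, ((u b, b) : C × B) ∈ E' := by
      intro b
      rw [hmem]
      have := AlgHom.congr_fun hu b
      exact this
    let σ0 : B →+* C × B := (u : B →+* C).prod (RingHom.id B)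
    let σ : B →+* E' := σ0.codRestrict E'.toSubring hmemu
    refine ⟨σ, fun b => rfl, fun r => ?_⟩
    apply Subtype.ext
    apply Prod.ext
    · change u (algebraMap Λ B r) = algebraMap A C (algebraMap Λ A r)
      rw [u.commutes, ← IsScalarTower.algebraMap_apply]
    · change algebraMap Λ B r = algebraMap A B (algebraMap Λ A r)
      rw [← IsScalarTower.algebraMap_apply]
  obtain ⟨s, hs⟩ := H _ (extOfSqZero p hp hsq) hΛ
  let s' : B →ₐ[A] E' := s
  refine ⟨(AlgHom.fst A C B).comp (E'.val.comp s'), ?_⟩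
  ext b
  have h1 := (hmem _).1 (s' b).2
  have h2 : ((s' b : E') : C × B).2 = b := hs b
  rw [h2] at h1
  exact h1

theorem main5816 :
    EGA41.IsFormallySmoothRel Λ A B ↔
      ∀ (L : Type u) [AddCommGroup L] [Module B L] (X : Exal.Ext A B L),
        X.IsTrivialOver Λ → X.IsTrivial :=
  ⟨fun h L _ _ X hX => main5816_mp Λ A B h L X hX, main5816_mpr Λ A B⟩

end s5816

end Groth.Agent.Helper9.ExalLib
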