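import Mathlib
import Groth.Prelude.Def_Exal
import Groth.Prelude.Def_Exal2
import Groth.Agent.Lib.Helper9.ExalLib

set_option autoImplicit false
set_option linter.unusedSectionVars false
set_option linter.style.haveILetI false
universe u v w

namespace Groth.Agent.Helper9.ExalLib

open Exal

attribute [local instance] Exal.opModule Exal.isCentralScalar_opModule

section conormal
variable {B : Type u} [CommRing B] (J : Ideal B)
    {M : Type u} [AddCommGroup M] [Module (B ⧸ J) M] [Module B M] [IsScalarTower B (B ⧸ J) M]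
    (w : J.Cotangent →ₗ[B] M)

omit [IsScalarTower B (B ⧸ J) M] in
include J in
lemma smul_eq_zero_of_mem [IsScalarTower B (B ⧸ J) M] {j : B} (hj : j ∈ J) (m : M) :
    j • m = 0 := by
  rw [← IsScalarTower.algebraMap_smul (B ⧸ J) j m, Ideal.Quotient.algebraMap_eq,
    Ideal.Quotient.eq_zero_iff_mem.2 hj, zero_smul]

/-- the graph element attached to `j ∈ J` -/
noncomputable def gr (j : J) : TrivSqZeroExt B M :=
  TrivSqZeroExt.inl (j : B) + TrivSqZeroExt.inr (-(w (J.toCotangent j)))

lemma fst_gr (j : J) : TrivSqZeroExt.fst (gr J w j) = (j : B) := by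
  simp [gr]

lemma snd_gr (j : J) : TrivSqZeroExt.snd (gr J w j) = -(w (J.toCotangent j)) := by
  simp [gr]

/-- the ideal of relations -/
noncomputable def relIdeal : Ideal (TrivSqZeroExt B M) where
  carrier := {x | ∃ j : J, x = gr J w j}
  add_mem' := by
    rintro _ _ ⟨j, rfl⟩ ⟨j', rfl⟩
    refine ⟨j + j', ?_⟩
    apply TrivSqZeroExt.ext
    · simp [fst_gr]
    · simp only [TrivSqZeroExt.snd_add, snd_gr, map_add]; abel
  zero_mem' := ⟨0, by
    apply TrivSqZeroExt.ext
    · simp [fst_gr]
    · simp [snd_gr]⟩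
  smul_mem' := by
    rintro t _ ⟨j, rfl⟩
    refine ⟨TrivSqZeroExt.fst t • j, ?_⟩
    apply TrivSqZeroExt.ext
    · simp [fst_gr]
    · rw [smul_eq_mul, TrivSqZeroExt.snd_mul, snd_gr, fst_gr, snd_gr, op_smul_eq_smul,
        smul_eq_zero_of_mem J j.2, add_zero, map_smul, map_smul, smul_neg]

lemma mem_relIdeal (x : TrivSqZeroExt B M) : x ∈ relIdeal J w ↔ ∃ j : J, x = gr J w j := Iff.rfl

/-- carrier of the canonical extension with conormal map `w` -/
abbrev EW : Type u := TrivSqZeroExt B M ⧸ relIdeal J w

/-- projection -/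
noncomputable def projW : EW J w →ₐ[B] B ⧸ J :=
  Ideal.Quotient.liftₐ (relIdeal J w)
    ((Ideal.Quotient.mkₐ B J).comp (TrivSqZeroExt.fstHom B B M)) (by
      rintro _ ⟨j, rfl⟩
      change Ideal.Quotient.mk J (TrivSqZeroExt.fst (gr J w j)) = 0
      rw [fst_gr, Ideal.Quotient.eq_zero_iff_mem]
      exact j.2)

lemma projW_mk (t : TrivSqZeroExt B M) :
    projW J w (Ideal.Quotient.mk _ t) = Ideal.Quotient.mk J (TrivSqZeroExt.fst t) := rfl

/-- inclusion -/
noncomputable def inclW : M →+ EW J w :=
  (Ideal.Quotient.mk (relIdeal J w) : TrivSqZeroExt B M →+* EW J w).toAddMonoidHom.comp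
    (TrivSqZeroExt.inrHom B M).toAddMonoidHom

lemma inclW_apply (m : M) : inclW J w m = Ideal.Quotient.mk _ (TrivSqZeroExt.inr m) := rfl

/-- the canonical extension -/
noncomputable def extW : Exal.Ext B (B ⧸ J) M where
  E := EW J w
  proj := projW J w
  incl := inclW J w
  isExtension :=
    { proj_surjective := fun c => by
        obtain ⟨b, rfl⟩ := Ideal.Quotient.mk_surjective c
        exact ⟨Ideal.Quotient.mk _ (TrivSqZeroExt.inl b), by rw [projW_mk, TrivSqZeroExt.fst_inl]⟩
      incl_injective := by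
        rw [injective_iff_map_eq_zero]
        intro m hm
        rw [inclW_apply, Ideal.Quotient.eq_zero_iff_mem, mem_relIdeal] at hm
        obtain ⟨j, hj⟩ := hm
        have h1 := congrArg TrivSqZeroExt.fst hj
        rw [TrivSqZeroExt.fst_inr, fst_gr] at h1
        have h2 := congrArg TrivSqZeroExt.snd hj
        rw [TrivSqZeroExt.snd_inr, snd_gr] at h2
        have hj0 : j = 0 := Subtype.ext h1.symm
        rw [h2, hj0, map_zero, map_zero, neg_zero]
      exact := fun x => by
        obtain ⟨t, rfl⟩ := Ideal.Quotient.mk_surjective x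
        rw [projW_mk, Ideal.Quotient.eq_zero_iff_mem]
        constructor
        · intro ht
          refine ⟨TrivSqZeroExt.snd t + w (J.toCotangent ⟨_, ht⟩), ?_⟩
          rw [inclW_apply, eq_comm, ← sub_eq_zero, ← map_sub, Ideal.Quotient.eq_zero_iff_mem,
            mem_relIdeal]
          refine ⟨⟨_, ht⟩, ?_⟩
          apply TrivSqZeroExt.ext
          · simp [fst_gr]
          · simp [snd_gr]
        · rintro ⟨m, hm⟩
          rw [inclW_apply, ← sub_eq_zero, ← map_sub, Ideal.Quotient.eq_zero_iff_mem,
            mem_relIdeal] at hm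
          obtain ⟨j, hj⟩ := hm
          have h1 := congrArg TrivSqZeroExt.fst hj
          rw [TrivSqZeroExt.fst_sub, TrivSqZeroExt.fst_inr, fst_gr, zero_sub] at h1
          have : TrivSqZeroExt.fst t = -(j : B) := by rw [← h1, neg_neg]
          rw [this]
          exact J.neg_mem j.2
      mul_incl := fun x m => by
        obtain ⟨t, rfl⟩ := Ideal.Quotient.mk_surjective x
        rw [inclW_apply, inclW_apply, ← map_mul, projW_mk]
        congr 1
        apply TrivSqZeroExt.ext
        · simp
        · rw [TrivSqZeroExt.snd_mul, TrivSqZeroExt.snd_inr, TrivSqZeroExt.fst_inr,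
            MulOpposite.op_zero, zero_smul, add_zero, TrivSqZeroExt.snd_inr,
            ← Ideal.Quotient.algebraMap_eq, IsScalarTower.algebraMap_smul] }

lemma algebraMap_extW (b : B) :
    algebraMap B (extW J w).E b = Ideal.Quotient.mk _ (TrivSqZeroExt.inl b) := rfl

theorem conormalMap_extW : (extW J w).conormalMap J = w := by
  apply LinearMap.ext
  intro c
  obtain ⟨j, rfl⟩ := J.toCotangent_surjective c
  change (extW J w).idealToKer J j = w (J.toCotangent j)
  apply (extW J w).isExtension.incl_injective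
  have h1 : (extW J w).incl ((extW J w).idealToKer J j) = algebraMap B (extW J w).E j :=
    (extW J w).incl_kerLift _ ((extW J w).proj_algebraMap_eq_zero J j)
  rw [h1, algebraMap_extW]
  change _ = inclW J w _
  rw [inclW_apply, ← sub_eq_zero, ← map_sub, Ideal.Quotient.eq_zero_iff_mem, mem_relIdeal]
  refine ⟨j, ?_⟩
  apply TrivSqZeroExt.ext
  · simp [fst_gr]
  · simp [snd_gr]

end conormal


section uniq
variable {B : Type u} [CommRing B] (J : Ideal B)
    {M : Type u} [AddCommGroup M] [Module (B ⧸ J) M] [Module B M] [IsScalarTower B (B ⧸ J) M]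
    (X : Exal.Ext B (B ⧸ J) M)

lemma incl_smul' (b : B) (m : M) : X.incl (b • m) = algebraMap B X.E b * X.incl m := by
  rw [X.isExtension.mul_incl, AlgHom.commutes, Ideal.Quotient.algebraMap_eq,
    ← Ideal.Quotient.algebraMap_eq, IsScalarTower.algebraMap_smul]

/-- the map `B ⊕ M → E` -/
noncomputable def psiB : TrivSqZeroExt B M →+* X.E where
  toFun y := algebraMap B X.E (TrivSqZeroExt.fst y) + X.incl (TrivSqZeroExt.snd y)
  map_one' := by
    rw [TrivSqZeroExt.fst_one, TrivSqZeroExt.snd_one, map_one, map_zero, add_zero]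
  map_mul' y y' := by
    rw [TrivSqZeroExt.fst_mul, TrivSqZeroExt.snd_mul, map_mul, map_add, op_smul_eq_smul,
      incl_smul', incl_smul']
    have h3 := incl_mul_incl X (TrivSqZeroExt.snd y) (TrivSqZeroExt.snd y')
    have e : (algebraMap B X.E (TrivSqZeroExt.fst y) + X.incl (TrivSqZeroExt.snd y)) *
        (algebraMap B X.E (TrivSqZeroExt.fst y') + X.incl (TrivSqZeroExt.snd y')) =
        algebraMap B X.E (TrivSqZeroExt.fst y) * algebraMap B X.E (TrivSqZeroExt.fst y') +
          (algebraMap B X.E (TrivSqZeroExt.fst y) * X.incl (TrivSqZeroExt.snd y') +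
            algebraMap B X.E (TrivSqZeroExt.fst y') * X.incl (TrivSqZeroExt.snd y)) +
          X.incl (TrivSqZeroExt.snd y) * X.incl (TrivSqZeroExt.snd y') := by ring
    rw [e, h3, add_zero]
  map_zero' := by
    rw [TrivSqZeroExt.fst_zero, TrivSqZeroExt.snd_zero, map_zero, map_zero, add_zero]
  map_add' y y' := by
    rw [TrivSqZeroExt.fst_add, TrivSqZeroExt.snd_add, map_add, map_add]; abel

lemma psiB_apply (y : TrivSqZeroExt B M) :
    psiB J X y = algebraMap B X.E (TrivSqZeroExt.fst y) + X.incl (TrivSqZeroExt.snd y) := rfl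

lemma incl_idealToKer (j : J) : X.incl (X.idealToKer J j) = algebraMap B X.E j :=
  X.incl_kerLift _ (X.proj_algebraMap_eq_zero J j)

lemma conormalMap_toCotangent (j : J) : X.conormalMap J (J.toCotangent j) = X.idealToKer J j :=
  rfl

lemma psiB_gr (j : J) : psiB J X (gr J (X.conormalMap J) j) = 0 := by
  rw [psiB_apply, fst_gr, snd_gr, conormalMap_toCotangent, map_neg, incl_idealToKer, add_neg_cancel]

/-- the induced map from the canonical extension -/
noncomputable def fromW : EW J (X.conormalMap J) →ₐ[B] X.E :=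
  Ideal.Quotient.liftₐ (relIdeal J (X.conormalMap J))
    { toRingHom := psiB J X
      commutes' := fun b => by
        change psiB J X (TrivSqZeroExt.inl b) = _
        rw [psiB_apply, TrivSqZeroExt.fst_inl, TrivSqZeroExt.snd_inl, map_zero, add_zero] }
    (by
      rintro _ ⟨j, rfl⟩
      exact psiB_gr J X j)

lemma fromW_mk (t : TrivSqZeroExt B M) :
    fromW J X (Ideal.Quotient.mk _ t) = psiB J X t := rfl

lemma fromW_bijective : Function.Bijective (fromW J X) := by
  constructor
  · rw [injective_iff_map_eq_zero]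
    intro x hx
    obtain ⟨t, rfl⟩ := Ideal.Quotient.mk_surjective x
    rw [fromW_mk, psiB_apply] at hx
    have h1 : X.proj (algebraMap B X.E (TrivSqZeroExt.fst t) + X.incl (TrivSqZeroExt.snd t)) = 0 := by
      rw [hx, map_zero]
    rw [map_add, proj_incl, add_zero, AlgHom.commutes, Ideal.Quotient.algebraMap_eq,
      Ideal.Quotient.eq_zero_iff_mem] at h1
    rw [Ideal.Quotient.eq_zero_iff_mem, mem_relIdeal]
    refine ⟨⟨_, h1⟩, ?_⟩
    apply TrivSqZeroExt.ext
    · rw [fst_gr]
    · rw [snd_gr, conormalMap_toCotangent]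
      apply X.isExtension.incl_injective
      rw [map_neg, incl_idealToKer]
      exact eq_neg_of_add_eq_zero_right hx
  · intro x
    obtain ⟨b, hb⟩ := Ideal.Quotient.mk_surjective (X.proj x)
    have h1 : X.proj (x - algebraMap B X.E b) = 0 := by
      rw [map_sub, AlgHom.commutes, Ideal.Quotient.algebraMap_eq, hb, sub_self]
    obtain ⟨m, hm⟩ := (X.isExtension.exact _).1 h1
    refine ⟨Ideal.Quotient.mk _ (TrivSqZeroExt.inl b + TrivSqZeroExt.inr m), ?_⟩
    rw [fromW_mk, psiB_apply, TrivSqZeroExt.fst_add, TrivSqZeroExt.fst_inl, TrivSqZeroExt.fst_inr,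
      add_zero, TrivSqZeroExt.snd_add, TrivSqZeroExt.snd_inl, TrivSqZeroExt.snd_inr, zero_add, hm]
    abel

/-- every extension is equivalent to the canonical one with the same conormal map -/
noncomputable def equivW : (extW J (X.conormalMap J)).Equiv X where
  toAlgEquiv := AlgEquiv.ofBijective (fromW J X) (fromW_bijective J X)
  proj_apply x := by
    obtain ⟨t, rfl⟩ := Ideal.Quotient.mk_surjective x
    change X.proj (fromW J X (Ideal.Quotient.mk _ t)) = projW J _ (Ideal.Quotient.mk _ t)
    rw [fromW_mk, psiB_apply, map_add, proj_incl, add_zero, AlgHom.commutes, projW_mk,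
      Ideal.Quotient.algebraMap_eq]
  apply_incl m := by
    change fromW J X (inclW J _ m) = X.incl m
    rw [inclW_apply, fromW_mk, psiB_apply, TrivSqZeroExt.fst_inr, TrivSqZeroExt.snd_inr, map_zero,
      zero_add]

theorem main5813 (X Y : Exal.Ext B (B ⧸ J) M) (h : X.conormalMap J = Y.conormalMap J) :
    Nonempty (X.Equiv Y) := by
  have e1 := equivW J X
  have e2 := equivW J Y
  rw [← h] at e2
  exact ⟨e1.symm.trans e2⟩

end uniq

end Groth.Agent.Helper9.ExalLib
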