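import Groth.Prelude.Def_Exal2
import Mathlib

set_option autoImplicit false
universe u v

namespace Groth.Agent.Helper9.ExalLift

open Exal

section PB

variable {Λ : Type u} {R L B C : Type v} [CommRing Λ] [CommRing R] [Algebra Λ R]
  [AddCommGroup L] [Module R L] [CommRing B] [Algebra Λ B] [CommRing C] [Algebra Λ C]

/-- The fibre product `R ×_C B`. -/
def fp (π : B →ₐ[Λ] C) (φ : R →ₐ[Λ] C) : Subalgebra Λ (R × B) :=
  AlgHom.equalizer (φ.comp (AlgHom.fst Λ R B)) (π.comp (AlgHom.snd Λ R B))

lemma mem_fp (π : B →ₐ[Λ] C) (φ : R →ₐ[Λ] C) (x : R × B) : x ∈ fp π φ ↔ φ x.1 = π x.2 := by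
  simp [fp, AlgHom.mem_equalizer]

/-- The extension `R ×_C B` of `R` by `L`, given a surjection `π : B → C` with kernel the image
of an injective additive map `ι : L → B` compatible with the actions. -/
noncomputable def pbExt (π : B →ₐ[Λ] C) (hπ : Function.Surjective π) (φ : R →ₐ[Λ] C) (ι : L →+ B)
    (hι : Function.Injective ι) (hker : ∀ b, π b = 0 ↔ b ∈ Set.range ι)
    (hmul : ∀ (r : R) (b : B) (z : L), π b = φ r → b * ι z = ι (r • z)) : Ext Λ R L where
  E := fp π φ
  proj := (AlgHom.fst Λ R B).comp (fp π φ).val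
  incl :=
    { toFun := fun z => ⟨(0, ι z), by
        rw [mem_fp]
        change φ 0 = π (ι z)
        rw [map_zero, (hker _).2 ⟨z, rfl⟩]⟩
      map_zero' := by
        apply Subtype.ext
        apply Prod.ext <;> simp
      map_add' := fun z z' => by
        apply Subtype.ext
        apply Prod.ext <;> simp }
  isExtension :=
    { proj_surjective := fun r => by
        obtain ⟨b, hb⟩ := hπ (φ r)
        exact ⟨⟨(r, b), by rw [mem_fp]; exact hb.symm⟩, rfl⟩
      incl_injective := fun z z' h => by
        have := congrArg (fun e : fp π φ => e.1.2) h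
        exact hι this
      exact := fun x => by
        obtain ⟨⟨r, b⟩, hx⟩ := x
        have hx' : φ r = π b := (mem_fp π φ _).1 hx
        constructor
        · intro hr
          change r = 0 at hr
          subst hr
          rw [map_zero] at hx'
          obtain ⟨z, rfl⟩ := (hker b).1 hx'.symm
          exact ⟨z, rfl⟩
        · rintro ⟨z, hz⟩
          have := congrArg (fun e : fp π φ => e.1.1) hz
          exact this.symm
      mul_incl := fun x z => by
        obtain ⟨⟨r, b⟩, hx⟩ := x
        have hx' : φ r = π b := (mem_fp π φ _).1 hx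
        apply Subtype.ext
        apply Prod.ext
        · change r * 0 = 0
          exact mul_zero _
        · change b * ι z = ι (r • z)
          exact hmul r b z hx'.symm }

/-- If every extension of `R` by `L` is trivial, maps to `C` lift along `B → C`. -/
theorem lift_of_trivial (htriv : ∀ X : Ext Λ R L, X.IsTrivial)
    (π : B →ₐ[Λ] C) (hπ : Function.Surjective π) (φ : R →ₐ[Λ] C) (ι : L →+ B)
    (hι : Function.Injective ι) (hker : ∀ b, π b = 0 ↔ b ∈ Set.range ι)
    (hmul : ∀ (r : R) (b : B) (z : L), π b = φ r → b * ι z = ι (r • z)) :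
    ∃ φ' : R →ₐ[Λ] B, π.comp φ' = φ := by
  obtain ⟨s, hs⟩ := htriv (pbExt π hπ φ ι hι hker hmul)
  refine ⟨((AlgHom.snd Λ R B).comp (fp π φ).val).comp s, ?_⟩
  ext r
  have h1 : (s r).1 ∈ fp π φ := (s r).2
  rw [mem_fp] at h1
  have h2 : (s r).1.1 = r := hs r
  change π (s r).1.2 = φ r
  rw [← h1, h2]

end PB

end Groth.Agent.Helper9.ExalLift
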