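import Groth.Prelude.Def_Exal2
import Mathlib
import Groth.Agent.Lib.Helper9.ExalLift

set_option autoImplicit false
universe u v

namespace Groth.Agent.Helper9.ExalLift

open Exal IsLocalRing

section Res

variable {k : Type u} [Field k] {R : Type v} [CommRing R] [Algebra k R] [IsLocalRing R]
  (hR : ∀ r : R, ∃ c : k, r - algebraMap k R c ∈ maximalIdeal R)

include hR in
lemma algebraMap_residueField_bijective :
    Function.Bijective (algebraMap k (ResidueField R)) := by
  refine ⟨(algebraMap k (ResidueField R)).injective, fun z => ?_⟩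
  obtain ⟨r, rfl⟩ := IsLocalRing.residue_surjective z
  obtain ⟨c, hc⟩ := hR r
  refine ⟨c, ?_⟩
  rw [IsScalarTower.algebraMap_apply k R (ResidueField R)]
  change residue R (algebraMap k R c) = residue R r
  rw [eq_comm, ← sub_eq_zero, ← map_sub, residue_eq_zero_iff]
  exact hc

/-- `k ≃ R/m`. -/
noncomputable def resEquiv : k ≃+* ResidueField R :=
  RingEquiv.ofBijective (algebraMap k (ResidueField R)) (algebraMap_residueField_bijective hR)

/-- the residue constant `R → k`. -/
noncomputable def resConst : R →+* k :=
  (resEquiv hR).symm.toRingHom.comp (residue R)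

lemma resEquiv_apply (c : k) : resEquiv hR c = residue R (algebraMap k R c) := rfl

lemma resEquiv_resConst (r : R) : resEquiv hR (resConst hR r) = residue R r := by
  change resEquiv hR ((resEquiv hR).symm (residue R r)) = _
  rw [RingEquiv.apply_symm_apply]

lemma resConst_algebraMap (c : k) : resConst hR (algebraMap k R c) = c := by
  apply (resEquiv hR).injective
  rw [resEquiv_resConst, resEquiv_apply]

lemma sub_resConst_mem (r : R) : r - algebraMap k R (resConst hR r) ∈ maximalIdeal R := by
  rw [← residue_eq_zero_iff, map_sub, ← resEquiv_apply hR, resEquiv_resConst, sub_self]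

lemma resConst_eq_zero_iff (r : R) : resConst hR r = 0 ↔ r ∈ maximalIdeal R := by
  rw [← residue_eq_zero_iff, ← resEquiv_resConst hR, map_eq_zero_iff _ (resEquiv hR).injective]

lemma resConst_eq_of_mem (r : R) (c : k) (h : r - algebraMap k R c ∈ maximalIdeal R) :
    resConst hR r = c := by
  have := (resConst_eq_zero_iff hR _).2 h
  rw [map_sub, resConst_algebraMap, sub_eq_zero] at this
  exact this

lemma resEquiv_symm_residue (r : R) : (resEquiv hR).symm (residue R r) = resConst hR r := rfl

/-- If `π b = φ r` and the augmentation `χ` of `B` kills `ker π`, then `χ b` is the residue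
constant of `r`. -/
lemma aug_eq_resConst {B C : Type*} [CommRing B] [Algebra k B] [CommRing C] [Algebra k C]
    (φ : R →ₐ[k] C) (π : B →ₐ[k] C) (hπ : Function.Surjective π) (χ : B →ₐ[k] k)
    (hχ : ∀ b, π b = 0 → χ b = 0) (r : R) (b : B) (hb : π b = φ r) : χ b = resConst hR r := by
  have key : ∀ r' ∈ maximalIdeal R, ∀ b', π b' = φ r' → χ b' = 0 := by
    intro r' hr' b' hb'
    by_contra hne
    set e := χ b' with he
    have hu : IsUnit (r' - algebraMap k R e) := by
      by_contra hnu
      have h1 : r' - algebraMap k R e ∈ maximalIdeal R := (mem_maximalIdeal _).2 hnu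
      have h2 : algebraMap k R e ∈ maximalIdeal R := by
        have := Ideal.sub_mem _ hr' h1
        simpa using this
      exact (mem_maximalIdeal _).1 h2 ((IsUnit.mk0 e hne).map (algebraMap k R))
    obtain ⟨u, hu⟩ := hu.exists_right_inv
    obtain ⟨bu, hbu⟩ := hπ (φ u)
    have h3 : π ((b' - algebraMap k B e) * bu - 1) = 0 := by
      rw [map_sub, map_mul, map_sub, hb', hbu, AlgHom.commutes, ← φ.commutes, ← map_sub, ← map_mul,
        hu, map_one, map_one, sub_self]
    have h4 := hχ _ h3
    rw [map_sub, map_mul, map_sub, AlgHom.commutes, ← he, map_one] at h4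
    simp at h4
  have := key _ (sub_resConst_mem hR r) (b - algebraMap k B (resConst hR r))
    (by rw [map_sub, map_sub, hb, AlgHom.commutes, AlgHom.commutes])
  rw [map_sub, AlgHom.commutes, sub_eq_zero] at this
  exact this

end Res

section Small

variable {k : Type u} [Field k] {Λ : Type u} [CommRing Λ] [Algebra k Λ]
  {R : Type u} [CommRing R] [Algebra Λ R] [Algebra k R] [IsScalarTower k Λ R] [IsLocalRing R]
  (hR : ∀ r : R, ∃ c : k, r - algebraMap k R c ∈ maximalIdeal R)
  {B C : Type u} [CommRing B] [Algebra Λ B] [Algebra k B] [IsScalarTower k Λ B]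
  [CommRing C] [Algebra Λ C] [Algebra k C] [IsScalarTower k Λ C]

include hR in
/-- lifting along a small surjection `B → C` with kernel `(t)`, `b t = χ(b) t`. -/
theorem lift_small (htriv : ∀ X : Ext Λ R (ResidueField R), X.IsTrivial)
    (π : B →ₐ[Λ] C) (hπ : Function.Surjective π) (t : B) (ht0 : t ≠ 0)
    (hker : RingHom.ker π.toRingHom = Ideal.span {t}) (χ : B →ₐ[k] k)
    (hχ : ∀ b, b * t = χ b • t) (hχt : χ t = 0) (φ : R →ₐ[Λ] C) :
    ∃ φ' : R →ₐ[Λ] B, π.comp φ' = φ := by
  -- the inclusion of the residue field
  let ι : ResidueField R →+ B :=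
    { toFun := fun z => (resEquiv hR).symm z • t
      map_zero' := by simp
      map_add' := fun z z' => by simp [add_smul] }
  have hιapp : ∀ z, ι z = (resEquiv hR).symm z • t := fun z => rfl
  have hι : Function.Injective ι := by
    rw [injective_iff_map_eq_zero]
    intro z hz
    rw [hιapp] at hz
    by_contra hne
    have hc : (resEquiv hR).symm z ≠ 0 := by
      simpa using hne
    apply ht0
    have := congrArg (fun x => ((resEquiv hR).symm z)⁻¹ • x) hz
    simpa [smul_smul, inv_mul_cancel₀ hc] using this
  have hπt : π t = 0 := by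
    have : t ∈ RingHom.ker π.toRingHom := by rw [hker]; exact Ideal.mem_span_singleton_self t
    exact this
  have hkerι : ∀ b, π b = 0 ↔ b ∈ Set.range ι := by
    intro b
    constructor
    · intro hb
      have : b ∈ RingHom.ker π.toRingHom := hb
      rw [hker, Ideal.mem_span_singleton'] at this
      obtain ⟨a, rfl⟩ := this
      refine ⟨resEquiv hR (χ a), ?_⟩
      rw [hιapp, RingEquiv.symm_apply_apply, hχ]
    · rintro ⟨z, rfl⟩
      rw [hιapp]
      have : (resEquiv hR).symm z • t = algebraMap Λ B (algebraMap k Λ ((resEquiv hR).symm z)) * t := by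
        rw [← IsScalarTower.algebraMap_apply, Algebra.smul_def]
      rw [this, map_mul, hπt, mul_zero]
  -- the augmentation of `C`
  have hχker : ∀ b, π b = 0 → χ b = 0 := by
    intro b hb
    have : b ∈ RingHom.ker π.toRingHom := hb
    rw [hker, Ideal.mem_span_singleton'] at this
    obtain ⟨a, rfl⟩ := this
    rw [map_mul, hχt, mul_zero]
  have hmul : ∀ (r : R) (b : B) (z : ResidueField R), π b = φ r → b * ι z = ι (r • z) := by
    intro r b z hb
    rw [hιapp, hιapp, mul_smul_comm, hχ, smul_smul]
    congr 1
    have h1 : χ b = resConst hR r :=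
      aug_eq_resConst hR (φ.restrictScalars k) (π.restrictScalars k) hπ χ hχker r b hb
    have h2 : r • z = residue R r * z := rfl
    rw [h2, map_mul, resEquiv_symm_residue, h1, mul_comm]
  exact lift_of_trivial htriv π hπ φ ι hι hkerι hmul

end Small

end Groth.Agent.Helper9.ExalLift
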