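import Groth.Prelude.Def_Exal2
import Mathlib
import Groth.Agent.Lib.Helper9.ExalLift2

set_option autoImplicit false
universe u v

namespace Groth.Agent.Helper9.ExalLift

open Exal IsLocalRing Polynomial

section Lam

variable {k : Type u} [Field k] {A : Type v} [CommRing A] [Algebra k A] [IsLocalRing A]
  (hA : ∀ a : A, ∃ c : k, a - algebraMap k A c ∈ maximalIdeal A)

/-- a functional killing `1` and `m²`, with value `1` at a given `y ∉ m²` (`y ∈ m`). -/
lemma exists_lam (y : A) (hy : y ∈ maximalIdeal A) (hy2 : y ∉ maximalIdeal A ^ 2) :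
    ∃ lam : A →ₗ[k] k, lam 1 = 0 ∧ (∀ z ∈ maximalIdeal A ^ 2, lam z = 0) ∧ lam y = 1 := by
  classical
  let W : Submodule k A := Submodule.span k {(1 : A)} ⊔ ((maximalIdeal A) ^ 2).restrictScalars k
  have htW : y ∉ W := by
    intro h
    rw [Submodule.mem_sup] at h
    obtain ⟨a, ha, z, hz, haz⟩ := h
    rw [Submodule.mem_span_singleton] at ha
    obtain ⟨c, rfl⟩ := ha
    have hz' : z ∈ maximalIdeal A ^ 2 := hz
    have hzm : z ∈ maximalIdeal A := Ideal.pow_le_self two_ne_zero hz'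
    have hc : c • (1 : A) ∈ maximalIdeal A := by
      have : c • (1 : A) = y - z := by rw [← haz]; ring
      rw [this]; exact Ideal.sub_mem _ hy hzm
    have hc0 : c = 0 := by
      by_contra hne
      have hu : IsUnit (c • (1 : A)) := by
        rw [Algebra.smul_def, mul_one]
        exact (IsUnit.mk0 c hne).map (algebraMap k A)
      exact (IsLocalRing.mem_maximalIdeal _).mp hc hu
    rw [hc0, zero_smul, zero_add] at haz
    exact hy2 (haz ▸ hz')
  obtain ⟨f, hft, hWf⟩ := Submodule.exists_le_ker_of_notMem htW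
  refine ⟨(f y)⁻¹ • f, ?_, ?_, ?_⟩
  · have : (1 : A) ∈ W := Submodule.mem_sup_left (Submodule.mem_span_singleton_self _)
    have := hWf this
    rw [LinearMap.mem_ker] at this
    simp [this]
  · intro z hz
    have : z ∈ W := Submodule.mem_sup_right hz
    have := hWf this
    rw [LinearMap.mem_ker] at this
    simp [this]
  · simp [hft]

include hA in
lemma lam_mul (lam : A →ₗ[k] k) (h1 : lam 1 = 0) (h2 : ∀ z ∈ maximalIdeal A ^ 2, lam z = 0)
    (x y : A) : lam (x * y) = resConst hA x * lam y + resConst hA y * lam x := by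
  set a := resConst hA x
  set b := resConst hA y
  have hx : x - algebraMap k A a ∈ maximalIdeal A := sub_resConst_mem hA x
  have hy : y - algebraMap k A b ∈ maximalIdeal A := sub_resConst_mem hA y
  have e : x * y = (a * b) • (1 : A) + a • (y - algebraMap k A b) + b • (x - algebraMap k A a)
      + (x - algebraMap k A a) * (y - algebraMap k A b) := by
    simp only [Algebra.smul_def, map_mul]; ring
  have h3 : lam ((x - algebraMap k A a) * (y - algebraMap k A b)) = 0 :=
    h2 _ (by rw [pow_two]; exact Ideal.mul_mem_mul hx hy)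
  have hb : lam (algebraMap k A b) = 0 := by
    rw [Algebra.algebraMap_eq_smul_one, map_smul, h1, smul_zero]
  have ha : lam (algebraMap k A a) = 0 := by
    rw [Algebra.algebraMap_eq_smul_one, map_smul, h1, smul_zero]
  rw [e, map_add, map_add, map_add, h3, map_smul, map_smul, map_smul, h1, map_sub, map_sub,
    ha, hb]
  simp

end Lam

section Tower

variable (k : Type u) [Field k]

/-- `k[X]/(X^n)` -/
abbrev Q (n : ℕ) : Type u := k[X] ⧸ Ideal.span {(X : k[X]) ^ n}

lemma span_le (n : ℕ) : Ideal.span {(X : k[X]) ^ (n + 1)} ≤ Ideal.span {(X : k[X]) ^ n} := by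
  rw [Ideal.span_singleton_le_span_singleton]
  exact pow_dvd_pow X n.le_succ

/-- the transition map -/
noncomputable def Qπ (n : ℕ) : Q k (n + 1) →ₐ[k] Q k n := Ideal.Quotient.factorₐ k (span_le k n)

lemma Qπ_mk (n : ℕ) (p : k[X]) : Qπ k n (Ideal.Quotient.mk _ p) = Ideal.Quotient.mk _ p := rfl

lemma Qπ_surjective (n : ℕ) : Function.Surjective (Qπ k n) :=
  Ideal.Quotient.factor_surjective (span_le k n)

/-- the generator of the kernel -/
noncomputable def Qt (n : ℕ) : Q k (n + 1) := Ideal.Quotient.mk _ (X ^ n)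

lemma Qt_ne_zero (n : ℕ) : Qt k n ≠ 0 := by
  intro h
  rw [Qt, Ideal.Quotient.eq_zero_iff_mem, Ideal.mem_span_singleton, X_pow_dvd_iff] at h
  have := h n n.lt_succ_self
  simp at this

lemma Qπ_ker (n : ℕ) : RingHom.ker (Qπ k n).toRingHom = Ideal.span {Qt k n} := by
  have : RingHom.ker (Qπ k n).toRingHom = RingHom.ker (Ideal.Quotient.factor (span_le k n)) := rfl
  rw [this, Ideal.Quotient.factor_ker, Ideal.map_span, Set.image_singleton]
  rfl

/-- evaluation at `0` -/
noncomputable def Qχ (n : ℕ) : Q k (n + 1) →ₐ[k] k :=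
  Ideal.Quotient.liftₐ _ (aeval (0 : k)) (by
    intro p hp
    rw [Ideal.mem_span_singleton] at hp
    obtain ⟨q, rfl⟩ := hp
    simp)

lemma Qχ_mk (n : ℕ) (p : k[X]) : Qχ k n (Ideal.Quotient.mk _ p) = p.coeff 0 := by
  change aeval (0 : k) p = _
  rw [coeff_zero_eq_eval_zero, coe_aeval_eq_eval]

lemma Qχ_t (n : ℕ) (hn : 1 ≤ n) : Qχ k n (Qt k n) = 0 := by
  rw [Qt, Qχ_mk, coeff_X_pow]
  simp; omega

lemma Q_mul_t (n : ℕ) (b : Q k (n + 1)) : b * Qt k n = Qχ k n b • Qt k n := by
  obtain ⟨p, rfl⟩ := Ideal.Quotient.mk_surjective b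
  have e : p.coeff 0 • (Ideal.Quotient.mk (Ideal.span {(X : k[X]) ^ (n + 1)})) (X ^ n)
      = Ideal.Quotient.mk _ (C (p.coeff 0) * X ^ n) := by
    rw [← Polynomial.smul_eq_C_mul]; rfl
  rw [Qχ_mk, Qt, e, ← map_mul, Ideal.Quotient.eq, Ideal.mem_span_singleton]
  have : (X : k[X]) ∣ p - C (p.coeff 0) := by
    rw [X_dvd_iff]; simp
  obtain ⟨q, hq⟩ := this
  refine ⟨q, ?_⟩
  have : p * X ^ n - C (p.coeff 0) * X ^ n = (p - C (p.coeff 0)) * X ^ n := by
    ring
  rw [this, hq]; ring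

end Tower

section Main

variable {k : Type u} [Field k] {A : Type u} [CommRing A] [Algebra k A] [IsLocalRing A]
  (hA : ∀ a : A, ∃ c : k, a - algebraMap k A c ∈ maximalIdeal A)

include hA in
/-- lifting along `k[X]/(X^(n+1)) → k[X]/(X^n)` -/
lemma tower_step (htriv : ∀ X : Ext k A (ResidueField A), X.IsTrivial) (n : ℕ) (hn : 1 ≤ n)
    (ψ : A →ₐ[k] Q k n) : ∃ ψ' : A →ₐ[k] Q k (n + 1), (Qπ k n).comp ψ' = ψ :=
  lift_small hA htriv (Qπ k n) (Qπ_surjective k n) (Qt k n) (Qt_ne_zero k n) (Qπ_ker k n)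
    (Qχ k n) (Q_mul_t k n) (Qχ_t k n hn) ψ

/-- the initial map to `k[X]/(X^2)` -/
noncomputable def psi2 (lam : A →ₗ[k] k) (h1 : lam 1 = 0)
    (h2 : ∀ z ∈ maximalIdeal A ^ 2, lam z = 0) : A →ₐ[k] Q k 2 where
  toFun a := Ideal.Quotient.mk _ (C (resConst hA a) + C (lam a) * X)
  map_one' := by simp [h1]
  map_mul' x y := by
    rw [lam_mul hA lam h1 h2, ← map_mul, Ideal.Quotient.eq, Ideal.mem_span_singleton]
    refine ⟨- (C (lam x) * C (lam y)), ?_⟩
    simp only [map_mul, map_add]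
    ring
  map_zero' := by simp
  map_add' x y := by
    rw [← map_add]
    congr 1
    simp only [map_add]
    ring
  commutes' c := by
    have : lam (algebraMap k A c) = 0 := by
      rw [Algebra.algebraMap_eq_smul_one, map_smul, h1, smul_zero]
    rw [resConst_algebraMap, this]
    simp
    rfl

/-- the tangent property of a map to `k[X]/(X^n)` at `y` -/
def Tang (y : A) (n : ℕ) (ψ : A →ₐ[k] Q k n) : Prop :=
  ∃ p : k[X], ψ y = Ideal.Quotient.mk _ p ∧ p.coeff 0 = 0 ∧ p.coeff 1 = 1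

include hA in
lemma exists_tower (htriv : ∀ X : Ext k A (ResidueField A), X.IsTrivial)
    (lam : A →ₗ[k] k) (h1 : lam 1 = 0)
    (h2 : ∀ z ∈ maximalIdeal A ^ 2, lam z = 0) (y : A) (hy : y ∈ maximalIdeal A)
    (hly : lam y = 1) (n : ℕ) : ∃ ψ : A →ₐ[k] Q k (n + 2), Tang y (n + 2) ψ := by
  induction n with
  | zero =>
    refine ⟨psi2 hA lam h1 h2, C (resConst hA y) + C (lam y) * X, rfl, ?_, ?_⟩
    · rw [(resConst_eq_zero_iff hA y).2 hy]; simp
    · rw [hly]; simp
  | succ n ih =>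
    obtain ⟨ψ, p, hp, hp0, hp1⟩ := ih
    obtain ⟨ψ', hψ'⟩ := tower_step hA htriv (n + 2) (by omega) ψ
    refine ⟨ψ', ?_⟩
    obtain ⟨p', hp'⟩ := Ideal.Quotient.mk_surjective (ψ' y)
    refine ⟨p', hp'.symm, ?_, ?_⟩
    all_goals
      have h3 : Qπ k (n + 2) (ψ' y) = ψ y := by rw [← hψ']; rfl
      rw [← hp', Qπ_mk, hp, Ideal.Quotient.eq, Ideal.mem_span_singleton, X_pow_dvd_iff] at h3
    · have := h3 0 (by omega)
      rw [coeff_sub, hp0, sub_zero] at this
      exact this
    · have := h3 1 (by omega)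
      rw [coeff_sub, hp1, sub_eq_zero] at this
      exact this

omit [IsLocalRing A] in
lemma tang_pow_ne_zero (y : A) (n : ℕ) (ψ : A →ₐ[k] Q k (n + 1)) (h : Tang y (n + 1) ψ) :
    ψ (y ^ n) ≠ 0 := by
  obtain ⟨p, hp, hp0, hp1⟩ := h
  rw [map_pow, hp, ← map_pow, Ne, Ideal.Quotient.eq_zero_iff_mem, Ideal.mem_span_singleton]
  intro hdvd
  have hX : (X : k[X]) ∣ p := by rw [X_dvd_iff]; exact hp0
  obtain ⟨q, rfl⟩ := hX
  have hq : q.coeff 0 = 1 := by
    rw [coeff_X_mul] at hp1; exact hp1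
  rw [mul_pow, pow_succ, mul_dvd_mul_iff_left (pow_ne_zero _ X_ne_zero), X_dvd_iff,
    coeff_zero_eq_eval_zero, eval_pow, ← coeff_zero_eq_eval_zero, hq, one_pow] at hdvd
  exact one_ne_zero hdvd

include hA in
/-- an Artinian local `k`-algebra with residue field `k` and nonzero maximal ideal has a
nontrivial extension by its residue field. -/
theorem exists_nontrivial [IsArtinianRing A] (hm : maximalIdeal A ≠ ⊥) :
    ∃ X : Ext k A (ResidueField A), ¬ X.IsTrivial := by
  by_contra hcon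
  push Not at hcon
  -- `y ∈ m \ m²`
  have hnle : ¬ maximalIdeal A ≤ maximalIdeal A ^ 2 := by
    intro hle
    apply hm
    have hfg : (maximalIdeal A).FG := IsNoetherian.noetherian _
    refine Submodule.eq_bot_of_le_smul_of_le_jacobson_bot (maximalIdeal A) (maximalIdeal A) hfg ?_
      (IsLocalRing.maximalIdeal_le_jacobson _)
    rw [smul_eq_mul, ← pow_two]
    exact hle
  obtain ⟨y, hy, hy2⟩ := SetLike.not_le_iff_exists.1 hnle
  obtain ⟨lam, h1, h2, hly⟩ := exists_lam (k := k) y hy hy2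
  -- nilpotency
  have hnil : IsNilpotent (maximalIdeal A) := by
    have := IsArtinianRing.isNilpotent_jacobson_bot (R := A)
    rwa [IsLocalRing.jacobson_eq_maximalIdeal ⊥ bot_ne_top] at this
  obtain ⟨N, hN⟩ := hnil
  obtain ⟨ψ, hψ⟩ := exists_tower hA hcon lam h1 h2 y hy hly N
  apply tang_pow_ne_zero y (N + 1) ψ hψ
  have : y ^ (N + 1) = 0 := by
    have : y ^ (N + 1) ∈ maximalIdeal A ^ N := by
      rw [pow_succ]
      exact Ideal.mul_mem_right _ _ (Ideal.pow_mem_pow hy N)
    rw [hN] at this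
    exact this
  rw [this, map_zero]

end Main

end Groth.Agent.Helper9.ExalLift
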