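import Groth.Prelude.Def_Exal2
import Mathlib
import Groth.Agent.Lib.Helper9.ExalLift2

set_option autoImplicit false
universe u v

namespace Groth.Agent.Helper9.ExalLift

open Exal IsLocalRing

section Struct

variable {Λ : Type u} {R L : Type v} [CommRing Λ] [CommRing R] [Algebra Λ R]
  [AddCommGroup L] [Module R L] (X : Ext Λ R L)

lemma incl_mul_incl (z z' : L) : X.incl z * X.incl z' = 0 := by
  rw [X.isExtension.mul_incl, (X.isExtension.exact _).2 ⟨z, rfl⟩, zero_smul, map_zero]

lemma proj_incl (z : L) : X.proj (X.incl z) = 0 := (X.isExtension.exact _).2 ⟨z, rfl⟩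

lemma isUnit_of_isUnit_proj (e : X.E) (h : IsUnit (X.proj e)) : IsUnit e := by
  obtain ⟨r, hr⟩ := h.exists_right_inv
  obtain ⟨e', rfl⟩ := X.isExtension.proj_surjective r
  have h0 : X.proj (e * e' - 1) = 0 := by rw [map_sub, map_mul, hr, map_one, sub_self]
  obtain ⟨z, hz⟩ := (X.isExtension.exact _).1 h0
  have h1 : e * (e' * (1 - X.incl z)) = 1 := by
    have : e * e' = 1 + X.incl z := by rw [hz]; ring
    rw [← mul_assoc, this]
    have := incl_mul_incl X z z
    linear_combination (-1 : X.E) * this
  exact IsUnit.of_mul_eq_one _ h1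

instance isLocalHom_proj : IsLocalHom X.proj.toRingHom :=
  ⟨fun e h => isUnit_of_isUnit_proj X e h⟩

lemma isLocalRing_E [IsLocalRing R] : IsLocalRing X.E :=
  RingHom.domain_isLocalRing X.proj.toRingHom

/-- the middle ring of an extension of a Noetherian ring by a Noetherian module is Noetherian -/
lemma isNoetherianRing_E [IsNoetherianRing R] [IsNoetherian R L] : IsNoetherianRing X.E := by
  classical
  rw [isNoetherianRing_iff_ideal_fg]
  intro 𝔞
  -- the submodule of `L`
  let N : Submodule R L :=
    { carrier := {z | X.incl z ∈ 𝔞}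
      add_mem' := fun {z z'} hz hz' => by
        change X.incl (z + z') ∈ 𝔞
        rw [map_add]; exact 𝔞.add_mem hz hz'
      zero_mem' := by
        change X.incl 0 ∈ 𝔞
        rw [map_zero]; exact 𝔞.zero_mem
      smul_mem' := fun r z hz => by
        obtain ⟨e, rfl⟩ := X.isExtension.proj_surjective r
        change X.incl (X.proj e • z) ∈ 𝔞
        rw [← X.isExtension.mul_incl]
        exact 𝔞.mul_mem_left _ hz }
  obtain ⟨SL, hSL⟩ := (IsNoetherian.noetherian N : N.FG)
  obtain ⟨T, hT⟩ := (IsNoetherian.noetherian (𝔞.map X.proj.toRingHom) : (𝔞.map X.proj.toRingHom).FG)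
  have hTmem : ∀ r ∈ T, ∃ a ∈ 𝔞, X.proj a = r := by
    intro r hr
    have : r ∈ 𝔞.map X.proj.toRingHom := by
      rw [← hT]; exact Submodule.subset_span hr
    exact (Ideal.mem_map_iff_of_surjective _ X.isExtension.proj_surjective).1 this
  choose! a ha hpa using hTmem
  refine ⟨T.image a ∪ SL.image X.incl, ?_⟩
  apply le_antisymm
  · rw [Ideal.span_le]
    intro x hx
    simp only [Finset.coe_union, Finset.coe_image, Set.mem_union, Set.mem_image] at hx
    rcases hx with ⟨r, hr, rfl⟩ | ⟨z, hz, rfl⟩
    · exact ha r hr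
    · have : z ∈ N := by rw [← hSL]; exact Submodule.subset_span hz
      exact this
  · intro x hx
    have h1 : X.proj x ∈ (Ideal.span ((T.image a : Finset X.E) : Set X.E)).map X.proj.toRingHom := by
      have h2 : X.proj x ∈ 𝔞.map X.proj.toRingHom := Ideal.mem_map_of_mem _ hx
      rw [← hT] at h2
      rw [Ideal.map_span]
      refine Submodule.span_mono ?_ h2
      intro r hr
      exact ⟨a r, by simpa using ⟨r, hr, rfl⟩, hpa r hr⟩
    obtain ⟨y, hy, hyx⟩ := (Ideal.mem_map_iff_of_surjective _ X.isExtension.proj_surjective).1 h1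
    have hy𝔞 : y ∈ 𝔞 := by
      refine (Ideal.span_le.2 ?_) hy
      intro w hw
      simp only [Finset.coe_image, Set.mem_image] at hw
      obtain ⟨r, hr, rfl⟩ := hw
      exact ha r hr
    have h0 : X.proj (x - y) = 0 := by
      rw [map_sub]
      have : X.proj y = X.proj x := hyx
      rw [this, sub_self]
    obtain ⟨z, hz⟩ := (X.isExtension.exact _).1 h0
    have hzN : z ∈ N := by
      change X.incl z ∈ 𝔞
      rw [hz]; exact 𝔞.sub_mem hx hy𝔞
    have hzspan : X.incl z ∈ Ideal.span ((SL.image X.incl : Finset X.E) : Set X.E) := by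
      rw [← hSL] at hzN
      refine Submodule.span_induction ?_ ?_ ?_ ?_ hzN
      · intro w hw
        exact Ideal.subset_span (by simpa using ⟨w, hw, rfl⟩)
      · rw [map_zero]; exact Ideal.zero_mem _
      · intro w w' _ _ hw hw'
        rw [map_add]; exact Ideal.add_mem _ hw hw'
      · intro r w _ hw
        obtain ⟨e, rfl⟩ := X.isExtension.proj_surjective r
        rw [← X.isExtension.mul_incl]
        exact Ideal.mul_mem_left _ _ hw
    have : x = y + X.incl z := by rw [hz]; ring
    rw [this]
    refine Ideal.add_mem _ ?_ ?_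
    · refine Ideal.span_mono ?_ hy
      intro w hw
      rw [Finset.coe_union]
      exact Or.inl hw
    · refine Ideal.span_mono ?_ hzspan
      intro w hw
      rw [Finset.coe_union]
      exact Or.inr hw

end Struct

end Groth.Agent.Helper9.ExalLift
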