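import Groth.Prelude.Def_Exal2
import Mathlib
import Groth.Agent.Lib.Helper9.ExalLift4

set_option autoImplicit false
universe u v

namespace Groth.Agent.Helper9.ExalLift

open Exal IsLocalRing

section Conv

variable {k : Type u} [Field k] {Λ : Type u} [CommRing Λ] [Algebra k Λ]
  {R : Type u} [CommRing R] [Algebra Λ R] [IsLocalRing R] [IsNoetherianRing R]

/-- lifting along small extensions of Artinian local rings implies triviality of all extensions
by the residue field -/
theorem trivial_of_lift_small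
    (hR : ∀ r : R, ∃ c : k, r - algebraMap Λ R (algebraMap k Λ c) ∈ maximalIdeal R)
    (hlift : ∀ (B : Type u) [CommRing B] [Algebra Λ B] [IsLocalRing B] [IsArtinianRing B],
      (∀ b : B, ∃ c : k, b - algebraMap Λ B (algebraMap k Λ c) ∈ maximalIdeal B) →
      ∀ t : B, t ∈ maximalIdeal B → (∀ b ∈ maximalIdeal B, b * t = 0) →
      ∀ φ : R →ₐ[Λ] B ⧸ Ideal.span {t},
        ∃ φ' : R →ₐ[Λ] B, (Ideal.Quotient.mkₐ Λ (Ideal.span {t})).comp φ' = φ)
    (X : Ext Λ R (ResidueField R)) : X.IsTrivial := by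
  have : IsLocalRing X.E := isLocalRing_E X
  have : IsNoetherianRing X.E := isNoetherianRing_E X
  set t : X.E := X.incl 1 with ht
  have ht0 : t ≠ 0 := by
    intro h
    have := X.isExtension.incl_injective (h.trans (map_zero X.incl).symm)
    exact one_ne_zero this
  have hmE : ∀ e : X.E, e ∈ maximalIdeal X.E ↔ X.proj e ∈ maximalIdeal R := by
    intro e
    rw [mem_maximalIdeal, mem_maximalIdeal, mem_nonunits_iff, mem_nonunits_iff, not_iff_not]
    exact ⟨fun h => h.map X.proj, fun h => isUnit_of_isUnit_proj X e h⟩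
  have htm : ∀ e ∈ maximalIdeal X.E, e * t = 0 := by
    intro e he
    rw [ht, X.isExtension.mul_incl]
    have : X.proj e • (1 : ResidueField R) = 0 := by
      change residue R (X.proj e) * 1 = 0
      rw [mul_one, residue_eq_zero_iff]
      exact (hmE e).1 he
    rw [this, map_zero]
  have hkerE : ∀ e : X.E, X.proj e = 0 → ∃ c, e = c * t := by
    intro e he
    obtain ⟨z, rfl⟩ := (X.isExtension.exact e).1 he
    obtain ⟨r, rfl⟩ := residue_surjective z
    obtain ⟨c, rfl⟩ := X.isExtension.proj_surjective r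
    refine ⟨c, ?_⟩
    rw [ht, X.isExtension.mul_incl]
    congr 1
    change _ = residue R (X.proj c) * 1
    rw [mul_one]
  have htproj : X.proj t = 0 := proj_incl X 1
  -- Krull
  obtain ⟨n, hn⟩ : ∃ n : ℕ, t ∉ maximalIdeal X.E ^ n := by
    by_contra hcon
    push Not at hcon
    have h1 := Ideal.iInf_pow_eq_bot_of_isLocalRing (maximalIdeal X.E)
      (Ideal.IsPrime.ne_top inferInstance)
    have h2 : t ∈ ⨅ i, maximalIdeal X.E ^ i := by
      rw [Ideal.mem_iInf]; exact hcon
    rw [h1] at h2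
    exact ht0 h2
  have hn0 : n ≠ 0 := by
    rintro rfl
    apply hn
    rw [pow_zero, Ideal.one_eq_top]; trivial
  set I : Ideal X.E := maximalIdeal X.E ^ n with hI
  have hIm : I ≤ maximalIdeal X.E := Ideal.pow_le_self hn0
  have hItop : I ≠ ⊤ := fun h => (Ideal.IsPrime.ne_top (inferInstance : (maximalIdeal X.E).IsPrime))
    (top_le_iff.1 (h ▸ hIm))
  have : Nontrivial (X.E ⧸ I) := Ideal.Quotient.nontrivial_iff.2 hItop
  have : IsLocalRing (X.E ⧸ I) :=
    IsLocalRing.of_surjective' (Ideal.Quotient.mk I) Ideal.Quotient.mk_surjective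
  have hmB : ∀ e : X.E, Ideal.Quotient.mk I e ∈ maximalIdeal (X.E ⧸ I) ↔ e ∈ maximalIdeal X.E := by
    intro e
    constructor
    · intro h
      rw [mem_maximalIdeal, mem_nonunits_iff] at h ⊢
      exact fun hu => h (hu.map _)
    · intro he
      rw [mem_maximalIdeal, mem_nonunits_iff]
      intro hu
      obtain ⟨b, hb⟩ := hu.exists_right_inv
      obtain ⟨e', rfl⟩ := Ideal.Quotient.mk_surjective b
      rw [← map_mul, ← map_one (Ideal.Quotient.mk I), Ideal.Quotient.eq] at hb
      have h1 : e * e' - 1 ∈ maximalIdeal X.E := hIm hb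
      have h2 : e * e' ∈ maximalIdeal X.E := Ideal.mul_mem_right _ _ he
      have h3 : (1 : X.E) ∈ maximalIdeal X.E := by
        have := Ideal.sub_mem _ h2 h1
        rwa [sub_sub_cancel] at this
      exact (Ideal.ne_top_iff_one _).1 (Ideal.IsPrime.ne_top inferInstance) h3
  have : IsArtinianRing (X.E ⧸ I) := by
    rw [isArtinianRing_iff_isNilpotent_maximalIdeal]
    refine ⟨n, ?_⟩
    have hle : maximalIdeal (X.E ⧸ I) ≤ (maximalIdeal X.E).map (Ideal.Quotient.mk I) := by
      intro x hx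
      obtain ⟨e, rfl⟩ := Ideal.Quotient.mk_surjective x
      exact Ideal.mem_map_of_mem _ ((hmB e).1 hx)
    rw [Ideal.zero_eq_bot, eq_bot_iff]
    refine (Ideal.pow_right_mono hle n).trans ?_
    rw [← Ideal.map_pow, ← hI, Ideal.map_quotient_self]
  -- residue field of the quotient
  have hB : ∀ b : X.E ⧸ I, ∃ c : k, b - algebraMap Λ (X.E ⧸ I) (algebraMap k Λ c)
      ∈ maximalIdeal (X.E ⧸ I) := by
    intro b
    obtain ⟨e, rfl⟩ := Ideal.Quotient.mk_surjective b
    obtain ⟨c, hc⟩ := hR (X.proj e)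
    refine ⟨c, ?_⟩
    have : algebraMap Λ (X.E ⧸ I) (algebraMap k Λ c)
        = Ideal.Quotient.mk I (algebraMap Λ X.E (algebraMap k Λ c)) := rfl
    rw [this, ← map_sub, hmB, hmE, map_sub, AlgHom.commutes]
    exact hc
  set tB : X.E ⧸ I := Ideal.Quotient.mk I t with htB
  have htBm : tB ∈ maximalIdeal (X.E ⧸ I) := by
    rw [htB, hmB, hmE, htproj]; exact Ideal.zero_mem _
  have htBann : ∀ b ∈ maximalIdeal (X.E ⧸ I), b * tB = 0 := by
    intro b hb
    obtain ⟨e, rfl⟩ := Ideal.Quotient.mk_surjective b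
    rw [htB, ← map_mul, htm e ((hmB e).1 hb), map_zero]
  -- the map `R → B/(tB)`
  let q : X.E →ₐ[Λ] (X.E ⧸ I) ⧸ Ideal.span {tB} :=
    (Ideal.Quotient.mkₐ Λ (Ideal.span {tB})).comp (Ideal.Quotient.mkₐ Λ I)
  have hq : RingHom.ker X.proj.toRingHom ≤ RingHom.ker q.toRingHom := by
    intro e he
    obtain ⟨c, rfl⟩ := hkerE e he
    change Ideal.Quotient.mk (Ideal.span {tB}) (Ideal.Quotient.mk I (c * t)) = 0
    rw [Ideal.Quotient.eq_zero_iff_mem, map_mul]
    exact Ideal.mul_mem_left _ _ (Ideal.mem_span_singleton_self tB)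
  let φ : R →ₐ[Λ] (X.E ⧸ I) ⧸ Ideal.span {tB} :=
    AlgHom.liftOfSurjective X.proj X.isExtension.proj_surjective q hq
  have hφ : ∀ e, φ (X.proj e) = q e := fun e =>
    AlgHom.liftOfSurjective_apply X.proj X.isExtension.proj_surjective q hq e
  obtain ⟨φ', hφ'⟩ := hlift (X.E ⧸ I) hB tB htBm htBann φ
  have hφ'' : ∀ r, Ideal.Quotient.mk (Ideal.span {tB}) (φ' r) = φ r := fun r => by
    rw [← hφ']; rfl
  -- the embedding of `E` in `R × B`
  let j : X.E →ₐ[Λ] R × (X.E ⧸ I) := AlgHom.prod X.proj (Ideal.Quotient.mkₐ Λ I)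
  have hj : Function.Injective j := by
    rw [injective_iff_map_eq_zero]
    intro e he
    have h1 : X.proj e = 0 := congrArg Prod.fst he
    have h2 : Ideal.Quotient.mk I e = 0 := congrArg Prod.snd he
    obtain ⟨c, rfl⟩ := hkerE e h1
    by_cases hc : c ∈ maximalIdeal X.E
    · exact htm c hc
    · exfalso
      have hu : IsUnit c := by
        by_contra hnu
        exact hc ((mem_maximalIdeal _).2 hnu)
      rw [Ideal.Quotient.eq_zero_iff_mem] at h2
      apply hn
      obtain ⟨u, rfl⟩ := hu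
      have := I.mul_mem_left (↑u⁻¹ : X.E) h2
      rwa [← mul_assoc, Units.inv_mul, one_mul] at this
  let g : R →ₐ[Λ] R × (X.E ⧸ I) := AlgHom.prod (AlgHom.id Λ R) φ'
  have hg : ∀ r, g r ∈ j.range := by
    intro r
    obtain ⟨e₀, rfl⟩ := X.isExtension.proj_surjective r
    have h1 : Ideal.Quotient.mk (Ideal.span {tB}) (Ideal.Quotient.mk I e₀ - φ' (X.proj e₀)) = 0 := by
      rw [map_sub, hφ'', hφ]
      exact sub_self _
    rw [Ideal.Quotient.eq_zero_iff_mem, Ideal.mem_span_singleton'] at h1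
    obtain ⟨b, hb⟩ := h1
    obtain ⟨c, rfl⟩ := Ideal.Quotient.mk_surjective b
    refine ⟨e₀ - c * t, ?_⟩
    apply Prod.ext
    · change X.proj (e₀ - c * t) = X.proj e₀
      rw [map_sub, map_mul, htproj, mul_zero, sub_zero]
    · change Ideal.Quotient.mk I (e₀ - c * t) = φ' (X.proj e₀)
      rw [map_sub, map_mul, ← htB, hb]
      ring
  let s : R →ₐ[Λ] X.E :=
    (AlgEquiv.ofInjective j hj).symm.toAlgHom.comp (g.codRestrict j.range hg)
  refine ⟨s, fun r => ?_⟩
  have h1 : j (s r) = g r := by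
    change j ((AlgEquiv.ofInjective j hj).symm (g.codRestrict j.range hg r)) = g r
    have := (AlgEquiv.ofInjective j hj).apply_symm_apply (g.codRestrict j.range hg r)
    exact congrArg Subtype.val this
  exact congrArg Prod.fst h1

end Conv

end Groth.Agent.Helper9.ExalLift

namespace Groth.Agent.Helper9.ExalLift

open Exal IsLocalRing

section Fwd

variable {k : Type u} [Field k] {Λ : Type u} [CommRing Λ] [Algebra k Λ]
  {R : Type u} [CommRing R] [Algebra Λ R] [IsLocalRing R]

/-- if all extensions by the residue field are trivial, maps lift along small extensions of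
local rings with residue field `k` -/
theorem lift_small_local
    (hR : ∀ r : R, ∃ c : k, r - algebraMap Λ R (algebraMap k Λ c) ∈ maximalIdeal R)
    (htriv : ∀ X : Ext Λ R (ResidueField R), X.IsTrivial)
    (B : Type u) [CommRing B] [Algebra Λ B] [IsLocalRing B]
    (hB : ∀ b : B, ∃ c : k, b - algebraMap Λ B (algebraMap k Λ c) ∈ maximalIdeal B)
    (t : B) (ht : t ∈ maximalIdeal B) (htm : ∀ b ∈ maximalIdeal B, b * t = 0)
    (φ : R →ₐ[Λ] B ⧸ Ideal.span {t}) :
    ∃ φ' : R →ₐ[Λ] B, (Ideal.Quotient.mkₐ Λ (Ideal.span {t})).comp φ' = φ := by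
  let _ : Algebra k R := ((algebraMap Λ R).comp (algebraMap k Λ)).toAlgebra
  have : IsScalarTower k Λ R := IsScalarTower.of_algebraMap_eq (fun _ => rfl)
  let _ : Algebra k B := ((algebraMap Λ B).comp (algebraMap k Λ)).toAlgebra
  have : IsScalarTower k Λ B := IsScalarTower.of_algebraMap_eq (fun _ => rfl)
  have hR' : ∀ r : R, ∃ c : k, r - algebraMap k R c ∈ maximalIdeal R := hR
  have hB' : ∀ b : B, ∃ c : k, b - algebraMap k B c ∈ maximalIdeal B := hB
  by_cases ht0 : t = 0
  · subst ht0
    have hbij : Function.Bijective (Ideal.Quotient.mkₐ Λ (Ideal.span {(0 : B)})) := by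
      refine ⟨?_, Ideal.Quotient.mk_surjective⟩
      rw [injective_iff_map_eq_zero]
      intro b hb
      change Ideal.Quotient.mk _ b = 0 at hb
      rw [Ideal.Quotient.eq_zero_iff_mem, Ideal.mem_span_singleton'] at hb
      obtain ⟨a, ha⟩ := hb
      rw [← ha, mul_zero]
    let e := AlgEquiv.ofBijective _ hbij
    refine ⟨e.symm.toAlgHom.comp φ, ?_⟩
    ext r
    change e (e.symm (φ r)) = φ r
    rw [AlgEquiv.apply_symm_apply]
  · let χ : B →ₐ[k] k :=
      { toRingHom := resConst hB'
        commutes' := resConst_algebraMap hB' }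
    have hχapp : ∀ b, χ b = resConst hB' b := fun b => rfl
    refine lift_small hR' htriv (Ideal.Quotient.mkₐ Λ (Ideal.span {t})) Ideal.Quotient.mk_surjective
      t ht0 ?_ χ ?_ ?_ φ
    · exact Ideal.mk_ker
    · intro b
      have h1 := htm _ (sub_resConst_mem hB' b)
      rw [hχapp, Algebra.smul_def]
      linear_combination h1
    · rw [hχapp, resConst_eq_zero_iff]
      exact ht

end Fwd

end Groth.Agent.Helper9.ExalLift
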