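import Mathlib
import Groth.Prelude.Def_EtMil
import Groth.Agent.Lib.Helper9.FlatKernel

/-!
The short exact sequence `0 → B' → B × A' → A → 0` attached to a fibre square of rings.
-/

set_option autoImplicit false

universe u

open TensorProduct

namespace Groth.Agent.Helper9
namespace FibreSq

variable (R B' B A' A : Type u) [CommRing R] [CommRing B'] [CommRing B] [CommRing A'] [CommRing A]
    [Algebra B' B] [Algebra B' A'] [Algebra B A] [Algebra A' A] [Algebra B' A]
    [IsScalarTower B' B A] [IsScalarTower B' A' A]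
    [Algebra R B'] [Algebra R B] [Algebra R A'] [Algebra R A]
    [IsScalarTower R B' B] [IsScalarTower R B' A'] [IsScalarTower R B' A] [IsScalarTower R B A]
    [IsScalarTower R A' A]

/-- `b' ↦ (b', b')`. -/
noncomputable def f : B' →ₗ[R] B × A' :=
  LinearMap.prod (IsScalarTower.toAlgHom R B' B).toLinearMap
    (IsScalarTower.toAlgHom R B' A').toLinearMap

/-- `(b, a') ↦ b - a'`. -/
noncomputable def g : B × A' →ₗ[R] A :=
  LinearMap.coprod (IsScalarTower.toAlgHom R B A).toLinearMap
    (-(IsScalarTower.toAlgHom R A' A).toLinearMap)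

@[simp] theorem f_apply (b' : B') :
    f R B' B A' b' = (algebraMap B' B b', algebraMap B' A' b') := rfl

@[simp] theorem g_apply (x : B × A') :
    g R B A' A x = algebraMap B A x.1 - algebraMap A' A x.2 := by
  simp [g, sub_eq_add_neg]

variable {B' B A' A}

theorem f_injective (hsq : EtMil.IsFibreSquare B' B A' A) : Function.Injective (f R B' B A') := by
  intro b₁ b₂ h
  have h1 : algebraMap B' B b₁ = algebraMap B' B b₂ := congrArg Prod.fst h
  have h2 : algebraMap B' A' b₁ = algebraMap B' A' b₂ := congrArg Prod.snd h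
  have hc : algebraMap B A (algebraMap B' B b₂) = algebraMap A' A (algebraMap B' A' b₂) := by
    rw [← IsScalarTower.algebraMap_apply, ← IsScalarTower.algebraMap_apply]
  obtain ⟨b, _, hu⟩ := hsq.2 _ _ hc
  rw [hu b₁ ⟨h1, h2⟩, hu b₂ ⟨rfl, rfl⟩]

theorem exact_f_g (hsq : EtMil.IsFibreSquare B' B A' A) :
    Function.Exact (f R B' B A') (g R B A' A) := by
  intro x
  constructor
  · intro hx
    rw [g_apply, sub_eq_zero] at hx
    obtain ⟨b', ⟨h1, h2⟩, _⟩ := hsq.2 _ _ hx
    exact ⟨b', by rw [f_apply, h1, h2]⟩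
  · rintro ⟨b', rfl⟩
    rw [g_apply, f_apply, sub_eq_zero, ← IsScalarTower.algebraMap_apply,
      ← IsScalarTower.algebraMap_apply]

theorem g_surjective (hsq : EtMil.IsFibreSquare B' B A' A) :
    Function.Surjective (g R B A' A) := by
  intro a
  obtain ⟨a', rfl⟩ := hsq.1 a
  exact ⟨(0, -a'), by simp⟩

end FibreSq
end Groth.Agent.Helper9
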