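import Mathlib

set_option autoImplicit false

namespace Groth.Agent.Lib.Helper9.FiltLA

open Module

section
variable {κ V : Type*} [Field κ] [AddCommGroup V] [Module κ V] [FiniteDimensional κ V]
variable {Γ : Type*} [LinearOrder Γ]

lemma sum_jump_le (A B : Γ → Submodule κ V) (hBA : ∀ γ, B γ ≤ A γ)
    (hAB : ∀ γ η, γ < η → A η ≤ B γ) (J : Finset Γ) :
    ∑ γ ∈ J, (finrank κ (A γ) - finrank κ (B γ)) ≤ finrank κ ↥(⨆ γ ∈ J, A γ) := by
  induction J using Finset.induction_on_min with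
  | empty => simp
  | insert a s ha ih =>
    have has : a ∉ s := fun h => lt_irrefl a (ha a h)
    rw [Finset.sum_insert has]
    have h1 : (⨆ γ ∈ s, A γ) ≤ B a := by
      apply iSup₂_le
      intro γ hγ
      exact hAB a γ (ha γ hγ)
    have h2 : finrank κ ↥(⨆ γ ∈ s, A γ) ≤ finrank κ (B a) := Submodule.finrank_mono h1
    have h3 : finrank κ (B a) ≤ finrank κ (A a) := Submodule.finrank_mono (hBA a)
    have h4 : finrank κ (A a) ≤ finrank κ ↥(⨆ γ ∈ insert a s, A γ) := by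
      apply Submodule.finrank_mono
      exact le_iSup₂_of_le a (Finset.mem_insert_self a s) le_rfl
    omega

lemma finsum_jump_le (A B : Γ → Submodule κ V) (hBA : ∀ γ, B γ ≤ A γ)
    (hAB : ∀ γ η, γ < η → A η ≤ B γ) (W : Submodule κ V) (hW : ∀ γ, A γ ≤ W) :
    ∑ᶠ γ, (finrank κ (A γ) - finrank κ (B γ)) ≤ finrank κ W := by
  by_cases hfin : (Function.support fun γ => finrank κ (A γ) - finrank κ (B γ)).Finite
  · rw [finsum_eq_sum_of_support_subset _ (s := hfin.toFinset) (by simp)]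
    refine le_trans (sum_jump_le A B hBA hAB _) ?_
    apply Submodule.finrank_mono
    exact iSup₂_le fun γ _ => hW γ
  · rw [finsum_of_infinite_support hfin]
    exact Nat.zero_le _

theorem iSup_eq_top_of_finsum (Vf : Γ → Submodule κ V) (hanti : Antitone Vf)
    (E : Γ → Submodule κ V)
    (hE : ∀ γ, Vf γ = (⨆ η ∈ Set.Ioi γ, Vf η) ⊔ E γ)
    (hsum : finrank κ V = ∑ᶠ γ, (finrank κ (Vf γ) - finrank κ ↥(⨆ η ∈ Set.Ioi γ, Vf η))) :
    ⨆ γ, E γ = ⊤ := by
  set W : Submodule κ V := ⨆ γ, E γ with hWdef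
  have hEW : ∀ γ, E γ ≤ W := fun γ => le_iSup E γ
  have hplus : ∀ γ, (⨆ η ∈ Set.Ioi γ, Vf η) ≤ Vf γ := by
    intro γ
    exact iSup₂_le fun η hη => hanti (le_of_lt hη)
  -- jumps agree
  have hjump : ∀ γ, finrank κ (Vf γ) - finrank κ ↥(⨆ η ∈ Set.Ioi γ, Vf η) =
      finrank κ ↥(Vf γ ⊓ W) - finrank κ ↥((⨆ η ∈ Set.Ioi γ, Vf η) ⊓ W) := by
    intro γ
    set P : Submodule κ V := ⨆ η ∈ Set.Ioi γ, Vf η with hP
    have h1 : Vf γ ⊓ W = (P ⊓ W) ⊔ E γ := by
      rw [hE γ, ← hP]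
      -- modular law
      rw [sup_comm P (E γ), sup_comm (P ⊓ W) (E γ)]
      exact sup_inf_assoc_of_le P (hEW γ)
    have h2 := Submodule.finrank_sup_add_finrank_inf_eq P (E γ)
    have h3 := Submodule.finrank_sup_add_finrank_inf_eq (P ⊓ W) (E γ)
    have h4 : (P ⊓ W) ⊓ E γ = P ⊓ E γ := by
      rw [inf_assoc, inf_eq_right.mpr (hEW γ)]
    rw [h4, ← h1] at h3
    rw [← hE γ] at h2
    omega
  have hle := finsum_jump_le (fun γ => Vf γ ⊓ W) (fun γ => (⨆ η ∈ Set.Ioi γ, Vf η) ⊓ W)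
    (fun γ => inf_le_inf_right W (hplus γ))
    (fun γ η hγη => inf_le_inf_right W (le_iSup₂_of_le η hγη le_rfl))
    W (fun γ => inf_le_right)
  rw [finsum_congr hjump] at hsum
  apply Submodule.eq_top_of_finrank_eq
  have := Submodule.finrank_le W
  omega

end

end Groth.Agent.Lib.Helper9.FiltLA
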