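import Mathlib

set_option autoImplicit false

namespace Groth.Agent.Lib.Helper9.FiltSplitB

open Module TensorProduct

section bc
variable {R M : Type*} [CommRing R] [AddCommGroup M] [Module R M]
variable (A : Type*) [CommRing A] [Algebra R A]

lemma baseChange_iSup {ι : Sort*} (S : ι → Submodule R M) :
    (⨆ i, S i).baseChange A = ⨆ i, (S i).baseChange A := by
  apply le_antisymm
  · rw [Submodule.baseChange_eq_span, Submodule.span_le]
    rintro _ ⟨m, hm, rfl⟩
    have h1 : (⨆ i, S i) ≤ Submodule.comap (TensorProduct.mk R A M 1)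
        ((⨆ i, (S i).baseChange A).restrictScalars R) := by
      apply iSup_le
      intro i x hx
      simp only [Submodule.mem_comap, Submodule.restrictScalars_mem]
      exact (le_iSup (fun i => (S i).baseChange A) i) (Submodule.tmul_mem_baseChange_of_mem 1 hx)
    exact h1 hm
  · apply iSup_le
    intro i
    exact Submodule.baseChange_mono A (le_iSup S i)

lemma baseChange_biSup {ι : Type*} (s : Set ι) (S : ι → Submodule R M) :
    (⨆ i ∈ s, S i).baseChange A = ⨆ i ∈ s, (S i).baseChange A := by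
  rw [baseChange_iSup]
  congr 1
  funext i
  rw [baseChange_iSup]

lemma baseChange_sup (S T : Submodule R M) :
    (S ⊔ T).baseChange A = S.baseChange A ⊔ T.baseChange A := by
  rw [sup_eq_iSup, baseChange_iSup, sup_eq_iSup]
  congr 1
  funext b
  cases b <;> rfl

end bc

section nak
variable {R M : Type*} [CommRing R] [AddCommGroup M] [Module R M] [Module.Finite R M]

lemma eq_top_of_baseChange_eq_top (N : Submodule R M)
    (h : ∀ p : PrimeSpectrum R, N.baseChange p.asIdeal.ResidueField = ⊤) : N = ⊤ := by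
  rw [← Submodule.Quotient.subsingleton_iff, ← Module.support_eq_empty_iff (R := R)]
  ext p
  simp only [Set.mem_empty_iff_false, iff_false]
  rw [Module.mem_support_iff_nontrivial_residueField_tensorProduct, not_nontrivial_iff_subsingleton]
  refine ⟨fun a b => ?_⟩
  have key : ∀ y : p.asIdeal.ResidueField ⊗[R] (M ⧸ N), y = 0 := by
    intro y
    obtain ⟨x, rfl⟩ := LinearMap.lTensor_surjective p.asIdeal.ResidueField
      (Submodule.mkQ_surjective N) y
    have hx : x ∈ N.baseChange p.asIdeal.ResidueField := by rw [h p]; trivial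
    obtain ⟨z, rfl⟩ := hx
    rw [LinearMap.baseChange_eq_ltensor, ← LinearMap.comp_apply, ← LinearMap.lTensor_comp]
    have : N.mkQ ∘ₗ N.subtype = 0 := by
      apply LinearMap.ext; intro x; simp
    rw [this, LinearMap.lTensor_zero, LinearMap.zero_apply]
  rw [key a, key b]

end nak

section rel
variable {Γ : Type*} [LinearOrder Γ] {R : Type*} [CommRing R] {M : Type*} [AddCommGroup M]
  [Module R M]
variable (F G : Γ → Submodule R M)

lemma Fp_anti {η η' : Γ} (h : η' ≤ η) :
    (⨆ ζ ∈ Set.Ioi η, F ζ) ≤ ⨆ ζ ∈ Set.Ioi η', F ζ :=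
  biSup_mono fun ζ hζ => lt_of_le_of_lt h hζ

lemma rel (hGF : ∀ γ, G γ ≤ F γ)
    (hdisj : ∀ γ, G γ ⊓ (⨆ η ∈ Set.Ioi γ, F η) = ⊥) (T : Submodule R M)
    (J : Finset Γ) (g : Γ → M) (hg : ∀ η ∈ J, g η ∈ G η) (hsum : ∑ η ∈ J, g η ∈ T) :
    ∀ η ∈ J, T ≤ (⨆ ζ ∈ Set.Ioi η, F ζ) → g η = 0 := by
  induction J using Finset.induction_on_min with
  | empty => simp
  | insert a s ha ih =>
    have has : a ∉ s := fun h => lt_irrefl a (ha a h)
    rw [Finset.sum_insert has] at hsum
    by_cases haT : T ≤ ⨆ ζ ∈ Set.Ioi a, F ζ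
    · have h1 : ∑ η ∈ s, g η ∈ ⨆ ζ ∈ Set.Ioi a, F ζ := by
        apply Submodule.sum_mem
        intro η hη
        exact (le_iSup₂_of_le (f := fun ζ (_ : ζ ∈ Set.Ioi a) => F ζ) η (ha η hη) le_rfl)
          (hGF η (hg η (Finset.mem_insert_of_mem hη)))
      have h3 : g a ∈ ⨆ ζ ∈ Set.Ioi a, F ζ := by
        have := Submodule.sub_mem _ (haT hsum) h1
        simpa using this
      have h4 : g a = 0 := by
        have h5 : g a ∈ G a ⊓ ⨆ ζ ∈ Set.Ioi a, F ζ :=
          ⟨hg a (Finset.mem_insert_self a s), h3⟩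
        rw [hdisj] at h5
        simpa using h5
      rw [h4, zero_add] at hsum
      intro η hη
      rcases Finset.mem_insert.mp hη with rfl | hη'
      · intro _; exact h4
      · exact ih (fun η hη => hg η (Finset.mem_insert_of_mem hη)) hsum η hη'
    · intro η hη hηT
      exfalso
      rcases Finset.mem_insert.mp hη with rfl | hη'
      · exact haT hηT
      · exact haT (le_trans hηT (Fp_anti F (le_of_lt (ha η hη'))))

end rel

end Groth.Agent.Lib.Helper9.FiltSplitB
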