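import Mathlib
import Groth.Agent.Lib.Helper9.FiltLA
import Groth.Agent.Lib.Helper9.FiltSplitB

set_option autoImplicit false

namespace Groth.Agent.Lib.Helper9.FiltSplitB2

open Module TensorProduct
open Groth.Agent.Lib.Helper9.FiltSplitB

section
variable {Γ : Type*} [LinearOrder Γ] {R : Type*} [CommRing R] {M : Type*} [AddCommGroup M]
  [Module R M] [Module.Finite R M]

theorem partB (F : Γ → Submodule R M) (hF : Antitone F)
    (hproj : ∀ γ, Module.Projective R
      (↥(F γ) ⧸ Submodule.comap (F γ).subtype (⨆ η ∈ Set.Ioi γ, F η)))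
    (hrank : ∀ p : PrimeSpectrum R,
      finrank p.asIdeal.ResidueField (p.asIdeal.ResidueField ⊗[R] M) =
        ∑ᶠ γ, (finrank p.asIdeal.ResidueField ↥((F γ).baseChange p.asIdeal.ResidueField) -
          finrank p.asIdeal.ResidueField
            ↥(⨆ η ∈ Set.Ioi γ, (F η).baseChange p.asIdeal.ResidueField))) :
    ∃ G : Γ → Submodule R M, DirectSum.IsInternal G ∧ ∀ γ, F γ = ⨆ η ∈ Set.Ici γ, G η := by
  classical
  have hFp : ∀ γ, (⨆ η ∈ Set.Ioi γ, F η) ≤ F γ := fun γ =>
    iSup₂_le fun η hη => hF (le_of_lt hη)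
  have hs : ∀ γ, ∃ s : (↥(F γ) ⧸ Submodule.comap (F γ).subtype (⨆ η ∈ Set.Ioi γ, F η))
      →ₗ[R] ↥(F γ),
      (Submodule.comap (F γ).subtype (⨆ η ∈ Set.Ioi γ, F η)).mkQ ∘ₗ s = LinearMap.id := by
    intro γ
    haveI := hproj γ
    exact Module.projective_lifting_property _ _ (Submodule.mkQ_surjective _)
  choose s hs using hs
  let G : Γ → Submodule R M := fun γ => Submodule.map (F γ).subtype (LinearMap.range (s γ))
  have hGF : ∀ γ, G γ ≤ F γ := fun γ => Submodule.map_subtype_le _ _
  have hdisj : ∀ γ, G γ ⊓ (⨆ η ∈ Set.Ioi γ, F η) = ⊥ := by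
    intro γ
    rw [eq_bot_iff]
    rintro x ⟨hx1, hx2⟩
    obtain ⟨y, ⟨q, rfl⟩, rfl⟩ := hx1
    have h1 : (Submodule.comap (F γ).subtype (⨆ η ∈ Set.Ioi γ, F η)).mkQ (s γ q) = 0 := by
      rw [Submodule.mkQ_apply, Submodule.Quotient.mk_eq_zero]
      exact hx2
    have h2 : (Submodule.comap (F γ).subtype (⨆ η ∈ Set.Ioi γ, F η)).mkQ (s γ q) = q := by
      have := LinearMap.congr_fun (hs γ) q
      simpa using this
    rw [h2] at h1
    rw [h1]
    simp
  have hsup : ∀ γ, F γ = (⨆ η ∈ Set.Ioi γ, F η) ⊔ G γ := by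
    intro γ
    apply le_antisymm
    · intro x hx
      set q := (Submodule.comap (F γ).subtype (⨆ η ∈ Set.Ioi γ, F η)).mkQ ⟨x, hx⟩ with hq
      have h2 : (Submodule.comap (F γ).subtype (⨆ η ∈ Set.Ioi γ, F η)).mkQ (s γ q) = q := by
        have := LinearMap.congr_fun (hs γ) q
        simpa using this
      have h3 : (⟨x, hx⟩ : F γ) - s γ q ∈
          Submodule.comap (F γ).subtype (⨆ η ∈ Set.Ioi γ, F η) := by
        rw [← Submodule.Quotient.mk_eq_zero, Submodule.Quotient.mk_sub]
        rw [← Submodule.mkQ_apply, ← Submodule.mkQ_apply, h2, hq, sub_self]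
      have h4 : x = (x - (s γ q : M)) + (s γ q : M) := by abel
      rw [h4]
      apply Submodule.add_mem_sup
      · exact h3
      · exact ⟨s γ q, ⟨q, rfl⟩, rfl⟩
    · exact sup_le (hFp γ) (hGF γ)
  -- independence
  have hindep : iSupIndep G := by
    apply iSupIndep_of_dfinsupp_lsum_injective
    rw [injective_iff_map_eq_zero]
    intro x hx
    rw [DFinsupp.lsum_apply_apply, DFinsupp.sumAddHom_apply] at hx
    have h0 := rel F G hGF hdisj ⊥ x.support (fun η => (x η : M)) (fun η _ => (x η).2)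
      (by
        rw [Submodule.mem_bot]
        exact hx)
    ext η
    by_cases hη : η ∈ x.support
    · have := h0 η hη bot_le
      simpa using this
    · simp only [DFinsupp.mem_support_toFun, ne_eq, not_not] at hη
      rw [hη]
      simp
  -- spanning
  have htop : iSup G = ⊤ := by
    apply eq_top_of_baseChange_eq_top
    intro p
    rw [baseChange_iSup]
    apply FiltLA.iSup_eq_top_of_finsum (fun γ => (F γ).baseChange p.asIdeal.ResidueField)
      (fun a b hab => Submodule.baseChange_mono _ (hF hab))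
    · intro γ
      show (F γ).baseChange p.asIdeal.ResidueField = _
      conv_lhs => rw [hsup γ]
      rw [baseChange_sup, baseChange_biSup]
    · exact hrank p
  refine ⟨G, DirectSum.isInternal_submodule_of_iSupIndep_of_iSup_eq_top hindep htop, ?_⟩
  intro γ
  apply le_antisymm
  · intro x hx
    have hx' : x ∈ iSup G := by rw [htop]; trivial
    rw [Submodule.mem_iSup_iff_exists_dfinsupp'] at hx'
    obtain ⟨f, rfl⟩ := hx'
    rw [DFinsupp.sum] at hx ⊢
    have h0 := rel F G hGF hdisj (F γ) f.support (fun η => (f η : M)) (fun η _ => (f η).2) hx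
    apply Submodule.sum_mem
    intro η hη
    by_cases hηγ : η < γ
    · have : (f η : M) = 0 := h0 η hη (le_iSup₂_of_le (f := fun ζ (_ : ζ ∈ Set.Ioi η) => F ζ)
        γ hηγ le_rfl)
      rw [this]
      exact Submodule.zero_mem _
    · exact (le_iSup₂_of_le (f := fun ζ (_ : ζ ∈ Set.Ici γ) => G ζ) η (not_lt.mp hηγ) le_rfl)
        (f η).2
  · exact iSup₂_le fun η hη => le_trans (hGF η) (hF hη)

end

end Groth.Agent.Lib.Helper9.FiltSplitB2
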