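import Mathlib
import Groth.Agent.Lib.Helper9.FiltSplitB

set_option autoImplicit false

namespace Groth.Agent.Lib.Helper9.FiltSplitC

open Module TensorProduct
open Groth.Agent.Lib.Helper9.FiltSplitB

section field
variable {κ V : Type*} [Field κ] [AddCommGroup V] [Module κ V] [FiniteDimensional κ V]
variable {Γ : Type*} [LinearOrder Γ]

lemma finrank_biSup_of_indep (E : Γ → Submodule κ V) (hind : iSupIndep E) (J : Finset Γ) :
    finrank κ ↥(⨆ γ ∈ J, E γ) = ∑ γ ∈ J, finrank κ (E γ) := by
  classical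
  induction J using Finset.induction_on with
  | empty => simp
  | insert a s has ih =>
    rw [Finset.iSup_insert, Finset.sum_insert has, ← ih]
    have hd : E a ⊓ ⨆ γ ∈ s, E γ = ⊥ := by
      have := hind a
      rw [disjoint_iff] at this
      apply le_bot_iff.mp
      rw [← this]
      apply inf_le_inf_left
      apply biSup_mono
      intro γ hγ
      rintro rfl
      exact has hγ
    have := Submodule.finrank_sup_add_finrank_inf_eq (E a) (⨆ γ ∈ s, E γ)
    rw [hd, finrank_bot] at this
    omega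

lemma finsum_jump_eq (E : Γ → Submodule κ V) (hind : iSupIndep E) (htop : iSup E = ⊤) :
    finrank κ V =
      ∑ᶠ γ, (finrank κ ↥(⨆ η ∈ Set.Ici γ, E η) - finrank κ ↥(⨆ η ∈ Set.Ioi γ, E η)) := by
  classical
  have hjump : ∀ γ, finrank κ ↥(⨆ η ∈ Set.Ici γ, E η) - finrank κ ↥(⨆ η ∈ Set.Ioi γ, E η)
      = finrank κ (E γ) := by
    intro γ
    have h1 : (⨆ η ∈ Set.Ici γ, E η) = E γ ⊔ ⨆ η ∈ Set.Ioi γ, E η := by
      rw [← Set.Ioi_insert, iSup_insert]
    have hd : E γ ⊓ ⨆ η ∈ Set.Ioi γ, E η = ⊥ := by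
      have := hind γ
      rw [disjoint_iff] at this
      apply le_bot_iff.mp
      rw [← this]
      apply inf_le_inf_left
      apply biSup_mono
      intro η hη
      exact ne_of_gt hη
    have := Submodule.finrank_sup_add_finrank_inf_eq (E γ) (⨆ η ∈ Set.Ioi γ, E η)
    rw [hd, finrank_bot, ← h1] at this
    omega
  rw [finsum_congr hjump]
  have hfin : {γ | E γ ≠ ⊥}.Finite := WellFoundedGT.finite_ne_bot_of_iSupIndep hind
  have hsupp : (Function.support fun γ => finrank κ (E γ)) ⊆ hfin.toFinset := by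
    intro γ hγ
    simp only [Function.mem_support, ne_eq] at hγ
    simp only [Set.Finite.coe_toFinset, Set.mem_setOf_eq]
    intro h
    apply hγ
    rw [h, finrank_bot]
  rw [finsum_eq_sum_of_support_subset _ hsupp, ← finrank_biSup_of_indep E hind]
  have h2 : (⨆ γ ∈ hfin.toFinset, E γ) = ⊤ := by
    rw [← htop]
    apply le_antisymm
    · exact iSup₂_le fun γ _ => le_iSup E γ
    · apply iSup_le
      intro γ
      by_cases h : E γ = ⊥
      · rw [h]; exact bot_le
      · exact le_iSup₂_of_le (f := fun γ (_ : γ ∈ hfin.toFinset) => E γ) γ (by simpa using h) le_rfl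
  rw [h2, finrank_top]

end field

section ring
variable {Γ : Type*} [LinearOrder Γ] {R : Type*} [CommRing R] {M : Type*} [AddCommGroup M]
  [Module R M]

/-- projection onto the γ-th summand -/
noncomputable def proj [DecidableEq Γ] (G : Γ → Submodule R M) [DirectSum.Decomposition G] (γ : Γ) :
    M →ₗ[R] G γ :=
  DirectSum.component R Γ (fun γ => G γ) γ ∘ₗ (DirectSum.decomposeLinearEquiv G).toLinearMap

lemma proj_apply [DecidableEq Γ] (G : Γ → Submodule R M) [DirectSum.Decomposition G] (γ : Γ)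
    (x : M) : proj G γ x = DirectSum.decompose G x γ := rfl

lemma proj_same [DecidableEq Γ] (G : Γ → Submodule R M) [DirectSum.Decomposition G] (γ : Γ)
    {x : M} (hx : x ∈ G γ) : (proj G γ x : M) = x := by
  rw [proj_apply]
  exact DirectSum.decompose_of_mem_same G hx

lemma proj_ne [DecidableEq Γ] (G : Γ → Submodule R M) [DirectSum.Decomposition G] {γ η : Γ}
    (h : η ≠ γ) {x : M} (hx : x ∈ G η) : proj G γ x = 0 := by
  rw [proj_apply]
  apply Subtype.ext
  exact DirectSum.decompose_of_mem_ne G hx h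

lemma proj_biSup_eq_zero [DecidableEq Γ] (G : Γ → Submodule R M) [DirectSum.Decomposition G]
    (γ : Γ) (s : Set Γ) (hs : γ ∉ s) {x : M} (hx : x ∈ ⨆ η ∈ s, G η) : proj G γ x = 0 := by
  have h1 : (⨆ η ∈ s, G η) ≤ LinearMap.ker (proj G γ) := by
    apply iSup₂_le
    intro η hη y hy
    rw [LinearMap.mem_ker]
    exact proj_ne G (fun h : η = γ => hs (h ▸ hη)) hy
  exact h1 hx

end ring

end Groth.Agent.Lib.Helper9.FiltSplitC
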