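import Mathlib
import Groth.Agent.Lib.Helper9.FiltSplitB
import Groth.Agent.Lib.Helper9.FiltSplitC

set_option autoImplicit false

namespace Groth.Agent.Lib.Helper9.FiltSplitC2

open Module TensorProduct
open Groth.Agent.Lib.Helper9.FiltSplitB Groth.Agent.Lib.Helper9.FiltSplitC

section
variable {Γ : Type*} [LinearOrder Γ] {R : Type*} [CommRing R] {M : Type*} [AddCommGroup M]
  [Module R M]

lemma Fp_eq (F G : Γ → Submodule R M) (hFG : ∀ γ, F γ = ⨆ η ∈ Set.Ici γ, G η) (γ : Γ) :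
    (⨆ η ∈ Set.Ioi γ, F η) = ⨆ ζ ∈ Set.Ioi γ, G ζ := by
  apply le_antisymm
  · apply iSup₂_le
    intro η hη
    rw [hFG η]
    apply iSup₂_le
    intro ζ hζ
    exact le_iSup₂_of_le (f := fun ζ (_ : ζ ∈ Set.Ioi γ) => G ζ) ζ (lt_of_lt_of_le hη hζ) le_rfl
  · apply iSup₂_le
    intro ζ hζ
    refine le_trans ?_ (le_iSup₂_of_le (f := fun ζ (_ : ζ ∈ Set.Ioi γ) => F ζ) ζ hζ le_rfl)
    rw [hFG ζ]
    exact le_iSup₂_of_le (f := fun η (_ : η ∈ Set.Ici ζ) => G η) ζ (Set.mem_Ici.mpr le_rfl) le_rfl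

lemma G_le_F (F G : Γ → Submodule R M) (hFG : ∀ γ, F γ = ⨆ η ∈ Set.Ici γ, G η) (γ : Γ) :
    G γ ≤ F γ := by
  rw [hFG γ]
  exact le_iSup₂_of_le (f := fun η (_ : η ∈ Set.Ici γ) => G η) γ (Set.mem_Ici.mpr le_rfl) le_rfl

lemma sub_proj_mem [DecidableEq Γ] (F G : Γ → Submodule R M) [DirectSum.Decomposition G]
    (hFG : ∀ γ, F γ = ⨆ η ∈ Set.Ici γ, G η) (γ : Γ) {x : M} (hx : x ∈ F γ) :
    x - (proj G γ x : M) ∈ ⨆ ζ ∈ Set.Ioi γ, G ζ := by
  have h1 : F γ ≤ Submodule.comap (LinearMap.id - (G γ).subtype ∘ₗ proj G γ)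
      (⨆ ζ ∈ Set.Ioi γ, G ζ) := by
    rw [hFG γ]
    apply iSup₂_le
    intro η hη y hy
    simp only [Submodule.mem_comap, LinearMap.sub_apply, LinearMap.id_coe, id_eq,
      LinearMap.coe_comp, Submodule.coe_subtype, Function.comp_apply]
    rcases eq_or_lt_of_le (Set.mem_Ici.mp hη) with rfl | hlt
    · rw [proj_same G _ hy, sub_self]
      exact Submodule.zero_mem _
    · rw [proj_ne G (ne_of_gt hlt) hy]
      simp only [ZeroMemClass.coe_zero, sub_zero]
      exact (le_iSup₂_of_le (f := fun ζ (_ : ζ ∈ Set.Ioi γ) => G ζ) η hlt le_rfl) hy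
  have := h1 hx
  simpa using this

theorem gr_finite_projective [Module.Finite R M] [Module.Projective R M]
    (F G : Γ → Submodule R M) (hint : DirectSum.IsInternal G)
    (hFG : ∀ γ, F γ = ⨆ η ∈ Set.Ici γ, G η) (γ : Γ) :
    Module.Finite R (↥(F γ) ⧸ Submodule.comap (F γ).subtype (⨆ η ∈ Set.Ioi γ, F η)) ∧
      Module.Projective R (↥(F γ) ⧸ Submodule.comap (F γ).subtype (⨆ η ∈ Set.Ioi γ, F η)) := by
  classical
  letI := hint.chooseDecomposition
  have hker : Submodule.comap (F γ).subtype (⨆ η ∈ Set.Ioi γ, F η) ≤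
      LinearMap.ker ((G γ).subtype ∘ₗ proj G γ ∘ₗ (F γ).subtype) := by
    intro x hx
    rw [Submodule.mem_comap, Fp_eq F G hFG] at hx
    rw [LinearMap.mem_ker]
    simp only [LinearMap.coe_comp, Submodule.coe_subtype, Function.comp_apply]
    have h0 : proj G γ (x : M) = 0 := proj_biSup_eq_zero G γ (Set.Ioi γ) (by simp) hx
    rw [h0]
    rfl
  let i : (↥(F γ) ⧸ Submodule.comap (F γ).subtype (⨆ η ∈ Set.Ioi γ, F η)) →ₗ[R] M :=
    Submodule.liftQ _ ((G γ).subtype ∘ₗ proj G γ ∘ₗ (F γ).subtype) hker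
  let s : M →ₗ[R] (↥(F γ) ⧸ Submodule.comap (F γ).subtype (⨆ η ∈ Set.Ioi γ, F η)) :=
    (Submodule.comap (F γ).subtype (⨆ η ∈ Set.Ioi γ, F η)).mkQ ∘ₗ
      Submodule.inclusion (G_le_F F G hFG γ) ∘ₗ proj G γ
  have hsi : s ∘ₗ i = LinearMap.id := by
    apply Submodule.linearMap_qext
    apply LinearMap.ext
    intro x
    simp only [LinearMap.coe_comp, Function.comp_apply, Submodule.mkQ_apply, LinearMap.id_coe,
      id_eq, i, s, Submodule.liftQ_apply, Submodule.coe_subtype]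
    rw [Submodule.Quotient.eq, Submodule.mem_comap, Fp_eq F G hFG]
    simp only [map_sub, Submodule.coe_subtype, Submodule.coe_inclusion]
    have h1 : (proj G γ ((proj G γ (x : M) : G γ) : M) : M) = proj G γ (x : M) :=
      proj_same G γ (proj G γ (x : M)).2
    rw [h1]
    have := Submodule.neg_mem _ (sub_proj_mem F G hFG γ x.2)
    rwa [neg_sub] at this
  have hs : Function.Surjective s := by
    intro q
    exact ⟨i q, LinearMap.congr_fun hsi q⟩
  exact ⟨Module.Finite.of_surjective s hs, Module.Projective.of_split i s hsi⟩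

theorem fibre_rank [Module.Finite R M]
    (F G : Γ → Submodule R M) (hint : DirectSum.IsInternal G)
    (hFG : ∀ γ, F γ = ⨆ η ∈ Set.Ici γ, G η)
    (κ : Type*) [Field κ] [Algebra R κ] :
    finrank κ (κ ⊗[R] M) =
      ∑ᶠ γ, (finrank κ ↥((F γ).baseChange κ) -
        finrank κ ↥(⨆ η ∈ Set.Ioi γ, (F η).baseChange κ)) := by
  classical
  letI := hint.chooseDecomposition
  let E : Γ → Submodule κ (κ ⊗[R] M) := fun γ => (G γ).baseChange κ
  let P : Γ → (κ ⊗[R] M) →ₗ[κ] (κ ⊗[R] M) := fun γ =>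
    ((G γ).subtype ∘ₗ proj G γ).baseChange κ
  have hP1 : ∀ γ x, x ∈ E γ → P γ x = x := by
    rintro γ _ ⟨z, rfl⟩
    show (((G γ).subtype ∘ₗ proj G γ).baseChange κ) (((G γ).subtype.baseChange κ) z) = _
    rw [← LinearMap.comp_apply, ← LinearMap.baseChange_comp]
    congr 2
    apply LinearMap.ext
    intro y
    simp only [LinearMap.coe_comp, Submodule.coe_subtype, Function.comp_apply]
    exact proj_same G γ y.2
  have hP2 : ∀ γ η, η ≠ γ → ∀ x, x ∈ E η → P γ x = 0 := by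
    rintro γ η hne _ ⟨z, rfl⟩
    show (((G γ).subtype ∘ₗ proj G γ).baseChange κ) (((G η).subtype.baseChange κ) z) = _
    rw [← LinearMap.comp_apply, ← LinearMap.baseChange_comp]
    have : ((G γ).subtype ∘ₗ proj G γ) ∘ₗ (G η).subtype = 0 := by
      apply LinearMap.ext
      intro y
      simp only [LinearMap.coe_comp, Submodule.coe_subtype, Function.comp_apply,
        LinearMap.zero_apply]
      rw [proj_ne G hne y.2]
      rfl
    rw [this, LinearMap.baseChange_zero, LinearMap.zero_apply]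
  have hind : iSupIndep E := by
    intro γ
    rw [disjoint_iff, eq_bot_iff]
    rintro x ⟨hx1, hx2⟩
    have h1 : (⨆ j, ⨆ (_ : j ≠ γ), E j) ≤ LinearMap.ker (P γ) := by
      apply iSup₂_le
      intro η hη y hy
      exact hP2 γ η hη y hy
    have h2 : P γ x = 0 := h1 hx2
    rw [hP1 γ x hx1] at h2
    rw [h2]
    exact Submodule.zero_mem _
  have htop : iSup E = ⊤ := by
    show (⨆ γ, (G γ).baseChange κ) = ⊤
    rw [← baseChange_iSup, hint.submodule_iSup_eq_top, Submodule.baseChange_top]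
  have h := finsum_jump_eq E hind htop
  rw [h]
  apply finsum_congr
  intro γ
  have e1 : (F γ).baseChange κ = ⨆ η ∈ Set.Ici γ, E η := by
    rw [hFG γ, baseChange_biSup]
  have e2 : (⨆ η ∈ Set.Ioi γ, (F η).baseChange κ) = ⨆ η ∈ Set.Ioi γ, E η := by
    rw [← baseChange_biSup, Fp_eq F G hFG, baseChange_biSup]
  rw [e1, e2]

end

end Groth.Agent.Lib.Helper9.FiltSplitC2
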