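import Mathlib

set_option autoImplicit false
universe u

namespace Groth.Agent.Helper9.S13904

lemma ringKrullDim_le_of_isIntegral (R S : Type*) [CommRing R] [CommRing S] [Algebra R S]
    [Algebra.IsIntegral R S] : ringKrullDim S ≤ ringKrullDim R := by
  refine Order.krullDim_le_of_strictMono
    (fun I : PrimeSpectrum S ↦ (⟨Ideal.comap (algebraMap R S) I.asIdeal, inferInstance⟩ : PrimeSpectrum R)) ?_
  intro I J hIJ
  have : I.asIdeal < J.asIdeal := hIJ
  exact Ideal.IsIntegral.comap_lt_comap (R := R) this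

theorem main (k : Type u) [Field k] (r : ℕ)
    (A : Type u) [CommRing A] [Algebra k A] (φ : MvPolynomial (Fin r) k →ₐ[k] A)
    (hφ : φ.toRingHom.Finite)
    (hdim : ∀ p ∈ minimalPrimes A, ringKrullDim (A ⧸ p) = r)
    (p : Ideal A) (hp : p ∈ minimalPrimes A)
    (q : Ideal (MvPolynomial (Fin r) k)) [q.IsPrime] :
    ∃ P : Ideal A, P.IsPrime ∧ p ≤ P ∧ P.comap φ.toRingHom = q := by
  have hpp : p.IsPrime := hp.1.1
  set ψ : MvPolynomial (Fin r) k →+* A ⧸ p := (Ideal.Quotient.mk p).comp φ.toRingHom with hψ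
  have hψfin : ψ.Finite := by
    have h1 : (Ideal.Quotient.mk p).Finite := RingHom.Finite.of_surjective _ Ideal.Quotient.mk_surjective
    exact h1.comp hφ
  have hψinj : Function.Injective ψ := by
    rw [injective_iff_map_eq_zero]
    intro f hf
    by_contra hf0
    -- factor through the quotient by f
    let C := MvPolynomial (Fin r) k ⧸ Ideal.span {f}
    let ψ' : C →+* A ⧸ p := Ideal.Quotient.lift (Ideal.span {f}) ψ (by
      intro a ha
      obtain ⟨c, rfl⟩ := Ideal.mem_span_singleton'.1 ha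
      rw [map_mul, hf, mul_zero])
    have hcomp : ψ'.comp (Ideal.Quotient.mk _) = ψ := Ideal.Quotient.lift_comp_mk _ _ _
    have hψ'fin : ψ'.Finite := RingHom.Finite.of_comp_finite (f := Ideal.Quotient.mk _) (hcomp ▸ hψfin)
    let _ : Algebra C (A ⧸ p) := ψ'.toAlgebra
    have : Algebra.IsIntegral C (A ⧸ p) := by
      have : Module.Finite C (A ⧸ p) := hψ'fin
      infer_instance
    have h1 : ringKrullDim (A ⧸ p) ≤ ringKrullDim C := ringKrullDim_le_of_isIntegral C (A ⧸ p)
    have h2 : ringKrullDim C + 1 ≤ ringKrullDim (MvPolynomial (Fin r) k) :=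
      ringKrullDim_quotient_succ_le_of_nonZeroDivisor (mem_nonZeroDivisors_of_ne_zero hf0)
    rw [MvPolynomial.ringKrullDim_of_isNoetherianRing, ringKrullDim_eq_zero_of_field, zero_add,
      Nat.card_fin] at h2
    rw [hdim p hp] at h1
    generalize ringKrullDim C = d at h1 h2
    induction d with
    | bot => simp at h1
    | coe d =>
      induction d with
      | top =>
        have h5 : ((⊤ : ℕ∞) : WithBot ℕ∞) + 1 = ((⊤ : ℕ∞) : WithBot ℕ∞) := rfl
        rw [h5] at h2
        have h6 : ((⊤ : ℕ∞) : WithBot ℕ∞) ≤ ((r : ℕ∞) : WithBot ℕ∞) := h2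
        rw [WithBot.coe_le_coe] at h6
        simp at h6
      | coe n =>
        have h5 : (((n + 1 : ℕ) : ℕ∞) : WithBot ℕ∞) ≤ ((r : ℕ∞) : WithBot ℕ∞) := by
          refine le_trans (le_of_eq ?_) h2
          push_cast
          rfl
        have h6 : ((r : ℕ∞) : WithBot ℕ∞) ≤ ((n : ℕ∞) : WithBot ℕ∞) := h1
        rw [WithBot.coe_le_coe, ENat.natCast_le_natCast] at h5 h6
        omega
  let _ : Algebra (MvPolynomial (Fin r) k) (A ⧸ p) := ψ.toAlgebra
  have : Algebra.IsIntegral (MvPolynomial (Fin r) k) (A ⧸ p) := by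
    have : Module.Finite (MvPolynomial (Fin r) k) (A ⧸ p) := hψfin
    infer_instance
  obtain ⟨Q, hQ, hQq⟩ := Ideal.exists_ideal_over_prime_of_isIntegral_of_isDomain (S := A ⧸ p) q (by
    have : RingHom.ker (algebraMap (MvPolynomial (Fin r) k) (A ⧸ p)) = ⊥ :=
      (RingHom.injective_iff_ker_eq_bot _).1 hψinj
    rw [this]; exact bot_le)
  refine ⟨Q.comap (Ideal.Quotient.mk p), Ideal.comap_isPrime _ _, ?_, ?_⟩
  · intro x hx
    rw [Ideal.mem_comap, Ideal.Quotient.eq_zero_iff_mem.2 hx]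
    exact Q.zero_mem
  · rw [Ideal.comap_comap]
    exact hQq

end Groth.Agent.Helper9.S13904
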