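import Mathlib

set_option autoImplicit false

namespace Groth.Agent.Lib.Helper9.FinsuppScale

section
variable {ι R : Type*} [CommRing R]

/-- pointwise scaling of a finitely supported function -/
noncomputable def scale (w : ι → R) : (ι →₀ R) →ₗ[R] (ι →₀ R) where
  toFun z := Finsupp.onFinset z.support (fun k => w k * z k) (by
    intro k hk
    rw [Finsupp.mem_support_iff]
    intro h0
    apply hk
    rw [h0, mul_zero])
  map_add' x y := by
    ext k
    simp only [Finsupp.onFinset_apply, Finsupp.coe_add, Pi.add_apply]
    ring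
  map_smul' r x := by
    ext k
    simp only [Finsupp.onFinset_apply, Finsupp.coe_smul, Pi.smul_apply, smul_eq_mul,
      RingHom.id_apply]
    ring

@[simp] lemma scale_apply (w : ι → R) (z : ι →₀ R) (k : ι) : scale w z k = w k * z k := rfl

lemma scale_single (w : ι → R) (k : ι) (r : R) [DecidableEq ι] :
    scale w (Finsupp.single k r) = Finsupp.single k (w k * r) := by
  ext j
  rw [scale_apply]
  by_cases h : j = k
  · subst h; simp
  · rw [Finsupp.single_apply, Finsupp.single_apply, if_neg (Ne.symm h), if_neg (Ne.symm h),
      mul_zero]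

variable (U V : ι → R) (s : ι → Prop) [DecidablePred s]

/-- the submodule of pairs `(A, C)` with `U k * A k = V k * C k` -/
def K' : Submodule R ((ι →₀ R) × (ι →₀ R)) where
  carrier := {AC | ∀ k, U k * AC.1 k = V k * AC.2 k}
  add_mem' := by
    intro a b ha hb k
    simp only [Prod.fst_add, Prod.snd_add, Finsupp.coe_add, Pi.add_apply, mul_add, ha k, hb k]
  zero_mem' := by intro k; simp
  smul_mem' := by
    intro c a ha k
    simp only [Prod.smul_fst, Prod.smul_snd, Finsupp.coe_smul, Pi.smul_apply, smul_eq_mul]
    rw [mul_left_comm, ha k, mul_left_comm]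

lemma mem_K' (AC : (ι →₀ R) × (ι →₀ R)) : AC ∈ K' U V ↔ ∀ k, U k * AC.1 k = V k * AC.2 k :=
  Iff.rfl

/-- the parametrization -/
noncomputable def param : (ι →₀ R) →ₗ[R] (ι →₀ R) × (ι →₀ R) :=
  (scale (fun k => if s k then 1 else V k)).prod (scale (fun k => if s k then U k else 1))

lemma param_fst (z : ι →₀ R) (k : ι) :
    (param U V s z).1 k = (if s k then 1 else V k) * z k := rfl

lemma param_snd (z : ι →₀ R) (k : ι) :
    (param U V s z).2 k = (if s k then U k else 1) * z k := rfl

lemma param_injective : Function.Injective (param U V s) := by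
  rw [injective_iff_map_eq_zero]
  intro z hz
  ext k
  have h1 : (param U V s z).1 k = 0 := by rw [hz]; rfl
  have h2 : (param U V s z).2 k = 0 := by rw [hz]; rfl
  rw [param_fst] at h1
  rw [param_snd] at h2
  show z k = 0
  by_cases hk : s k
  · rw [if_pos hk, one_mul] at h1; exact h1
  · rw [if_neg hk, one_mul] at h2; exact h2

lemma range_param (hV : ∀ k, s k → V k = 1) (hU : ∀ k, ¬ s k → U k = 1) :
    LinearMap.range (param U V s) = K' U V := by
  apply le_antisymm
  · rintro _ ⟨z, rfl⟩
    intro k
    rw [param_fst, param_snd]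
    by_cases hk : s k
    · rw [if_pos hk, if_pos hk, hV k hk]; ring
    · rw [if_neg hk, if_neg hk, hU k hk]; ring
  · rintro ⟨A, C⟩ hAC
    rw [mem_K'] at hAC
    simp only at hAC
    refine ⟨Finsupp.filter s A + Finsupp.filter (fun k => ¬ s k) C, ?_⟩
    apply Prod.ext
    · ext k
      rw [param_fst]
      simp only [Finsupp.coe_add, Pi.add_apply, Finsupp.filter_apply]
      by_cases hk : s k
      · simp [hk]
      · simp only [hk, if_false, not_false_eq_true, if_true, zero_add]
        rw [← hAC k, hU k hk, one_mul]
    · ext k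
      rw [param_snd]
      simp only [Finsupp.coe_add, Pi.add_apply, Finsupp.filter_apply]
      by_cases hk : s k
      · simp only [hk, if_true, not_true_eq_false, if_false, add_zero]
        rw [hAC k, hV k hk, one_mul]
      · simp [hk]

theorem free_K' (hV : ∀ k, s k → V k = 1) (hU : ∀ k, ¬ s k → U k = 1) :
    Module.Free R (K' U V) := by
  rw [← range_param U V s hV hU]
  exact Module.Free.of_equiv (LinearEquiv.ofInjective (param U V s) (param_injective U V s))

end

end Groth.Agent.Lib.Helper9.FinsuppScale
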