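import Mathlib
import Groth.Agent.Lib.Helper9.PSOrd

set_option autoImplicit false
universe u

namespace Groth.Agent.Lib.Helper9.FirstOrder

open MvPowerSeries Groth.Agent.Lib.Helper9.PSOrd

section fo
variable {n : ℕ} {S : Type u} [CommRing S] (δ : Fin n → S) (hδ : ∀ i j, δ i * δ j = 0)

/-- the family `x_i + δ_i` -/
noncomputable def bδ : Fin n → MvPowerSeries (Fin n) S := fun i => X i + C (δ i)

lemma bδ_apply (i : Fin n) : bδ δ i = X i + C (δ i) := rfl

include hδ in
lemma hasSubst_bδ : HasSubst (bδ δ) := by
  apply hasSubst_of_constantCoeff_nilpotent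
  intro i
  refine ⟨2, ?_⟩
  rw [bδ_apply, map_add, constantCoeff_X, zero_add, constantCoeff_C, pow_two, hδ]

include hδ in
/-- zeroth order: the constant coefficient changes by an element of the ideal `(δ)` -/
lemma constantCoeff_subst_sub_mem (G : MvPowerSeries (Fin n) S) :
    constantCoeff (subst (bδ δ) G) - constantCoeff G ∈ Ideal.span (Set.range δ) := by
  set D := Ideal.span (Set.range δ) with hD
  have h1 := map_subst (hasSubst_bδ δ hδ) (h := Ideal.Quotient.mk D) G
  have h2 : (fun i => MvPowerSeries.map (Ideal.Quotient.mk D) (bδ δ i)) =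
      fun i => (X i : MvPowerSeries (Fin n) (S ⧸ D)) := by
    funext i
    rw [bδ_apply, map_add, map_X, map_C]
    have : Ideal.Quotient.mk D (δ i) = 0 :=
      Ideal.Quotient.eq_zero_iff_mem.mpr (Ideal.subset_span ⟨i, rfl⟩)
    rw [this, map_zero, add_zero]
  rw [h2, subst_self] at h1
  have h3 := congrArg constantCoeff h1
  rw [← coeff_zero_eq_constantCoeff_apply, ← coeff_zero_eq_constantCoeff_apply, coeff_map,
    id_eq, coeff_map] at h3
  rw [← Ideal.Quotient.eq, ← coeff_zero_eq_constantCoeff_apply, ← coeff_zero_eq_constantCoeff_apply]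
  exact h3

include hδ in
lemma mul_constantCoeff_subst (j : Fin n) (G : MvPowerSeries (Fin n) S) :
    δ j * constantCoeff (subst (bδ δ) G) = δ j * constantCoeff G := by
  have h := constantCoeff_subst_sub_mem δ hδ G
  have hkill : ∀ z ∈ Ideal.span (Set.range δ), δ j * z = 0 := by
    intro z hz
    refine Submodule.span_induction ?_ ?_ ?_ ?_ hz
    · rintro _ ⟨l, rfl⟩
      exact hδ j l
    · exact mul_zero _
    · intro x y _ _ hx hy
      rw [mul_add, hx, hy, add_zero]
    · intro a x _ hx
      rw [smul_eq_mul, mul_left_comm, hx, mul_zero]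
  have := hkill _ h
  rw [mul_sub, sub_eq_zero] at this
  exact this

end fo


section decomp
variable {n : ℕ} {S : Type u} [CommRing S]

lemma divX_C (s : Fin n) (a : S) : divX s (C a : MvPowerSeries (Fin n) S) = 0 := by
  classical
  ext d
  rw [coeff_divX, map_zero]
  split_ifs
  · rw [coeff_C, if_neg]
    intro h
    have := DFunLike.congr_fun h s
    simp at this
  · rfl

lemma decomp (H : MvPowerSeries (Fin n) S) :
    H = C (constantCoeff H) + ∑ s, X s * divX s H := by
  have h0 : constantCoeff (H - C (constantCoeff H)) = 0 := by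
    rw [map_sub, constantCoeff_C, sub_self]
  have h1 := sum_X_mul_divX (H - C (constantCoeff H)) h0
  have h2 : ∀ s, divX s (H - C (constantCoeff H)) = divX s H := by
    intro s
    rw [divX_sub, divX_C, sub_zero]
  simp only [h2] at h1
  rw [h1]
  ring

lemma constantCoeff_divX (s : Fin n) (H : MvPowerSeries (Fin n) S) :
    constantCoeff (divX s H) = coeff (Finsupp.single s 1) H := by
  rw [← coeff_zero_eq_constantCoeff_apply, coeff_divX,
    if_pos (fun j _ => (Finsupp.zero_apply : (0 : Fin n →₀ ℕ) j = 0)), zero_add]

lemma coeff_single_divX (r s : Fin n) (H : MvPowerSeries (Fin n) S) :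
    coeff (Finsupp.single r 1) (divX s H) =
      if r < s then 0 else coeff (Finsupp.single r 1 + Finsupp.single s 1) H := by
  rw [coeff_divX]
  by_cases h : r < s
  · rw [if_pos h, if_neg]
    intro hall
    have := hall r h
    simp at this
  · rw [if_neg h, if_pos]
    intro j hj
    have : r ≠ j := by
      rintro rfl
      exact h hj
    rw [Finsupp.single_eq_of_ne' this]

lemma coeff_single_X_mul (s i : Fin n) (Y : MvPowerSeries (Fin n) S) :
    coeff (Finsupp.single i 1) (X s * Y) = if s = i then constantCoeff Y else 0 := by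
  classical
  rw [X, coeff_monomial_mul, one_mul]
  by_cases h : s = i
  · subst h
    rw [if_pos le_rfl, if_pos rfl, tsub_self, coeff_zero_eq_constantCoeff_apply]
  · rw [if_neg h, if_neg]
    intro hle
    have := Finsupp.single_le_iff.mp hle
    rw [Finsupp.single_eq_of_ne' (Ne.symm h)] at this
    omega

end decomp

section fo2
variable {n : ℕ} {S : Type u} [CommRing S] (δ : Fin n → S) (hδ : ∀ i j, δ i * δ j = 0)

include hδ in
lemma subst_decomp (H : MvPowerSeries (Fin n) S) :
    subst (bδ δ) H = C (constantCoeff H) + ∑ s, (X s + C (δ s)) * subst (bδ δ) (divX s H) := by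
  have hs := hasSubst_bδ δ hδ
  conv_lhs => rw [decomp H]
  rw [subst_add hs, subst_C, ← coe_substAlgHom hs, map_sum]
  congr 1
  apply Finset.sum_congr rfl
  intro s _
  rw [map_mul, coe_substAlgHom hs, subst_X hs, bδ_apply]

include hδ in
lemma constantCoeff_subst (G : MvPowerSeries (Fin n) S) :
    constantCoeff (subst (bδ δ) G) =
      constantCoeff G + ∑ r, δ r * constantCoeff (divX r G) := by
  conv_lhs => rw [subst_decomp δ hδ G]
  rw [map_add, constantCoeff_C, map_sum]
  congr 1
  apply Finset.sum_congr rfl
  intro r _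
  rw [map_mul, map_add, constantCoeff_X, zero_add, constantCoeff_C,
    mul_constantCoeff_subst δ hδ]

include hδ in
lemma coeff_single_subst_aux (i : Fin n) (H : MvPowerSeries (Fin n) S) :
    coeff (Finsupp.single i 1) (subst (bδ δ) H) =
      constantCoeff (subst (bδ δ) (divX i H)) +
        ∑ s, δ s * coeff (Finsupp.single i 1) (subst (bδ δ) (divX s H)) := by
  classical
  conv_lhs => rw [subst_decomp δ hδ H]
  rw [map_add, coeff_C, if_neg, zero_add, map_sum]
  · have hterm : ∀ s, coeff (Finsupp.single i 1)
        ((X s + C (δ s)) * subst (bδ δ) (divX s H)) =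
        (if s = i then constantCoeff (subst (bδ δ) (divX s H)) else 0) +
          δ s * coeff (Finsupp.single i 1) (subst (bδ δ) (divX s H)) := by
      intro s
      rw [add_mul, map_add, coeff_single_X_mul, coeff_C_mul]
    simp only [hterm]
    rw [Finset.sum_add_distrib, Finset.sum_ite_eq' Finset.univ i, if_pos (Finset.mem_univ _)]
  · intro h
    have := DFunLike.congr_fun h i
    simp at this

include hδ in
/-- first order expansion of the linear coefficients -/
theorem coeff_single_subst (i : Fin n) (H : MvPowerSeries (Fin n) S) :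
    coeff (Finsupp.single i 1) (subst (bδ δ) H) =
      coeff (Finsupp.single i 1) H +
        ∑ r, δ r * (if r < i then 0 else coeff (Finsupp.single r 1 + Finsupp.single i 1) H) +
        ∑ s, δ s * (if i < s then 0 else coeff (Finsupp.single i 1 + Finsupp.single s 1) H) := by
  rw [coeff_single_subst_aux δ hδ i H, constantCoeff_subst δ hδ (divX i H), constantCoeff_divX]
  congr 1
  · congr 1
    apply Finset.sum_congr rfl
    intro r _
    rw [constantCoeff_divX, coeff_single_divX]
  · apply Finset.sum_congr rfl
    intro s _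
    rw [coeff_single_subst_aux δ hδ i (divX s H), mul_add, Finset.mul_sum,
      mul_constantCoeff_subst δ hδ, constantCoeff_divX, coeff_single_divX]
    have : ∑ r, δ s * (δ r * coeff (Finsupp.single i 1) (subst (bδ δ) (divX r (divX s H)))) = 0 := by
      apply Finset.sum_eq_zero
      intro r _
      rw [← mul_assoc, hδ, zero_mul]
    rw [this, add_zero]

end fo2

end Groth.Agent.Lib.Helper9.FirstOrder
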