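import Mathlib

set_option autoImplicit false

namespace Groth.Agent.Lib.Helper9.FlatRel

/-- equational criterion for a flat ring map, two-term relations -/
lemma flat_rel {B A : Type*} [CommRing B] [CommRing A] (φ : B →+* A) (hφ : φ.Flat)
    (b₁ b₂ : B) (m₁ m₂ : A) (h : φ b₁ * m₁ + φ b₂ * m₂ = 0) :
    ∃ (κ : ℕ) (a₁ a₂ : Fin κ → B) (yy : Fin κ → A),
      m₁ = ∑ j, φ (a₁ j) * yy j ∧ m₂ = ∑ j, φ (a₂ j) * yy j ∧
        ∀ j, b₁ * a₁ j + b₂ * a₂ j = 0 := by
  letI : Algebra B A := φ.toAlgebra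
  haveI : Module.Flat B A := hφ
  have hsm : ∀ (p : B) (z : A), p • z = φ p * z := fun p z => rfl
  have key := Module.Flat.isTrivialRelation_of_sum_smul_eq_zero (R := B) (M := A)
    (f := ![b₁, b₂]) (x := ![m₁, m₂]) (by
      rw [Fin.sum_univ_two]
      simp only [Matrix.cons_val_zero, Matrix.cons_val_one]
      rw [hsm, hsm]
      exact h)
  obtain ⟨κ, a, yy, h1, h2⟩ := key
  refine ⟨κ, a 0, a 1, yy, ?_, ?_, ?_⟩
  · have := h1 0
    simpa only [Matrix.cons_val_zero, hsm] using this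
  · have := h1 1
    simpa only [Matrix.cons_val_one, Matrix.cons_val_zero, hsm] using this
  · intro j
    have := h2 j
    rw [Fin.sum_univ_two] at this
    simpa only [Matrix.cons_val_zero, Matrix.cons_val_one] using this

/-- equational criterion for a flat ring map, one-term relations -/
lemma flat_rel1 {B A : Type*} [CommRing B] [CommRing A] (φ : B →+* A) (hφ : φ.Flat)
    (b : B) (m : A) (h : φ b * m = 0) :
    ∃ (κ : ℕ) (a : Fin κ → B) (yy : Fin κ → A),
      m = ∑ j, φ (a j) * yy j ∧ ∀ j, b * a j = 0 := by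
  obtain ⟨κ, a₁, a₂, yy, h1, -, h3⟩ := flat_rel φ hφ b 0 m 0 (by rw [h, map_zero, zero_mul, add_zero])
  refine ⟨κ, a₁, yy, h1, ?_⟩
  intro j
  have := h3 j
  rwa [zero_mul, add_zero] at this

end Groth.Agent.Lib.Helper9.FlatRel
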