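import Mathlib
import Groth.Prelude.Def_CotT2
import Groth.Agent.Lib.Helper9.CotHom3

set_option autoImplicit false
set_option linter.unusedSectionVars false
set_option linter.style.haveILetI false
universe u v w t u' w' t' u'' w'' t'' m

namespace Groth.Agent.Helper9.GHom

open CotT TensorProduct Groth.Agent.Helper9.CotHom

section Gen

lemma range_baseChange_le_ker {R : Type u} {B : Type v} {F : Type w} {Y : Type t} [CommRing R]
    [CommRing B] [Algebra R B] [AddCommGroup F] [Module R F] (Q : Submodule R F)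
    (T : Submodule R Q) [AddCommGroup Y] [Module B Y] (f : B ⊗[R] Q →ₗ[B] Y)
    (h : ∀ (b : B) (k : T), f (b ⊗ₜ (k : Q)) = 0) :
    LinearMap.range (T.subtype.baseChange B) ≤ LinearMap.ker f := by
  rintro _ ⟨z, rfl⟩
  rw [LinearMap.mem_ker]
  induction z using TensorProduct.induction_on with
  | zero => rw [map_zero, map_zero]
  | add x y hx hy => rw [map_add, map_add, hx, hy, add_zero]
  | tmul b k => rw [LinearMap.baseChange_tmul]; exact h b k

lemma quot_sub {R : Type u} {B : Type v} {F : Type w} [CommRing R] [CommRing B] [Algebra R B]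
    [AddCommGroup F] [Module R F]
    (Q : Submodule R F) (W : Submodule B (B ⊗[R] Q)) (b : B) (q1 q2 q3 : Q) (h : q3 = q1 - q2) :
    (Submodule.Quotient.mk (b ⊗ₜ[R] q1) : (B ⊗[R] Q) ⧸ W) - Submodule.Quotient.mk (b ⊗ₜ[R] q2) =
      Submodule.Quotient.mk (b ⊗ₜ[R] q3) := by
  rw [h, ← Submodule.Quotient.mk_sub]
  congr 1
  rw [TensorProduct.tmul_sub]

lemma mapQ_lcomp_eq {B : Type v} [CommRing B] {X : Type u} {X' : Type u'} {Y : Type w} {M : Type m}
    [AddCommGroup X] [Module B X] [AddCommGroup X'] [Module B X'] [AddCommGroup Y] [Module B Y]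
    [AddCommGroup M] [Module B M]
    (f1 f2 : X →ₗ[B] X') (s : Y →ₗ[B] X') (d : X →ₗ[B] Y) (hs : ∀ z, f1 z - f2 z = s (d z))
    (W' : Submodule B (X' →ₗ[B] M))
    (h1 : W' ≤ (LinearMap.range (LinearMap.lcomp B M d)).comap (LinearMap.lcomp B M f1))
    (h2 : W' ≤ (LinearMap.range (LinearMap.lcomp B M d)).comap (LinearMap.lcomp B M f2))
    (x : (X' →ₗ[B] M) ⧸ W') :
    Submodule.mapQ W' (LinearMap.range (LinearMap.lcomp B M d)) (LinearMap.lcomp B M f1) h1 x =
      Submodule.mapQ W' (LinearMap.range (LinearMap.lcomp B M d)) (LinearMap.lcomp B M f2) h2 x := by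
  obtain ⟨φ, rfl⟩ := W'.mkQ_surjective x
  rw [Submodule.mkQ_apply, Submodule.mapQ_apply, Submodule.mapQ_apply, Submodule.Quotient.eq]
  refine ⟨φ ∘ₗ s, ?_⟩
  refine LinearMap.ext fun z => ?_
  change φ (s (d z)) = φ (f1 z) - φ (f2 z)
  rw [← hs, map_sub]

lemma mapQ_lcomp_comp {B : Type v} [CommRing B] {X : Type u} {X' : Type u'} {X'' : Type u''}
    {M : Type m} [AddCommGroup X] [Module B X] [AddCommGroup X'] [Module B X'] [AddCommGroup X'']
    [Module B X''] [AddCommGroup M] [Module B M]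
    (f : X →ₗ[B] X') (f' : X' →ₗ[B] X'') (fc : X →ₗ[B] X'') (hc : ∀ z, fc z = f' (f z))
    (W'' : Submodule B (X'' →ₗ[B] M)) (W' : Submodule B (X' →ₗ[B] M)) (W : Submodule B (X →ₗ[B] M))
    (h' : W'' ≤ W'.comap (LinearMap.lcomp B M f')) (h : W' ≤ W.comap (LinearMap.lcomp B M f))
    (hcc : W'' ≤ W.comap (LinearMap.lcomp B M fc)) (x : (X'' →ₗ[B] M) ⧸ W'') :
    Submodule.mapQ W'' W (LinearMap.lcomp B M fc) hcc x =
      Submodule.mapQ W' W (LinearMap.lcomp B M f) h
        (Submodule.mapQ W'' W' (LinearMap.lcomp B M f') h' x) := by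
  obtain ⟨φ, rfl⟩ := W''.mkQ_surjective x
  rw [Submodule.mkQ_apply, Submodule.mapQ_apply, Submodule.mapQ_apply, Submodule.mapQ_apply]
  congr 1
  refine LinearMap.ext fun z => ?_
  change φ (fc z) = φ (f' (f z))
  rw [hc]

lemma mapQ_lcomp_id {B : Type v} [CommRing B] {X : Type u} {M : Type m} [AddCommGroup X]
    [Module B X] [AddCommGroup M] [Module B M] (f : X →ₗ[B] X) (hf : ∀ z, f z = z)
    (W : Submodule B (X →ₗ[B] M)) (h : W ≤ W.comap (LinearMap.lcomp B M f))
    (x : (X →ₗ[B] M) ⧸ W) : Submodule.mapQ W W (LinearMap.lcomp B M f) h x = x := by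
  obtain ⟨φ, rfl⟩ := W.mkQ_surjective x
  rw [Submodule.mkQ_apply, Submodule.mapQ_apply]
  congr 1
  refine LinearMap.ext fun z => ?_
  change φ (f z) = φ z
  rw [hf]

end Gen

variable {B : Type v} [CommRing B]
variable {A : Type u} {ι : Type w} {σ : Type t} [CommRing A] [Algebra A B]
variable {A' : Type u'} {ι' : Type w'} {σ' : Type t'} [CommRing A'] [Algebra A' B]
variable {A'' : Type u''} {ι'' : Type w''} {σ'' : Type t''} [CommRing A''] [Algebra A'' B]

/-- a morphism of relation data over the identity of `B`: a ring map between the polynomial rings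
compatible with the maps to `B` and a semilinear lift on the free modules of relations; the base
rings are unrelated -/
structure GH (P : Algebra.Presentation A B ι σ) (P' : Algebra.Presentation A' B ι' σ') where
  τ : P.toExtension.Ring →+* P'.toExtension.Ring
  hτ : ∀ r, algebraMap P'.toExtension.Ring B (τ r) = algebraMap P.toExtension.Ring B r
  a : relMod P →ₛₗ[τ] relMod P'
  ha : ∀ f, jmap P' (a f) = τ (jmap P f)

namespace GH

variable {P : Algebra.Presentation A B ι σ} {P' : Algebra.Presentation A' B ι' σ'}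
  {P'' : Algebra.Presentation A'' B ι'' σ''}
variable (g : GH P P')

lemma hτ' (r : P.toExtension.Ring) :
    algebraMap P'.toExtension.Ring B (g.τ r) = algebraMap B B (algebraMap P.toExtension.Ring B r) :=
  g.hτ r

/-- `Q → Q'` -/
noncomputable def aQ : relKer P →ₛₗ[g.τ] relKer P' :=
  (g.a.comp (relKer P).subtype).codRestrict (relKer P') (fun q => by
    change jmap P' (g.a (q : relMod P)) = 0
    rw [g.ha, show jmap P (q : relMod P) = 0 from q.2, map_zero])

@[simp] lemma aQ_coe (q : relKer P) : (g.aQ q : relMod P') = g.a q := rfl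

lemma a_mem_trivRel {y : relMod P} (hy : y ∈ trivRel P) : g.a y ∈ trivRel P' := by
  induction hy using Submodule.span_induction with
  | mem x hx =>
    obtain ⟨a, b, rfl⟩ := hx
    refine Submodule.subset_span ⟨g.a a, g.a b, ?_⟩
    rw [map_sub, LinearMap.map_smulₛₗ, LinearMap.map_smulₛₗ, g.ha, g.ha]
  | zero => simp
  | add x y _ _ hx hy => rw [map_add]; exact Submodule.add_mem _ hx hy
  | smul r x _ hx => rw [LinearMap.map_smulₛₗ]; exact Submodule.smul_mem _ _ hx

/-- `L₁ → L₁'`, semilinear over the identity of `B` -/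
noncomputable def L1s : L1 P →ₛₗ[(algebraMap B B : B →+* B)] L1 P' :=
  tensorMap g.τ g.hτ' g.a

/-- `L₁ → L₁'` -/
noncomputable def L1map : L1 P →ₗ[B] L1 P' := PresHom.linOfSemilinear (L1 P') g.L1s

lemma L1map_tmul (b : B) (f : relMod P) : g.L1map (b ⊗ₜ f) = b ⊗ₜ g.a f := rfl

/-- `B ⊗ Q → L₂'` -/
noncomputable def L2aux : B ⊗[P.toExtension.Ring] relKer P →ₗ[B] L2 P' :=
  (LinearMap.range ((trivRelKer P').subtype.baseChange B)).mkQ.comp
    (PresHom.linOfSemilinear (B ⊗[P'.toExtension.Ring] relKer P') (tensorMap g.τ g.hτ' g.aQ))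

lemma L2aux_tmul (b : B) (q : relKer P) :
    g.L2aux (b ⊗ₜ q) = Submodule.Quotient.mk (b ⊗ₜ g.aQ q) := rfl

lemma L2aux_triv (b : B) (k : trivRelKer P) : g.L2aux (b ⊗ₜ (k : relKer P)) = 0 := by
  rw [L2aux_tmul, Submodule.Quotient.mk_eq_zero]
  refine ⟨b ⊗ₜ ⟨g.aQ (k : relKer P), ?_⟩, rfl⟩
  change (g.aQ (k : relKer P) : relMod P') ∈ trivRel P'
  rw [aQ_coe]
  exact g.a_mem_trivRel k.2

/-- `L₂ → L₂'` -/
noncomputable def L2map : L2 P →ₗ[B] L2 P' :=
  Submodule.liftQ _ g.L2aux (range_baseChange_le_ker (relKer P) (trivRelKer P) g.L2aux g.L2aux_triv)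

lemma L2map_mk_tmul (b : B) (q : relKer P) :
    g.L2map (Submodule.Quotient.mk (b ⊗ₜ q)) = Submodule.Quotient.mk (b ⊗ₜ g.aQ q) := rfl

lemma d2_L2map_mk (b : B) (q : relKer P) :
    d2 P' (g.L2map (Submodule.Quotient.mk (b ⊗ₜ q))) =
      g.L1map (d2 P (Submodule.Quotient.mk (b ⊗ₜ q))) := by
  rw [L2map_mk_tmul, d2_mk_tmul, d2_mk_tmul, L1map_tmul, aQ_coe]

lemma d2_L2map (z : L2 P) : d2 P' (g.L2map z) = g.L1map (d2 P z) :=
  quot_ext_add (relKer P) _ ((d2 P').toAddMonoidHom.comp g.L2map.toAddMonoidHom)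
    (g.L1map.toAddMonoidHom.comp (d2 P).toAddMonoidHom) g.d2_L2map_mk z

variable (M : Type m) [AddCommGroup M] [Module B M]

/-- the induced map on `T²` -/
noncomputable def T2map : T2 P' M →ₗ[B] T2 P M :=
  Submodule.mapQ (LinearMap.range (d2Star P' M)) (LinearMap.range (d2Star P M))
    (LinearMap.lcomp B M g.L2map) (by
      rintro _ ⟨χ, rfl⟩
      refine ⟨χ ∘ₗ g.L1map, ?_⟩
      refine LinearMap.ext fun z => ?_
      change χ (g.L1map (d2 P z)) = χ (d2 P' (g.L2map z))
      rw [d2_L2map])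

lemma T2map_mk (φ : L2 P' →ₗ[B] M) :
    g.T2map M (toT2 P' M φ) = toT2 P M (φ ∘ₗ g.L2map) := rfl

end GH

section Case1

variable {P : Algebra.Presentation A B ι σ} {P' : Algebra.Presentation A' B ι' σ'}
variable (M : Type m) [AddCommGroup M] [Module B M]

/-- the difference of two lifts over the same ring map, with values in `Q'` -/
noncomputable def delta (τ : P.toExtension.Ring →+* P'.toExtension.Ring)
    (a1 a2 : relMod P →ₛₗ[τ] relMod P')
    (ha1 : ∀ f, jmap P' (a1 f) = τ (jmap P f)) (ha2 : ∀ f, jmap P' (a2 f) = τ (jmap P f)) :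
    relMod P →ₛₗ[τ] relKer P' :=
  (a1 - a2).codRestrict (relKer P') (fun f => by
    change jmap P' ((a1 - a2) f) = 0
    rw [LinearMap.sub_apply, map_sub, ha1, ha2, sub_self])

lemma L2map_sub_mk (τ : P.toExtension.Ring →+* P'.toExtension.Ring)
    (hτ : ∀ r, algebraMap P'.toExtension.Ring B (τ r) = algebraMap P.toExtension.Ring B r)
    (a1 a2 : relMod P →ₛₗ[τ] relMod P')
    (ha1 : ∀ f, jmap P' (a1 f) = τ (jmap P f)) (ha2 : ∀ f, jmap P' (a2 f) = τ (jmap P f))
    (b : B) (q : relKer P) :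
    (GH.mk τ hτ a1 ha1).L2map (Submodule.Quotient.mk (b ⊗ₜ q)) -
      (GH.mk τ hτ a2 ha2).L2map (Submodule.Quotient.mk (b ⊗ₜ q)) =
      ((LinearMap.range ((trivRelKer P').subtype.baseChange B)).mkQ.comp
        (PresHom.linOfSemilinear (B ⊗[P'.toExtension.Ring] relKer P')
          (tensorMap τ (GH.mk τ hτ a1 ha1).hτ' (delta τ a1 a2 ha1 ha2))))
        (d2 P (Submodule.Quotient.mk (b ⊗ₜ q))) := by
  rw [GH.L2map_mk_tmul, GH.L2map_mk_tmul, d2_mk_tmul, LinearMap.comp_apply,
    PresHom.linOfSemilinear_apply, tensorMap_tmul, Submodule.mkQ_apply]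
  exact quot_sub _ _ _ _ _ _ (Subtype.ext rfl)

theorem T2map_eq_aux (τ : P.toExtension.Ring →+* P'.toExtension.Ring)
    (hτ : ∀ r, algebraMap P'.toExtension.Ring B (τ r) = algebraMap P.toExtension.Ring B r)
    (a1 a2 : relMod P →ₛₗ[τ] relMod P')
    (ha1 : ∀ f, jmap P' (a1 f) = τ (jmap P f)) (ha2 : ∀ f, jmap P' (a2 f) = τ (jmap P f))
    (x : T2 P' M) : (GH.mk τ hτ a1 ha1).T2map M x = (GH.mk τ hτ a2 ha2).T2map M x :=
  mapQ_lcomp_eq _ _ _ (d2 P)
    (quot_forall (relKer P) _ (GH.mk τ hτ a1 ha1).L2map (GH.mk τ hτ a2 ha2).L2map _ (d2 P)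
      (L2map_sub_mk τ hτ a1 a2 ha1 ha2)) _ _ _ x

theorem T2map_eq (g1 g2 : GH P P') (h : g1.τ = g2.τ) (x : T2 P' M) :
    g1.T2map M x = g2.T2map M x := by
  obtain ⟨τ1, hτ1, a1, ha1⟩ := g1
  obtain ⟨τ2, hτ2, a2, ha2⟩ := g2
  change τ1 = τ2 at h
  subst h
  exact T2map_eq_aux M τ1 hτ1 a1 a2 ha1 ha2 x

end Case1

section CompId

variable {P : Algebra.Presentation A B ι σ} {P' : Algebra.Presentation A' B ι' σ'}
  {P'' : Algebra.Presentation A'' B ι'' σ''}
variable (M : Type m) [AddCommGroup M] [Module B M]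

/-- composition -/
noncomputable def GH.comp (g' : GH P' P'') (g : GH P P') : GH P P'' where
  τ := g'.τ.comp g.τ
  hτ r := by rw [RingHom.comp_apply, g'.hτ, g.hτ]
  a :=
    haveI : RingHomCompTriple g.τ g'.τ (g'.τ.comp g.τ) := ⟨rfl⟩
    g'.a.comp g.a
  ha f := by
    haveI : RingHomCompTriple g.τ g'.τ (g'.τ.comp g.τ) := ⟨rfl⟩
    rw [LinearMap.comp_apply, g'.ha, g.ha, RingHom.comp_apply]

lemma GH.comp_L2map_mk (g' : GH P' P'') (g : GH P P') (b : B) (q : relKer P) :
    (g'.comp g).L2map (Submodule.Quotient.mk (b ⊗ₜ q)) =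
      g'.L2map (g.L2map (Submodule.Quotient.mk (b ⊗ₜ q))) := by
  rw [GH.L2map_mk_tmul, GH.L2map_mk_tmul, GH.L2map_mk_tmul]
  have : (g'.comp g).aQ q = g'.aQ (g.aQ q) := Subtype.ext rfl
  rw [this]

lemma GH.comp_L2map (g' : GH P' P'') (g : GH P P') (z : L2 P) :
    (g'.comp g).L2map z = g'.L2map (g.L2map z) :=
  quot_ext_add (relKer P) _ (g'.comp g).L2map.toAddMonoidHom
    (g'.L2map.toAddMonoidHom.comp g.L2map.toAddMonoidHom) (GH.comp_L2map_mk g' g) z

/-- identity -/
noncomputable def GH.id (P : Algebra.Presentation A B ι σ) : GH P P where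
  τ := RingHom.id _
  hτ _ := rfl
  a := LinearMap.id
  ha _ := rfl

lemma GH.id_L2map_mk (b : B) (q : relKer P) :
    (GH.id P).L2map (Submodule.Quotient.mk (b ⊗ₜ q)) = Submodule.Quotient.mk (b ⊗ₜ q) := by
  rw [GH.L2map_mk_tmul]
  rfl

lemma GH.id_L2map (z : L2 P) : (GH.id P).L2map z = z :=
  quot_ext_add (relKer P) _ (GH.id P).L2map.toAddMonoidHom (AddMonoidHom.id _) GH.id_L2map_mk z

theorem T2map_comp (g' : GH P' P'') (g : GH P P') (x : T2 P'' M) :
    (g'.comp g).T2map M x = g.T2map M (g'.T2map M x) :=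
  mapQ_lcomp_comp g.L2map g'.L2map (g'.comp g).L2map (GH.comp_L2map g' g) _ _ _ _ _ _ x

theorem T2map_id (x : T2 P M) : (GH.id P).T2map M x = x :=
  mapQ_lcomp_id (GH.id P).L2map GH.id_L2map _ _ x

/-- mutually inverse ring maps give an isomorphism on `T²` -/
theorem nonempty_T2equiv_of_GH (g : GH P P') (g' : GH P' P)
    (h1 : ∀ r, g'.τ (g.τ r) = r) (h2 : ∀ r, g.τ (g'.τ r) = r) :
    Nonempty (T2 P' M ≃ₗ[B] T2 P M) := by
  refine nonempty_equiv_of_inv (g.T2map M) (g'.T2map M) (fun x => ?_) (fun x => ?_)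
  · rw [← T2map_comp, T2map_eq M (g.comp g') (GH.id P') (RingHom.ext h2), T2map_id]
  · rw [← T2map_comp, T2map_eq M (g'.comp g) (GH.id P) (RingHom.ext h1), T2map_id]

end CompId

section OfRingHom

variable (P : Algebra.Presentation A B ι σ) (P' : Algebra.Presentation A' B ι' σ')
variable (τ : P.toExtension.Ring →+* P'.toExtension.Ring)
  (hτ : ∀ r, algebraMap P'.toExtension.Ring B (τ r) = algebraMap P.toExtension.Ring B r)

include hτ in
lemma exists_w (s : σ) : ∃ f' : relMod P', jmap P' f' = τ (rel P s) := by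
  have h1 : algebraMap P'.toExtension.Ring B (τ (rel P s)) = 0 := by
    rw [hτ, algebraMap_rel]
  have h2 : τ (rel P s) ∈ LinearMap.range (jmap P') := by
    rw [range_jmap]; exact h1
  exact h2

/-- a morphism of relation data extending a compatible ring map -/
noncomputable def GH.ofRingHom : GH P P' where
  τ := τ
  hτ := hτ
  a := semiLin τ (fun s => (exists_w P P' τ hτ s).choose)
  ha f := by
    induction f using Finsupp.induction_linear with
    | zero => rw [map_zero, map_zero, map_zero, map_zero]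
    | add f g hf hg => rw [map_add, map_add, hf, hg, map_add, map_add]
    | single s r =>
      rw [semiLin_single, map_smul, (exists_w P P' τ hτ s).choose_spec, jmap_single, smul_eq_mul,
        map_mul]

lemma GH.ofRingHom_τ : (GH.ofRingHom P P' τ hτ).τ = τ := rfl

end OfRingHom

end Groth.Agent.Helper9.GHom

namespace Groth.Agent.Helper9.GHom

open CotT TensorProduct

theorem main12295 (k B : Type u) [CommRing k] [CommRing B] [Algebra k B] (ι σ ι' σ' : Type w)
    (P : Algebra.Presentation k B ι σ) [IsEmpty ι']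
    (P' : Algebra.Presentation P.toExtension.Ring B ι' σ')
    (M : Type m) [AddCommGroup M] [Module B M] :
    Nonempty (CotT.T2 P' M ≃ₗ[B] CotT.T2 P M) := by
  have hC : ∀ r : P.toExtension.Ring, algebraMap P'.toExtension.Ring B
      ((MvPolynomial.C : P.toExtension.Ring →+* MvPolynomial ι' P.toExtension.Ring) r) =
      algebraMap P.toExtension.Ring B r := by
    intro r
    exact (CotT.algebraMap_toExtension P' _).trans (MvPolynomial.aeval_C _ r)
  have he : ∀ x : P'.toExtension.Ring, algebraMap P.toExtension.Ring B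
      ((MvPolynomial.isEmptyRingEquiv P.toExtension.Ring ι').toRingHom x) =
      algebraMap P'.toExtension.Ring B x := by
    intro x
    obtain ⟨r, rfl⟩ := MvPolynomial.C_surjective ι' x
    have e1 : (MvPolynomial.isEmptyRingEquiv P.toExtension.Ring ι').toRingHom (MvPolynomial.C r) = r := by
      have := (MvPolynomial.isEmptyRingEquiv P.toExtension.Ring ι').apply_symm_apply r
      rwa [MvPolynomial.isEmptyRingEquiv_symm_apply] at this
    rw [e1]
    exact (hC r).symm
  refine nonempty_T2equiv_of_GH M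
    (GH.ofRingHom P P' (MvPolynomial.C : P.toExtension.Ring →+* MvPolynomial ι' P.toExtension.Ring) hC)
    (GH.ofRingHom P' P (MvPolynomial.isEmptyRingEquiv P.toExtension.Ring ι').toRingHom he) ?_ ?_
  · intro r
    have := (MvPolynomial.isEmptyRingEquiv P.toExtension.Ring ι').apply_symm_apply r
    rwa [MvPolynomial.isEmptyRingEquiv_symm_apply] at this
  · intro x
    obtain ⟨r, rfl⟩ := MvPolynomial.C_surjective ι' x
    have e1 : (MvPolynomial.isEmptyRingEquiv P.toExtension.Ring ι').toRingHom (MvPolynomial.C r) = r := by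
      have := (MvPolynomial.isEmptyRingEquiv P.toExtension.Ring ι').apply_symm_apply r
      rwa [MvPolynomial.isEmptyRingEquiv_symm_apply] at this
    change MvPolynomial.C ((MvPolynomial.isEmptyRingEquiv P.toExtension.Ring ι').toRingHom (MvPolynomial.C r)) = _
    rw [e1]

end Groth.Agent.Helper9.GHom
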