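import Mathlib
import Groth.Prelude.Def_W4c6eohyperellchar2Gc

/-!
# Basic computations in the explicit Dieudonné-type module `GcMod c k`
-/

namespace Groth.Agent.Helper9.GcModLib

open W4c6eohyperellchar2

section basic

variable (c : ℕ) (k : Type*) [Field k]

theorem coefX_X (n m : ℕ) :
    coefX (X c k n) m = if m = n ∧ 1 ≤ m ∧ m ≤ c then 1 else 0 := by
  unfold coefX X
  by_cases h : 1 ≤ m ∧ m ≤ c
  · rw [dif_pos h]
    show (if m - 1 + 1 = n then (1 : k) else 0) = _
    by_cases hmn : m = n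
    · rw [if_pos (by omega), if_pos ⟨hmn, h⟩]
    · rw [if_neg (by omega), if_neg (fun h' => hmn h'.1)]
  · rw [dif_neg h, if_neg (fun h' => h h'.2)]

theorem coefX_Y (n m : ℕ) : coefX (Y c k n) m = 0 := by
  unfold coefX Y
  split_ifs <;> rfl

theorem coefY_X (n m : ℕ) : coefY (X c k n) m = 0 := by
  unfold coefY X
  split_ifs <;> rfl

theorem coefY_Y (n m : ℕ) :
    coefY (Y c k n) m = if m = n ∧ 1 ≤ m ∧ m ≤ c then 1 else 0 := by
  unfold coefY Y
  by_cases h : 1 ≤ m ∧ m ≤ c
  · rw [dif_pos h]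
    show (if m - 1 + 1 = n then (1 : k) else 0) = _
    by_cases hmn : m = n
    · rw [if_pos (by omega), if_pos ⟨hmn, h⟩]
    · rw [if_neg (by omega), if_neg (fun h' => hmn h'.1)]
  · rw [dif_neg h, if_neg (fun h' => h h'.2)]

theorem X_fst (n : ℕ) (i : Fin c) : (X c k n).1 i = if i.val + 1 = n then 1 else 0 := rfl
theorem X_snd (n : ℕ) (i : Fin c) : (X c k n).2 i = 0 := rfl
theorem Y_fst (n : ℕ) (i : Fin c) : (Y c k n).1 i = 0 := rfl
theorem Y_snd (n : ℕ) (i : Fin c) : (Y c k n).2 i = if i.val + 1 = n then 1 else 0 := rfl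

theorem F_fst (v : GcMod c k) (i : Fin c) : (F c k v).1 i = coefX v (2 * (i.val + 1)) ^ 2 := rfl
theorem F_snd (v : GcMod c k) (i : Fin c) :
    (F c k v).2 i = coefX v (2 * (c - (i.val + 1)) + 1) ^ 2 := rfl

omit [Field k] in
theorem gc_ext {v w : GcMod c k} (h1 : ∀ i, v.1 i = w.1 i) (h2 : ∀ i, v.2 i = w.2 i) : v = w :=
  Prod.ext (funext h1) (funext h2)

theorem F_X_even (j : ℕ) (hj : Even j) (hjc : j ≤ c) : F c k (X c k j) = X c k (j / 2) := by
  obtain ⟨r, rfl⟩ := hj
  apply gc_ext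
  · intro i
    rw [F_fst, coefX_X, X_fst]
    by_cases h : i.val + 1 = (r + r) / 2
    · rw [if_pos h, if_pos ⟨by omega, by omega, by omega⟩, one_pow]
    · rw [if_neg h, if_neg (fun h' => h (by omega)), zero_pow two_ne_zero]
  · intro i
    rw [F_snd, coefX_X, X_snd, if_neg (fun h' => by omega), zero_pow two_ne_zero]

theorem F_X_odd (j : ℕ) (hj : Odd j) (hjc : j ≤ c) :
    F c k (X c k j) = Y c k (c - (j - 1) / 2) := by
  obtain ⟨r, rfl⟩ := hj
  have hi : ∀ i : Fin c, i.val < c := fun i => i.2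
  apply gc_ext
  · intro i
    rw [F_fst, coefX_X, Y_fst, if_neg (fun h' => by omega), zero_pow two_ne_zero]
  · intro i
    have := hi i
    rw [F_snd, coefX_X, Y_snd]
    by_cases h : i.val + 1 = c - (2 * r + 1 - 1) / 2
    · rw [if_pos h, if_pos ⟨by omega, by omega, by omega⟩, one_pow]
    · rw [if_neg h, if_neg (fun h' => h (by omega)), zero_pow two_ne_zero]

theorem F_Y (j : ℕ) : F c k (Y c k j) = 0 := by
  apply gc_ext
  · intro i
    rw [F_fst, coefX_Y, zero_pow two_ne_zero]; rfl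
  · intro i
    rw [F_snd, coefX_Y, zero_pow two_ne_zero]; rfl

end basic

section V

variable (c : ℕ) (k : Type*) [Field k] [ExpChar k 2] [PerfectRing k 2]

theorem V_fst (v : GcMod c k) (i : Fin c) : (V c k v).1 i = 0 := rfl
theorem V_snd (v : GcMod c k) (i : Fin c) :
    (V c k v).2 i = if (i.val + 1) % 2 = 0 then (frobeniusEquiv k 2).symm (coefY v ((i.val + 1) / 2))
      else (frobeniusEquiv k 2).symm (coefX v ((2 * c - i.val) / 2)) := rfl

theorem sqrt_one : (frobeniusEquiv k 2).symm (1 : k) = 1 := map_one _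
theorem sqrt_zero : (frobeniusEquiv k 2).symm (0 : k) = 0 := map_zero _

theorem V_Y (j : ℕ) : V c k (Y c k j) = Y c k (2 * j) := by
  have hi : ∀ i : Fin c, i.val < c := fun i => i.2
  apply gc_ext
  · intro i
    rw [V_fst, Y_fst]
  · intro i
    have := hi i
    rw [V_snd, Y_snd]
    by_cases hpar : (i.val + 1) % 2 = 0
    · rw [if_pos hpar, coefY_Y]
      by_cases h : i.val + 1 = 2 * j
      · rw [if_pos h, if_pos ⟨by omega, by omega, by omega⟩, sqrt_one]
      · rw [if_neg h, if_neg (fun h' => h (by omega)), sqrt_zero]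
    · rw [if_neg hpar, coefX_Y, sqrt_zero, if_neg (by omega)]

theorem V_X (j : ℕ) (hj : c < 2 * j) (hjc : j ≤ c) :
    V c k (X c k j) = Y c k (2 * c - 2 * j + 1) := by
  have hi : ∀ i : Fin c, i.val < c := fun i => i.2
  apply gc_ext
  · intro i
    rw [V_fst, Y_fst]
  · intro i
    have := hi i
    rw [V_snd, Y_snd]
    by_cases hpar : (i.val + 1) % 2 = 0
    · rw [if_pos hpar, coefY_X, sqrt_zero, if_neg (by omega)]
    · rw [if_neg hpar, coefX_X]
      by_cases h : i.val + 1 = 2 * c - 2 * j + 1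
      · rw [if_pos h, if_pos ⟨by omega, by omega, by omega⟩, sqrt_one]
      · rw [if_neg h, if_neg (fun h' => h (by omega)), sqrt_zero]

end V

end Groth.Agent.Helper9.GcModLib
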