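import Mathlib
import Groth.Agent.Lib.Helper1.TorL
import Groth.Agent.Lib.Helper9.GlDim

set_option autoImplicit false
universe u

open CategoryTheory Abelian Limits MonoidalCategory
open Groth.Agent.Helper1.TorL

namespace Groth.Agent.Helper9.GlDim

variable {A : Type u} [CommRing A]

lemma lTensor_inj_iff_rTensor_inj {K F : Type u} [AddCommGroup K] [AddCommGroup F] [Module A K]
    [Module A F] (j : K →ₗ[A] F) (Y : Type u) [AddCommGroup Y] [Module A Y] :
    Function.Injective (j.lTensor Y) ↔ Function.Injective (j.rTensor Y) := by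
  have h : (j.rTensor Y) = (TensorProduct.comm A Y F).toLinearMap ∘ₗ (j.lTensor Y) ∘ₗ
      (TensorProduct.comm A K Y).toLinearMap := by
    ext; simp
  rw [h]
  simp

/-- symmetric vanishing of `Tor` in positive degrees -/
theorem isZero_tor_symm (n : ℕ) : ∀ (X Y : Type u) [AddCommGroup X] [Module A X]
    [AddCommGroup Y] [Module A Y],
    IsZero (T (n + 1) (ModuleCat.of A X) (ModuleCat.of A Y)) →
      IsZero (T (n + 1) (ModuleCat.of A Y) (ModuleCat.of A X)) := by
  induction n with
  | zero =>
    intro X Y _ _ _ _ h
    have hS := freePres_shortExact (R := A) X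
    rw [isZero_tor_one_iff X (ModuleCat.of A Y)] at h
    rw [isZero_tor_one_iff_lTensor_injective (R := A) (F := (X →₀ A))
      (freePres (R := A) X).f.hom (freePres (R := A) X).g.hom hS.injective_f hS.surjective_g
      ((ShortComplex.ShortExact.moduleCat_exact_iff_function_exact _).mp hS.exact) Y]
    exact (lTensor_inj_iff_rTensor_inj _ _).2 h
  | succ n ih =>
    intro X Y _ _ _ _ h
    have hS := freePres_shortExact (R := A) X
    rw [isZero_tor_succ_succ_iff X (ModuleCat.of A Y) n] at h
    rw [isZero_tor_succ_succ_iff_right (R := A) (F := (X →₀ A))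
      (freePres (R := A) X).f.hom (freePres (R := A) X).g.hom hS.injective_f hS.surjective_g
      ((ShortComplex.ShortExact.moduleCat_exact_iff_function_exact _).mp hS.exact) n Y]
    exact ih _ _ h

theorem main5805 [IsLocalRing A] [IsNoetherianRing A] (n : ℕ)
    (hk : HasProjectiveDimensionLT (ModuleCat.of A (IsLocalRing.ResidueField A)) (n + 1))
    (M : ModuleCat.{u} A) : HasProjectiveDimensionLT M (n + 1) := by
  apply main5804
  intro I
  apply hasProjectiveDimensionLT_of_isZero_tor_residueField
  apply isZero_tor_symm
  exact isZero_tor_of_hasProjectiveDimensionLT n _ _ (n + 1) (Nat.lt_succ_self n)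

end Groth.Agent.Helper9.GlDim
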