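import Mathlib
import Groth.Prelude.Def_GLin

/-!
Diagonal coactions on a polynomial ring: each coordinate function `X i` is an eigenvector with
weight `χ i`.  The coaction on monomials; extraction of coefficients; for the multiplicative
group (Laurent polynomial ring) the weight of a monomial and the description of the invariants.
-/

set_option autoImplicit false

namespace Groth.Agent.Helper9.GmDiag

open TensorProduct MvPolynomial

universe u v w

section General
variable {k : Type u} [CommRing k] {A : Type v} [CommRing A] [Bialgebra k A]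
  {ι : Type w} [HopfRep.Comod k A (MvPolynomial ι k)] [GLin.IsCoactAlg k A (MvPolynomial ι k)]

/-- the weight of the monomial with exponent `s` -/
noncomputable def chi (χ : ι → A) (s : ι →₀ ℕ) : A := s.prod fun i e => χ i ^ e

omit [Bialgebra k A] [HopfRep.Comod k A (MvPolynomial ι k)]
  [GLin.IsCoactAlg k A (MvPolynomial ι k)] in
lemma chi_zero (χ : ι → A) : chi χ 0 = 1 := Finsupp.prod_zero_index

omit [Bialgebra k A] [HopfRep.Comod k A (MvPolynomial ι k)]
  [GLin.IsCoactAlg k A (MvPolynomial ι k)] in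
lemma chi_add (χ : ι → A) (s t : ι →₀ ℕ) : chi χ (s + t) = chi χ s * chi χ t := by
  classical
  unfold chi
  rw [Finsupp.prod_add_index']
  · intro i; exact pow_zero _
  · intro i m n; exact pow_add _ _ _

omit [Bialgebra k A] [HopfRep.Comod k A (MvPolynomial ι k)]
  [GLin.IsCoactAlg k A (MvPolynomial ι k)] in
lemma chi_single (χ : ι → A) (i : ι) (e : ℕ) : chi χ (Finsupp.single i e) = χ i ^ e := by
  unfold chi
  rw [Finsupp.prod_single_index]
  exact pow_zero _

lemma coact_C (a : k) :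
    HopfRep.Comod.coact (k := k) (A := A) (C a : MvPolynomial ι k) = (C a) ⊗ₜ[k] (1 : A) := by
  have h := (GLin.coactAlgHom k A (MvPolynomial ι k)).commutes a
  rw [GLin.coactAlgHom_apply, Algebra.TensorProduct.algebraMap_apply] at h
  exact h

lemma coact_pow (f : MvPolynomial ι k) (n : ℕ) :
    HopfRep.Comod.coact (k := k) (A := A) (f ^ n) =
      (HopfRep.Comod.coact (k := k) (A := A) f) ^ n := by
  rw [← GLin.coactAlgHom_apply, ← GLin.coactAlgHom_apply, map_pow]

theorem coact_monomial (χ : ι → A)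
    (hχ : ∀ i, HopfRep.Comod.coact (k := k) (A := A) (X i : MvPolynomial ι k) = X i ⊗ₜ[k] χ i)
    (s : ι →₀ ℕ) (a : k) :
    HopfRep.Comod.coact (k := k) (A := A) (monomial s a : MvPolynomial ι k) =
      (monomial s a) ⊗ₜ[k] chi χ s := by
  classical
  induction s using Finsupp.induction with
  | zero =>
    rw [chi_zero]
    exact coact_C a
  | single_add i e s _ _ ih =>
    rw [monomial_single_add, GLin.IsCoactAlg.coact_mul, ih, coact_pow, hχ,
      Algebra.TensorProduct.tmul_pow, Algebra.TensorProduct.tmul_mul_tmul, chi_add, chi_single]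

/-- extraction of the coefficient of a monomial -/
noncomputable def cm (m : ι →₀ ℕ) : MvPolynomial ι k ⊗[k] A →ₗ[k] A :=
  (TensorProduct.lid k A).toLinearMap ∘ₗ LinearMap.rTensor A (MvPolynomial.lcoeff k m)

omit [HopfRep.Comod k A (MvPolynomial ι k)]
  [GLin.IsCoactAlg k A (MvPolynomial ι k)] in
lemma cm_tmul (m : ι →₀ ℕ) (p : MvPolynomial ι k) (a : A) :
    cm (k := k) m (p ⊗ₜ[k] a) = coeff m p • a := by
  simp [cm]

theorem cm_coact (χ : ι → A)
    (hχ : ∀ i, HopfRep.Comod.coact (k := k) (A := A) (X i : MvPolynomial ι k) = X i ⊗ₜ[k] χ i)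
    (F : MvPolynomial ι k) (m : ι →₀ ℕ) :
    cm (k := k) m (HopfRep.Comod.coact (k := k) (A := A) F) = coeff m F • chi χ m := by
  classical
  induction F using MvPolynomial.induction_on' with
  | monomial s a =>
    rw [coact_monomial χ hχ, cm_tmul, coeff_monomial]
    split_ifs with h
    · rw [h]
    · rw [zero_smul, zero_smul]
  | add p q hp hq => rw [map_add, map_add, hp, hq, coeff_add, add_smul]

theorem mem_invariants_of (χ : ι → A)
    (hχ : ∀ i, HopfRep.Comod.coact (k := k) (A := A) (X i : MvPolynomial ι k) = X i ⊗ₜ[k] χ i)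
    (F : MvPolynomial ι k) (h : ∀ m ∈ F.support, chi χ m = 1) :
    F ∈ GLin.invariants k A (MvPolynomial ι k) := by
  show HopfRep.Comod.coact (k := k) (A := A) F = F ⊗ₜ[k] (1 : A)
  conv_lhs => rw [F.as_sum]
  conv_rhs => rw [F.as_sum]
  rw [map_sum, TensorProduct.sum_tmul]
  refine Finset.sum_congr rfl (fun m hm => ?_)
  rw [coact_monomial χ hχ, h m hm]

end General

section Gm
open LaurentPolynomial
variable {k : Type u} [Field k]
  {ι : Type w} [HopfRep.Comod k k[T;T⁻¹] (MvPolynomial ι k)]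
  [GLin.IsCoactAlg k k[T;T⁻¹] (MvPolynomial ι k)]

/-- the integer weight of a monomial -/
noncomputable def wt (r : ι → ℤ) (s : ι →₀ ℕ) : ℤ := s.sum fun i e => (e : ℤ) * r i

omit [Field k] [HopfRep.Comod k k[T;T⁻¹] (MvPolynomial ι k)]
  [GLin.IsCoactAlg k k[T;T⁻¹] (MvPolynomial ι k)] in
lemma wt_eq_sum (r : ι → ℤ) (s : ι →₀ ℕ) : wt r s = ∑ i ∈ s.support, (s i : ℤ) * r i := rfl

omit [HopfRep.Comod k k[T;T⁻¹] (MvPolynomial ι k)]
  [GLin.IsCoactAlg k k[T;T⁻¹] (MvPolynomial ι k)] in
lemma T_sum {α : Type*} (S : Finset α) (f : α → ℤ) :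
    (T (∑ i ∈ S, f i) : k[T;T⁻¹]) = ∏ i ∈ S, T (f i) := by
  classical
  induction S using Finset.induction_on with
  | empty => simp
  | insert a S ha ih => rw [Finset.sum_insert ha, Finset.prod_insert ha, T_add, ih]

omit [HopfRep.Comod k k[T;T⁻¹] (MvPolynomial ι k)]
  [GLin.IsCoactAlg k k[T;T⁻¹] (MvPolynomial ι k)] in
lemma chi_T (r : ι → ℤ) (s : ι →₀ ℕ) :
    chi (fun i => (T (r i) : k[T;T⁻¹])) s = T (wt r s) := by
  rw [wt_eq_sum, T_sum]
  unfold chi Finsupp.prod
  refine Finset.prod_congr rfl (fun i _ => ?_)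
  show (T (r i) : k[T;T⁻¹]) ^ (s i) = _
  rw [T_pow]

omit [HopfRep.Comod k k[T;T⁻¹] (MvPolynomial ι k)]
  [GLin.IsCoactAlg k k[T;T⁻¹] (MvPolynomial ι k)] in
lemma T_injective : Function.Injective (T : ℤ → k[T;T⁻¹]) := by
  intro a b hab
  have h := congrArg LaurentPolynomial.degree hab
  rw [degree_T, degree_T] at h
  exact_mod_cast h

theorem mem_invariants_iff_wt (r : ι → ℤ)
    (hr : ∀ i, HopfRep.Comod.coact (k := k) (A := k[T;T⁻¹]) (X i : MvPolynomial ι k) =
      X i ⊗ₜ[k] (T (r i) : k[T;T⁻¹]))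
    (F : MvPolynomial ι k) :
    F ∈ GLin.invariants k k[T;T⁻¹] (MvPolynomial ι k) ↔ ∀ m ∈ F.support, wt r m = 0 := by
  constructor
  · intro hF m hm
    have h1 : HopfRep.Comod.coact (k := k) (A := k[T;T⁻¹]) F = F ⊗ₜ[k] (1 : k[T;T⁻¹]) := hF
    have h2 := cm_coact (fun i => (T (r i) : k[T;T⁻¹])) hr F m
    rw [h1, cm_tmul, chi_T] at h2
    have h3 : coeff m F ≠ 0 := MvPolynomial.mem_support_iff.mp hm
    have h4 : (1 : k[T;T⁻¹]) = T (wt r m) := by
      have := congrArg (fun z => (coeff m F)⁻¹ • z) h2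
      simpa [smul_smul, inv_mul_cancel₀ h3] using this
    rw [← T_zero] at h4
    exact (T_injective h4).symm
  · intro h
    apply mem_invariants_of (fun i => (T (r i) : k[T;T⁻¹])) hr
    intro m hm
    rw [chi_T, h m hm, T_zero]

end Gm

end Groth.Agent.Helper9.GmDiag
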