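import Mathlib
import Groth.Agent.Lib.Helper9.GmDiag

/-!
Diagonal actions of the multiplicative group on affine space: the orbit map, integrality
over Laurent polynomial rings, closed orbits and finite stabilisers.
-/

set_option autoImplicit false

namespace Groth.Agent.Helper9.GmDiag

open TensorProduct MvPolynomial LaurentPolynomial

universe u v w

section Integral
variable {k : Type u} [Field k]

/-- an element of a ring receiving the Laurent polynomial ring is integral as soon as the
images of constants and of `T`, `T⁻¹` are -/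
theorem isIntegral_laurent {R₀ : Type v} {B : Type w} [CommRing R₀] [CommRing B] [Algebra R₀ B]
    (ψ : k[T;T⁻¹] →+* B) (hC : ∀ a, IsIntegral R₀ (ψ (LaurentPolynomial.C a)))
    (h1 : IsIntegral R₀ (ψ (T 1))) (h2 : IsIntegral R₀ (ψ (T (-1)))) (f : k[T;T⁻¹]) :
    IsIntegral R₀ (ψ f) := by
  induction f using LaurentPolynomial.induction_on' with
  | add p q hp hq => rw [map_add]; exact hp.add hq
  | C_mul_T n a =>
    rw [map_mul]
    refine (hC a).mul ?_
    by_cases hn : 0 ≤ n
    · have : (T n : k[T;T⁻¹]) = T 1 ^ n.toNat := by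
        rw [T_pow, mul_one, Int.toNat_of_nonneg hn]
      rw [this, map_pow]
      exact h1.pow _
    · have : (T n : k[T;T⁻¹]) = T (-1) ^ (-n).toNat := by
        rw [T_pow, Int.toNat_of_nonneg (by omega)]
        congr 1
        ring
      rw [this, map_pow]
      exact h2.pow _

theorem not_finite_laurent : ¬ Module.Finite k k[T;T⁻¹] := by
  intro h
  have h1 := (AddMonoidAlgebra.basis ℤ k).linearIndependent
  have h2 := h1.finite_of_isNoetherian
  exact not_finite ℤ

end Integral

section Orbit
variable {k : Type u} [Field k]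
  {ι : Type w} [HopfRep.Comod k k[T;T⁻¹] (MvPolynomial ι k)]
  [GLin.IsCoactAlg k k[T;T⁻¹] (MvPolynomial ι k)]

theorem orbitHom_X (r : ι → ℤ)
    (hr : ∀ i, HopfRep.Comod.coact (k := k) (A := k[T;T⁻¹]) (X i : MvPolynomial ι k) =
      X i ⊗ₜ[k] (T (r i) : k[T;T⁻¹])) (v : ι → k) (i : ι) :
    GLin.orbitHom k k[T;T⁻¹] (GLin.vecPt k ι v) (X i) = LaurentPolynomial.C (v i) * T (r i) := by
  show Algebra.TensorProduct.lid k k[T;T⁻¹]
    (Algebra.TensorProduct.map (GLin.vecPt k ι v) (AlgHom.id k k[T;T⁻¹])
      (HopfRep.Comod.coact (k := k) (A := k[T;T⁻¹]) (X i : MvPolynomial ι k))) = _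
  rw [hr]
  simp [Algebra.smul_def]

end Orbit

end Groth.Agent.Helper9.GmDiag
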