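import Mathlib

set_option autoImplicit false
universe u v w

namespace Groth.Agent.Lib.Helper9.GrJordan

section proj
variable {k : Type u} [Field k] {Λ : Type v} [DecidableEq Λ]
  {V : Type w} [AddCommGroup V] [Module k V]

/-- projections attached to an internal direct sum decomposition -/
lemma exists_proj (𝒱 : Λ → Submodule k V) (h𝒱 : DirectSum.IsInternal 𝒱) :
    ∃ p : Λ → V →ₗ[k] V, (∀ μ v, p μ v ∈ 𝒱 μ) ∧ (∀ μ, ∀ v ∈ 𝒱 μ, p μ v = v) ∧
      (∀ μ ν, μ ≠ ν → ∀ v ∈ 𝒱 ν, p μ v = 0) ∧ (∀ v, ∃ s : Finset Λ, v = ∑ μ ∈ s, p μ v) := by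
  classical
  letI := h𝒱.chooseDecomposition
  refine ⟨fun μ => (𝒱 μ).subtype ∘ₗ DirectSum.component k Λ (fun i => 𝒱 i) μ ∘ₗ
    (DirectSum.decomposeLinearEquiv 𝒱).toLinearMap, ?_, ?_, ?_, ?_⟩
  · intro μ v
    exact (DirectSum.decompose 𝒱 v μ).2
  · intro μ v hv
    exact DirectSum.decompose_of_mem_same 𝒱 hv
  · intro μ ν hne v hv
    exact DirectSum.decompose_of_mem_ne 𝒱 hv hne.symm
  · intro v
    exact ⟨(DirectSum.decompose 𝒱 v).support, (DirectSum.sum_support_decompose 𝒱 v).symm⟩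

end proj


section core
variable {k : Type u} [Field k] {Λ : Type v} [AddCommGroup Λ]
  {V : Type w} [AddCommGroup V] [Module k V]
  (𝒱 : Λ → Submodule k V) (p : Λ → V →ₗ[k] V)
  (H1 : ∀ μ v, p μ v ∈ 𝒱 μ) (H2 : ∀ μ, ∀ v ∈ 𝒱 μ, p μ v = v)
  (H3 : ∀ μ ν, μ ≠ ν → ∀ v ∈ 𝒱 ν, p μ v = 0)
  (H4 : ∀ v, ∃ s : Finset Λ, v = ∑ μ ∈ s, p μ v)
  (A : Module.End k V) (χ : Λ) (hhom : ∀ μ v, v ∈ 𝒱 μ → A v ∈ 𝒱 (μ + χ))

include H1 H2 in
lemma p_p_same (μ : Λ) (v : V) : p μ (p μ v) = p μ v := H2 μ _ (H1 μ v)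

include H1 H3 in
lemma p_p_ne (μ ν : Λ) (h : μ ≠ ν) (v : V) : p μ (p ν v) = 0 := H3 μ ν h _ (H1 ν v)

include H1 H3 in
lemma p_eq_zero_of_notMem (μ : Λ) (v : V) (s : Finset Λ) (hv : v = ∑ ν ∈ s, p ν v)
    (hμ : μ ∉ s) : p μ v = 0 := by
  rw [hv, map_sum]
  apply Finset.sum_eq_zero
  intro ν hν
  exact H3 μ ν (fun h => hμ (h ▸ hν)) _ (H1 ν v)

include H1 H2 H3 H4 hhom in
lemma A_p (μ : Λ) (v : V) : A (p μ v) = p (μ + χ) (A v) := by
  classical
  obtain ⟨s, hs⟩ := H4 v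
  have h1 : A v = ∑ ν ∈ s, A (p ν v) := by
    conv_lhs => rw [hs, map_sum]
  have h2 : p (μ + χ) (A v) = ∑ ν ∈ s, if ν = μ then A (p ν v) else 0 := by
    rw [h1, map_sum]
    apply Finset.sum_congr rfl
    intro ν _
    have hmem : A (p ν v) ∈ 𝒱 (ν + χ) := hhom ν _ (H1 ν v)
    split_ifs with h
    · subst h
      exact H2 _ _ hmem
    · apply H3 _ _ _ _ hmem
      intro h'
      exact h (add_right_cancel h').symm
  rw [h2, Finset.sum_ite_eq' s μ]
  split_ifs with hμ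
  · rfl
  · rw [p_eq_zero_of_notMem 𝒱 p H1 H3 μ v s hs hμ, map_zero]

include H1 H2 H3 H4 hhom in
lemma Apow_p (j : ℕ) (μ : Λ) (v : V) : (A ^ j) (p μ v) = p (μ + j • χ) ((A ^ j) v) := by
  induction j generalizing μ v with
  | zero => simp
  | succ j ih =>
    rw [pow_succ, Module.End.mul_apply, Module.End.mul_apply,
      A_p 𝒱 p H1 H2 H3 H4 A χ hhom μ v, ih (μ + χ) (A v)]
    congr 2
    rw [succ_nsmul]
    abel

include hhom in
lemma Apow_mem (j : ℕ) (μ : Λ) (v : V) (hv : v ∈ 𝒱 μ) : (A ^ j) v ∈ 𝒱 (μ + j • χ) := by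
  induction j with
  | zero => simpa using hv
  | succ j ih =>
    rw [pow_succ', Module.End.mul_apply]
    have := hhom _ _ ih
    have e : μ + j • χ + χ = μ + (j + 1) • χ := by rw [succ_nsmul]; abel
    rwa [e] at this

/-- graded submodules -/
def IsGr (W : Submodule k V) : Prop := ∀ μ, ∀ w ∈ W, p μ w ∈ W

include H1 H4 in
lemma exists_homog_of_ne_zero (W : Submodule k V) (hW : IsGr p W) (T : V →ₗ[k] V)
    (w : V) (hw : w ∈ W) (hT : T w ≠ 0) : ∃ μ, ∃ v ∈ W, v ∈ 𝒱 μ ∧ T v ≠ 0 := by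
  classical
  obtain ⟨s, hs⟩ := H4 w
  by_contra hcon
  push Not at hcon
  apply hT
  rw [hs, map_sum]
  apply Finset.sum_eq_zero
  intro μ _
  exact hcon μ (p μ w) (hW μ w hw) (H1 μ w)

end core


section tri
variable {k : Type u} [Field k] {V : Type w} [AddCommGroup V] [Module k V]

lemma tri (A : Module.End k V) (φ : V →ₗ[k] k) (m : ℕ) (v : V)
    (hv : ∀ t, m < t → (A ^ t) v = 0) (hφ : φ ((A ^ m) v) = 1) (c : ℕ → k)
    (hz : ∀ j ≤ m, φ ((A ^ j) (∑ i ∈ Finset.range (m + 1), c i • (A ^ i) v)) = 0) :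
    ∀ i ≤ m, c i = 0 := by
  intro i
  induction i using Nat.strong_induction_on with
  | _ i ih =>
    intro hi
    have h := hz (m - i) (by omega)
    rw [map_sum, map_sum] at h
    have h1 : ∀ i' ∈ Finset.range (m + 1),
        φ ((A ^ (m - i)) (c i' • (A ^ i') v)) = c i' * φ ((A ^ (m - i + i')) v) := by
      intro i' _
      rw [map_smul, map_smul, smul_eq_mul, pow_add, Module.End.mul_apply]
    rw [Finset.sum_congr rfl h1, Finset.sum_eq_single i] at h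
    · have e : m - i + i = m := by omega
      rw [e, hφ, mul_one] at h
      exact h
    · intro i' hi' hne
      rcases lt_or_gt_of_ne hne with hlt | hgt
      · rw [ih i' hlt (by omega), zero_mul]
      · rw [hv _ (by omega), map_zero, mul_zero]
    · intro hni
      exact absurd (Finset.mem_range.mpr (by omega)) hni

/-- the same with `Fin`-indexed coefficients -/
lemma tri_fin (A : Module.End k V) (φ : V →ₗ[k] k) (m : ℕ) (v : V)
    (hv : ∀ t, m < t → (A ^ t) v = 0) (hφ : φ ((A ^ m) v) = 1) (g : Fin (m + 1) → k)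
    (hz : ∀ j ≤ m, φ ((A ^ j) (∑ i : Fin (m + 1), g i • (A ^ (i : ℕ)) v)) = 0) :
    g = 0 := by
  let c : ℕ → k := fun i => if h : i < m + 1 then g ⟨i, h⟩ else 0
  have hsum : ∑ i : Fin (m + 1), g i • (A ^ (i : ℕ)) v =
      ∑ i ∈ Finset.range (m + 1), c i • (A ^ i) v := by
    rw [← Fin.sum_univ_eq_sum_range (fun i => c i • (A ^ i) v) (m + 1)]
    apply Finset.sum_congr rfl
    intro i _
    have : c (i : ℕ) = g i := by
      show (if h : (i : ℕ) < m + 1 then g ⟨i, h⟩ else 0) = g i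
      rw [dif_pos i.2]
    rw [this]
  rw [hsum] at hz
  have := tri A φ m v hv hφ c hz
  funext i
  have h2 := this i (by have := i.2; omega)
  have : c (i : ℕ) = g i := by
    show (if h : (i : ℕ) < m + 1 then g ⟨i, h⟩ else 0) = g i
    rw [dif_pos i.2]
  rw [← this, h2]
  rfl

lemma chain_indep (A : Module.End k V) (φ : V →ₗ[k] k) (m : ℕ) (v : V)
    (hv : ∀ t, m < t → (A ^ t) v = 0) (hφ : φ ((A ^ m) v) = 1) :
    LinearIndependent k (fun i : Fin (m + 1) => (A ^ (i : ℕ)) v) := by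
  rw [Fintype.linearIndependent_iff]
  intro g hg i
  have := tri_fin A φ m v hv hφ g (fun j _ => by rw [hg, map_zero, map_zero])
  rw [this]
  rfl

end tri


section step
variable {k : Type u} [Field k] {Λ : Type v} [AddCommGroup Λ]
  {V : Type w} [AddCommGroup V] [Module k V] [FiniteDimensional k V]
  (𝒱 : Λ → Submodule k V) (p : Λ → V →ₗ[k] V)
  (H1 : ∀ μ v, p μ v ∈ 𝒱 μ) (H2 : ∀ μ, ∀ v ∈ 𝒱 μ, p μ v = v)
  (H3 : ∀ μ ν, μ ≠ ν → ∀ v ∈ 𝒱 ν, p μ v = 0)
  (H4 : ∀ v, ∃ s : Finset Λ, v = ∑ μ ∈ s, p μ v)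
  (A : Module.End k V) (χ : Λ) (hhom : ∀ μ v, v ∈ 𝒱 μ → A v ∈ 𝒱 (μ + χ))

lemma Apow_mem_of_stable (W : Submodule k V) (hWA : ∀ w ∈ W, A w ∈ W) (j : ℕ) (w : V)
    (hw : w ∈ W) : (A ^ j) w ∈ W := by
  induction j with
  | zero => simpa using hw
  | succ j ih =>
    rw [pow_succ', Module.End.mul_apply]
    exact hWA _ ih

include H1 H2 H3 H4 hhom in
lemma step (W : Submodule k V) (hWA : ∀ w ∈ W, A w ∈ W) (hWg : IsGr p W) (m : ℕ)
    (hm : ∀ w ∈ W, (A ^ (m + 1)) w = 0) (μ : Λ) (v : V) (hvW : v ∈ W) (hvμ : v ∈ 𝒱 μ)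
    (hv : (A ^ m) v ≠ 0) :
    ∃ C : Submodule k V, C ≤ W ∧ (∀ w ∈ C, A w ∈ C) ∧ IsGr p C ∧
      Disjoint (Submodule.span k (Set.range fun i : Fin (m + 1) => (A ^ (i : ℕ)) v)) C ∧
      Submodule.span k (Set.range fun i : Fin (m + 1) => (A ^ (i : ℕ)) v) ⊔ C = W ∧
      LinearIndependent k (fun i : Fin (m + 1) => (A ^ (i : ℕ)) v) ∧
      Module.finrank k C < Module.finrank k W := by
  classical
  have hvt : ∀ t, m < t → (A ^ t) v = 0 := by
    intro t ht
    obtain ⟨s, rfl⟩ : ∃ s, t = s + (m + 1) := ⟨t - (m + 1), by omega⟩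
    rw [pow_add, Module.End.mul_apply, hm v hvW, map_zero]
  -- the functional
  obtain ⟨ψ₀, hψ₀⟩ : ∃ ψ₀ : Module.Dual k V, ψ₀ ((A ^ m) v) ≠ 0 := by
    by_contra hcon
    push Not at hcon
    exact hv ((Module.forall_dual_apply_eq_zero_iff k _).mp hcon)
  set ψ : V →ₗ[k] k := (ψ₀ ((A ^ m) v))⁻¹ • ψ₀ with hψdef
  have hψ : ψ ((A ^ m) v) = 1 := by
    rw [hψdef, LinearMap.smul_apply, smul_eq_mul, inv_mul_cancel₀ hψ₀]
  set μ₀ : Λ := μ + m • χ with hμ₀
  have hu : (A ^ m) v ∈ 𝒱 μ₀ := Apow_mem 𝒱 A χ hhom m μ v hvμ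
  set φ : V →ₗ[k] k := ψ ∘ₗ p μ₀ with hφdef
  have hφ : φ ((A ^ m) v) = 1 := by
    rw [hφdef, LinearMap.comp_apply, H2 μ₀ _ hu, hψ]
  have hφp : ∀ ν x, φ (p ν x) = if ν = μ₀ then φ x else 0 := by
    intro ν x
    rw [hφdef, LinearMap.comp_apply, LinearMap.comp_apply]
    split_ifs with h
    · rw [h, p_p_same 𝒱 p H1 H2]
    · rw [p_p_ne 𝒱 p H1 H3 μ₀ ν (Ne.symm h), map_zero]
  set Φ : V →ₗ[k] (Fin (m + 1) → k) := LinearMap.pi (fun j : Fin (m + 1) => φ ∘ₗ (A ^ (j : ℕ)))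
    with hΦdef
  have memC : ∀ w, w ∈ W ⊓ LinearMap.ker Φ ↔ w ∈ W ∧ ∀ j : Fin (m + 1), φ ((A ^ (j : ℕ)) w) = 0 := by
    intro w
    rw [Submodule.mem_inf, LinearMap.mem_ker]
    constructor
    · rintro ⟨h1, h2⟩
      exact ⟨h1, fun j => congrFun h2 j⟩
    · rintro ⟨h1, h2⟩
      exact ⟨h1, funext fun j => h2 j⟩
  set Z : Submodule k V := Submodule.span k (Set.range fun i : Fin (m + 1) => (A ^ (i : ℕ)) v)
    with hZdef
  have hZW : Z ≤ W := by
    rw [hZdef, Submodule.span_le]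
    rintro _ ⟨i, rfl⟩
    exact Apow_mem_of_stable A W hWA _ v hvW
  have hindep := chain_indep A φ m v hvt hφ
  have hdisj : Disjoint Z (W ⊓ LinearMap.ker Φ) := by
    rw [Submodule.disjoint_def]
    intro x hxZ hxC
    rw [hZdef, Submodule.mem_span_range_iff_exists_fun] at hxZ
    obtain ⟨g, rfl⟩ := hxZ
    have hx2 := ((memC _).mp hxC).2
    have hg := tri_fin A φ m v hvt hφ g (fun j hj => hx2 ⟨j, by omega⟩)
    rw [hg]
    simp
  have hvC : v ∉ W ⊓ LinearMap.ker Φ := by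
    intro h
    have := ((memC v).mp h).2 ⟨m, by omega⟩
    rw [hφ] at this
    exact one_ne_zero this
  have hlt : W ⊓ LinearMap.ker Φ < W := by
    refine lt_of_le_of_ne inf_le_left ?_
    intro h
    apply hvC
    rw [h]
    exact hvW
  refine ⟨W ⊓ LinearMap.ker Φ, inf_le_left, ?_, ?_, hdisj, ?_, hindep,
    Submodule.finrank_lt_finrank_of_lt hlt⟩
  · -- A-stable
    intro w hw
    obtain ⟨hwW, hw2⟩ := (memC w).mp hw
    rw [memC]
    refine ⟨hWA w hwW, fun j => ?_⟩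
    have e : (A ^ (j : ℕ)) (A w) = (A ^ ((j : ℕ) + 1)) w := by
      rw [pow_succ, Module.End.mul_apply]
    rw [e]
    by_cases hj : (j : ℕ) + 1 ≤ m
    · exact hw2 ⟨(j : ℕ) + 1, by omega⟩
    · have : (j : ℕ) + 1 = m + 1 := by have := j.2; omega
      rw [this, hm w hwW, map_zero]
  · -- graded
    intro ν w hw
    obtain ⟨hwW, hw2⟩ := (memC w).mp hw
    rw [memC]
    refine ⟨hWg ν w hwW, fun j => ?_⟩
    rw [Apow_p 𝒱 p H1 H2 H3 H4 A χ hhom, hφp]
    split_ifs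
    · exact hw2 j
    · rfl
  · -- Z ⊔ C = W
    apply Submodule.eq_of_le_of_finrank_le (sup_le hZW inf_le_left)
    have h1 := Submodule.finrank_sup_add_finrank_inf_eq Z (W ⊓ LinearMap.ker Φ)
    have h2 : Z ⊓ (W ⊓ LinearMap.ker Φ) = ⊥ := disjoint_iff.mp hdisj
    rw [h2, finrank_bot, add_zero] at h1
    have h3 : Module.finrank k Z = m + 1 := by
      rw [hZdef, finrank_span_eq_card hindep, Fintype.card_fin]
    have h4 := Submodule.finrank_sup_add_finrank_inf_eq W (LinearMap.ker Φ)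
    have h5 := LinearMap.finrank_range_add_finrank_ker Φ
    have h6 : Module.finrank k (LinearMap.range Φ) ≤ m + 1 := by
      have := Submodule.finrank_le (LinearMap.range Φ)
      rwa [Module.finrank_fintype_fun_eq_card, Fintype.card_fin] at this
    have h7 := Submodule.finrank_le (W ⊔ LinearMap.ker Φ)
    omega

end step


section main
variable {k : Type u} [Field k] {Λ : Type v} [AddCommGroup Λ]
  {V : Type w} [AddCommGroup V] [Module k V] [FiniteDimensional k V]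
  (𝒱 : Λ → Submodule k V) (p : Λ → V →ₗ[k] V)
  (H1 : ∀ μ v, p μ v ∈ 𝒱 μ) (H2 : ∀ μ, ∀ v ∈ 𝒱 μ, p μ v = v)
  (H3 : ∀ μ ν, μ ≠ ν → ∀ v ∈ 𝒱 ν, p μ v = 0)
  (H4 : ∀ v, ∃ s : Finset Λ, v = ∑ μ ∈ s, p μ v)
  (A : Module.End k V) (χ : Λ) (hhom : ∀ μ v, v ∈ 𝒱 μ → A v ∈ 𝒱 (μ + χ))

/-- the reindexing equivalence -/
def reidx {ι : Type w} (n : ι → ℕ) (m : ℕ) :
    (Σ i : ι ⊕ PUnit.{w + 1}, Fin (Sum.elim n (fun _ => m) i + 1)) ≃
      (Σ i : ι, Fin (n i + 1)) ⊕ Fin (m + 1) :=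
  (Equiv.sumSigmaDistrib (fun i : ι ⊕ PUnit.{w + 1} => Fin (Sum.elim n (fun _ => m) i + 1))).trans
    (Equiv.sumCongr (Equiv.refl _) (Equiv.uniqueSigma (fun _ : PUnit.{w + 1} => Fin (m + 1))))

include H1 H2 H3 H4 hhom in
theorem exists_chains (hA : IsNilpotent A) : ∀ (d : ℕ) (W : Submodule k V),
    Module.finrank k W = d → (∀ w ∈ W, A w ∈ W) → IsGr p W →
    ∃ (ι : Type w) (_ : Finite ι) (n : ι → ℕ) (b : (Σ i : ι, Fin (n i + 1)) → V),
      LinearIndependent k b ∧ Submodule.span k (Set.range b) = W ∧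
      (∀ (i : ι) (l : Fin (n i + 1)), ∃ μ : Λ, b ⟨i, l⟩ ∈ 𝒱 μ) ∧
      (∀ i : ι, A (b ⟨i, 0⟩) = 0) ∧
      ∀ (i : ι) (l : Fin (n i)), A (b ⟨i, l.succ⟩) = b ⟨i, l.castSucc⟩ := by
  classical
  intro d
  induction d using Nat.strong_induction_on with
  | _ d ih =>
  intro W hd hWA hWg
  by_cases hW : W = ⊥
  · refine ⟨PEmpty, inferInstance, PEmpty.elim, fun x => x.1.elim, ?_, ?_, ?_, ?_, ?_⟩
    · exact linearIndependent_empty_type
    · rw [hW, Set.range_eq_empty, Submodule.span_empty]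
    · intro i; exact i.elim
    · intro i; exact i.elim
    · intro i; exact i.elim
  · obtain ⟨N, hN⟩ := hA
    have hex : ∃ N', ∀ w ∈ W, (A ^ N') w = 0 := ⟨N, fun w _ => by rw [hN]; rfl⟩
    have hfind := Nat.find_spec hex
    have hmin := fun m' (h : m' < Nat.find hex) => Nat.find_min hex h
    have h0 : Nat.find hex ≠ 0 := by
      intro h0
      rw [h0] at hfind
      apply hW
      rw [eq_bot_iff]
      intro w hw
      have := hfind w hw
      simpa using this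
    obtain ⟨m, hm⟩ : ∃ m, Nat.find hex = m + 1 := ⟨Nat.find hex - 1, by omega⟩
    rw [hm] at hfind
    have hnot := hmin m (by omega)
    push Not at hnot
    obtain ⟨w₀, hw₀W, hw₀⟩ := hnot
    obtain ⟨μ, v, hvW, hvμ, hv⟩ :=
      exists_homog_of_ne_zero 𝒱 p H1 H4 W hWg (A ^ m) w₀ hw₀W hw₀
    obtain ⟨C, hCW, hCA, hCg, hdisj, hsup, hindep, hlt⟩ :=
      step 𝒱 p H1 H2 H3 H4 A χ hhom W hWA hWg m hfind μ v hvW hvμ hv
    obtain ⟨ι, hι, n, b, hb, hbC, hbμ, hb0, hbs⟩ :=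
      ih (Module.finrank k C) (by omega) C rfl hCA hCg
    -- the new chain
    set g : Fin (m + 1) → V := fun i => (A ^ (i : ℕ)) v with hg
    set chain : Fin (m + 1) → V := fun l => (A ^ (m - (l : ℕ))) v with hchain
    have hcg : chain = g ∘ Fin.rev := by
      funext l
      show (A ^ (m - (l : ℕ))) v = (A ^ ((Fin.rev l : Fin (m + 1)) : ℕ)) v
      rw [Fin.val_rev]
      congr 2
      omega
    have hchain_indep : LinearIndependent k chain := by
      rw [hcg]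
      exact hindep.comp _ Fin.rev_injective
    have hchain_span : Submodule.span k (Set.range chain) = Submodule.span k (Set.range g) := by
      rw [hcg, Fin.rev_surjective.range_comp]
    refine ⟨ι ⊕ PUnit.{w + 1}, inferInstance, Sum.elim n (fun _ => m),
      (Sum.elim b chain) ∘ (reidx n m), ?_, ?_, ?_, ?_, ?_⟩
    · refine LinearIndependent.comp ?_ _ (reidx n m).injective
      apply LinearIndependent.sum_type hb hchain_indep
      rw [hbC, hchain_span]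
      exact hdisj.symm
    · rw [Set.range_comp, Equiv.range_eq_univ, Set.image_univ, Set.Sum.elim_range,
        Submodule.span_union, hbC, hchain_span, sup_comm]
      exact hsup
    · rintro (i | u) l
      · exact hbμ i l
      · exact ⟨μ + (m - (l : ℕ)) • χ, Apow_mem 𝒱 A χ hhom _ μ v hvμ⟩
    · rintro (i | u)
      · exact hb0 i
      · show A ((A ^ (m - 0)) v) = 0
        rw [Nat.sub_zero, ← Module.End.mul_apply, ← pow_succ']
        exact hfind v hvW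
    · rintro (i | u) l
      · exact hbs i l
      · show A ((A ^ (m - ((l.succ : Fin (m + 1)) : ℕ))) v) =
          (A ^ (m - ((l.castSucc : Fin (m + 1)) : ℕ))) v
        rw [← Module.End.mul_apply, ← pow_succ', Fin.val_succ, Fin.val_castSucc]
        congr 2
        have hl : (l : ℕ) < m := l.2
        omega

end main

end Groth.Agent.Lib.Helper9.GrJordan
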