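import Mathlib
import Groth.Prelude.Def_W4c1hilbpnTgt
import Groth.Agent.Lib.Helper6.Hilbpn.Tgt
import Groth.Agent.Lib.Helper6.Hilbpn.Vanish

/-! Tangent vectors `generator ↦ socle monomial` for monomial ideals (helper9). -/

open scoped Classical
set_option autoImplicit false
noncomputable section

namespace Groth.Agent.Lib.Helper9.Hilb9
open MvPolynomial W4c1hilbpn Groth.Agent.Lib.Helper6.Hilbpn

variable {σ : Type*} {k : Type*} [Field k] [Fintype σ]
variable {I : Ideal (MvPolynomial σ k)}

/-- the `k`-linear map `p ↦ coeff_g(p) • [x^s]` -/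
def Lgs (I : Ideal (MvPolynomial σ k)) (g s : σ →₀ ℕ) :
    MvPolynomial σ k →ₗ[k] (MvPolynomial σ k ⧸ I) :=
  (lcoeff k g).smulRight (Ideal.Quotient.mk I (monomial s (1 : k)))

lemma Lgs_apply (g s : σ →₀ ℕ) (p : MvPolynomial σ k) :
    Lgs I g s p = coeff g p • Ideal.Quotient.mk I (monomial s (1 : k)) := rfl

lemma Lgs_monomial (g s β : σ →₀ ℕ) :
    Lgs I g s (monomial β 1) = if β = g then Ideal.Quotient.mk I (monomial s (1 : k)) else 0 := by
  rw [Lgs_apply, coeff_monomial]
  split_ifs <;> simp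

/-- the tangent vector sending the minimal generator `x^g` to the socle monomial `x^s` -/
def phi (hI : IsMonomial I) (g s : σ →₀ ℕ)
    (hgmin : ∀ i, 0 < g i → g - Finsupp.single i 1 ∉ exps I)
    (hsoc : ∀ i, s + Finsupp.single i 1 ∈ exps I) : Tgt I :=
  mkTgt hI (Lgs I g s) (by
    intro β hβ i
    rw [Lgs_monomial, Lgs_monomial]
    have h1 : β + Finsupp.single i 1 ≠ g := by
      intro h
      have hgi : 0 < g i := by rw [← h]; simp
      apply hgmin i hgi
      rw [← h, add_tsub_cancel_right]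
      exact hβ
    rw [if_neg h1]
    split_ifs with h2
    · have : (X i : MvPolynomial σ k) • Ideal.Quotient.mk I (monomial s (1 : k)) =
          Ideal.Quotient.mk I (monomial (s + Finsupp.single i 1) 1) := by
        rw [← X_mul_monomial']
        rfl
      rw [this, mk_monomial_eq_zero_iff.2 (hsoc i)]
    · rw [smul_zero])

lemma phi_monI (hI : IsMonomial I) (g s : σ →₀ ℕ) (hgmin) (hsoc) (β : σ →₀ ℕ) (hβ : β ∈ exps I) :
    phi hI g s hgmin hsoc ⟨monomial β 1, hβ⟩ =
      if β = g then Ideal.Quotient.mk I (monomial s (1 : k)) else 0 := by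
  rw [phi, mkTgt_apply, Lgs_monomial]

/-- a minimal generator and a socle monomial give a nonzero graded piece -/
theorem tPiece_ne_bot_of_gen_socle (hI : IsMonomial I) (g s : σ →₀ ℕ) (hg : g ∈ exps I)
    (hgmin : ∀ i, 0 < g i → g - Finsupp.single i 1 ∉ exps I)
    (hs : s ∉ exps I) (hsoc : ∀ i, s + Finsupp.single i 1 ∈ exps I) :
    tPiece I (fun i => (s i : ℤ) - g i) ≠ ⊥ := by
  rw [Submodule.ne_bot_iff]
  refine ⟨phi hI g s hgmin hsoc, ?_, ?_⟩
  · intro β hβ
    have hph := phi_monI hI g s hgmin hsoc β hβ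
    rw [hph]
    constructor
    · intro _
      split_ifs with h
      · subst h
        have : shift β (fun i => (s i : ℤ) - β i) = s := by
          ext i
          simp [shift]
        rw [this]
        exact Submodule.mem_span_singleton_self _
      · exact Submodule.zero_mem _
    · rintro ⟨i, hi⟩
      split_ifs with h
      · subst h
        exfalso
        have : (0 : ℤ) ≤ (s i : ℤ) := Int.natCast_nonneg _
        simp only at hi
        omega
      · rfl
  · intro h0
    have := congrArg (fun φ : Tgt I => φ ⟨monomial g 1, hg⟩) h0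
    simp only [phi_monI, if_true, LinearMap.zero_apply] at this
    exact hs (mk_monomial_eq_zero_iff.1 this)

/-- a graded piece with the given sign pattern lies in the sign-pattern piece -/
lemma tPiece_le_sigPiece (α : σ → ℤ) (N : Set σ) (hα : ∀ i, α i < 0 ↔ i ∈ N) :
    tPiece I α ≤ sigPiece I N :=
  le_iSup (fun α : {α : σ → ℤ // ∀ i, α i < 0 ↔ i ∈ N} => tPiece I α.1) ⟨α, hα⟩

lemma sigPiece_ne_bot_of_tPiece (α : σ → ℤ) (N : Set σ) (hα : ∀ i, α i < 0 ↔ i ∈ N)
    (h : tPiece I α ≠ ⊥) : sigPiece I N ≠ ⊥ := by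
  intro h0
  apply h
  rw [eq_bot_iff, ← h0]
  exact tPiece_le_sigPiece α N hα


section three

variable {I : Ideal (MvPolynomial (Fin 3) k)}

/-- exponent vector with entries `a, b, c` at the positions `u, v, w` -/
def vec (u v : Fin 3) (a b c : ℕ) : Fin 3 →₀ ℕ :=
  Finsupp.equivFunOnFinite.symm fun x => if x = u then a else if x = v then b else c

lemma vec_apply (u v : Fin 3) (a b c : ℕ) (x : Fin 3) :
    vec u v a b c x = if x = u then a else if x = v then b else c := rfl

lemma e3_eq_vec (a b c : ℕ) : e3 a b c = vec 0 1 a b c := by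
  ext x
  fin_cases x <;> simp [e3, vec_apply]

lemma e3_eq_vec' (a b c : ℕ) : e3 a b c = vec 0 2 a c b := by
  ext x
  fin_cases x <;> simp [e3, vec_apply]

lemma e3_eq_vec'' (a b c : ℕ) : e3 a b c = vec 1 2 b c a := by
  ext x
  fin_cases x <;> simp [e3, vec_apply]

lemma vec_le (u v : Fin 3) {a b c a' b' c' : ℕ} (ha : a ≤ a') (hb : b ≤ b') (hc : c ≤ c') :
    vec u v a b c ≤ vec u v a' b' c' := by
  intro x
  rw [vec_apply, vec_apply]
  split_ifs <;> assumption

lemma vec_add_single_u (u v : Fin 3) (a b c : ℕ) :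
    vec u v a b c + Finsupp.single u 1 = vec u v (a + 1) b c := by
  ext x
  rw [Finsupp.add_apply, Finsupp.single_apply, vec_apply, vec_apply]
  by_cases h : x = u
  · subst h; simp
  · have : ¬ u = x := fun h' => h h'.symm
    simp [h, this]

lemma vec_add_single_v (u v : Fin 3) (huv : u ≠ v) (a b c : ℕ) :
    vec u v a b c + Finsupp.single v 1 = vec u v a (b + 1) c := by
  ext x
  rw [Finsupp.add_apply, Finsupp.single_apply, vec_apply, vec_apply]
  by_cases h : x = v
  · subst h
    have : ¬ x = u := fun h' => huv h'.symm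
    simp [this]
  · have : ¬ v = x := fun h' => h h'.symm
    simp [h, this]

lemma vec_add_single_w (u v w : Fin 3) (huw : u ≠ w) (hvw : v ≠ w)
    (hcover : ∀ x : Fin 3, x = u ∨ x = v ∨ x = w) (a b c : ℕ) :
    vec u v a b c + Finsupp.single w 1 = vec u v a b (c + 1) := by
  ext x
  rw [Finsupp.add_apply, Finsupp.single_apply, vec_apply, vec_apply]
  by_cases h : x = w
  · subst h
    have h1 : ¬ x = u := fun h' => huw h'.symm
    have h2 : ¬ x = v := fun h' => hvw h'.symm
    simp [h1, h2]
  · have : ¬ w = x := fun h' => h h'.symm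
    rcases hcover x with rfl | rfl | rfl
    · simp [this]
    · simp [this]
    · exact absurd rfl h

lemma vec_sub_single_u (u v : Fin 3) (a b c : ℕ) :
    vec u v a b c - Finsupp.single u 1 = vec u v (a - 1) b c := by
  ext x
  rw [Finsupp.tsub_apply, Finsupp.single_apply, vec_apply, vec_apply]
  by_cases h : x = u
  · subst h; simp
  · have : ¬ u = x := fun h' => h h'.symm
    simp [h, this]

lemma vec_sub_single_v (u v : Fin 3) (huv : u ≠ v) (a b c : ℕ) :
    vec u v a b c - Finsupp.single v 1 = vec u v a (b - 1) c := by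
  ext x
  rw [Finsupp.tsub_apply, Finsupp.single_apply, vec_apply, vec_apply]
  by_cases h : x = v
  · subst h
    have : ¬ x = u := fun h' => huv h'.symm
    simp [this]
  · have : ¬ v = x := fun h' => h h'.symm
    simp [h, this]

/-- three generators in "crossed" position give a tangent vector negative exactly at `u, v` -/
theorem three_gen (hI : IsMonomial I) [Module.Finite k (MvPolynomial (Fin 3) k ⧸ I)]
    (u v w : Fin 3) (huv : u ≠ v) (huw : u ≠ w) (hvw : v ≠ w)
    (a b a' c' b' c'' : ℕ) (ha : 0 < a) (hb : 0 < b) (ha' : 0 < a') (hb' : 0 < b')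
    (hA : vec u v a b 0 ∈ exps I ∧ vec u v (a - 1) b 0 ∉ exps I ∧ vec u v a (b - 1) 0 ∉ exps I)
    (hB : vec u v a' 0 c' ∈ exps I ∧ vec u v (a' - 1) 0 c' ∉ exps I)
    (hC : vec u v 0 b' c'' ∈ exps I ∧ vec u v 0 (b' - 1) c'' ∉ exps I)
    (ha'a : a' ≤ a) (hb'b : b' ≤ b) :
    sigPiece I ({u, v} : Set (Fin 3)) ≠ ⊥ := by
  have hcover : ∀ x : Fin 3, x = u ∨ x = v ∨ x = w := by
    intro x
    fin_cases x <;> fin_cases u <;> fin_cases v <;> fin_cases w <;> simp_all
  have hwu : w ≠ u := huw.symm
  have hwv : w ≠ v := hvw.symm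
  obtain ⟨N, hN⟩ := exists_bound hI w
  have hvecw : ∀ x y z : ℕ, vec u v x y z w = z := by
    intro x y z
    rw [vec_apply, if_neg hwu, if_neg hwv]
  let P : Finset (ℕ × ℕ × ℕ) :=
    ((Finset.range a) ×ˢ (Finset.range b) ×ˢ (Finset.range N)).filter
      (fun t => vec u v t.1 t.2.1 t.2.2 ∉ exps I)
  have hP : ∀ t : ℕ × ℕ × ℕ, t ∈ P ↔ t.1 < a ∧ t.2.1 < b ∧ t.2.2 < N ∧
      vec u v t.1 t.2.1 t.2.2 ∉ exps I := by
    intro t
    simp only [P, Finset.mem_filter, Finset.mem_product, Finset.mem_range]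
    tauto
  have hPmem : ∀ x y z : ℕ, x < a → y < b → vec u v x y z ∉ exps I → (x, y, z) ∈ P := by
    intro x y z hx hy hz
    rw [hP]
    refine ⟨hx, hy, ?_, hz⟩
    have := hN _ hz
    rwa [hvecw] at this
  have hB' : (a' - 1, 0, c') ∈ P := hPmem _ _ _ (by omega) hb hB.2
  have hC' : (0, b' - 1, c'') ∈ P := hPmem _ _ _ ha (by omega) hC.2
  let f : ℕ × ℕ × ℕ → ℕ := fun t => t.2.2 * (a + b) + t.1 + t.2.1
  obtain ⟨s, hsP, hmax⟩ := Finset.exists_max_image P f ⟨_, hB'⟩
  obtain ⟨i, j, l⟩ := s
  obtain ⟨hi, hj, hl, hs⟩ := (hP _).1 hsP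
  simp only at hi hj hl hs
  have hlc' : c' ≤ l := by
    have h := hmax _ hB'
    simp only [f] at h
    by_contra hcon
    rw [not_le] at hcon
    have h2 : (l + 1) * (a + b) ≤ c' * (a + b) := Nat.mul_le_mul_right _ hcon
    nlinarith
  have hlc'' : c'' ≤ l := by
    have h := hmax _ hC'
    simp only [f] at h
    by_contra hcon
    rw [not_le] at hcon
    have h2 : (l + 1) * (a + b) ≤ c'' * (a + b) := Nat.mul_le_mul_right _ hcon
    nlinarith
  -- socle property
  have hsoc : ∀ x : Fin 3, vec u v i j l + Finsupp.single x 1 ∈ exps I := by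
    intro x
    rcases hcover x with rfl | rfl | rfl
    · rw [vec_add_single_u]
      by_cases hia : i + 1 < a
      · by_contra hcon
        have h := hmax _ (hPmem _ _ _ hia hj hcon)
        simp only [f] at h
        omega
      · have : i + 1 = a := by omega
        rw [this]
        exact exps_of_le hB.1 (vec_le _ _ ha'a (Nat.zero_le _) hlc')
    · rw [vec_add_single_v _ _ huv]
      by_cases hjb : j + 1 < b
      · by_contra hcon
        have h := hmax _ (hPmem _ _ _ hi hjb hcon)
        simp only [f] at h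
        omega
      · have : j + 1 = b := by omega
        rw [this]
        exact exps_of_le hC.1 (vec_le _ _ (Nat.zero_le _) hb'b hlc'')
    · rw [vec_add_single_w _ _ _ huw hvw hcover]
      by_contra hcon
      have h := hmax _ (hPmem _ _ _ hi hj hcon)
      simp only [f] at h
      nlinarith
  have hgmin : ∀ x : Fin 3, 0 < vec u v a b 0 x →
      vec u v a b 0 - Finsupp.single x 1 ∉ exps I := by
    intro x hx
    rcases hcover x with rfl | rfl | rfl
    · rw [vec_sub_single_u]; exact hA.2.1
    · rw [vec_sub_single_v _ _ huv]; exact hA.2.2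
    · rw [hvecw] at hx; exact absurd hx (lt_irrefl 0)
  have hne := tPiece_ne_bot_of_gen_socle hI (vec u v a b 0) (vec u v i j l) hA.1 hgmin hs hsoc
  refine sigPiece_ne_bot_of_tPiece _ _ ?_ hne
  intro x
  simp only [Set.mem_insert_iff, Set.mem_singleton_iff]
  rcases hcover x with rfl | rfl | rfl
  · simp only [vec_apply, if_true, true_or, iff_true]
    omega
  · have hvu : ¬ x = u := fun h => huv h.symm
    simp only [vec_apply, if_neg hvu, if_true, or_true, iff_true]
    omega
  · rw [hvecw, hvecw]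
    simp only [hwu, hwv, or_self, iff_false]
    push_cast
    omega

end three

end Groth.Agent.Lib.Helper9.Hilb9
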