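import Mathlib
import Groth.Prelude.Def_W4c1hilbpnTgt
import Groth.Agent.Lib.Helper6.Hilbpn.Tgt
import Groth.Agent.Lib.Helper6.Hilbpn.Vanish

/-! Vanishing of `T(I)_α` for `α ≤ 0` with at least two negative entries (helper9). -/

open scoped Classical
set_option linter.unusedSectionVars false
set_option autoImplicit false
noncomputable section

namespace Groth.Agent.Lib.Helper9.Hilb9c
open MvPolynomial W4c1hilbpn Groth.Agent.Lib.Helper6.Hilbpn

variable {σ : Type*} {k : Type*} [Field k] [Fintype σ]
variable {I : Ideal (MvPolynomial σ k)} {α : σ → ℤ}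

lemma reach_neg_of_two_neg (hα : ∀ l, α l ≤ 0) {i j : σ} (hij : i ≠ j) (hi : α i < 0) (hj : α j < 0)
    (M : ℕ) (hM : ∀ w : σ →₀ ℕ, w ∉ exps I → w j < M) :
    ∀ N : ℕ, ∀ v : ↥(region I α), (∀ l, 0 ≤ v.1 l) →
      (v.1 i).toNat * (M + 1) + (M - (v.1 j).toNat) = N →
      ∃ w : ↥(region I α), (regGraph I α).Reachable v w ∧ ∃ l, w.1 l < 0 := by
  intro N
  induction N using Nat.strong_induction_on with
  | _ N ih =>
  intro v hv hN
  have hβ : src α v.1 ∈ exps I := src_mem_of_mem_region v.2
  have hvec : vec α (src α v.1) = v.1 := vec_src_of_mem_region v.2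
  have hstd : toNatVec v.1 ∉ exps I := not_mem_exps_of_mem_region v.2 hv
  by_cases hA : ∃ β' ∈ exps I, vec α β' = v.1 - Pi.single i 1
  · obtain ⟨β', hβ', hvβ'⟩ := hA
    have hu : v.1 - Pi.single i 1 ∈ region I α := by
      refine ⟨⟨β', hβ', hvβ'.symm⟩, fun h => hstd ?_⟩
      have h1 : v.1 = (v.1 - Pi.single i 1) + Pi.single i 1 := by abel
      rw [h1, toNatVec_add_single (h.1 i)]
      exact exps_add h.2 _
    have hadj : (regGraph I α).Adj v ⟨_, hu⟩ := by
      rw [regGraph_adj_iff]
      exact ⟨i, Or.inr (by simp)⟩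
    by_cases hvi : v.1 i = 0
    · refine ⟨⟨_, hu⟩, hadj.reachable, i, ?_⟩
      simp [hvi]
    · have hvi' : 1 ≤ v.1 i := by have := hv i; omega
      have hu0 : ∀ l, 0 ≤ (⟨_, hu⟩ : ↥(region I α)).1 l := by
        intro l
        by_cases hl : l = i
        · subst hl; simp; omega
        · simp [Pi.single_apply, hl, hv l]
      have hlt : (((v.1 - Pi.single i 1 : σ → ℤ)) i).toNat * (M + 1) + (M - (((v.1 - Pi.single i 1 : σ → ℤ)) j).toNat) < N := by
        rw [← hN]
        simp only [Pi.sub_apply, Pi.single_eq_same, Pi.single_apply, if_neg (Ne.symm hij), sub_zero]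
        have h1 : (v.1 i - 1).toNat + 1 = (v.1 i).toNat := by omega
        rw [← h1]
        nlinarith
      obtain ⟨w, hw1, hw2⟩ := ih _ hlt ⟨_, hu⟩ hu0 rfl
      exact ⟨w, hadj.reachable.trans hw1, hw2⟩
  · have hβj : src α v.1 + Finsupp.single j 1 ∈ exps I := exps_add hβ _
    have hvj : (v.1 j).toNat < M := by
      have := hM _ hstd
      simpa using this
    have hu : v.1 + Pi.single j 1 ∈ region I α := by
      rw [← hvec, ← vec_add_single]
      refine (vec_mem_region_iff hβj).2 (fun h => hA ?_)
      have hs : shift (src α v.1 + Finsupp.single j 1) α = toNatVec v.1 + Finsupp.single j 1 := by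
        rw [shift_eq, vec_add_single, hvec, toNatVec_add_single (hv j)]
      have h2 := h.2
      rw [hs] at h2
      refine ⟨src α (v.1 - Pi.single i 1), exps_of_le h2 ?_, ?_⟩
      · intro l
        simp only [Finsupp.coe_add, Pi.add_apply, toNatVec_apply, src_apply, Pi.sub_apply]
        have h3 := hα l
        have h4 := hv l
        by_cases hli : l = i
        · subst hli
          simp [Finsupp.single_apply, Ne.symm hij]
          omega
        · by_cases hlj : l = j
          · subst hlj
            simp [Pi.single_apply, hli]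
            omega
          · simp [Finsupp.single_apply, Pi.single_apply, hli, hlj, Ne.symm hlj]
            omega
      · funext l
        simp only [vec_apply, src_apply, Pi.sub_apply]
        have h3 := hα l
        have h4 := hv l
        by_cases hli : l = i
        · subst hli; simp; omega
        · simp [Pi.single_apply, hli]; omega
    have hadj : (regGraph I α).Adj v ⟨_, hu⟩ := by
      rw [regGraph_adj_iff]
      exact ⟨j, Or.inl rfl⟩
    have hu0 : ∀ l, 0 ≤ (⟨_, hu⟩ : ↥(region I α)).1 l := by
      intro l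
      by_cases hl : l = j
      · subst hl; simp; have := hv l; omega
      · simp [Pi.single_apply, hl, hv l]
    have hlt : (((v.1 + Pi.single j 1 : σ → ℤ)) i).toNat * (M + 1) + (M - (((v.1 + Pi.single j 1 : σ → ℤ)) j).toNat) < N := by
      rw [← hN]
      simp only [Pi.add_apply, Pi.single_eq_same, Pi.single_apply, if_neg hij, add_zero]
      have h1 : (v.1 j + 1).toNat = (v.1 j).toNat + 1 := by have := hv j; omega
      rw [h1]
      omega
    obtain ⟨w, hw1, hw2⟩ := ih _ hlt ⟨_, hu⟩ hu0 rfl
    exact ⟨w, hadj.reachable.trans hw1, hw2⟩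

/-- For a monomial ideal of finite colength, `T(I)_α = 0` when `α ≤ 0` has two negative entries. -/
theorem tPiece_eq_bot_of_two_neg (hI : IsMonomial I) [Module.Finite k (MvPolynomial σ k ⧸ I)]
    (hα : ∀ l, α l ≤ 0) {i j : σ} (hij : i ≠ j) (hi : α i < 0) (hj : α j < 0) :
    tPiece I α = ⊥ := by
  apply tPiece_eq_bot_of_W hI
  intro g hg
  funext v
  show g v = 0
  by_cases hv : ∀ l, 0 ≤ v.1 l
  · obtain ⟨M, hM⟩ := exists_bound hI j
    obtain ⟨w, hw1, hw2⟩ := reach_neg_of_two_neg hα hij hi hj M hM _ v hv rfl
    rw [W_const_of_reachable hg hw1]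
    exact hg.2 w hw2
  · rw [not_forall] at hv
    obtain ⟨l, hl⟩ := hv
    exact hg.2 v ⟨l, not_le.1 hl⟩

/-- If every monomial with positive `i`-exponent lies in `I` and `α i > 0` then `T(I)_α = 0`. -/
theorem tPiece_eq_bot_of_var_mem (hI : IsMonomial I) {i : σ} (hXi : Finsupp.single i 1 ∈ exps I)
    (hi : 0 < α i) : tPiece I α = ⊥ := by
  rw [eq_bot_iff]
  intro φ hφ
  rw [Submodule.mem_bot]
  apply tgt_ext hI
  intro β hβ
  rw [LinearMap.zero_apply]
  by_cases hnn : nn α β
  · obtain ⟨c, hc⟩ := tPiece_apply_of_nn hφ hβ hnn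
    rw [hc]
    have : shift β α ∈ exps I := by
      refine exps_of_le hXi ?_
      intro l
      by_cases hl : l = i
      · subst hl
        simp only [Finsupp.single_eq_same, shift_apply]
        have := hnn l
        omega
      · rw [Finsupp.single_apply, if_neg (Ne.symm hl)]
        exact Nat.zero_le _
    rw [mk_monomial_eq_zero_iff.2 this, smul_zero]
  · exact tPiece_apply_of_not_nn hφ hβ hnn

/-- If `x_i ∈ I`, `α i < 0` and `α j < 0` for some `j ≠ i` then `T(I)_α = 0`. -/
theorem tPiece_eq_bot_of_var_mem_neg (hI : IsMonomial I) {i j : σ} (hij : i ≠ j)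
    (hXi : Finsupp.single i 1 ∈ exps I) (hi : α i < 0) (hj : α j < 0) : tPiece I α = ⊥ := by
  rw [eq_bot_iff]
  intro φ hφ
  rw [Submodule.mem_bot]
  apply tgt_ext hI
  intro β hβ
  rw [LinearMap.zero_apply]
  by_cases hnn : nn α β
  · set p : ℕ := (-α i).toNat with hp
    have hp1 : 1 ≤ p := by omega
    have hpβ : p ≤ β i := by have := hnn i; omega
    have hpmem : Finsupp.single i p ∈ exps I := by
      refine exps_of_le hXi ?_
      intro l
      by_cases hl : l = i
      · subst hl; simpa using hp1
      · rw [Finsupp.single_apply, if_neg (Ne.symm hl)]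
        exact Nat.zero_le _
    have hple : Finsupp.single i p ≤ β := by
      intro l
      by_cases hl : l = i
      · subst hl; simpa using hpβ
      · rw [Finsupp.single_apply, if_neg (Ne.symm hl)]
        exact Nat.zero_le _
    have h0 : φ (monI I (Finsupp.single i p) hpmem) = 0 := by
      apply tPiece_apply_of_not_nn hφ hpmem
      intro h
      have := h j
      rw [Finsupp.single_apply, if_neg hij] at this
      simp only [Nat.cast_zero, zero_add] at this
      omega
    have hmon : monI I β hβ = (monomial (β - Finsupp.single i p) (1 : k)) • monI I (Finsupp.single i p) hpmem := by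
      apply Subtype.ext
      show monomial β (1 : k) = monomial (β - Finsupp.single i p) (1 : k) * monomial (Finsupp.single i p) 1
      rw [monomial_mul, one_mul, tsub_add_cancel_of_le hple]
    rw [hmon, φ.map_smul, h0, smul_zero]
  · exact tPiece_apply_of_not_nn hφ hβ hnn

end Groth.Agent.Lib.Helper9.Hilb9c
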