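import Mathlib
import Groth.Prelude.Def_W4c1hilbpnTgt
import Groth.Agent.Lib.Helper6.Hilbpn.Tgt
import Groth.Agent.Lib.Helper6.Hilbpn.Vanish
import Groth.Agent.Lib.Helper9.Hilb9
import Groth.Agent.Lib.Helper9.Hilb9c

/-! Strongly stable ideals in three variables: `x ∈ I` iff no two-negative tangent pieces (helper9). -/

open scoped Classical
set_option autoImplicit false
noncomputable section

namespace Groth.Agent.Lib.Helper9.Hilb9
open MvPolynomial W4c1hilbpn Groth.Agent.Lib.Helper6.Hilbpn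

variable {k : Type*} [Field k]
variable {I : Ideal (MvPolynomial (Fin 3) k)}

lemma vec_sub_single_w (u v w : Fin 3) (huw : u ≠ w) (hvw : v ≠ w)
    (hcover : ∀ x : Fin 3, x = u ∨ x = v ∨ x = w) (a b c : ℕ) :
    vec u v a b c - Finsupp.single w 1 = vec u v a b (c - 1) := by
  ext x
  rw [Finsupp.tsub_apply, Finsupp.single_apply, vec_apply, vec_apply]
  by_cases h : x = w
  · subst h
    have h1 : ¬ x = u := fun h' => huw h'.symm
    have h2 : ¬ x = v := fun h' => hvw h'.symm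
    simp [h1, h2]
  · have : ¬ w = x := fun h' => h h'.symm
    rcases hcover x with rfl | rfl | rfl
    · simp [this]
    · simp [this]
    · exact absurd rfl h

lemma cover012 : ∀ x : Fin 3, x = 0 ∨ x = 1 ∨ x = 2 := by
  intro x; fin_cases x <;> simp

lemma single0_eq : (Finsupp.single (0 : Fin 3) 1 : Fin 3 →₀ ℕ) = vec 0 1 1 0 0 := by
  ext x
  fin_cases x <;> simp [vec_apply, Finsupp.single_apply]

lemma X0_eq : (X 0 : MvPolynomial (Fin 3) k) = monomial (vec 0 1 1 0 0) 1 := by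
  rw [X, single0_eq]

section ss
variable (hI : IsStronglyStable I)
include hI

lemma ss01 (a b c : ℕ) (h : vec 0 1 a (b + 1) c ∈ exps I) : vec 0 1 (a + 1) b c ∈ exps I := by
  have := hI.2 _ h 0 1 (by decide) (by simp [vec_apply])
  rwa [vec_sub_single_v _ _ (by decide), vec_add_single_u, Nat.add_sub_cancel] at this

lemma ss12 (a b c : ℕ) (h : vec 0 1 a b (c + 1) ∈ exps I) : vec 0 1 a (b + 1) c ∈ exps I := by
  have := hI.2 _ h 1 2 (by decide) (by simp [vec_apply])
  rwa [vec_sub_single_w 0 1 2 (by decide) (by decide) cover012,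
    vec_add_single_v _ _ (by decide), Nat.add_sub_cancel] at this

lemma ss02 (a b c : ℕ) (h : vec 0 1 a b (c + 1) ∈ exps I) : vec 0 1 (a + 1) b c ∈ exps I := by
  have := hI.2 _ h 0 2 (by decide) (by simp [vec_apply])
  rwa [vec_sub_single_w 0 1 2 (by decide) (by decide) cover012,
    vec_add_single_u, Nat.add_sub_cancel] at this

/-- if `x ∉ I` the piece negative exactly at `x, y` is nonzero -/
theorem sig01_ne_bot_of_X_notMem [Module.Finite k (MvPolynomial (Fin 3) k ⧸ I)]
    (hx : (X 0 : MvPolynomial (Fin 3) k) ∉ I) :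
    sigPiece I ({0, 1} : Set (Fin 3)) ≠ ⊥ := by
  have hmon := hI.1
  have hx' : vec 0 1 1 0 0 ∉ exps I := by
    intro h; apply hx; rw [X0_eq]; exact h
  have hyex : ∃ b, vec 0 1 0 b 0 ∈ exps I := by
    obtain ⟨M, hM⟩ := exists_bound hmon 1
    refine ⟨M, ?_⟩
    by_contra h
    have := hM _ h
    simp [vec_apply] at this
  have hzex : ∃ c, vec 0 1 0 0 c ∈ exps I := by
    obtain ⟨M, hM⟩ := exists_bound hmon 2
    refine ⟨M, ?_⟩
    by_contra h
    have := hM _ h
    simp [vec_apply] at this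
  obtain ⟨B, hBmem, hBmin⟩ : ∃ B, vec 0 1 0 B 0 ∈ exps I ∧ ∀ b < B, vec 0 1 0 b 0 ∉ exps I :=
    ⟨Nat.find hyex, Nat.find_spec hyex, fun b hb => Nat.find_min hyex hb⟩
  obtain ⟨C, hCmem, hCmin⟩ : ∃ C, vec 0 1 0 0 C ∈ exps I ∧ ∀ c < C, vec 0 1 0 0 c ∉ exps I :=
    ⟨Nat.find hzex, Nat.find_spec hzex, fun c hc => Nat.find_min hzex hc⟩
  have hB2 : 2 ≤ B := by
    by_contra h
    have : B = 0 ∨ B = 1 := by omega
    rcases this with h0 | h1
    · rw [h0] at hBmem
      exact hx' (exps_of_le hBmem (vec_le _ _ (by omega) le_rfl le_rfl))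
    · rw [h1] at hBmem
      exact hx' (ss01 hI 0 0 0 hBmem)
  have hC2 : 2 ≤ C := by
    by_contra h
    have : C = 0 ∨ C = 1 := by omega
    rcases this with h0 | h1
    · rw [h0] at hCmem
      exact hx' (exps_of_le hCmem (vec_le _ _ (by omega) le_rfl le_rfl))
    · rw [h1] at hCmem
      exact hx' (ss02 hI 0 0 0 hCmem)
  have hjex : ∃ j, vec 0 1 1 j 0 ∈ exps I := by
    refine ⟨B - 1, ?_⟩
    have h := hBmem
    rw [show B = (B - 1) + 1 by omega] at h
    exact ss01 hI 0 (B - 1) 0 h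
  obtain ⟨j0, hj0mem, hj0min⟩ : ∃ j0, vec 0 1 1 j0 0 ∈ exps I ∧ ∀ j < j0, vec 0 1 1 j 0 ∉ exps I :=
    ⟨Nat.find hjex, Nat.find_spec hjex, fun j hj => Nat.find_min hjex hj⟩
  have hj0B : j0 ≤ B - 1 := by
    by_contra h
    rw [not_le] at h
    apply hj0min _ h
    have h := hBmem
    rw [show B = (B - 1) + 1 by omega] at h
    exact ss01 hI 0 (B - 1) 0 h
  have hj01 : 1 ≤ j0 := by
    by_contra h
    have : j0 = 0 := by omega
    rw [this] at hj0mem
    exact hx' hj0mem
  have hgmin : ∀ x : Fin 3, 0 < vec 0 1 1 j0 0 x →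
      vec 0 1 1 j0 0 - Finsupp.single x 1 ∉ exps I := by
    intro x hx0
    rcases cover012 x with rfl | rfl | rfl
    · rw [vec_sub_single_u]; exact hBmin _ (by omega)
    · rw [vec_sub_single_v _ _ (by decide)]; exact hj0min _ (by omega)
    · simp [vec_apply] at hx0
  have hs : vec 0 1 0 0 (C - 1) ∉ exps I := hCmin _ (by omega)
  have hCm : vec 0 1 0 0 ((C - 1) + 1) ∈ exps I := by
    rw [show C - 1 + 1 = C by omega]; exact hCmem
  have hsoc : ∀ x : Fin 3, vec 0 1 0 0 (C - 1) + Finsupp.single x 1 ∈ exps I := by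
    intro x
    rcases cover012 x with rfl | rfl | rfl
    · rw [vec_add_single_u]; exact ss02 hI 0 0 (C - 1) hCm
    · rw [vec_add_single_v _ _ (by decide)]; exact ss12 hI 0 0 (C - 1) hCm
    · rw [vec_add_single_w 0 1 2 (by decide) (by decide) cover012]; exact hCm
  have hne := tPiece_ne_bot_of_gen_socle hmon (vec 0 1 1 j0 0) (vec 0 1 0 0 (C - 1)) hj0mem
    hgmin hs hsoc
  refine sigPiece_ne_bot_of_tPiece _ _ ?_ hne
  intro x
  simp only [Set.mem_insert_iff, Set.mem_singleton_iff]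
  rcases cover012 x with rfl | rfl | rfl
  · simp [vec_apply]
  · simp [vec_apply]; omega
  · simp [vec_apply]

end ss

theorem X_zero_mem_iff (hI : IsStronglyStable I) [Module.Finite k (MvPolynomial (Fin 3) k ⧸ I)] :
    (X 0 : MvPolynomial (Fin 3) k) ∈ I ↔
      (sigPiece I ({1, 2} : Set (Fin 3)) = ⊥ ∧ sigPiece I ({0, 2} : Set (Fin 3)) = ⊥ ∧
        sigPiece I ({0, 1} : Set (Fin 3)) = ⊥) := by
  constructor
  · intro hx
    have hx' : Finsupp.single (0 : Fin 3) 1 ∈ exps I := hx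
    have hmon := hI.1
    refine ⟨?_, ?_, ?_⟩
    · rw [sigPiece, iSup_eq_bot]
      rintro ⟨α, hα⟩
      have h0 : ¬ α 0 < 0 := by rw [hα 0]; simp
      have h1 : α 1 < 0 := by rw [hα 1]; simp
      have h2 : α 2 < 0 := by rw [hα 2]; simp
      by_cases hpos : 0 < α 0
      · exact Hilb9c.tPiece_eq_bot_of_var_mem hmon hx' hpos
      · refine Hilb9c.tPiece_eq_bot_of_two_neg hmon ?_ (i := 1) (j := 2) (by decide) h1 h2
        intro l
        show α l ≤ 0
        rcases cover012 l with rfl | rfl | rfl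
        · omega
        · omega
        · omega
    · rw [sigPiece, iSup_eq_bot]
      rintro ⟨α, hα⟩
      have h0 : α 0 < 0 := by rw [hα 0]; simp
      have h2 : α 2 < 0 := by rw [hα 2]; simp
      exact Hilb9c.tPiece_eq_bot_of_var_mem_neg hmon (i := 0) (j := 2) (by decide) hx' h0 h2
    · rw [sigPiece, iSup_eq_bot]
      rintro ⟨α, hα⟩
      have h0 : α 0 < 0 := by rw [hα 0]; simp
      have h1 : α 1 < 0 := by rw [hα 1]; simp
      exact Hilb9c.tPiece_eq_bot_of_var_mem_neg hmon (i := 0) (j := 1) (by decide) hx' h0 h1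
  · rintro ⟨-, -, h⟩
    by_contra hx
    exact sig01_ne_bot_of_X_notMem hI hx h

end Groth.Agent.Lib.Helper9.Hilb9
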