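import Mathlib
import Groth.Agent.Lib.Helper9.HilbertFin

/-!
The Reynolds operator of a graded action commutes with homogeneous components.
-/

set_option autoImplicit false

namespace Groth.Agent.Helper9.HilbertFin

open MvPolynomial TensorProduct Groth.Agent.Helper9

universe u

section
variable {σ : Type u} {k : Type u} [Field k] {A : Type u} [CommRing A] [HopfAlgebra k A]
variable [HopfRep.Comod k A (MvPolynomial σ k)]

theorem homogeneousComponent_reynolds (hG : HopfRep.IsLinearlyReductive k A)
    (hU : ∀ d, HopfRep.IsSubcomod (k := k) (A := A) (homogeneousSubmodule σ k d))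
    (E : MvPolynomial σ k →ₗ[k] MvPolynomial σ k) (hE₁ : Hoch.IsComodHom A E) (hE₂ : E ∘ₗ E = E)
    (hE₃ : ∀ x : MvPolynomial σ k, E x = x ↔ x ∈ HopfRep.fixedPts k A (MvPolynomial σ k))
    (f : MvPolynomial σ k) (d : ℕ) :
    homogeneousComponent d (E f) = E (homogeneousComponent d f) := by
  classical
  have hEU : ∀ d f, f ∈ homogeneousSubmodule σ k d → E f ∈ homogeneousSubmodule σ k d :=
    fun d f hf => reynolds_mem_of_isSubcomod hG E hE₁ hE₂ hE₃ _ (hU d) f hf
  conv_lhs => rw [← MvPolynomial.sum_homogeneousComponent f, map_sum, map_sum]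
  have h2 : ∀ j ∈ Finset.range (f.totalDegree + 1),
      homogeneousComponent d (E (homogeneousComponent j f)) =
        if d = j then E (homogeneousComponent j f) else 0 := by
    intro j _
    exact MvPolynomial.homogeneousComponent_of_mem (hEU j _ (homogeneousComponent_mem _ _))
  rw [Finset.sum_congr rfl h2, Finset.sum_ite_eq]
  split_ifs with hmem
  · rfl
  · rw [Finset.mem_range, not_lt] at hmem
    rw [MvPolynomial.homogeneousComponent_eq_zero _ _ (by omega), map_zero]

end

end Groth.Agent.Helper9.HilbertFin
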