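import Mathlib

set_option autoImplicit false
universe u

namespace Groth.Agent.Helper9.HochSmooth

variable {A B C : Type u} [CommRing A] [CommRing B] [Algebra A B] [CommRing C] [Algebra A C]

/-- module structure on a square-zero ideal through a linear section -/
@[reducible] noncomputable def modI (I : Ideal C) (hI : I ^ 2 = ⊥) (f : B →ₐ[A] C ⧸ I) (s : B →ₗ[A] C)
    (hs : ∀ b, Ideal.Quotient.mk I (s b) = f b) : Module B ↥I where
  smul b x := ⟨s b * x, I.mul_mem_left _ x.2⟩
  one_smul x := by
    apply Subtype.ext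
    change s 1 * (x : C) = x
    have h1 : s 1 - 1 ∈ I := by
      rw [← Ideal.Quotient.eq_zero_iff_mem, map_sub, hs, map_one, map_one, sub_self]
    have h2 : (s 1 - 1) * (x : C) = 0 := by
      have : (s 1 - 1) * (x : C) ∈ I ^ 2 := by rw [pow_two]; exact Ideal.mul_mem_mul h1 x.2
      rwa [hI] at this
    linear_combination h2
  mul_smul a b x := by
    apply Subtype.ext
    change s (a * b) * (x : C) = s a * (s b * x)
    have h1 : s (a * b) - s a * s b ∈ I := by
      rw [← Ideal.Quotient.eq_zero_iff_mem, map_sub, RingHom.map_mul, hs, hs, hs, map_mul f, sub_self]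
    have h2 : (s (a * b) - s a * s b) * (x : C) = 0 := by
      have : (s (a * b) - s a * s b) * (x : C) ∈ I ^ 2 := by
        rw [pow_two]; exact Ideal.mul_mem_mul h1 x.2
      rwa [hI] at this
    linear_combination h2
  smul_zero a := by apply Subtype.ext; change s a * ((0 : ↥I) : C) = 0; simp
  smul_add a x y := by
    apply Subtype.ext; change s a * ((x + y : ↥I) : C) = s a * x + s a * y; simp [mul_add]
  add_smul a b x := by
    apply Subtype.ext; change s (a + b) * (x : C) = s a * x + s b * x; simp [add_mul]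
  zero_smul x := by apply Subtype.ext; change s 0 * (x : C) = 0; simp


lemma modI_smul_coe (I : Ideal C) (hI : I ^ 2 = ⊥) (f : B →ₐ[A] C ⧸ I) (s : B →ₗ[A] C)
    (hs : ∀ b, Ideal.Quotient.mk I (s b) = f b) (b : B) (x : ↥I) :
    ((letI := modI I hI f s hs; b • x : ↥I) : C) = s b * x := rfl

lemma mul_eq_zero_of_mem (I : Ideal C) (hI : I ^ 2 = ⊥) {x y : C} (hx : x ∈ I) (hy : y ∈ I) :
    x * y = 0 := by
  have : x * y ∈ I ^ 2 := by rw [pow_two]; exact Ideal.mul_mem_mul hx hy
  rwa [hI] at this

theorem formallySmooth_of_hoch [Module.Projective A B]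
    (h : ∀ (L : Type u) [AddCommGroup L] [Module B L] [Module A L] [IsScalarTower A B L]
      (f : B →ₗ[A] B →ₗ[A] L), (∀ x y : B, f x y = f y x) →
        (∀ x y z : B, f (x * y) z + z • f x y = x • f y z + f x (y * z)) →
          ∃ g : B →ₗ[A] L, ∀ x y : B, f x y = x • g y - g (x * y) + y • g x) :
    Algebra.FormallySmooth A B := by
  refine Algebra.FormallySmooth.of_comp_surjective ?_
  intro C _ _ I hI f
  obtain ⟨s, hs'⟩ := Module.projective_lifting_property (Ideal.Quotient.mkₐ A I).toLinearMap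
    f.toLinearMap (Ideal.Quotient.mkₐ_surjective A I)
  have hs : ∀ b, Ideal.Quotient.mk I (s b) = f b := fun b => congrArg (fun φ => φ b) hs'
  let : Module B ↥I := modI I hI f s hs
  have : IsScalarTower A B ↥I := ⟨fun a b x => by
    apply Subtype.ext
    change s (a • b) * (x : C) = a • (s b * (x : C))
    rw [map_smul, smul_mul_assoc]⟩
  have hmem : ∀ x y : B, s x * s y - s (x * y) ∈ I := fun x y => by
    rw [← Ideal.Quotient.eq_zero_iff_mem, map_sub, RingHom.map_mul, hs, hs, hs, map_mul f, sub_self]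
  let F : B →ₗ[A] B →ₗ[A] ↥I := LinearMap.mk₂ A (fun x y => ⟨s x * s y - s (x * y), hmem x y⟩)
    (fun x x' y => by apply Subtype.ext; simp [add_mul]; ring)
    (fun a x y => by apply Subtype.ext; simp [smul_sub])
    (fun x y y' => by apply Subtype.ext; simp [mul_add]; ring)
    (fun a x y => by apply Subtype.ext; simp [smul_sub])
  obtain ⟨g, hg⟩ := h ↥I F (fun x y => by apply Subtype.ext; simp [F, mul_comm])
    (fun x y z => by
      apply Subtype.ext
      change (s (x * y) * s z - s (x * y * z)) + s z * (s x * s y - s (x * y))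
        = s x * (s y * s z - s (y * z)) + (s x * s (y * z) - s (x * (y * z)))
      rw [mul_assoc x y z]; ring)
  have hg' : ∀ x y : B, s x * s y - s (x * y) = s x * (g y : C) - (g (x * y) : C) + s y * (g x : C) := by
    intro x y
    have := congrArg (Subtype.val) (hg x y)
    exact this
  have hI0 : ∀ x y : B, (g x : C) * (g y : C) = 0 := fun x y => mul_eq_zero_of_mem I hI (g x).2 (g y).2
  let φl : B →ₗ[A] C := s - I.subtype.restrictScalars A ∘ₗ g
  have hφ : ∀ x, φl x = s x - (g x : C) := fun x => rfl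
  have hmul : ∀ x y, φl (x * y) = φl x * φl y := by
    intro x y
    rw [hφ, hφ, hφ]
    linear_combination (-1 : C) * hg' x y - hI0 x y
  have hone : φl 1 = 1 := by
    have h1 : φl 1 - 1 ∈ I := by
      rw [← Ideal.Quotient.eq_zero_iff_mem, hφ]
      have e1 : Ideal.Quotient.mk I (s 1) = 1 := by rw [hs, map_one f]
      have e2 : Ideal.Quotient.mk I ((g 1 : ↥I) : C) = 0 :=
        Ideal.Quotient.eq_zero_iff_mem.mpr (g 1).2
      rw [map_sub, map_sub, e1, e2, RingHom.map_one]; simp
    have h2 : (φl 1 - 1) * (φl 1 - 1) = 0 := mul_eq_zero_of_mem I hI h1 h1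
    have h3 : φl 1 * φl 1 = φl 1 := by rw [← hmul, mul_one]
    linear_combination (-1 : C) * h2 + h3
  refine ⟨AlgHom.ofLinearMap φl hone hmul, ?_⟩
  ext x
  simp only [AlgHom.coe_comp, Function.comp_apply, AlgHom.ofLinearMap_apply, Ideal.Quotient.mkₐ_eq_mk]
  rw [hφ, map_sub, hs, Ideal.Quotient.eq_zero_iff_mem.mpr (g x).2, sub_zero]

end Groth.Agent.Helper9.HochSmooth
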