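import Mathlib

/-! helper9: directed families of quotients of supported polynomial subalgebras, as functors to
`Under (CommRingCat.of A)`, with a criterion for the colimit. -/

open CategoryTheory CategoryTheory.Limits

universe u
set_option linter.style.haveILetI false
set_option linter.unusedSectionVars false
set_option linter.unusedVariables false

namespace H9IntColim

variable {A : Type u} [CommRing A] {σ : Type u}

/-- the subalgebra of polynomials supported in `U` -/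
noncomputable abbrev Sp (A : Type u) [CommRing A] {σ : Type u} (U : Set σ) : Subalgebra A (MvPolynomial σ A) :=
  MvPolynomial.supported A U

/-- inclusion between supported subalgebras -/
noncomputable abbrev incl {U U' : Set σ} (h : U ⊆ U') : ↥(Sp A U) →ₐ[A] ↥(Sp A U') :=
  Subalgebra.inclusion (MvPolynomial.supported_mono h)

theorem coe_incl {U U' : Set σ} (h : U ⊆ U') (x : ↥(Sp A U)) :
    ((incl h x : ↥(Sp A U')) : MvPolynomial σ A) = x := Subalgebra.coe_inclusion _ _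

/-- a variable, as an element of the supported subalgebra -/
noncomputable def Xs {U : Set σ} (u : σ) (hu : u ∈ U) : ↥(Sp A U) :=
  ⟨MvPolynomial.X u, Algebra.subset_adjoin ⟨u, hu, rfl⟩⟩

theorem coe_Xs {U : Set σ} (u : σ) (hu : u ∈ U) :
    ((Xs (A := A) u hu : ↥(Sp A U)) : MvPolynomial σ A) = MvPolynomial.X u := rfl

/-- the ideal of `Sp A U` generated by those of its elements lying in `𝓕` -/
noncomputable def idl (U : Set σ) (𝓕 : Set (MvPolynomial σ A)) : Ideal ↥(Sp A U) :=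
  Ideal.span {x | (x : MvPolynomial σ A) ∈ 𝓕}

theorem mem_idl {U : Set σ} {𝓕 : Set (MvPolynomial σ A)} (x : ↥(Sp A U))
    (hx : (x : MvPolynomial σ A) ∈ 𝓕) : x ∈ idl U 𝓕 :=
  Ideal.subset_span hx

theorem idl_le_comap {U U' : Set σ} (h : U ⊆ U') {𝓕 𝓕' : Set (MvPolynomial σ A)} (hF : 𝓕 ⊆ 𝓕') :
    idl U 𝓕 ≤ (idl U' 𝓕').comap (incl (A := A) h) := by
  unfold idl
  rw [Ideal.span_le]
  intro x hx
  have h1 : ((incl h x : ↥(Sp A U')) : MvPolynomial σ A) ∈ 𝓕' := by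
    rw [coe_incl]; exact hF hx
  exact Ideal.mem_comap.mpr (mem_idl _ h1)

theorem idl_fg (U : Set σ) (𝓕 : Finset (MvPolynomial σ A)) :
    (idl U (𝓕 : Set (MvPolynomial σ A))).FG := by
  unfold idl
  apply Submodule.fg_span
  exact Set.Finite.preimage (Subtype.val_injective.injOn) 𝓕.finite_toSet

theorem idl_union (U : Set σ) (𝓕 𝓖 : Set (MvPolynomial σ A)) :
    idl U (𝓕 ∪ 𝓖) = idl U 𝓕 ⊔ idl U 𝓖 := by
  unfold idl
  rw [← Ideal.span_union]
  rfl

theorem idl_pow_le_comap {U U' : Set σ} (h : U ⊆ U') {𝓕 𝓕' : Set (MvPolynomial σ A)}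
    (hF : 𝓕 ⊆ 𝓕') (m : ℕ) :
    (idl U 𝓕) ^ m ≤ ((idl U' 𝓕') ^ m).comap (incl (A := A) h) := by
  rw [← Ideal.map_le_iff_le_comap, Ideal.map_pow]
  exact Ideal.pow_right_mono (Ideal.map_le_iff_le_comap.mpr (idl_le_comap h hF)) m

/-- induction principle for quotients of supported subalgebras -/
theorem Q_induction {U : Set σ} (I : Ideal ↥(Sp A U)) (P : (↥(Sp A U) ⧸ I) → Prop)
    (hX : ∀ u (hu : u ∈ U), P (Ideal.Quotient.mk I (Xs u hu)))
    (hA : ∀ a : A, P (algebraMap A _ a))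
    (hadd : ∀ x y, P x → P y → P (x + y)) (hmul : ∀ x y, P x → P y → P (x * y)) :
    ∀ q, P q := by
  intro q
  obtain ⟨⟨p, hp⟩, rfl⟩ := Ideal.Quotient.mk_surjective q
  induction hp using Algebra.adjoin_induction with
  | mem x hx =>
    obtain ⟨u, hu, rfl⟩ := hx
    exact hX u hu
  | algebraMap r => exact hA r
  | add x y hx hy ihx ihy => exact hadd _ _ ihx ihy
  | mul x y hx hy ihx ihy => exact hmul _ _ ihx ihy

theorem Q_finitePresentation {U : Set σ} (hU : U.Finite) (I : Ideal ↥(Sp A U)) (hI : I.FG) :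
    Algebra.FinitePresentation A (↥(Sp A U) ⧸ I) := by
  haveI : Finite U := hU.to_subtype
  have h1 : Algebra.FinitePresentation A (MvPolynomial U A) := inferInstance
  have h2 : Algebra.FinitePresentation A ↥(Sp A U) :=
    @Algebra.FinitePresentation.equiv A (MvPolynomial U A) ↥(Sp A U) _ _ _ _ _ h1
      (MvPolynomial.supportedEquivMvPolynomial U).symm
  exact @Algebra.FinitePresentation.quotient A ↥(Sp A U) _ _ _ I hI h2

theorem Q_isIntegral {U : Set σ} (I : Ideal ↥(Sp A U))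
    (h : ∀ u (hu : u ∈ U), IsIntegral A (Ideal.Quotient.mk I (Xs u hu))) :
    Algebra.IsIntegral A (↥(Sp A U) ⧸ I) := by
  constructor
  intro q
  refine Q_induction I (fun q => IsIntegral A q) h ?_ ?_ ?_ q
  · intro a
    exact isIntegral_algebraMap
  · intro x y hx hy
    exact @IsIntegral.add A (↥(Sp A U) ⧸ I) _ (Ideal.Quotient.commRing I) _ x y hx hy
  · intro x y hx hy
    exact @IsIntegral.mul A (↥(Sp A U) ⧸ I) _ (Ideal.Quotient.commRing I) _ x y hx hy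

theorem Q_finite {U : Set σ} (hU : U.Finite) (I : Ideal ↥(Sp A U)) (hI : I.FG)
    (h : ∀ u (hu : u ∈ U), IsIntegral A (Ideal.Quotient.mk I (Xs u hu))) :
    Module.Finite A (↥(Sp A U) ⧸ I) := by
  have h1 := Q_finitePresentation hU I hI
  haveI := Q_isIntegral I h
  have h2 : Algebra.FiniteType A (↥(Sp A U) ⧸ I) :=
    @Algebra.FiniteType.of_finitePresentation A (↥(Sp A U) ⧸ I) _ _ _ h1
  exact @Algebra.IsIntegral.finite A (↥(Sp A U) ⧸ I) _ _ _ _ h2

theorem Q_surjective_algebraMap {U : Set σ} (I : Ideal ↥(Sp A U))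
    (h : ∀ u (hu : u ∈ U), ∃ a : A, Ideal.Quotient.mk I (Xs u hu) = algebraMap A _ a) :
    Function.Surjective (algebraMap A (↥(Sp A U) ⧸ I)) := by
  refine Q_induction I (fun q => ∃ a : A, algebraMap A _ a = q) ?_ (fun a => ⟨a, rfl⟩) ?_ ?_
  · intro u hu
    obtain ⟨a, ha⟩ := h u hu
    exact ⟨a, ha.symm⟩
  · rintro x y ⟨a, rfl⟩ ⟨b, rfl⟩
    exact ⟨a + b, map_add _ _ _⟩
  · rintro x y ⟨a, rfl⟩ ⟨b, rfl⟩
    exact ⟨a * b, map_mul _ _ _⟩

/-- the object of `Under A` given by an algebra -/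
noncomputable abbrev uobj (A : Type u) [CommRing A] (R : Type u) [CommRing R] [Algebra A R] :
    Under (CommRingCat.of A) :=
  Under.mk (CommRingCat.ofHom (algebraMap A R))

/-- the morphism of `Under A` given by an algebra map -/
noncomputable def umap {R S : Type u} [CommRing R] [Algebra A R] [CommRing S] [Algebra A S]
    (f : R →ₐ[A] S) : uobj A R ⟶ uobj A S :=
  Under.homMk (CommRingCat.ofHom f.toRingHom) (by
    ext a
    exact f.commutes a)

theorem umap_right {R S : Type u} [CommRing R] [Algebra A R] [CommRing S] [Algebra A S]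
    (f : R →ₐ[A] S) (x : R) : (umap f).right.hom x = f x := rfl

theorem umap_id {R : Type u} [CommRing R] [Algebra A R] :
    umap (AlgHom.id A R) = 𝟙 (uobj A R) := by
  apply Under.UnderMorphism.ext
  rfl

theorem umap_comp {R S T : Type u} [CommRing R] [Algebra A R] [CommRing S] [Algebra A S]
    [CommRing T] [Algebra A T]
    (f : R →ₐ[A] S) (g : S →ₐ[A] T) : umap (g.comp f) = umap f ≫ umap g := by
  apply Under.UnderMorphism.ext
  rfl

/-- a directed family of quotient presentations -/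
structure Fam (A : Type u) [CommRing A] (σ : Type u) (ι : Type u) [Preorder ι] where
  U : ι → Set σ
  I : ∀ i, Ideal ↥(Sp A (U i))
  hU : ∀ {i j : ι}, i ≤ j → U i ⊆ U j
  hI : ∀ {i j : ι} (h : i ≤ j), I i ≤ (I j).comap (incl (A := A) (hU h))

namespace Fam

variable {ι : Type u} [Preorder ι] (𝔉 : Fam A σ ι)

/-- the quotient at index `i` -/
abbrev Q (i : ι) : Type u := ↥(Sp A (𝔉.U i)) ⧸ 𝔉.I i

/-- the transition maps -/
noncomputable def tr {i j : ι} (h : i ≤ j) : 𝔉.Q i →ₐ[A] 𝔉.Q j :=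
  Ideal.quotientMapₐ (𝔉.I j) (incl (𝔉.hU h)) (𝔉.hI h)

theorem tr_mk {i j : ι} (h : i ≤ j) (x : ↥(Sp A (𝔉.U i))) :
    𝔉.tr h (Ideal.Quotient.mk _ x) = Ideal.Quotient.mk _ (incl (𝔉.hU h) x) := rfl

theorem tr_id (i : ι) : 𝔉.tr (le_refl i) = AlgHom.id A _ := by
  ext x
  obtain ⟨y, rfl⟩ := Ideal.Quotient.mk_surjective x
  rfl

theorem tr_comp {i j k : ι} (h : i ≤ j) (h' : j ≤ k) :
    𝔉.tr (h.trans h') = (𝔉.tr h').comp (𝔉.tr h) := by
  ext x
  obtain ⟨y, rfl⟩ := Ideal.Quotient.mk_surjective x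
  rfl

/-- the diagram -/
noncomputable def functor : ι ⥤ Under (CommRingCat.of A) where
  obj i := uobj A (𝔉.Q i)
  map {i j} f := umap (𝔉.tr (leOfHom f))
  map_id i := by
    rw [← umap_id]
    exact congrArg umap (𝔉.tr_id i)
  map_comp {i j k} f g := by
    rw [← umap_comp]
    exact congrArg umap (𝔉.tr_comp (leOfHom f) (leOfHom g))

variable {R : Type u} [CommRing R] [Algebra A R] (π : MvPolynomial σ A →ₐ[A] R)
  (hker : ∀ i, ∀ x ∈ 𝔉.I i, π x = 0)

/-- the map to the target -/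
noncomputable def toPt (i : ι) : 𝔉.Q i →ₐ[A] R :=
  Ideal.Quotient.liftₐ (𝔉.I i) (π.comp (Sp A (𝔉.U i)).val) (fun x hx => hker i x hx)

theorem toPt_mk (i : ι) (x : ↥(Sp A (𝔉.U i))) :
    𝔉.toPt π hker i (Ideal.Quotient.mk _ x) = π x := rfl

theorem toPt_tr {i j : ι} (h : i ≤ j) :
    (𝔉.toPt π hker j).comp (𝔉.tr h) = 𝔉.toPt π hker i := by
  ext x
  obtain ⟨y, rfl⟩ := Ideal.Quotient.mk_surjective x
  rfl

/-- the cocone -/
noncomputable def coconeι :
    𝔉.functor ⟶ (Functor.const ι).obj (uobj A R) where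
  app i := umap (R := 𝔉.Q i) (S := R) (𝔉.toPt π hker i)
  naturality i j f := by
    show umap (𝔉.tr (leOfHom f)) ≫ umap (R := 𝔉.Q j) (S := R) (𝔉.toPt π hker j) =
      umap (R := 𝔉.Q i) (S := R) (𝔉.toPt π hker i) ≫ 𝟙 _
    rw [Category.comp_id, ← umap_comp]
    exact congrArg umap (𝔉.toPt_tr π hker (leOfHom f))

/-- the colimit criterion -/
noncomputable def isColimit [IsDirected ι (· ≤ ·)] [Nonempty ι]
    (hsurj : ∀ r : R, ∃ i, ∃ x : ↥(Sp A (𝔉.U i)), π x = r)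
    (hinj : ∀ i (x : ↥(Sp A (𝔉.U i))), π x = 0 →
      ∃ j, ∃ h : i ≤ j, incl (𝔉.hU h) x ∈ 𝔉.I j) :
    IsColimit (Cocone.mk _ (𝔉.coconeι π hker)) := by
  haveI : IsFiltered ι := inferInstance
  haveI : IsConnected ι := IsFiltered.isConnected ι
  apply isColimitOfReflects (Under.forget (CommRingCat.of A))
  haveI : PreservesColimitsOfShape ι (forget CommRingCat.{u}) :=
    PreservesFilteredColimitsOfSize.preserves_filtered_colimits ι
  haveI : ReflectsColimit (𝔉.functor ⋙ Under.forget (CommRingCat.of A))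
      (forget CommRingCat.{u}) :=
    reflectsColimit_of_reflectsIsomorphisms _ _
  apply isColimitOfReflects (forget CommRingCat.{u})
  apply Types.FilteredColimit.isColimitOf'
  · intro (r : R)
    obtain ⟨i, x, hx⟩ := hsurj r
    exact ⟨i, (Ideal.Quotient.mk _ x : 𝔉.Q i), hx.symm⟩
  · intro i (x : 𝔉.Q i) (y : 𝔉.Q i) h
    obtain ⟨x', rfl⟩ := Ideal.Quotient.mk_surjective x
    obtain ⟨y', rfl⟩ := Ideal.Quotient.mk_surjective y
    have h0 : π (x' : MvPolynomial σ A) = π (y' : MvPolynomial σ A) := h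
    have h' : π ((x' - y' : ↥(Sp A (𝔉.U i))) : MvPolynomial σ A) = 0 := by
      rw [Subalgebra.coe_sub, map_sub, h0, sub_self]
    obtain ⟨j, hij, hj⟩ := hinj i (x' - y') h'
    refine ⟨j, homOfLE hij, ?_⟩
    show 𝔉.tr hij (Ideal.Quotient.mk _ x') = 𝔉.tr hij (Ideal.Quotient.mk _ y')
    rw [tr_mk, tr_mk, Ideal.Quotient.eq, ← map_sub]
    exact hj

end Fam

section Cmp

variable {ι : Type u} [Preorder ι] (𝔉 𝔉' : Fam A σ ι)
  (hUU : ∀ i, 𝔉.U i ⊆ 𝔉'.U i)
  (hII : ∀ i, 𝔉.I i ≤ (𝔉'.I i).comap (incl (A := A) (hUU i)))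

/-- comparison maps between two families -/
noncomputable def cmp (i : ι) : 𝔉.Q i →ₐ[A] 𝔉'.Q i :=
  Ideal.quotientMapₐ (𝔉'.I i) (incl (hUU i)) (hII i)

theorem cmp_mk (i : ι) (x : ↥(Sp A (𝔉.U i))) :
    cmp 𝔉 𝔉' hUU hII i (Ideal.Quotient.mk _ x) = Ideal.Quotient.mk _ (incl (hUU i) x) := rfl

theorem cmp_tr {i j : ι} (h : i ≤ j) :
    (cmp 𝔉 𝔉' hUU hII j).comp (𝔉.tr h) = (𝔉'.tr h).comp (cmp 𝔉 𝔉' hUU hII i) := by
  ext x
  obtain ⟨y, rfl⟩ := Ideal.Quotient.mk_surjective x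
  rfl

/-- the natural transformation -/
noncomputable def nat : 𝔉.functor ⟶ 𝔉'.functor where
  app i := umap (R := 𝔉.Q i) (S := 𝔉'.Q i) (cmp 𝔉 𝔉' hUU hII i)
  naturality i j f := by
    show umap (𝔉.tr (leOfHom f)) ≫ umap (R := 𝔉.Q j) (S := 𝔉'.Q j) (cmp 𝔉 𝔉' hUU hII j) =
      umap (R := 𝔉.Q i) (S := 𝔉'.Q i) (cmp 𝔉 𝔉' hUU hII i) ≫ umap (𝔉'.tr (leOfHom f))
    rw [← umap_comp, ← umap_comp]
    exact congrArg umap (cmp_tr 𝔉 𝔉' hUU hII (leOfHom f))

theorem cmp_surjective (i : ι)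
    (h : ∀ u (hu : u ∈ 𝔉'.U i), ∃ z : 𝔉.Q i,
      cmp 𝔉 𝔉' hUU hII i z = Ideal.Quotient.mk _ (Xs u hu)) :
    Function.Surjective (cmp 𝔉 𝔉' hUU hII i) := by
  refine Q_induction (𝔉'.I i) (fun q => ∃ z : 𝔉.Q i, cmp 𝔉 𝔉' hUU hII i z = q) h ?_ ?_ ?_
  · intro a
    exact ⟨algebraMap A _ a, (cmp 𝔉 𝔉' hUU hII i).commutes a⟩
  · rintro x y ⟨a, rfl⟩ ⟨b, rfl⟩
    exact ⟨a + b, map_add _ _ _⟩
  · rintro x y ⟨a, rfl⟩ ⟨b, rfl⟩
    exact ⟨a * b, map_mul _ _ _⟩

end Cmp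

end H9IntColim
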