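import Groth.Agent.Lib.Helper9.IntColimA

/-! helper9: assembling a pair of directed families of quotient presentations into the statement
about integral algebra maps as filtered colimits of finite finitely presented ones. -/

open CategoryTheory CategoryTheory.Limits

universe u
set_option linter.style.haveILetI false
set_option linter.unusedSectionVars false
set_option linter.unusedVariables false

namespace H9IntColim

variable {A : Type u} [CommRing A] {σ : Type u}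

theorem idl_kills {R : Type u} [CommRing R] [Algebra A R] (π : MvPolynomial σ A →ₐ[A] R)
    (U : Set σ) (𝓕 : Set (MvPolynomial σ A)) (h : ∀ f ∈ 𝓕, π f = 0) :
    ∀ x ∈ idl U 𝓕, π (x : MvPolynomial σ A) = 0 := by
  have h1 : idl U 𝓕 ≤ RingHom.ker (π.comp (Sp A U).val) := by
    unfold idl
    rw [Ideal.span_le]
    intro x hx
    exact RingHom.mem_ker.mpr (h _ hx)
  intro x hx
  exact RingHom.mem_ker.mp (h1 hx)

theorem isIntegral_mk {U : Set σ} (I : Ideal ↥(Sp A U)) (𝓕 : Set (MvPolynomial σ A))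
    (hI : idl U 𝓕 ≤ I) (u : σ) (hu : u ∈ U) (p : Polynomial A) (hp : p.Monic)
    (hmem : Polynomial.aeval (MvPolynomial.X u : MvPolynomial σ A) p ∈ 𝓕) :
    IsIntegral A (Ideal.Quotient.mk I (Xs u hu)) := by
  have h1 : Polynomial.aeval (Xs (A := A) u hu) p ∈ I := by
    apply hI
    apply mem_idl
    have h0 := Polynomial.aeval_algHom_apply (Sp A U).val (Xs (A := A) u hu) p
    have e : (Sp A U).val (Xs (A := A) u hu) = MvPolynomial.X u := rfl
    rw [e] at h0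
    have e2 : ((Polynomial.aeval (Xs (A := A) u hu) p : ↥(Sp A U)) : MvPolynomial σ A) =
        (Sp A U).val (Polynomial.aeval (Xs (A := A) u hu) p) := rfl
    rw [e2, ← h0]
    exact hmem
  have h2 := Polynomial.aeval_algHom_apply (Ideal.Quotient.mkₐ A I) (Xs (A := A) u hu) p
  have h3 : Polynomial.aeval (Ideal.Quotient.mkₐ A I (Xs u hu)) p = 0 := by
    rw [h2]
    exact Ideal.Quotient.eq_zero_iff_mem.mpr h1
  exact ⟨p, hp, h3⟩

theorem mk_eq_algebraMap {U : Set σ} (I : Ideal ↥(Sp A U)) (𝓕 : Set (MvPolynomial σ A))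
    (hI : idl U 𝓕 ≤ I) (u : σ) (hu : u ∈ U) (a : A)
    (hmem : (MvPolynomial.X u - MvPolynomial.C a : MvPolynomial σ A) ∈ 𝓕) :
    Ideal.Quotient.mk I (Xs u hu) = algebraMap A (↥(Sp A U) ⧸ I) a := by
  have h1 : (Xs (A := A) u hu - algebraMap A ↥(Sp A U) a) ∈ I := by
    apply hI
    apply mem_idl
    have e : ((Xs (A := A) u hu - algebraMap A ↥(Sp A U) a : ↥(Sp A U)) : MvPolynomial σ A) =
        MvPolynomial.X u - MvPolynomial.C a := rfl
    rw [e]
    exact hmem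
  exact Ideal.Quotient.eq.mpr h1

theorem mk_eq_mk_incl {U U' : Set σ} (h : U ⊆ U') (I' : Ideal ↥(Sp A U'))
    (𝓕 : Set (MvPolynomial σ A))
    (hI : idl U' 𝓕 ≤ I') (u : σ) (hu : u ∈ U') (v : σ) (hv : v ∈ U)
    (hmem : (MvPolynomial.X u - MvPolynomial.X v : MvPolynomial σ A) ∈ 𝓕) :
    Ideal.Quotient.mk I' (Xs u hu) = Ideal.Quotient.mk I' (incl h (Xs v hv)) := by
  apply Ideal.Quotient.eq.mpr
  apply hI
  apply mem_idl
  have e : ((Xs (A := A) u hu - incl h (Xs v hv) : ↥(Sp A U')) : MvPolynomial σ A) =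
      MvPolynomial.X u - MvPolynomial.X v := rfl
  rw [e]
  exact hmem

theorem incl_Xs {U U' : Set σ} (h : U ⊆ U') (u : σ) (hu : u ∈ U) :
    incl (A := A) h (Xs u hu) = Xs u (h hu) := Subtype.ext rfl

theorem isNilpotent_of_le {R : Type u} [CommRing R] {K K' : Ideal R} (h : K ≤ K')
    (hn : IsNilpotent K') : IsNilpotent K := by
  obtain ⟨n, hn⟩ := hn
  refine ⟨n, ?_⟩
  rw [Ideal.zero_eq_bot] at hn ⊢
  exact le_bot_iff.mp ((Ideal.pow_right_mono h n).trans hn.le)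

theorem ker_algebraMap_le {Q R : Type u} [CommRing Q] [Algebra A Q] [CommRing R] [Algebra A R]
    (f : Q →ₐ[A] R) : RingHom.ker (algebraMap A Q) ≤ RingHom.ker (algebraMap A R) := by
  intro a ha
  rw [RingHom.mem_ker] at ha ⊢
  rw [← f.commutes, ha, map_zero]

section Assemble

variable {B E : Type u} [CommRing B] [CommRing E] [Algebra A B] [Algebra A E] [Algebra B E]
  [IsScalarTower A B E]
  {ι : Type u} [Preorder ι] [IsDirected ι (· ≤ ·)] [Nonempty ι]

theorem assemble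
    (𝔉B 𝔉C : Fam A σ ι) (hUU : ∀ i, 𝔉B.U i ⊆ 𝔉C.U i)
    (hII : ∀ i, 𝔉B.I i ≤ (𝔉C.I i).comap (incl (A := A) (hUU i)))
    (πB : MvPolynomial σ A →ₐ[A] B) (πC : MvPolynomial σ A →ₐ[A] E)
    (hkerB : ∀ i, ∀ x ∈ 𝔉B.I i, πB x = 0) (hkerC : ∀ i, ∀ x ∈ 𝔉C.I i, πC x = 0)
    (hcompat : ∀ i (x : ↥(Sp A (𝔉B.U i))),
      πC (x : MvPolynomial σ A) = algebraMap B E (πB (x : MvPolynomial σ A)))
    (hsurjB : ∀ r : B, ∃ i, ∃ x : ↥(Sp A (𝔉B.U i)), πB x = r)
    (hinjB : ∀ i (x : ↥(Sp A (𝔉B.U i))), πB x = 0 →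
      ∃ j, ∃ h : i ≤ j, incl (𝔉B.hU h) x ∈ 𝔉B.I j)
    (hsurjC : ∀ r : E, ∃ i, ∃ x : ↥(Sp A (𝔉C.U i)), πC x = r)
    (hinjC : ∀ i (x : ↥(Sp A (𝔉C.U i))), πC x = 0 →
      ∃ j, ∃ h : i ≤ j, incl (𝔉C.hU h) x ∈ 𝔉C.I j)
    (hfinB : ∀ i, (𝔉B.U i).Finite) (hfinC : ∀ i, (𝔉C.U i).Finite)
    (hFGB : ∀ i, (𝔉B.I i).FG) (hFGC : ∀ i, (𝔉C.I i).FG)
    (hintB : ∀ i u (hu : u ∈ 𝔉B.U i), IsIntegral A (Ideal.Quotient.mk (𝔉B.I i) (Xs u hu)))
    (hintC : ∀ i u (hu : u ∈ 𝔉C.U i), IsIntegral A (Ideal.Quotient.mk (𝔉C.I i) (Xs u hu)))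
    (hS1 : Function.Surjective (algebraMap A B) → ∀ i u (hu : u ∈ 𝔉B.U i),
      ∃ a : A, Ideal.Quotient.mk (𝔉B.I i) (Xs u hu) = algebraMap A _ a)
    (hS2 : Function.Surjective (algebraMap B E) → ∀ i u (hu : u ∈ 𝔉C.U i),
      ∃ z : 𝔉B.Q i, cmp 𝔉B 𝔉C hUU hII i z = Ideal.Quotient.mk _ (Xs u hu))
    (hS3 : Function.Surjective (algebraMap A E) → ∀ i u (hu : u ∈ 𝔉C.U i),
      ∃ a : A, Ideal.Quotient.mk (𝔉C.I i) (Xs u hu) = algebraMap A _ a)
    (hN2 : Function.Surjective (algebraMap B E) → IsNilpotent (RingHom.ker (algebraMap B E)) →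
      ∀ i, IsNilpotent (RingHom.ker (cmp 𝔉B 𝔉C hUU hII i).toRingHom)) :
    ∃ (ι : Type u) (_ : SmallCategory ι) (_ : IsFiltered ι)
      (DB DC : ι ⥤ Under (CommRingCat.of A)) (τ : DB ⟶ DC)
      (cB : DB ⟶ (Functor.const ι).obj (Under.mk (CommRingCat.ofHom (algebraMap A B))))
      (cC : DC ⟶ (Functor.const ι).obj (Under.mk (CommRingCat.ofHom (algebraMap A E)))),
      Nonempty (IsColimit (Cocone.mk _ cB)) ∧ Nonempty (IsColimit (Cocone.mk _ cC)) ∧
      (∀ i, (τ.app i).right ≫ (cC.app i).right =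
        (cB.app i).right ≫ CommRingCat.ofHom (algebraMap B E)) ∧
      (∀ i, (DB.obj i).hom.hom.Finite ∧ (DB.obj i).hom.hom.FinitePresentation ∧
        (DC.obj i).hom.hom.Finite ∧ (DC.obj i).hom.hom.FinitePresentation) ∧
      (Function.Surjective (algebraMap A B) → ∀ i, Function.Surjective (DB.obj i).hom.hom) ∧
      (Function.Surjective (algebraMap B E) → ∀ i, Function.Surjective (τ.app i).right.hom) ∧
      (Function.Surjective (algebraMap A E) → ∀ i, Function.Surjective (DC.obj i).hom.hom) ∧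
      (Function.Surjective (algebraMap A B) → IsNilpotent (RingHom.ker (algebraMap A B)) →
        ∀ i, Function.Surjective (DB.obj i).hom.hom ∧
          IsNilpotent (RingHom.ker (DB.obj i).hom.hom)) ∧
      (Function.Surjective (algebraMap B E) → IsNilpotent (RingHom.ker (algebraMap B E)) →
        ∀ i, Function.Surjective (τ.app i).right.hom ∧
          IsNilpotent (RingHom.ker (τ.app i).right.hom)) ∧
      (Function.Surjective (algebraMap A E) → IsNilpotent (RingHom.ker (algebraMap A E)) →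
        ∀ i, Function.Surjective (DC.obj i).hom.hom ∧
          IsNilpotent (RingHom.ker (DC.obj i).hom.hom)) := by
  have sB : Function.Surjective (algebraMap A B) → ∀ i,
      Function.Surjective (algebraMap A (𝔉B.Q i)) :=
    fun h i => Q_surjective_algebraMap (𝔉B.I i) (hS1 h i)
  have sC : Function.Surjective (algebraMap A E) → ∀ i,
      Function.Surjective (algebraMap A (𝔉C.Q i)) :=
    fun h i => Q_surjective_algebraMap (𝔉C.I i) (hS3 h i)
  have sBC : Function.Surjective (algebraMap B E) → ∀ i,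
      Function.Surjective (cmp 𝔉B 𝔉C hUU hII i) :=
    fun h i => cmp_surjective 𝔉B 𝔉C hUU hII i (hS2 h i)
  refine ⟨ι, inferInstance, inferInstance, 𝔉B.functor, 𝔉C.functor, nat 𝔉B 𝔉C hUU hII,
    𝔉B.coconeι πB hkerB, 𝔉C.coconeι πC hkerC,
    ⟨𝔉B.isColimit πB hkerB hsurjB hinjB⟩, ⟨𝔉C.isColimit πC hkerC hsurjC hinjC⟩,
    ?_, ?_, ?_, ?_, ?_, ?_, ?_, ?_⟩
  · intro i
    apply CommRingCat.hom_ext
    apply RingHom.ext
    intro (x : 𝔉B.Q i)
    obtain ⟨y, rfl⟩ := Ideal.Quotient.mk_surjective x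
    show πC ((incl (hUU i) y : ↥(Sp A (𝔉C.U i))) : MvPolynomial σ A) =
      algebraMap B E (πB (y : MvPolynomial σ A))
    rw [coe_incl]
    exact hcompat i y
  · intro i
    refine ⟨?_, ?_, ?_, ?_⟩
    · show @RingHom.Finite A (𝔉B.Q i) _ _ (algebraMap A (𝔉B.Q i))
      exact RingHom.finite_algebraMap.mpr (Q_finite (hfinB i) _ (hFGB i) (hintB i))
    · show @RingHom.FinitePresentation A (𝔉B.Q i) _ _ (algebraMap A (𝔉B.Q i))
      exact RingHom.finitePresentation_algebraMap.mpr (Q_finitePresentation (hfinB i) _ (hFGB i))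
    · show @RingHom.Finite A (𝔉C.Q i) _ _ (algebraMap A (𝔉C.Q i))
      exact RingHom.finite_algebraMap.mpr (Q_finite (hfinC i) _ (hFGC i) (hintC i))
    · show @RingHom.FinitePresentation A (𝔉C.Q i) _ _ (algebraMap A (𝔉C.Q i))
      exact RingHom.finitePresentation_algebraMap.mpr (Q_finitePresentation (hfinC i) _ (hFGC i))
  · intro h i
    exact sB h i
  · intro h i
    exact sBC h i
  · intro h i
    exact sC h i
  · intro h hn i
    refine ⟨sB h i, ?_⟩
    show IsNilpotent (RingHom.ker (algebraMap A (𝔉B.Q i)))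
    exact isNilpotent_of_le (ker_algebraMap_le (Q := 𝔉B.Q i) (R := B) (𝔉B.toPt πB hkerB i)) hn
  · intro h hn i
    exact ⟨sBC h i, hN2 h hn i⟩
  · intro h hn i
    refine ⟨sC h i, ?_⟩
    show IsNilpotent (RingHom.ker (algebraMap A (𝔉C.Q i)))
    exact isNilpotent_of_le (ker_algebraMap_le (Q := 𝔉C.Q i) (R := E) (𝔉C.toPt πC hkerC i)) hn

end Assemble

end H9IntColim
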