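import Groth.Agent.Lib.Helper9.IntColimB

/-! helper9: the general presentation of an integral map `B → E` of integral `A`-algebras as a
filtered colimit (variables indexed by `B ⊕ E`). -/

open CategoryTheory CategoryTheory.Limits
open scoped Classical

universe u
set_option linter.style.haveILetI false
set_option linter.unusedSectionVars false
set_option linter.unusedVariables false

namespace H9IntColim

/-- a chosen monic polynomial killing an integral element -/
noncomputable def pInt (A : Type u) [CommRing A] (R : Type u) [CommRing R] [Algebra A R]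
    [Algebra.IsIntegral A R] (r : R) : Polynomial A :=
  (Algebra.IsIntegral.isIntegral (R := A) r).choose

theorem pInt_monic (A : Type u) [CommRing A] (R : Type u) [CommRing R] [Algebra A R]
    [Algebra.IsIntegral A R] (r : R) : (pInt A R r).Monic :=
  (Algebra.IsIntegral.isIntegral (R := A) r).choose_spec.1

theorem pInt_aeval (A : Type u) [CommRing A] (R : Type u) [CommRing R] [Algebra A R]
    [Algebra.IsIntegral A R] (r : R) : Polynomial.aeval r (pInt A R r) = 0 :=
  (Algebra.IsIntegral.isIntegral (R := A) r).choose_spec.2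

/-- a gated finite set -/
noncomputable def gate {α : Type u} (c : Prop) (X : Finset α) : Finset α := if c then X else ∅

theorem mem_gate {α : Type u} {c : Prop} {X : Finset α} {x : α} : x ∈ gate c X ↔ c ∧ x ∈ X := by
  unfold gate
  split_ifs with h
  · simp [h]
  · simp [h]

theorem gate_mono {α : Type u} (c : Prop) {X Y : Finset α} (h : X ⊆ Y) : gate c X ⊆ gate c Y := by
  intro x hx
  rw [mem_gate] at hx ⊢
  exact ⟨hx.1, h hx.2⟩

namespace CI

section Defs

variable (A B E : Type u) [CommRing A] [CommRing B] [CommRing E] [Algebra A B] [Algebra A E]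
  [Algebra B E] [IsScalarTower A B E]

/-- the polynomial ring -/
abbrev Pol := MvPolynomial (B ⊕ E) A

/-- evaluation to `B` -/
noncomputable def πB : Pol A B E →ₐ[A] B := MvPolynomial.aeval (Sum.elim id (fun _ => 0))

/-- evaluation to `E` -/
noncomputable def πC : Pol A B E →ₐ[A] E := MvPolynomial.aeval (Sum.elim (algebraMap B E) id)

/-- relations for `B` -/
structure KB where
  /-- the polynomial -/
  val : Pol A B E
  hB : πB A B E val = 0
  hC : πC A B E val = 0

/-- relations for `E` -/
structure KC where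
  /-- the polynomial -/
  val : Pol A B E
  h : πC A B E val = 0

/-- the index type -/
abbrev Idx := (Finset B × Finset E) × (Finset (KB A B E) × Finset (KC A B E))

end Defs

variable {A B E : Type u} [CommRing A] [CommRing B] [CommRing E] [Algebra A B] [Algebra A E]
  [Algebra B E] [IsScalarTower A B E]

theorem πB_inl (b : B) : πB A B E (MvPolynomial.X (Sum.inl b)) = b := by
  simp [πB]

theorem πC_inl (b : B) : πC A B E (MvPolynomial.X (Sum.inl b)) = algebraMap B E b := by
  simp [πC]

theorem πC_inr (e : E) : πC A B E (MvPolynomial.X (Sum.inr e)) = e := by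
  simp [πC]

theorem πC_eq (x : Pol A B E)
    (hx : x ∈ MvPolynomial.supported A (Set.range (Sum.inl : B → B ⊕ E))) :
    πC A B E x = algebraMap B E (πB A B E x) := by
  induction hx using Algebra.adjoin_induction with
  | mem y hy =>
    obtain ⟨u, ⟨b, rfl⟩, rfl⟩ := hy
    rw [πC_inl, πB_inl]
  | algebraMap r =>
    rw [AlgHom.commutes, AlgHom.commutes, ← IsScalarTower.algebraMap_apply]
  | add x y hx hy ihx ihy => rw [map_add, map_add, map_add, ihx, ihy]
  | mul x y hx hy ihx ihy => rw [map_mul, map_mul, map_mul, ihx, ihy]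

/-- the `B`-variables -/
noncomputable def SB (i : Idx A B E) : Finset B :=
  i.1.1 ∪ i.1.2.image (Function.invFun (algebraMap B E))

theorem SB_mono {i j : Idx A B E} (h : i ≤ j) : SB i ⊆ SB j :=
  Finset.union_subset_union h.1.1 (Finset.image_subset_image h.1.2)

/-- the variable set for `B` -/
def UB (i : Idx A B E) : Set (B ⊕ E) := Sum.inl '' (SB i : Set B)

/-- the variable set for `E` -/
def UC (i : Idx A B E) : Set (B ⊕ E) := UB i ∪ Sum.inr '' (i.1.2 : Set E)

theorem UB_mono {i j : Idx A B E} (h : i ≤ j) : UB i ⊆ UB j :=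
  Set.image_mono (Finset.coe_subset.mpr (SB_mono h))

theorem UC_mono {i j : Idx A B E} (h : i ≤ j) : UC i ⊆ UC j :=
  Set.union_subset_union (UB_mono h) (Set.image_mono (Finset.coe_subset.mpr h.1.2))

theorem UB_sub_UC (i : Idx A B E) : UB i ⊆ UC i := Set.subset_union_left

theorem UB_finite (i : Idx A B E) : (UB i).Finite := (Finset.finite_toSet _).image _

theorem UC_finite (i : Idx A B E) : (UC i).Finite :=
  (UB_finite i).union ((Finset.finite_toSet _).image _)

theorem UB_sub_range (i : Idx A B E) : UB i ⊆ Set.range (Sum.inl : B → B ⊕ E) :=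
  Set.image_subset_range _ _

variable [Algebra.IsIntegral A B] [Algebra.IsIntegral A E]

/-- canonical relations for `B` -/
noncomputable def RB (i : Idx A B E) : Finset (Pol A B E) :=
  (SB i).image (fun b => Polynomial.aeval (MvPolynomial.X (Sum.inl b) : Pol A B E) (pInt A B b)) ∪
  gate (Function.Surjective (algebraMap A B))
    ((SB i).image (fun b => (MvPolynomial.X (Sum.inl b) -
      MvPolynomial.C (Function.invFun (algebraMap A B) b) : Pol A B E)))

/-- all relations for `B` -/
noncomputable def FB (i : Idx A B E) : Finset (Pol A B E) :=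
  i.2.1.image KB.val ∪ RB i

/-- canonical relations for `E` -/
noncomputable def RC (i : Idx A B E) : Finset (Pol A B E) :=
  (i.1.2.image (fun e => Polynomial.aeval (MvPolynomial.X (Sum.inr e) : Pol A B E) (pInt A E e)) ∪
  gate (Function.Surjective (algebraMap B E))
    (i.1.2.image (fun e => (MvPolynomial.X (Sum.inr e) -
      MvPolynomial.X (Sum.inl (Function.invFun (algebraMap B E) e)) : Pol A B E)))) ∪
  (gate (Function.Surjective (algebraMap A E))
    (i.1.2.image (fun e => (MvPolynomial.X (Sum.inr e) -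
      MvPolynomial.C (Function.invFun (algebraMap A E) e) : Pol A B E))) ∪
  gate (Function.Surjective (algebraMap A E))
    ((SB i).image (fun b => (MvPolynomial.X (Sum.inl b) -
      MvPolynomial.C (Function.invFun (algebraMap A E) (algebraMap B E b)) : Pol A B E))))

/-- all relations for `E` -/
noncomputable def FC (i : Idx A B E) : Finset (Pol A B E) :=
  (FB i ∪ i.2.2.image KC.val) ∪ RC i

theorem RB_mono {i j : Idx A B E} (h : i ≤ j) : RB i ⊆ RB j :=
  Finset.union_subset_union (Finset.image_subset_image (SB_mono h))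
    (gate_mono _ (Finset.image_subset_image (SB_mono h)))

theorem FB_mono {i j : Idx A B E} (h : i ≤ j) : FB i ⊆ FB j :=
  Finset.union_subset_union (Finset.image_subset_image h.2.1) (RB_mono h)

theorem RC_mono {i j : Idx A B E} (h : i ≤ j) : RC i ⊆ RC j :=
  Finset.union_subset_union
    (Finset.union_subset_union (Finset.image_subset_image h.1.2)
      (gate_mono _ (Finset.image_subset_image h.1.2)))
    (Finset.union_subset_union (gate_mono _ (Finset.image_subset_image h.1.2))
      (gate_mono _ (Finset.image_subset_image (SB_mono h))))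

theorem FC_mono {i j : Idx A B E} (h : i ≤ j) : FC i ⊆ FC j :=
  Finset.union_subset_union
    (Finset.union_subset_union (FB_mono h) (Finset.image_subset_image h.2.2)) (RC_mono h)

theorem FB_sub_FC (i : Idx A B E) : FB i ⊆ FC i :=
  Finset.subset_union_left.trans Finset.subset_union_left

theorem RB_sub_FB (i : Idx A B E) : RB i ⊆ FB i := Finset.subset_union_right

theorem RC_sub_FC (i : Idx A B E) : RC i ⊆ FC i := Finset.subset_union_right

theorem mem_RB_int {i : Idx A B E} {b : B} (hb : b ∈ SB i) :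
    Polynomial.aeval (MvPolynomial.X (Sum.inl b) : Pol A B E) (pInt A B b) ∈ RB i :=
  Finset.mem_union_left _ (Finset.mem_image.mpr ⟨b, hb, rfl⟩)

theorem mem_RB_surj {i : Idx A B E} {b : B} (hs : Function.Surjective (algebraMap A B))
    (hb : b ∈ SB i) :
    (MvPolynomial.X (Sum.inl b) - MvPolynomial.C (Function.invFun (algebraMap A B) b) :
      Pol A B E) ∈ RB i :=
  Finset.mem_union_right _ (mem_gate.mpr ⟨hs, Finset.mem_image.mpr ⟨b, hb, rfl⟩⟩)

theorem mem_RC_int {i : Idx A B E} {e : E} (he : e ∈ i.1.2) :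
    Polynomial.aeval (MvPolynomial.X (Sum.inr e) : Pol A B E) (pInt A E e) ∈ RC i :=
  Finset.mem_union_left _ (Finset.mem_union_left _ (Finset.mem_image.mpr ⟨e, he, rfl⟩))

theorem mem_RC_BE {i : Idx A B E} {e : E} (hs : Function.Surjective (algebraMap B E))
    (he : e ∈ i.1.2) :
    (MvPolynomial.X (Sum.inr e) -
      MvPolynomial.X (Sum.inl (Function.invFun (algebraMap B E) e)) : Pol A B E) ∈ RC i :=
  Finset.mem_union_left _ (Finset.mem_union_right _
    (mem_gate.mpr ⟨hs, Finset.mem_image.mpr ⟨e, he, rfl⟩⟩))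

theorem mem_RC_AE_inr {i : Idx A B E} {e : E} (hs : Function.Surjective (algebraMap A E))
    (he : e ∈ i.1.2) :
    (MvPolynomial.X (Sum.inr e) -
      MvPolynomial.C (Function.invFun (algebraMap A E) e) : Pol A B E) ∈ RC i :=
  Finset.mem_union_right _ (Finset.mem_union_left _
    (mem_gate.mpr ⟨hs, Finset.mem_image.mpr ⟨e, he, rfl⟩⟩))

theorem mem_RC_AE_inl {i : Idx A B E} {b : B} (hs : Function.Surjective (algebraMap A E))
    (hb : b ∈ SB i) :
    (MvPolynomial.X (Sum.inl b) -
      MvPolynomial.C (Function.invFun (algebraMap A E) (algebraMap B E b)) : Pol A B E) ∈ RC i :=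
  Finset.mem_union_right _ (Finset.mem_union_right _
    (mem_gate.mpr ⟨hs, Finset.mem_image.mpr ⟨b, hb, rfl⟩⟩))

theorem aeval_inl_killB (b : B) :
    πB A B E (Polynomial.aeval (MvPolynomial.X (Sum.inl b) : Pol A B E) (pInt A B b)) = 0 := by
  rw [← Polynomial.aeval_algHom_apply, πB_inl, pInt_aeval]

theorem aeval_inl_killC (b : B) :
    πC A B E (Polynomial.aeval (MvPolynomial.X (Sum.inl b) : Pol A B E) (pInt A B b)) = 0 := by
  rw [← Polynomial.aeval_algHom_apply, πC_inl, Polynomial.aeval_algebraMap_apply, pInt_aeval,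
    map_zero]

theorem aeval_inr_killC (e : E) :
    πC A B E (Polynomial.aeval (MvPolynomial.X (Sum.inr e) : Pol A B E) (pInt A E e)) = 0 := by
  rw [← Polynomial.aeval_algHom_apply, πC_inr, pInt_aeval]

theorem πB_C (a : A) : πB A B E (MvPolynomial.C a) = algebraMap A B a := by
  simp [πB]

theorem πC_C (a : A) : πC A B E (MvPolynomial.C a) = algebraMap A E a := by
  simp [πC]

theorem RB_killB (i : Idx A B E) : ∀ f ∈ RB i, πB A B E f = 0 := by
  intro f hf
  rw [RB, Finset.mem_union] at hf
  rcases hf with hf | hf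
  · obtain ⟨b, _, rfl⟩ := Finset.mem_image.mp hf
    exact aeval_inl_killB b
  · rw [mem_gate] at hf
    obtain ⟨hs, hf⟩ := hf
    obtain ⟨b, _, rfl⟩ := Finset.mem_image.mp hf
    rw [map_sub, πB_inl, πB_C, Function.rightInverse_invFun hs b, sub_self]

theorem RB_killC (i : Idx A B E) : ∀ f ∈ RB i, πC A B E f = 0 := by
  intro f hf
  rw [RB, Finset.mem_union] at hf
  rcases hf with hf | hf
  · obtain ⟨b, _, rfl⟩ := Finset.mem_image.mp hf
    exact aeval_inl_killC b
  · rw [mem_gate] at hf
    obtain ⟨hs, hf⟩ := hf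
    obtain ⟨b, _, rfl⟩ := Finset.mem_image.mp hf
    rw [map_sub, πC_inl, πC_C, IsScalarTower.algebraMap_apply A B E,
      Function.rightInverse_invFun hs b, sub_self]

theorem FB_killB (i : Idx A B E) : ∀ f ∈ (FB i : Set (Pol A B E)), πB A B E f = 0 := by
  intro f hf
  rw [Finset.mem_coe, FB, Finset.mem_union] at hf
  rcases hf with hf | hf
  · obtain ⟨k, _, rfl⟩ := Finset.mem_image.mp hf
    exact k.hB
  · exact RB_killB i f hf

theorem FB_killC (i : Idx A B E) : ∀ f ∈ FB i, πC A B E f = 0 := by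
  intro f hf
  rw [FB, Finset.mem_union] at hf
  rcases hf with hf | hf
  · obtain ⟨k, _, rfl⟩ := Finset.mem_image.mp hf
    exact k.hC
  · exact RB_killC i f hf

theorem RC_killC (i : Idx A B E) : ∀ f ∈ RC i, πC A B E f = 0 := by
  intro f hf
  rw [RC, Finset.mem_union, Finset.mem_union, Finset.mem_union] at hf
  rcases hf with (hf | hf) | (hf | hf)
  · obtain ⟨e, _, rfl⟩ := Finset.mem_image.mp hf
    exact aeval_inr_killC e
  · rw [mem_gate] at hf
    obtain ⟨hs, hf⟩ := hf
    obtain ⟨e, _, rfl⟩ := Finset.mem_image.mp hf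
    rw [map_sub, πC_inr, πC_inl, Function.rightInverse_invFun hs e, sub_self]
  · rw [mem_gate] at hf
    obtain ⟨hs, hf⟩ := hf
    obtain ⟨e, _, rfl⟩ := Finset.mem_image.mp hf
    rw [map_sub, πC_inr, πC_C, Function.rightInverse_invFun hs e, sub_self]
  · rw [mem_gate] at hf
    obtain ⟨hs, hf⟩ := hf
    obtain ⟨b, _, rfl⟩ := Finset.mem_image.mp hf
    rw [map_sub, πC_inl, πC_C, Function.rightInverse_invFun hs _, sub_self]

theorem FC_killC (i : Idx A B E) : ∀ f ∈ (FC i : Set (Pol A B E)), πC A B E f = 0 := by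
  intro f hf
  rw [Finset.mem_coe, FC, Finset.mem_union, Finset.mem_union] at hf
  rcases hf with (hf | hf) | hf
  · exact FB_killC i f hf
  · obtain ⟨k, _, rfl⟩ := Finset.mem_image.mp hf
    exact k.h
  · exact RC_killC i f hf

/-- the family for `B` -/
noncomputable def famB : Fam A (B ⊕ E) (Idx A B E) where
  U := UB
  I i := idl (UB i) (FB i : Set (Pol A B E))
  hU h := UB_mono h
  hI h := idl_le_comap (UB_mono h) (Finset.coe_subset.mpr (FB_mono h))

/-- the family for `E` -/
noncomputable def famC : Fam A (B ⊕ E) (Idx A B E) where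
  U := UC
  I i := idl (UC i) (FC i : Set (Pol A B E))
  hU h := UC_mono h
  hI h := idl_le_comap (UC_mono h) (Finset.coe_subset.mpr (FC_mono h))

theorem hUU (i : Idx A B E) :
    (famB (A := A) (B := B) (E := E)).U i ⊆ (famC (A := A) (B := B) (E := E)).U i :=
  UB_sub_UC i

theorem hII (i : Idx A B E) :
    (famB (A := A) (B := B) (E := E)).I i ≤
      ((famC (A := A) (B := B) (E := E)).I i).comap (incl (A := A) (hUU i)) :=
  idl_le_comap (UB_sub_UC i) (Finset.coe_subset.mpr (FB_sub_FC i))

theorem main (hnot : ¬ (Function.Surjective (algebraMap B E) ∧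
      IsNilpotent (RingHom.ker (algebraMap B E)))) :
    ∃ (ι : Type u) (_ : SmallCategory ι) (_ : IsFiltered ι)
      (DB DC : ι ⥤ Under (CommRingCat.of A)) (τ : DB ⟶ DC)
      (cB : DB ⟶ (Functor.const ι).obj (Under.mk (CommRingCat.ofHom (algebraMap A B))))
      (cC : DC ⟶ (Functor.const ι).obj (Under.mk (CommRingCat.ofHom (algebraMap A E)))),
      Nonempty (IsColimit (Cocone.mk _ cB)) ∧ Nonempty (IsColimit (Cocone.mk _ cC)) ∧
      (∀ i, (τ.app i).right ≫ (cC.app i).right =
        (cB.app i).right ≫ CommRingCat.ofHom (algebraMap B E)) ∧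
      (∀ i, (DB.obj i).hom.hom.Finite ∧ (DB.obj i).hom.hom.FinitePresentation ∧
        (DC.obj i).hom.hom.Finite ∧ (DC.obj i).hom.hom.FinitePresentation) ∧
      (Function.Surjective (algebraMap A B) → ∀ i, Function.Surjective (DB.obj i).hom.hom) ∧
      (Function.Surjective (algebraMap B E) → ∀ i, Function.Surjective (τ.app i).right.hom) ∧
      (Function.Surjective (algebraMap A E) → ∀ i, Function.Surjective (DC.obj i).hom.hom) ∧
      (Function.Surjective (algebraMap A B) → IsNilpotent (RingHom.ker (algebraMap A B)) →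
        ∀ i, Function.Surjective (DB.obj i).hom.hom ∧
          IsNilpotent (RingHom.ker (DB.obj i).hom.hom)) ∧
      (Function.Surjective (algebraMap B E) → IsNilpotent (RingHom.ker (algebraMap B E)) →
        ∀ i, Function.Surjective (τ.app i).right.hom ∧
          IsNilpotent (RingHom.ker (τ.app i).right.hom)) ∧
      (Function.Surjective (algebraMap A E) → IsNilpotent (RingHom.ker (algebraMap A E)) →
        ∀ i, Function.Surjective (DC.obj i).hom.hom ∧
          IsNilpotent (RingHom.ker (DC.obj i).hom.hom)) := by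
  have hcompat : ∀ i (x : ↥(Sp A (UB (A := A) (B := B) (E := E) i))),
      πC A B E (x : Pol A B E) = algebraMap B E (πB A B E (x : Pol A B E)) :=
    fun i x => πC_eq _ (MvPolynomial.supported_mono (UB_sub_range i) x.2)
  refine assemble (famB (A := A) (B := B) (E := E)) (famC (A := A) (B := B) (E := E))
    hUU hII (πB A B E) (πC A B E)
    (fun i => idl_kills _ _ _ (FB_killB i)) (fun i => idl_kills _ _ _ (FC_killC i))
    hcompat ?_ ?_ ?_ ?_ UB_finite UC_finite (fun i => idl_fg _ _) (fun i => idl_fg _ _)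
    ?_ ?_ ?_ ?_ ?_ (fun hs hn => absurd ⟨hs, hn⟩ hnot)
  · -- hsurjB
    intro b
    refine ⟨(({b}, ∅), (∅, ∅)), Xs (Sum.inl b) ⟨b, ?_, rfl⟩, πB_inl b⟩
    simp [SB]
  · -- hinjB
    intro i x hx
    have hxC : πC A B E (x : Pol A B E) = 0 := by rw [hcompat i x, hx, map_zero]
    obtain ⟨F', hF', hk⟩ : ∃ F' : Finset (KB A B E), i.2.1 ⊆ F' ∧
        (⟨x.1, hx, hxC⟩ : KB A B E) ∈ F' :=
      ⟨insert _ i.2.1, Finset.subset_insert _ _, Finset.mem_insert_self _ _⟩
    refine ⟨(i.1, (F', i.2.2)), ⟨le_rfl, hF', le_rfl⟩, ?_⟩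
    apply mem_idl
    rw [coe_incl]
    apply Finset.mem_coe.mpr
    apply Finset.mem_union_left
    exact Finset.mem_image.mpr ⟨(⟨x.1, hx, hxC⟩ : KB A B E), hk, rfl⟩
  · -- hsurjC
    intro e
    refine ⟨((∅, {e}), (∅, ∅)), Xs (Sum.inr e) (Or.inr ⟨e, ?_, rfl⟩), πC_inr e⟩
    simp
  · -- hinjC
    intro i x hx
    obtain ⟨G', hG', hk⟩ : ∃ G' : Finset (KC A B E), i.2.2 ⊆ G' ∧
        (⟨x.1, hx⟩ : KC A B E) ∈ G' :=
      ⟨insert _ i.2.2, Finset.subset_insert _ _, Finset.mem_insert_self _ _⟩
    refine ⟨(i.1, (i.2.1, G')), ⟨le_rfl, le_rfl, hG'⟩, ?_⟩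
    apply mem_idl
    rw [coe_incl]
    apply Finset.mem_coe.mpr
    apply Finset.mem_union_left
    apply Finset.mem_union_right
    exact Finset.mem_image.mpr ⟨(⟨x.1, hx⟩ : KC A B E), hk, rfl⟩
  · -- hintB
    intro i u hu
    obtain ⟨b, hb, rfl⟩ := hu
    exact isIntegral_mk _ (FB i : Set (Pol A B E)) le_rfl _ _ (pInt A B b) (pInt_monic A B b)
      (Finset.mem_coe.mpr (RB_sub_FB i (mem_RB_int (Finset.mem_coe.mp hb))))
  · -- hintC
    intro i u hu
    rcases hu with hu | hu
    · obtain ⟨b, hb, rfl⟩ := hu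
      exact isIntegral_mk _ (FC i : Set (Pol A B E)) le_rfl _ _ (pInt A B b) (pInt_monic A B b)
        (Finset.mem_coe.mpr (FB_sub_FC i (RB_sub_FB i (mem_RB_int (Finset.mem_coe.mp hb)))))
    · obtain ⟨e, he, rfl⟩ := hu
      exact isIntegral_mk _ (FC i : Set (Pol A B E)) le_rfl _ _ (pInt A E e) (pInt_monic A E e)
        (Finset.mem_coe.mpr (RC_sub_FC i (mem_RC_int (Finset.mem_coe.mp he))))
  · -- hS1
    intro hs i u hu
    obtain ⟨b, hb, rfl⟩ := hu
    exact ⟨Function.invFun (algebraMap A B) b,
      mk_eq_algebraMap _ (FB i : Set (Pol A B E)) le_rfl _ _ _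
        (Finset.mem_coe.mpr (RB_sub_FB i (mem_RB_surj hs (Finset.mem_coe.mp hb))))⟩
  · -- hS2
    intro hs i u hu
    rcases hu with hu | hu
    · refine ⟨Ideal.Quotient.mk _ (Xs u hu), ?_⟩
      exact congrArg (Ideal.Quotient.mk _) (incl_Xs (UB_sub_UC i) u hu)
    · obtain ⟨e, he, rfl⟩ := hu
      have hb : Sum.inl (Function.invFun (algebraMap B E) e) ∈ UB (A := A) (B := B) (E := E) i := by
        refine ⟨_, ?_, rfl⟩
        apply Finset.mem_coe.mpr
        apply Finset.mem_union_right
        exact Finset.mem_image.mpr ⟨e, he, rfl⟩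
      refine ⟨Ideal.Quotient.mk _ (Xs _ hb), ?_⟩
      exact (mk_eq_mk_incl (UB_sub_UC i) _ (FC i : Set (Pol A B E)) le_rfl _ _ _ hb
        (Finset.mem_coe.mpr (RC_sub_FC i (mem_RC_BE hs (Finset.mem_coe.mp he))))).symm
  · -- hS3
    intro hs i u hu
    rcases hu with hu | hu
    · obtain ⟨b, hb, rfl⟩ := hu
      exact ⟨Function.invFun (algebraMap A E) (algebraMap B E b),
        mk_eq_algebraMap _ (FC i : Set (Pol A B E)) le_rfl _ _ _
          (Finset.mem_coe.mpr (RC_sub_FC i (mem_RC_AE_inl hs (Finset.mem_coe.mp hb))))⟩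
    · obtain ⟨e, he, rfl⟩ := hu
      exact ⟨Function.invFun (algebraMap A E) e,
        mk_eq_algebraMap _ (FC i : Set (Pol A B E)) le_rfl _ _ _
          (Finset.mem_coe.mpr (RC_sub_FC i (mem_RC_AE_inr hs (Finset.mem_coe.mp he))))⟩

end CI

end H9IntColim
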