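import Groth.Agent.Lib.Helper9.IntColimC

/-! helper9: presentation of a surjection `B → E` with nilpotent kernel of integral `A`-algebras
as a filtered colimit of surjections with nilpotent kernels (variables indexed by `B`). -/

open CategoryTheory CategoryTheory.Limits
open scoped Classical

universe u
set_option linter.style.haveILetI false
set_option linter.unusedSectionVars false
set_option linter.unusedVariables false

namespace H9IntColim

theorem ker_quotientMap_pow_eq_bot {R R' : Type u} [CommRing R] [CommRing R'] (f : R →+* R')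
    (I : Ideal R) (J : Ideal R') (hIJ : I ≤ J.comap f) (K : Ideal R) (n : ℕ)
    (hJ : J.comap f ≤ I ⊔ K) (hK : K ^ n ≤ I) :
    (RingHom.ker (Ideal.quotientMap J f hIJ)) ^ n = ⊥ := by
  rw [eq_bot_iff]
  have h1 : RingHom.ker (Ideal.quotientMap J f hIJ) ≤ K.map (Ideal.Quotient.mk I) := by
    intro z hz
    obtain ⟨x, rfl⟩ := Ideal.Quotient.mk_surjective z
    have hz' : Ideal.Quotient.mk J (f x) = 0 := RingHom.mem_ker.mp hz
    rw [Ideal.Quotient.eq_zero_iff_mem] at hz'
    have hx : x ∈ I ⊔ K := hJ (Ideal.mem_comap.mpr hz')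
    obtain ⟨y, hy, w, hw, rfl⟩ := Submodule.mem_sup.mp hx
    rw [map_add, Ideal.Quotient.eq_zero_iff_mem.mpr hy, zero_add]
    exact Ideal.mem_map_of_mem _ hw
  have h2 : (K.map (Ideal.Quotient.mk I)) ^ n ≤ ⊥ := by
    rw [← Ideal.map_pow, Ideal.map_le_iff_le_comap]
    intro x hx
    rw [Ideal.mem_comap, Ideal.mem_bot, Ideal.Quotient.eq_zero_iff_mem]
    exact hK hx
  exact (Ideal.pow_right_mono h1 n).trans h2

theorem fg_pow' {R : Type u} [CommRing R] {I : Ideal R} (h : I.FG) (n : ℕ) : (I ^ n).FG :=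
  Ideal.FG.pow h

namespace CII

section Defs

variable (A B E : Type u) [CommRing A] [CommRing B] [CommRing E] [Algebra A B] [Algebra A E]
  [Algebra B E] [IsScalarTower A B E]

/-- the polynomial ring -/
abbrev Pol := MvPolynomial B A

/-- evaluation to `B` -/
noncomputable def πB : Pol A B →ₐ[A] B := MvPolynomial.aeval id

/-- evaluation to `E` -/
noncomputable def πC : Pol A B →ₐ[A] E := (IsScalarTower.toAlgHom A B E).comp (πB A B)

/-- relations for `B` -/
structure KB where
  /-- the polynomial -/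
  val : Pol A B
  h : πB A B val = 0

/-- relations for `E` -/
structure KH where
  /-- the polynomial -/
  val : Pol A B
  h : πC A B E val = 0

/-- the index type -/
abbrev Idx := Finset B × (Finset (KB A B) × Finset (KH A B E))

end Defs

variable {A B E : Type u} [CommRing A] [CommRing B] [CommRing E] [Algebra A B] [Algebra A E]
  [Algebra B E] [IsScalarTower A B E]

theorem πB_X (b : B) : πB A B (MvPolynomial.X b) = b := by
  simp [πB]

theorem πB_C (a : A) : πB A B (MvPolynomial.C a) = algebraMap A B a := by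
  simp [πB]

theorem πC_apply (x : Pol A B) : πC A B E x = algebraMap B E (πB A B x) := rfl

/-- the variable set -/
def U (i : Idx A B E) : Set B := (i.1 : Set B)

theorem U_mono {i j : Idx A B E} (h : i ≤ j) : U i ⊆ U j := Finset.coe_subset.mpr h.1

theorem U_finite (i : Idx A B E) : (U i).Finite := Finset.finite_toSet _

variable [Algebra.IsIntegral A B]

/-- canonical relations for `B` -/
noncomputable def RB (i : Idx A B E) : Finset (Pol A B) :=
  i.1.image (fun b => Polynomial.aeval (MvPolynomial.X b : Pol A B) (pInt A B b)) ∪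
  gate (Function.Surjective (algebraMap A B))
    (i.1.image (fun b => (MvPolynomial.X b -
      MvPolynomial.C (Function.invFun (algebraMap A B) b) : Pol A B)))

/-- all relations for `B` -/
noncomputable def FB (i : Idx A B E) : Finset (Pol A B) :=
  i.2.1.image KB.val ∪ RB i

/-- the extra relations for `E` -/
noncomputable def FH (i : Idx A B E) : Finset (Pol A B) :=
  i.2.2.image KH.val ∪
  gate (Function.Surjective (algebraMap A E))
    (i.1.image (fun b => (MvPolynomial.X b -
      MvPolynomial.C (Function.invFun (algebraMap A E) (algebraMap B E b)) : Pol A B)))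

theorem RB_mono {i j : Idx A B E} (h : i ≤ j) : RB i ⊆ RB j :=
  Finset.union_subset_union (Finset.image_subset_image h.1)
    (gate_mono _ (Finset.image_subset_image h.1))

theorem FB_mono {i j : Idx A B E} (h : i ≤ j) : FB i ⊆ FB j :=
  Finset.union_subset_union (Finset.image_subset_image h.2.1) (RB_mono h)

theorem FH_mono {i j : Idx A B E} (h : i ≤ j) : FH i ⊆ FH j :=
  Finset.union_subset_union (Finset.image_subset_image h.2.2)
    (gate_mono _ (Finset.image_subset_image h.1))

theorem RB_sub_FB (i : Idx A B E) : RB i ⊆ FB i := Finset.subset_union_right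

theorem mem_RB_int {i : Idx A B E} {b : B} (hb : b ∈ i.1) :
    Polynomial.aeval (MvPolynomial.X b : Pol A B) (pInt A B b) ∈ RB i :=
  Finset.mem_union_left _ (Finset.mem_image.mpr ⟨b, hb, rfl⟩)

theorem mem_RB_surj {i : Idx A B E} {b : B} (hs : Function.Surjective (algebraMap A B))
    (hb : b ∈ i.1) :
    (MvPolynomial.X b - MvPolynomial.C (Function.invFun (algebraMap A B) b) : Pol A B) ∈ RB i :=
  Finset.mem_union_right _ (mem_gate.mpr ⟨hs, Finset.mem_image.mpr ⟨b, hb, rfl⟩⟩)

theorem mem_FH_surj {i : Idx A B E} {b : B} (hs : Function.Surjective (algebraMap A E))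
    (hb : b ∈ i.1) :
    (MvPolynomial.X b - MvPolynomial.C (Function.invFun (algebraMap A E) (algebraMap B E b)) :
      Pol A B) ∈ FH i :=
  Finset.mem_union_right _ (mem_gate.mpr ⟨hs, Finset.mem_image.mpr ⟨b, hb, rfl⟩⟩)

theorem RB_killB (i : Idx A B E) : ∀ f ∈ RB i, πB A B f = 0 := by
  intro f hf
  rw [RB, Finset.mem_union] at hf
  rcases hf with hf | hf
  · obtain ⟨b, _, rfl⟩ := Finset.mem_image.mp hf
    rw [← Polynomial.aeval_algHom_apply, πB_X, pInt_aeval]
  · rw [mem_gate] at hf
    obtain ⟨hs, hf⟩ := hf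
    obtain ⟨b, _, rfl⟩ := Finset.mem_image.mp hf
    rw [map_sub, πB_X, πB_C, Function.rightInverse_invFun hs b, sub_self]

theorem FB_killB (i : Idx A B E) : ∀ f ∈ (FB i : Set (Pol A B)), πB A B f = 0 := by
  intro f hf
  rw [Finset.mem_coe, FB, Finset.mem_union] at hf
  rcases hf with hf | hf
  · obtain ⟨k, _, rfl⟩ := Finset.mem_image.mp hf
    exact k.h
  · exact RB_killB i f hf

theorem FB_killC (i : Idx A B E) : ∀ f ∈ (FB i : Set (Pol A B)), πC A B E f = 0 := by
  intro f hf
  rw [πC_apply, FB_killB i f hf, map_zero]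

theorem FH_killC (i : Idx A B E) : ∀ f ∈ (FH i : Set (Pol A B)), πC A B E f = 0 := by
  intro f hf
  rw [Finset.mem_coe, FH, Finset.mem_union] at hf
  rcases hf with hf | hf
  · obtain ⟨k, _, rfl⟩ := Finset.mem_image.mp hf
    exact k.h
  · rw [mem_gate] at hf
    obtain ⟨hs, hf⟩ := hf
    obtain ⟨b, _, rfl⟩ := Finset.mem_image.mp hf
    rw [πC_apply, map_sub, πB_X, πB_C, map_sub, ← IsScalarTower.algebraMap_apply,
      Function.rightInverse_invFun hs _, sub_self]

/-- the family for `B` -/
noncomputable def famB (m : ℕ) : Fam A B (Idx A B E) where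
  U := U
  I i := idl (U i) (FB i : Set (Pol A B)) ⊔ (idl (U i) (FH i : Set (Pol A B))) ^ (m + 1)
  hU h := U_mono h
  hI h := sup_le
    ((idl_le_comap (U_mono h) (Finset.coe_subset.mpr (FB_mono h))).trans
      (Ideal.comap_mono le_sup_left))
    ((idl_pow_le_comap (U_mono h) (Finset.coe_subset.mpr (FH_mono h)) (m + 1)).trans
      (Ideal.comap_mono le_sup_right))

/-- the family for `E` -/
noncomputable def famC : Fam A B (Idx A B E) where
  U := U
  I i := idl (U i) (FB i : Set (Pol A B)) ⊔ idl (U i) (FH i : Set (Pol A B))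
  hU h := U_mono h
  hI h := sup_le
    ((idl_le_comap (U_mono h) (Finset.coe_subset.mpr (FB_mono h))).trans
      (Ideal.comap_mono le_sup_left))
    ((idl_le_comap (U_mono h) (Finset.coe_subset.mpr (FH_mono h))).trans
      (Ideal.comap_mono le_sup_right))

theorem hUU (m : ℕ) (i : Idx A B E) :
    (famB (A := A) (B := B) (E := E) m).U i ⊆ (famC (A := A) (B := B) (E := E)).U i :=
  subset_rfl

theorem hII (m : ℕ) (i : Idx A B E) :
    (famB (A := A) (B := B) (E := E) m).I i ≤
      ((famC (A := A) (B := B) (E := E)).I i).comap (incl (A := A) (hUU m i)) :=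
  sup_le
    ((idl_le_comap (subset_refl (U i)) (subset_refl _)).trans (Ideal.comap_mono le_sup_left))
    ((Ideal.pow_le_self (Nat.succ_ne_zero m)).trans
      ((idl_le_comap (subset_refl (U i)) (subset_refl _)).trans (Ideal.comap_mono le_sup_right)))

theorem hkerB (m : ℕ) (hm : (RingHom.ker (algebraMap B E)) ^ (m + 1) = ⊥) (i : Idx A B E) :
    ∀ x ∈ (famB (A := A) (B := B) (E := E) m).I i, πB A B (x : Pol A B) = 0 := by
  have h1 : idl (U i) (FB i : Set (Pol A B)) ≤
      RingHom.ker ((πB A B).comp (Sp A (U i)).val).toRingHom :=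
    fun x hx => RingHom.mem_ker.mpr (idl_kills (πB A B) _ _ (FB_killB i) x hx)
  have h2 : idl (U i) (FH i : Set (Pol A B)) ≤
      (RingHom.ker (algebraMap B E)).comap ((πB A B).comp (Sp A (U i)).val).toRingHom := by
    intro x hx
    rw [Ideal.mem_comap, RingHom.mem_ker]
    exact idl_kills (πC A B E) _ _ (FH_killC i) x hx
  have h3 : (idl (U i) (FH i : Set (Pol A B))) ^ (m + 1) ≤
      RingHom.ker ((πB A B).comp (Sp A (U i)).val).toRingHom := by
    refine (Ideal.pow_right_mono h2 (m + 1)).trans ((Ideal.le_comap_pow _ (m + 1)).trans ?_)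
    rw [hm]
    intro x hx
    exact RingHom.mem_ker.mpr (Ideal.mem_bot.mp (Ideal.mem_comap.mp hx))
  intro x hx
  exact RingHom.mem_ker.mp (sup_le h1 h3 hx)

theorem hkerC (i : Idx A B E) :
    ∀ x ∈ (famC (A := A) (B := B) (E := E)).I i, πC A B E (x : Pol A B) = 0 := by
  have h1 : idl (U i) (FB i : Set (Pol A B)) ≤
      RingHom.ker ((πC A B E).comp (Sp A (U i)).val).toRingHom :=
    fun x hx => RingHom.mem_ker.mpr (idl_kills (πC A B E) _ _ (FB_killC i) x hx)
  have h2 : idl (U i) (FH i : Set (Pol A B)) ≤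
      RingHom.ker ((πC A B E).comp (Sp A (U i)).val).toRingHom :=
    fun x hx => RingHom.mem_ker.mpr (idl_kills (πC A B E) _ _ (FH_killC i) x hx)
  intro x hx
  exact RingHom.mem_ker.mp (sup_le h1 h2 hx)

theorem hN2 (m : ℕ) (i : Idx A B E) :
    IsNilpotent (RingHom.ker (cmp (famB (A := A) (B := B) (E := E) m)
      (famC (A := A) (B := B) (E := E)) (hUU m) (hII m) i).toRingHom) := by
  refine ⟨m + 1, ?_⟩
  rw [Ideal.zero_eq_bot]
  refine ker_quotientMap_pow_eq_bot (incl (A := A) (hUU m i)).toRingHom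
    ((famB (A := A) (B := B) (E := E) m).I i) ((famC (A := A) (B := B) (E := E)).I i) (hII m i)
    (idl (U i) (FH i : Set (Pol A B))) (m + 1) ?_ le_sup_right
  intro x hx
  have hx' : incl (A := A) (subset_refl (U i)) x ∈
      idl (U i) (FB i : Set (Pol A B)) ⊔ idl (U i) (FH i : Set (Pol A B)) := Ideal.mem_comap.mp hx
  have e : incl (A := A) (subset_refl (U i)) x = x := Subtype.ext (coe_incl _ x)
  rw [e] at hx'
  obtain ⟨y, hy, w, hw, rfl⟩ := Submodule.mem_sup.mp hx'
  exact Submodule.add_mem_sup (Ideal.mem_sup_left hy) hw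

theorem main (hs : Function.Surjective (algebraMap B E)) (m : ℕ)
    (hm : (RingHom.ker (algebraMap B E)) ^ (m + 1) = ⊥) :
    ∃ (ι : Type u) (_ : SmallCategory ι) (_ : IsFiltered ι)
      (DB DC : ι ⥤ Under (CommRingCat.of A)) (τ : DB ⟶ DC)
      (cB : DB ⟶ (Functor.const ι).obj (Under.mk (CommRingCat.ofHom (algebraMap A B))))
      (cC : DC ⟶ (Functor.const ι).obj (Under.mk (CommRingCat.ofHom (algebraMap A E)))),
      Nonempty (IsColimit (Cocone.mk _ cB)) ∧ Nonempty (IsColimit (Cocone.mk _ cC)) ∧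
      (∀ i, (τ.app i).right ≫ (cC.app i).right =
        (cB.app i).right ≫ CommRingCat.ofHom (algebraMap B E)) ∧
      (∀ i, (DB.obj i).hom.hom.Finite ∧ (DB.obj i).hom.hom.FinitePresentation ∧
        (DC.obj i).hom.hom.Finite ∧ (DC.obj i).hom.hom.FinitePresentation) ∧
      (Function.Surjective (algebraMap A B) → ∀ i, Function.Surjective (DB.obj i).hom.hom) ∧
      (Function.Surjective (algebraMap B E) → ∀ i, Function.Surjective (τ.app i).right.hom) ∧
      (Function.Surjective (algebraMap A E) → ∀ i, Function.Surjective (DC.obj i).hom.hom) ∧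
      (Function.Surjective (algebraMap A B) → IsNilpotent (RingHom.ker (algebraMap A B)) →
        ∀ i, Function.Surjective (DB.obj i).hom.hom ∧
          IsNilpotent (RingHom.ker (DB.obj i).hom.hom)) ∧
      (Function.Surjective (algebraMap B E) → IsNilpotent (RingHom.ker (algebraMap B E)) →
        ∀ i, Function.Surjective (τ.app i).right.hom ∧
          IsNilpotent (RingHom.ker (τ.app i).right.hom)) ∧
      (Function.Surjective (algebraMap A E) → IsNilpotent (RingHom.ker (algebraMap A E)) →
        ∀ i, Function.Surjective (DC.obj i).hom.hom ∧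
          IsNilpotent (RingHom.ker (DC.obj i).hom.hom)) := by
  refine assemble (famB (A := A) (B := B) (E := E) m) (famC (A := A) (B := B) (E := E))
    (hUU m) (hII m) (πB A B) (πC A B E)
    (hkerB m hm) hkerC
    (fun i x => rfl) ?_ ?_ ?_ ?_ U_finite U_finite
    (fun i => Submodule.FG.sup (idl_fg _ _) (fg_pow' (idl_fg _ _) _))
    (fun i => Submodule.FG.sup (idl_fg _ _) (idl_fg _ _))
    ?_ ?_ ?_ ?_ ?_ (fun _ _ i => hN2 m i)
  · -- hsurjB
    intro b
    exact ⟨({b}, (∅, ∅)), Xs b (Finset.mem_coe.mpr (Finset.mem_singleton_self b)), πB_X b⟩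
  · -- hinjB
    intro i x hx
    obtain ⟨F', hF', hk⟩ : ∃ F' : Finset (KB A B), i.2.1 ⊆ F' ∧
        (⟨x.1, hx⟩ : KB A B) ∈ F' :=
      ⟨insert _ i.2.1, Finset.subset_insert _ _, Finset.mem_insert_self _ _⟩
    refine ⟨(i.1, (F', i.2.2)), ⟨le_rfl, hF', le_rfl⟩, ?_⟩
    apply Ideal.mem_sup_left
    apply mem_idl
    rw [coe_incl]
    apply Finset.mem_coe.mpr
    apply Finset.mem_union_left
    exact Finset.mem_image.mpr ⟨(⟨x.1, hx⟩ : KB A B), hk, rfl⟩
  · -- hsurjC
    intro e
    obtain ⟨b, rfl⟩ := hs e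
    refine ⟨({b}, (∅, ∅)), Xs b (Finset.mem_coe.mpr (Finset.mem_singleton_self b)), ?_⟩
    show πC A B E (MvPolynomial.X b) = algebraMap B E b
    rw [πC_apply, πB_X]
  · -- hinjC
    intro i x hx
    obtain ⟨H', hH', hk⟩ : ∃ H' : Finset (KH A B E), i.2.2 ⊆ H' ∧
        (⟨x.1, hx⟩ : KH A B E) ∈ H' :=
      ⟨insert _ i.2.2, Finset.subset_insert _ _, Finset.mem_insert_self _ _⟩
    refine ⟨(i.1, (i.2.1, H')), ⟨le_rfl, le_rfl, hH'⟩, ?_⟩
    apply Ideal.mem_sup_right
    apply mem_idl
    rw [coe_incl]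
    apply Finset.mem_coe.mpr
    apply Finset.mem_union_left
    exact Finset.mem_image.mpr ⟨(⟨x.1, hx⟩ : KH A B E), hk, rfl⟩
  · -- hintB
    intro i u hu
    exact isIntegral_mk _ (FB i : Set (Pol A B)) le_sup_left u hu (pInt A B u) (pInt_monic A B u)
      (Finset.mem_coe.mpr (RB_sub_FB i (mem_RB_int (Finset.mem_coe.mp hu))))
  · -- hintC
    intro i u hu
    exact isIntegral_mk _ (FB i : Set (Pol A B)) le_sup_left u hu (pInt A B u) (pInt_monic A B u)
      (Finset.mem_coe.mpr (RB_sub_FB i (mem_RB_int (Finset.mem_coe.mp hu))))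
  · -- hS1
    intro hs1 i u hu
    exact ⟨Function.invFun (algebraMap A B) u,
      mk_eq_algebraMap _ (FB i : Set (Pol A B)) le_sup_left u hu _
        (Finset.mem_coe.mpr (RB_sub_FB i (mem_RB_surj hs1 (Finset.mem_coe.mp hu))))⟩
  · -- hS2
    intro _ i u hu
    refine ⟨Ideal.Quotient.mk _ (Xs u hu), ?_⟩
    exact congrArg (Ideal.Quotient.mk _) (incl_Xs (hUU m i) u hu)
  · -- hS3
    intro hs3 i u hu
    exact ⟨Function.invFun (algebraMap A E) (algebraMap B E u),
      mk_eq_algebraMap _ (FH i : Set (Pol A B)) le_sup_right u hu _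
        (Finset.mem_coe.mpr (mem_FH_surj hs3 (Finset.mem_coe.mp hu)))⟩

end CII

end H9IntColim
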