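import Groth.Agent.Lib.Helper9.IntColimD

/-! helper9: fibre products of two comparison maps of directed families of quotient presentations,
as a diagram in `Under (CommRingCat.of R)`, and its colimit. -/

open CategoryTheory CategoryTheory.Limits

universe u
set_option linter.style.haveILetI false
set_option linter.unusedSectionVars false
set_option linter.unusedVariables false

namespace H9IntColim

section RMap

variable {R : Type u} [CommRing R]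

/-- object of `Under R` from a ring hom -/
noncomputable abbrev robj {S : Type u} [CommRing S] (s : R →+* S) : Under (CommRingCat.of R) :=
  Under.mk (CommRingCat.ofHom s)

/-- morphism of `Under R` from a ring hom -/
noncomputable def rmap {S T : Type u} [CommRing S] [CommRing T] {s : R →+* S} {t : R →+* T}
    (g : S →+* T) (hg : g.comp s = t) : robj s ⟶ robj t :=
  Under.homMk (CommRingCat.ofHom g) (by rw [← hg]; rfl)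

theorem rmap_congr {S T : Type u} [CommRing S] [CommRing T] {s : R →+* S} {t : R →+* T}
    {g g' : S →+* T} (hg : g.comp s = t) (hg' : g'.comp s = t) (h : g = g') :
    rmap g hg = rmap g' hg' := by
  subst h; rfl

theorem rmap_id {S : Type u} [CommRing S] (s : R →+* S) :
    rmap (RingHom.id S) (RingHom.id_comp s) = 𝟙 (robj s) := by
  apply Under.UnderMorphism.ext
  rfl

theorem rmap_comp {S T V : Type u} [CommRing S] [CommRing T] [CommRing V]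
    {s : R →+* S} {t : R →+* T} {v : R →+* V}
    (g : S →+* T) (g' : T →+* V) (hg : g.comp s = t) (hg' : g'.comp t = v) :
    rmap (g'.comp g) (by rw [RingHom.comp_assoc, hg, hg']) = rmap g hg ≫ rmap g' hg' := by
  apply Under.UnderMorphism.ext
  rfl

end RMap

section PB

variable {R : Type u} [CommRing R] {σ : Type u} {ι : Type u} [Preorder ι]
  (𝔉B 𝔉D' 𝔉D : Fam R σ ι)
  (hUB : ∀ j, 𝔉B.U j ⊆ 𝔉D.U j)
  (hIB : ∀ j, 𝔉B.I j ≤ (𝔉D.I j).comap (incl (A := R) (hUB j)))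
  (hUD' : ∀ j, 𝔉D'.U j ⊆ 𝔉D.U j)
  (hID' : ∀ j, 𝔉D'.I j ≤ (𝔉D.I j).comap (incl (A := R) (hUD' j)))

/-- the fibre product ring at stage `j` -/
noncomputable abbrev EL (j : ι) : Subring (𝔉B.Q j × 𝔉D'.Q j) :=
  RingHom.eqLocus
    ((cmp 𝔉B 𝔉D hUB hIB j).toRingHom.comp (RingHom.fst (𝔉B.Q j) (𝔉D'.Q j)))
    ((cmp 𝔉D' 𝔉D hUD' hID' j).toRingHom.comp (RingHom.snd (𝔉B.Q j) (𝔉D'.Q j)))

theorem EL_prop (j : ι) (x : ↥(EL 𝔉B 𝔉D' 𝔉D hUB hIB hUD' hID' j)) :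
    cmp 𝔉B 𝔉D hUB hIB j x.1.1 = cmp 𝔉D' 𝔉D hUD' hID' j x.1.2 := x.2

/-- the structure map of the fibre product ring -/
noncomputable def sm (j : ι) : R →+* ↥(EL 𝔉B 𝔉D' 𝔉D hUB hIB hUD' hID' j) :=
  (RingHom.prod (algebraMap R (𝔉B.Q j)) (algebraMap R (𝔉D'.Q j))).codRestrict
    (EL 𝔉B 𝔉D' 𝔉D hUB hIB hUD' hID' j) (fun r => by
      show cmp 𝔉B 𝔉D hUB hIB j (algebraMap R _ r) = cmp 𝔉D' 𝔉D hUD' hID' j (algebraMap R _ r)
      rw [AlgHom.commutes, AlgHom.commutes])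

/-- transition maps of the fibre product rings -/
noncomputable def Emap {j k : ι} (h : j ≤ k) :
    ↥(EL 𝔉B 𝔉D' 𝔉D hUB hIB hUD' hID' j) →+* ↥(EL 𝔉B 𝔉D' 𝔉D hUB hIB hUD' hID' k) :=
  ((RingHom.prodMap (𝔉B.tr h).toRingHom (𝔉D'.tr h).toRingHom).comp
    (EL 𝔉B 𝔉D' 𝔉D hUB hIB hUD' hID' j).subtype).codRestrict
    (EL 𝔉B 𝔉D' 𝔉D hUB hIB hUD' hID' k) (fun x => by
      have hx := EL_prop 𝔉B 𝔉D' 𝔉D hUB hIB hUD' hID' j x
      have e1 := AlgHom.congr_fun (cmp_tr 𝔉B 𝔉D hUB hIB h) x.1.1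
      have e2 := AlgHom.congr_fun (cmp_tr 𝔉D' 𝔉D hUD' hID' h) x.1.2
      exact e1.trans ((congrArg (𝔉D.tr h) hx).trans e2.symm))

theorem Emap_val {j k : ι} (h : j ≤ k) (x : ↥(EL 𝔉B 𝔉D' 𝔉D hUB hIB hUD' hID' j)) :
    (Emap 𝔉B 𝔉D' 𝔉D hUB hIB hUD' hID' h x).1 = (𝔉B.tr h x.1.1, 𝔉D'.tr h x.1.2) := rfl

theorem Emap_sm {j k : ι} (h : j ≤ k) :
    (Emap 𝔉B 𝔉D' 𝔉D hUB hIB hUD' hID' h).comp (sm 𝔉B 𝔉D' 𝔉D hUB hIB hUD' hID' j) =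
      sm 𝔉B 𝔉D' 𝔉D hUB hIB hUD' hID' k := by
  refine RingHom.ext (fun r => Subtype.ext (Prod.ext ?_ ?_))
  · exact (𝔉B.tr h).commutes r
  · exact (𝔉D'.tr h).commutes r

theorem Emap_id (j : ι) :
    Emap 𝔉B 𝔉D' 𝔉D hUB hIB hUD' hID' (le_refl j) = RingHom.id _ := by
  refine RingHom.ext (fun x => Subtype.ext (Prod.ext ?_ ?_))
  · exact AlgHom.congr_fun (𝔉B.tr_id j) x.1.1
  · exact AlgHom.congr_fun (𝔉D'.tr_id j) x.1.2

theorem Emap_comp {j k l : ι} (h : j ≤ k) (h' : k ≤ l) :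
    Emap 𝔉B 𝔉D' 𝔉D hUB hIB hUD' hID' (h.trans h') =
      (Emap 𝔉B 𝔉D' 𝔉D hUB hIB hUD' hID' h').comp (Emap 𝔉B 𝔉D' 𝔉D hUB hIB hUD' hID' h) := by
  refine RingHom.ext (fun x => Subtype.ext (Prod.ext ?_ ?_))
  · exact AlgHom.congr_fun (𝔉B.tr_comp h h') x.1.1
  · exact AlgHom.congr_fun (𝔉D'.tr_comp h h') x.1.2

/-- the diagram of fibre product rings -/
noncomputable def DP : ι ⥤ Under (CommRingCat.of R) where
  obj j := robj (S := ↥(EL 𝔉B 𝔉D' 𝔉D hUB hIB hUD' hID' j)) (sm 𝔉B 𝔉D' 𝔉D hUB hIB hUD' hID' j)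
  map {j k} h := rmap (S := ↥(EL 𝔉B 𝔉D' 𝔉D hUB hIB hUD' hID' j))
    (T := ↥(EL 𝔉B 𝔉D' 𝔉D hUB hIB hUD' hID' k))
    (Emap 𝔉B 𝔉D' 𝔉D hUB hIB hUD' hID' (leOfHom h))
    (Emap_sm 𝔉B 𝔉D' 𝔉D hUB hIB hUD' hID' (leOfHom h))
  map_id j := by
    have e := rmap_id (S := ↥(EL 𝔉B 𝔉D' 𝔉D hUB hIB hUD' hID' j))
      (sm 𝔉B 𝔉D' 𝔉D hUB hIB hUD' hID' j)
    refine Eq.trans ?_ e
    exact rmap_congr (S := ↥(EL 𝔉B 𝔉D' 𝔉D hUB hIB hUD' hID' j))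
      (T := ↥(EL 𝔉B 𝔉D' 𝔉D hUB hIB hUD' hID' j)) _ _
      (Emap_id 𝔉B 𝔉D' 𝔉D hUB hIB hUD' hID' j)
  map_comp {j k l} h h' := by
    have e := rmap_comp (S := ↥(EL 𝔉B 𝔉D' 𝔉D hUB hIB hUD' hID' j))
      (T := ↥(EL 𝔉B 𝔉D' 𝔉D hUB hIB hUD' hID' k)) (V := ↥(EL 𝔉B 𝔉D' 𝔉D hUB hIB hUD' hID' l))
      (Emap 𝔉B 𝔉D' 𝔉D hUB hIB hUD' hID' (leOfHom h))
      (Emap 𝔉B 𝔉D' 𝔉D hUB hIB hUD' hID' (leOfHom h'))
      (Emap_sm 𝔉B 𝔉D' 𝔉D hUB hIB hUD' hID' (leOfHom h))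
      (Emap_sm 𝔉B 𝔉D' 𝔉D hUB hIB hUD' hID' (leOfHom h'))
    refine Eq.trans ?_ e
    exact rmap_congr (S := ↥(EL 𝔉B 𝔉D' 𝔉D hUB hIB hUD' hID' j))
      (T := ↥(EL 𝔉B 𝔉D' 𝔉D hUB hIB hUD' hID' l)) _ _
      (Emap_comp 𝔉B 𝔉D' 𝔉D hUB hIB hUD' hID' (leOfHom h) (leOfHom h'))

/-- first projection -/
noncomputable def pr₁ : DP 𝔉B 𝔉D' 𝔉D hUB hIB hUD' hID' ⟶ 𝔉B.functor where
  app j := Under.homMk (U := (DP 𝔉B 𝔉D' 𝔉D hUB hIB hUD' hID').obj j) (V := 𝔉B.functor.obj j)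
    (CommRingCat.ofHom
      ((RingHom.fst (𝔉B.Q j) (𝔉D'.Q j)).comp (EL 𝔉B 𝔉D' 𝔉D hUB hIB hUD' hID' j).subtype))
    (by apply CommRingCat.hom_ext; apply RingHom.ext; intro r; rfl)
  naturality j k h := by
    apply Under.UnderMorphism.ext
    apply CommRingCat.hom_ext
    apply RingHom.ext
    intro x
    rfl

/-- second projection -/
noncomputable def pr₂ : DP 𝔉B 𝔉D' 𝔉D hUB hIB hUD' hID' ⟶ 𝔉D'.functor where
  app j := Under.homMk (U := (DP 𝔉B 𝔉D' 𝔉D hUB hIB hUD' hID').obj j) (V := 𝔉D'.functor.obj j)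
    (CommRingCat.ofHom
      ((RingHom.snd (𝔉B.Q j) (𝔉D'.Q j)).comp (EL 𝔉B 𝔉D' 𝔉D hUB hIB hUD' hID' j).subtype))
    (by apply CommRingCat.hom_ext; apply RingHom.ext; intro r; rfl)
  naturality j k h := by
    apply Under.UnderMorphism.ext
    apply CommRingCat.hom_ext
    apply RingHom.ext
    intro x
    rfl

theorem isPullback_stage (j : ι) :
    IsPullback ((pr₁ 𝔉B 𝔉D' 𝔉D hUB hIB hUD' hID').app j).right
      ((pr₂ 𝔉B 𝔉D' 𝔉D hUB hIB hUD' hID').app j).right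
      ((nat 𝔉B 𝔉D hUB hIB).app j).right ((nat 𝔉D' 𝔉D hUD' hID').app j).right :=
  IsPullback.of_isLimit (CommRingCat.pullbackConeIsLimit
    ((nat 𝔉B 𝔉D hUB hIB).app j).right ((nat 𝔉D' 𝔉D hUD' hID').app j).right)

end PB


section PBFacts

variable {R B D D' P : Type u} [CommRing R] [CommRing B] [CommRing D] [CommRing D'] [CommRing P]
  [Algebra R B] [Algebra R D] [Algebra R D'] [Algebra R P]
  (f : B →ₐ[R] D) (i : D' →ₐ[R] D) (q₁ : P →ₐ[R] B) (q₂ : P →ₐ[R] D')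
  (hP : IsPullback (CommRingCat.ofHom q₁.toRingHom) (CommRingCat.ofHom q₂.toRingHom)
    (CommRingCat.ofHom f.toRingHom) (CommRingCat.ofHom i.toRingHom))

include hP

theorem hP_w (p : P) : f (q₁ p) = i (q₂ p) :=
  congrArg (fun g => g.hom p) hP.w

theorem hP_exists (b : B) (t : D') (h : f b = i t) : ∃ p : P, q₁ p = b ∧ q₂ p = t := by
  let c := CommRingCat.pullbackCone (CommRingCat.ofHom f.toRingHom) (CommRingCat.ofHom i.toRingHom)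
  let L := hP.lift c.fst c.snd c.condition
  have h1 : L ≫ CommRingCat.ofHom q₁.toRingHom = c.fst := hP.lift_fst _ _ _
  have h2 : L ≫ CommRingCat.ofHom q₂.toRingHom = c.snd := hP.lift_snd _ _ _
  let x : c.pt := ⟨(b, t), h⟩
  refine ⟨L.hom x, ?_, ?_⟩
  · exact congrArg (fun g => g.hom x) h1
  · exact congrArg (fun g => g.hom x) h2

theorem hP_inj {p p' : P} (h1 : q₁ p = q₁ p') (h2 : q₂ p = q₂ p') : p = p' := by
  let c := CommRingCat.pullbackCone (CommRingCat.ofHom f.toRingHom) (CommRingCat.ofHom i.toRingHom)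
  let L := hP.lift c.fst c.snd c.condition
  let M : P →+* ↥(RingHom.eqLocus (f.toRingHom.comp (RingHom.fst B D'))
      (i.toRingHom.comp (RingHom.snd B D'))) :=
    (q₁.toRingHom.prod q₂.toRingHom).codRestrict _ (fun p => hP_w f i q₁ q₂ hP p)
  have hML : (CommRingCat.ofHom M : CommRingCat.of P ⟶ c.pt) ≫ L = 𝟙 _ := by
    apply hP.hom_ext
    · apply CommRingCat.hom_ext
      apply RingHom.ext
      intro p
      exact congrArg (fun g => g.hom (M p)) (hP.lift_fst c.fst c.snd c.condition)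
    · apply CommRingCat.hom_ext
      apply RingHom.ext
      intro p
      exact congrArg (fun g => g.hom (M p)) (hP.lift_snd c.fst c.snd c.condition)
  have e : ∀ p : P, L.hom (M p) = p := fun p => congrArg (fun g => g.hom p) hML
  rw [← e p, ← e p']
  congr 1
  exact Subtype.ext (Prod.ext h1 h2)

end PBFacts

theorem Fam.exists_tr_eq {A : Type u} [CommRing A] {σ ι : Type u} [Preorder ι] (𝔉 : Fam A σ ι)
    {T : Type u} [CommRing T] [Algebra A T] (π : MvPolynomial σ A →ₐ[A] T)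
    (hker : ∀ i, ∀ x ∈ 𝔉.I i, π x = 0)
    (hinj : ∀ i (x : ↥(Sp A (𝔉.U i))), π x = 0 → ∃ j, ∃ h : i ≤ j, incl (𝔉.hU h) x ∈ 𝔉.I j)
    {j : ι} (z z' : 𝔉.Q j) (h : 𝔉.toPt π hker j z = 𝔉.toPt π hker j z') :
    ∃ k, ∃ hk : j ≤ k, 𝔉.tr hk z = 𝔉.tr hk z' := by
  obtain ⟨a, rfl⟩ := Ideal.Quotient.mk_surjective z
  obtain ⟨a', rfl⟩ := Ideal.Quotient.mk_surjective z'
  have h0 : π (a : MvPolynomial σ A) = π (a' : MvPolynomial σ A) := h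
  have h' : π ((a - a' : ↥(Sp A (𝔉.U j))) : MvPolynomial σ A) = 0 := by
    rw [Subalgebra.coe_sub, map_sub, h0, sub_self]
  obtain ⟨k, hk, hz⟩ := hinj j (a - a') h'
  refine ⟨k, hk, ?_⟩
  rw [Fam.tr_mk, Fam.tr_mk, Ideal.Quotient.eq, ← map_sub]
  exact hz

section CoconeP

variable {R : Type u} [CommRing R] {σ : Type u} {ι : Type u} [Preorder ι]
  (𝔉B 𝔉D' 𝔉D : Fam R σ ι)
  (hUB : ∀ j, 𝔉B.U j ⊆ 𝔉D.U j)
  (hIB : ∀ j, 𝔉B.I j ≤ (𝔉D.I j).comap (incl (A := R) (hUB j)))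
  (hUD' : ∀ j, 𝔉D'.U j ⊆ 𝔉D.U j)
  (hID' : ∀ j, 𝔉D'.I j ≤ (𝔉D.I j).comap (incl (A := R) (hUD' j)))
  {B D D' P : Type u} [CommRing B] [CommRing D] [CommRing D'] [CommRing P]
  [Algebra R B] [Algebra R D] [Algebra R D'] [Algebra R P]
  (f : B →ₐ[R] D) (i : D' →ₐ[R] D) (q₁ : P →ₐ[R] B) (q₂ : P →ₐ[R] D')
  (hP : IsPullback (CommRingCat.ofHom q₁.toRingHom) (CommRingCat.ofHom q₂.toRingHom)
    (CommRingCat.ofHom f.toRingHom) (CommRingCat.ofHom i.toRingHom))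
  (πB : MvPolynomial σ R →ₐ[R] B) (πD' : MvPolynomial σ R →ₐ[R] D')
  (πD : MvPolynomial σ R →ₐ[R] D)
  (hkerB : ∀ j, ∀ x ∈ 𝔉B.I j, πB x = 0) (hkerD' : ∀ j, ∀ x ∈ 𝔉D'.I j, πD' x = 0)
  (hkerD : ∀ j, ∀ x ∈ 𝔉D.I j, πD x = 0)
  (compatB : ∀ j (x : ↥(Sp R (𝔉B.U j))), πD (x : MvPolynomial σ R) = f (πB x))
  (compatD' : ∀ j (x : ↥(Sp R (𝔉D'.U j))), πD (x : MvPolynomial σ R) = i (πD' x))

include hUB hIB hUD' hID' hP hkerB hkerD' hkerD compatB compatD'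

theorem f_toPt (j : ι) (z : 𝔉B.Q j) :
    f (𝔉B.toPt πB hkerB j z) = 𝔉D.toPt πD hkerD j (cmp 𝔉B 𝔉D hUB hIB j z) := by
  obtain ⟨a, rfl⟩ := Ideal.Quotient.mk_surjective z
  rw [cmp_mk, Fam.toPt_mk, Fam.toPt_mk, coe_incl]
  exact (compatB j a).symm

theorem i_toPt (j : ι) (z : 𝔉D'.Q j) :
    i (𝔉D'.toPt πD' hkerD' j z) = 𝔉D.toPt πD hkerD j (cmp 𝔉D' 𝔉D hUD' hID' j z) := by
  obtain ⟨a, rfl⟩ := Ideal.Quotient.mk_surjective z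
  rw [cmp_mk, Fam.toPt_mk, Fam.toPt_mk, coe_incl]
  exact (compatD' j a).symm

theorem pair_w (j : ι) (x : ↥(EL 𝔉B 𝔉D' 𝔉D hUB hIB hUD' hID' j)) :
    f (𝔉B.toPt πB hkerB j x.1.1) = i (𝔉D'.toPt πD' hkerD' j x.1.2) := by
  rw [f_toPt 𝔉B 𝔉D' 𝔉D hUB hIB hUD' hID' f i q₁ q₂ hP πB πD' πD hkerB hkerD' hkerD compatB compatD', i_toPt 𝔉B 𝔉D' 𝔉D hUB hIB hUD' hID' f i q₁ q₂ hP πB πD' πD hkerB hkerD' hkerD compatB compatD', EL_prop 𝔉B 𝔉D' 𝔉D hUB hIB hUD' hID' j x]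

/-- the map from the stage fibre product to `P` -/
noncomputable def lam (j : ι) :
    CommRingCat.of ↥(EL 𝔉B 𝔉D' 𝔉D hUB hIB hUD' hID' j) ⟶ CommRingCat.of P :=
  hP.lift
    (CommRingCat.ofHom ((𝔉B.toPt πB hkerB j).toRingHom.comp
      ((RingHom.fst (𝔉B.Q j) (𝔉D'.Q j)).comp (EL 𝔉B 𝔉D' 𝔉D hUB hIB hUD' hID' j).subtype)))
    (CommRingCat.ofHom ((𝔉D'.toPt πD' hkerD' j).toRingHom.comp
      ((RingHom.snd (𝔉B.Q j) (𝔉D'.Q j)).comp (EL 𝔉B 𝔉D' 𝔉D hUB hIB hUD' hID' j).subtype)))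
    (by
      apply CommRingCat.hom_ext
      apply RingHom.ext
      intro x
      exact pair_w 𝔉B 𝔉D' 𝔉D hUB hIB hUD' hID' f i q₁ q₂ hP πB πD' πD hkerB hkerD' hkerD compatB compatD' j x)

theorem q₁_lam (j : ι) (x : ↥(EL 𝔉B 𝔉D' 𝔉D hUB hIB hUD' hID' j)) :
    q₁ ((lam 𝔉B 𝔉D' 𝔉D hUB hIB hUD' hID' f i q₁ q₂ hP πB πD' πD hkerB hkerD' hkerD compatB compatD' j).hom x) = 𝔉B.toPt πB hkerB j x.1.1 :=
  congrArg (fun g : CommRingCat.of ↥(EL 𝔉B 𝔉D' 𝔉D hUB hIB hUD' hID' j) ⟶ CommRingCat.of B => g.hom x)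
    (hP.lift_fst _ _ _)

theorem q₂_lam (j : ι) (x : ↥(EL 𝔉B 𝔉D' 𝔉D hUB hIB hUD' hID' j)) :
    q₂ ((lam 𝔉B 𝔉D' 𝔉D hUB hIB hUD' hID' f i q₁ q₂ hP πB πD' πD hkerB hkerD' hkerD compatB compatD' j).hom x) = 𝔉D'.toPt πD' hkerD' j x.1.2 :=
  congrArg (fun g : CommRingCat.of ↥(EL 𝔉B 𝔉D' 𝔉D hUB hIB hUD' hID' j) ⟶ CommRingCat.of D' => g.hom x)
    (hP.lift_snd _ _ _)

/-- the cocone over the diagram of fibre products -/
noncomputable def coconeP :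
    DP 𝔉B 𝔉D' 𝔉D hUB hIB hUD' hID' ⟶
      (Functor.const ι).obj (Under.mk (CommRingCat.ofHom (algebraMap R P))) where
  app j := Under.homMk (U := (DP 𝔉B 𝔉D' 𝔉D hUB hIB hUD' hID').obj j)
    (V := Under.mk (CommRingCat.ofHom (algebraMap R P)))
    (lam 𝔉B 𝔉D' 𝔉D hUB hIB hUD' hID' f i q₁ q₂ hP πB πD' πD hkerB hkerD' hkerD compatB compatD' j) (by
    apply CommRingCat.hom_ext
    apply RingHom.ext
    intro r
    apply hP_inj f i q₁ q₂ hP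
    · refine (q₁_lam 𝔉B 𝔉D' 𝔉D hUB hIB hUD' hID' f i q₁ q₂ hP πB πD' πD hkerB hkerD' hkerD compatB compatD' j _).trans ?_
      exact ((𝔉B.toPt πB hkerB j).commutes r).trans (q₁.commutes r).symm
    · refine (q₂_lam 𝔉B 𝔉D' 𝔉D hUB hIB hUD' hID' f i q₁ q₂ hP πB πD' πD hkerB hkerD' hkerD compatB compatD' j _).trans ?_
      exact ((𝔉D'.toPt πD' hkerD' j).commutes r).trans (q₂.commutes r).symm)
  naturality j k h := by
    apply Under.UnderMorphism.ext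
    apply CommRingCat.hom_ext
    apply RingHom.ext
    intro x
    apply hP_inj f i q₁ q₂ hP
    · refine (q₁_lam 𝔉B 𝔉D' 𝔉D hUB hIB hUD' hID' f i q₁ q₂ hP πB πD' πD hkerB hkerD' hkerD compatB compatD' k _).trans ?_
      refine Eq.trans ?_ (q₁_lam 𝔉B 𝔉D' 𝔉D hUB hIB hUD' hID' f i q₁ q₂ hP πB πD' πD hkerB hkerD' hkerD compatB compatD' j _).symm
      exact AlgHom.congr_fun (𝔉B.toPt_tr πB hkerB (leOfHom h)) _
    · refine (q₂_lam 𝔉B 𝔉D' 𝔉D hUB hIB hUD' hID' f i q₁ q₂ hP πB πD' πD hkerB hkerD' hkerD compatB compatD' k _).trans ?_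
      refine Eq.trans ?_ (q₂_lam 𝔉B 𝔉D' 𝔉D hUB hIB hUD' hID' f i q₁ q₂ hP πB πD' πD hkerB hkerD' hkerD compatB compatD' j _).symm
      exact AlgHom.congr_fun (𝔉D'.toPt_tr πD' hkerD' (leOfHom h)) _

/-- the diagram of fibre products has colimit `P` -/
noncomputable def isColimitP [IsDirected ι (· ≤ ·)] [Nonempty ι]
    (hsurjB : ∀ r : B, ∃ j, ∃ x : ↥(Sp R (𝔉B.U j)), πB x = r)
    (hinjB : ∀ j (x : ↥(Sp R (𝔉B.U j))), πB x = 0 →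
      ∃ k, ∃ h : j ≤ k, incl (𝔉B.hU h) x ∈ 𝔉B.I k)
    (hsurjD' : ∀ r : D', ∃ j, ∃ x : ↥(Sp R (𝔉D'.U j)), πD' x = r)
    (hinjD' : ∀ j (x : ↥(Sp R (𝔉D'.U j))), πD' x = 0 →
      ∃ k, ∃ h : j ≤ k, incl (𝔉D'.hU h) x ∈ 𝔉D'.I k)
    (hinjD : ∀ j (x : ↥(Sp R (𝔉D.U j))), πD x = 0 →
      ∃ k, ∃ h : j ≤ k, incl (𝔉D.hU h) x ∈ 𝔉D.I k) :
    IsColimit (Cocone.mk _ (coconeP 𝔉B 𝔉D' 𝔉D hUB hIB hUD' hID' f i q₁ q₂ hP πB πD' πD hkerB hkerD' hkerD compatB compatD')) := by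
  haveI : IsFiltered ι := inferInstance
  haveI : IsConnected ι := IsFiltered.isConnected ι
  apply isColimitOfReflects (Under.forget (CommRingCat.of R))
  haveI : PreservesColimitsOfShape ι (forget CommRingCat.{u}) :=
    PreservesFilteredColimitsOfSize.preserves_filtered_colimits ι
  haveI : ReflectsColimit (DP 𝔉B 𝔉D' 𝔉D hUB hIB hUD' hID' ⋙ Under.forget (CommRingCat.of R))
      (forget CommRingCat.{u}) :=
    reflectsColimit_of_reflectsIsomorphisms _ _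
  apply isColimitOfReflects (forget CommRingCat.{u})
  apply Types.FilteredColimit.isColimitOf'
  · intro (p : P)
    obtain ⟨j1, a, ha⟩ := hsurjB (q₁ p)
    obtain ⟨j2, a', ha'⟩ := hsurjD' (q₂ p)
    obtain ⟨j, h1, h2⟩ := exists_ge_ge j1 j2
    have hz : πD ((incl (hUB j) (incl (𝔉B.hU h1) a) - incl (hUD' j) (incl (𝔉D'.hU h2) a') :
        ↥(Sp R (𝔉D.U j))) : MvPolynomial σ R) = 0 := by
      rw [Subalgebra.coe_sub, map_sub, coe_incl, coe_incl, coe_incl, coe_incl, compatB j1 a,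
        compatD' j2 a', ha, ha', hP_w f i q₁ q₂ hP p, sub_self]
    obtain ⟨k, hk, hzk⟩ := hinjD j _ hz
    have hx : cmp 𝔉B 𝔉D hUB hIB k (Ideal.Quotient.mk _ (incl (𝔉B.hU (h1.trans hk)) a)) =
        cmp 𝔉D' 𝔉D hUD' hID' k (Ideal.Quotient.mk _ (incl (𝔉D'.hU (h2.trans hk)) a')) := by
      rw [cmp_mk, cmp_mk, Ideal.Quotient.eq]
      have e : (incl (hUB k) (incl (𝔉B.hU (h1.trans hk)) a) -
          incl (hUD' k) (incl (𝔉D'.hU (h2.trans hk)) a') : ↥(Sp R (𝔉D.U k))) =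
          incl (𝔉D.hU hk) (incl (hUB j) (incl (𝔉B.hU h1) a) -
            incl (hUD' j) (incl (𝔉D'.hU h2) a')) := by
        apply Subtype.ext
        simp only [coe_incl, Subalgebra.coe_sub]
      rw [e]
      exact hzk
    refine ⟨k, (⟨(Ideal.Quotient.mk _ (incl (𝔉B.hU (h1.trans hk)) a),
      Ideal.Quotient.mk _ (incl (𝔉D'.hU (h2.trans hk)) a')), hx⟩ : ↥(EL 𝔉B 𝔉D' 𝔉D hUB hIB hUD' hID' k)), ?_⟩
    apply hP_inj f i q₁ q₂ hP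
    · refine Eq.trans ?_ (q₁_lam 𝔉B 𝔉D' 𝔉D hUB hIB hUD' hID' f i q₁ q₂ hP πB πD' πD hkerB hkerD' hkerD compatB compatD' k _).symm
      show q₁ p = πB ((incl (𝔉B.hU (h1.trans hk)) a : ↥(Sp R (𝔉B.U k))) : MvPolynomial σ R)
      rw [coe_incl, ha]
    · refine Eq.trans ?_ (q₂_lam 𝔉B 𝔉D' 𝔉D hUB hIB hUD' hID' f i q₁ q₂ hP πB πD' πD hkerB hkerD' hkerD compatB compatD' k _).symm
      show q₂ p = πD' ((incl (𝔉D'.hU (h2.trans hk)) a' : ↥(Sp R (𝔉D'.U k))) : MvPolynomial σ R)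
      rw [coe_incl, ha']
  · intro j (x : ↥(EL 𝔉B 𝔉D' 𝔉D hUB hIB hUD' hID' j)) (y : ↥(EL 𝔉B 𝔉D' 𝔉D hUB hIB hUD' hID' j)) h
    have h0 : (lam 𝔉B 𝔉D' 𝔉D hUB hIB hUD' hID' f i q₁ q₂ hP πB πD' πD hkerB hkerD' hkerD compatB compatD' j).hom x = (lam 𝔉B 𝔉D' 𝔉D hUB hIB hUD' hID' f i q₁ q₂ hP πB πD' πD hkerB hkerD' hkerD compatB compatD' j).hom y := h
    have hb : 𝔉B.toPt πB hkerB j x.1.1 = 𝔉B.toPt πB hkerB j y.1.1 := by
      rw [← q₁_lam 𝔉B 𝔉D' 𝔉D hUB hIB hUD' hID' f i q₁ q₂ hP πB πD' πD hkerB hkerD' hkerD compatB compatD' j x, ← q₁_lam 𝔉B 𝔉D' 𝔉D hUB hIB hUD' hID' f i q₁ q₂ hP πB πD' πD hkerB hkerD' hkerD compatB compatD' j y, h0]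
    have hd : 𝔉D'.toPt πD' hkerD' j x.1.2 = 𝔉D'.toPt πD' hkerD' j y.1.2 := by
      rw [← q₂_lam 𝔉B 𝔉D' 𝔉D hUB hIB hUD' hID' f i q₁ q₂ hP πB πD' πD hkerB hkerD' hkerD compatB compatD' j x, ← q₂_lam 𝔉B 𝔉D' 𝔉D hUB hIB hUD' hID' f i q₁ q₂ hP πB πD' πD hkerB hkerD' hkerD compatB compatD' j y, h0]
    obtain ⟨k1, hk1, e1⟩ := 𝔉B.exists_tr_eq πB hkerB hinjB _ _ hb
    obtain ⟨k2, hk2, e2⟩ := 𝔉D'.exists_tr_eq πD' hkerD' hinjD' _ _ hd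
    obtain ⟨k, hk1', hk2'⟩ := exists_ge_ge k1 k2
    refine ⟨k, homOfLE (hk1.trans hk1'), ?_⟩
    show Emap 𝔉B 𝔉D' 𝔉D hUB hIB hUD' hID' (hk1.trans hk1') x = Emap 𝔉B 𝔉D' 𝔉D hUB hIB hUD' hID' (hk1.trans hk1') y
    apply Subtype.ext
    apply Prod.ext
    · show 𝔉B.tr (hk1.trans hk1') x.1.1 = 𝔉B.tr (hk1.trans hk1') y.1.1
      rw [𝔉B.tr_comp hk1 hk1']
      exact congrArg (𝔉B.tr hk1') e1
    · show 𝔉D'.tr (hk1.trans hk1') x.1.2 = 𝔉D'.tr (hk1.trans hk1') y.1.2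
      have : 𝔉D'.tr (hk1.trans hk1') = 𝔉D'.tr (hk2.trans hk2') := rfl
      rw [this, 𝔉D'.tr_comp hk2 hk2']
      exact congrArg (𝔉D'.tr hk2') e2

end CoconeP

section Assemble2

variable {R : Type u} [CommRing R] {σ ι : Type u} [Preorder ι] [IsDirected ι (· ≤ ·)] [Nonempty ι]
  {B D D' P : Type u} [CommRing B] [CommRing D] [CommRing D'] [CommRing P]
  [Algebra R B] [Algebra R D] [Algebra R D'] [Algebra R P]

theorem assemble2 (f : B →ₐ[R] D) (i : D' →ₐ[R] D) (q₁ : P →ₐ[R] B) (q₂ : P →ₐ[R] D')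
    (hP : IsPullback (CommRingCat.ofHom q₁.toRingHom) (CommRingCat.ofHom q₂.toRingHom)
      (CommRingCat.ofHom f.toRingHom) (CommRingCat.ofHom i.toRingHom))
    (𝔉B 𝔉D' 𝔉D : Fam R σ ι)
    (hUB : ∀ j, 𝔉B.U j ⊆ 𝔉D.U j)
    (hIB : ∀ j, 𝔉B.I j ≤ (𝔉D.I j).comap (incl (A := R) (hUB j)))
    (hUD' : ∀ j, 𝔉D'.U j ⊆ 𝔉D.U j)
    (hID' : ∀ j, 𝔉D'.I j ≤ (𝔉D.I j).comap (incl (A := R) (hUD' j)))
    (πB : MvPolynomial σ R →ₐ[R] B) (πD' : MvPolynomial σ R →ₐ[R] D')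
    (πD : MvPolynomial σ R →ₐ[R] D)
    (hkerB : ∀ j, ∀ x ∈ 𝔉B.I j, πB x = 0) (hkerD' : ∀ j, ∀ x ∈ 𝔉D'.I j, πD' x = 0)
    (hkerD : ∀ j, ∀ x ∈ 𝔉D.I j, πD x = 0)
    (compatB : ∀ j (x : ↥(Sp R (𝔉B.U j))), πD (x : MvPolynomial σ R) = f (πB x))
    (compatD' : ∀ j (x : ↥(Sp R (𝔉D'.U j))), πD (x : MvPolynomial σ R) = i (πD' x))
    (hsurjB : ∀ r : B, ∃ j, ∃ x : ↥(Sp R (𝔉B.U j)), πB x = r)
    (hinjB : ∀ j (x : ↥(Sp R (𝔉B.U j))), πB x = 0 →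
      ∃ k, ∃ h : j ≤ k, incl (𝔉B.hU h) x ∈ 𝔉B.I k)
    (hsurjD' : ∀ r : D', ∃ j, ∃ x : ↥(Sp R (𝔉D'.U j)), πD' x = r)
    (hinjD' : ∀ j (x : ↥(Sp R (𝔉D'.U j))), πD' x = 0 →
      ∃ k, ∃ h : j ≤ k, incl (𝔉D'.hU h) x ∈ 𝔉D'.I k)
    (hsurjD : ∀ r : D, ∃ j, ∃ x : ↥(Sp R (𝔉D.U j)), πD x = r)
    (hinjD : ∀ j (x : ↥(Sp R (𝔉D.U j))), πD x = 0 →
      ∃ k, ∃ h : j ≤ k, incl (𝔉D.hU h) x ∈ 𝔉D.I k)
    (hfinB : ∀ j, (𝔉B.U j).Finite) (hfinD' : ∀ j, (𝔉D'.U j).Finite)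
    (hfinD : ∀ j, (𝔉D.U j).Finite)
    (hFGB : ∀ j, (𝔉B.I j).FG) (hFGD' : ∀ j, (𝔉D'.I j).FG) (hFGD : ∀ j, (𝔉D.I j).FG)
    (hψ : ∀ j, Function.Surjective (cmp 𝔉D' 𝔉D hUD' hID' j) ∧
      ∀ x ∈ RingHom.ker (cmp 𝔉D' 𝔉D hUD' hID' j).toRingHom, IsNilpotent x)
    (h12 : Function.Surjective f → ∀ j, Function.Surjective (cmp 𝔉B 𝔉D hUB hIB j))
    (h13 : Function.Surjective f → (∀ x ∈ RingHom.ker f.toRingHom, IsNilpotent x) →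
      ∀ j, ∀ x ∈ RingHom.ker (cmp 𝔉B 𝔉D hUB hIB j).toRingHom, IsNilpotent x)
    (h14 : f.toRingHom.IsIntegral → ∀ j,
      @RingHom.IsIntegral (𝔉B.Q j) (𝔉D.Q j) _ _ (cmp 𝔉B 𝔉D hUB hIB j).toRingHom) :
    ∃ (ι : Type u) (_ : SmallCategory ι) (_ : IsFiltered ι) (DB DD DD' DP : ι ⥤ Under (CommRingCat.of R))
      (φ : DB ⟶ DD) (ψ : DD' ⟶ DD) (π₁ : DP ⟶ DB) (π₂ : DP ⟶ DD')
      (cB : DB ⟶ (Functor.const ι).obj (Under.mk (CommRingCat.ofHom (algebraMap R B))))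
      (cD : DD ⟶ (Functor.const ι).obj (Under.mk (CommRingCat.ofHom (algebraMap R D))))
      (cD' : DD' ⟶ (Functor.const ι).obj (Under.mk (CommRingCat.ofHom (algebraMap R D'))))
      (cP : DP ⟶ (Functor.const ι).obj (Under.mk (CommRingCat.ofHom (algebraMap R P)))),
      Nonempty (IsColimit (Cocone.mk _ cB)) ∧ Nonempty (IsColimit (Cocone.mk _ cD)) ∧
      Nonempty (IsColimit (Cocone.mk _ cD')) ∧ Nonempty (IsColimit (Cocone.mk _ cP)) ∧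
      (∀ j, (φ.app j).right ≫ (cD.app j).right = (cB.app j).right ≫ CommRingCat.ofHom f.toRingHom) ∧
      (∀ j, (ψ.app j).right ≫ (cD.app j).right = (cD'.app j).right ≫ CommRingCat.ofHom i.toRingHom) ∧
      (∀ j, (π₁.app j).right ≫ (cB.app j).right = (cP.app j).right ≫ CommRingCat.ofHom q₁.toRingHom) ∧
      (∀ j, (π₂.app j).right ≫ (cD'.app j).right = (cP.app j).right ≫ CommRingCat.ofHom q₂.toRingHom) ∧
      (∀ j, (DB.obj j).hom.hom.FinitePresentation ∧ (DD.obj j).hom.hom.FinitePresentation ∧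
        (DD'.obj j).hom.hom.FinitePresentation) ∧
      (∀ j, Function.Surjective (ψ.app j).right.hom ∧ ∀ x ∈ RingHom.ker (ψ.app j).right.hom, IsNilpotent x) ∧
      (∀ j, IsPullback (π₁.app j).right (π₂.app j).right (φ.app j).right (ψ.app j).right) ∧
      (Function.Surjective f → ∀ j, Function.Surjective (φ.app j).right.hom) ∧
      (Function.Surjective f → (∀ x ∈ RingHom.ker f.toRingHom, IsNilpotent x) →
        ∀ j, Function.Surjective (φ.app j).right.hom ∧ ∀ x ∈ RingHom.ker (φ.app j).right.hom, IsNilpotent x) ∧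
      (f.toRingHom.IsIntegral → ∀ j, (φ.app j).right.hom.IsIntegral) := by
  refine ⟨ι, inferInstance, inferInstance, 𝔉B.functor, 𝔉D.functor, 𝔉D'.functor, DP 𝔉B 𝔉D' 𝔉D hUB hIB hUD' hID',
    nat 𝔉B 𝔉D hUB hIB, nat 𝔉D' 𝔉D hUD' hID', pr₁ 𝔉B 𝔉D' 𝔉D hUB hIB hUD' hID', pr₂ 𝔉B 𝔉D' 𝔉D hUB hIB hUD' hID',
    𝔉B.coconeι πB hkerB, 𝔉D.coconeι πD hkerD, 𝔉D'.coconeι πD' hkerD', coconeP 𝔉B 𝔉D' 𝔉D hUB hIB hUD' hID' f i q₁ q₂ hP πB πD' πD hkerB hkerD' hkerD compatB compatD',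
    ⟨𝔉B.isColimit πB hkerB hsurjB hinjB⟩, ⟨𝔉D.isColimit πD hkerD hsurjD hinjD⟩,
    ⟨𝔉D'.isColimit πD' hkerD' hsurjD' hinjD'⟩,
    ⟨isColimitP 𝔉B 𝔉D' 𝔉D hUB hIB hUD' hID' f i q₁ q₂ hP πB πD' πD hkerB hkerD' hkerD compatB compatD' hsurjB hinjB hsurjD' hinjD' hinjD⟩,
    ?_, ?_, ?_, ?_, ?_, ?_, ?_, ?_, ?_, ?_⟩
  · intro j
    apply CommRingCat.hom_ext
    apply RingHom.ext
    intro (z : 𝔉B.Q j)
    exact (f_toPt 𝔉B 𝔉D' 𝔉D hUB hIB hUD' hID' f i q₁ q₂ hP πB πD' πD hkerB hkerD' hkerD compatB compatD' j z).symm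
  · intro j
    apply CommRingCat.hom_ext
    apply RingHom.ext
    intro (z : 𝔉D'.Q j)
    exact (i_toPt 𝔉B 𝔉D' 𝔉D hUB hIB hUD' hID' f i q₁ q₂ hP πB πD' πD hkerB hkerD' hkerD compatB compatD' j z).symm
  · intro j
    apply CommRingCat.hom_ext
    apply RingHom.ext
    intro (x : ↥(EL 𝔉B 𝔉D' 𝔉D hUB hIB hUD' hID' j))
    exact (q₁_lam 𝔉B 𝔉D' 𝔉D hUB hIB hUD' hID' f i q₁ q₂ hP πB πD' πD hkerB hkerD' hkerD compatB compatD' j x).symm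
  · intro j
    apply CommRingCat.hom_ext
    apply RingHom.ext
    intro (x : ↥(EL 𝔉B 𝔉D' 𝔉D hUB hIB hUD' hID' j))
    exact (q₂_lam 𝔉B 𝔉D' 𝔉D hUB hIB hUD' hID' f i q₁ q₂ hP πB πD' πD hkerB hkerD' hkerD compatB compatD' j x).symm
  · intro j
    refine ⟨?_, ?_, ?_⟩
    · show @RingHom.FinitePresentation R (𝔉B.Q j) _ _ (algebraMap R (𝔉B.Q j))
      exact RingHom.finitePresentation_algebraMap.mpr (Q_finitePresentation (hfinB j) _ (hFGB j))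
    · show @RingHom.FinitePresentation R (𝔉D.Q j) _ _ (algebraMap R (𝔉D.Q j))
      exact RingHom.finitePresentation_algebraMap.mpr (Q_finitePresentation (hfinD j) _ (hFGD j))
    · show @RingHom.FinitePresentation R (𝔉D'.Q j) _ _ (algebraMap R (𝔉D'.Q j))
      exact RingHom.finitePresentation_algebraMap.mpr
        (Q_finitePresentation (hfinD' j) _ (hFGD' j))
  · intro j
    exact hψ j
  · intro j
    exact isPullback_stage 𝔉B 𝔉D' 𝔉D hUB hIB hUD' hID' j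
  · intro hs j
    exact h12 hs j
  · intro hs hn j
    exact ⟨h12 hs j, h13 hs hn j⟩
  · intro hint j
    exact h14 hint j

end Assemble2

end H9IntColim
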