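import Groth.Agent.Lib.Helper9.IntColimE

/-! helper9: the presentation of a cospan `B → D ← D'` (with `D' → D` surjective with nil kernel)
as a filtered colimit of finitely presented cospans of the same kind. -/

open CategoryTheory CategoryTheory.Limits
open scoped Classical

universe u
set_option linter.style.haveILetI false
set_option linter.unusedSectionVars false
set_option linter.unusedVariables false

namespace H9IntColim

/-- gated set -/
def gateS {α : Type u} (c : Prop) (X : Set α) : Set α := {u | c ∧ u ∈ X}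

theorem comap_incl_idl_le {A : Type u} [CommRing A] {σ : Type u} {U U' : Set σ} (h : U ⊆ U')
    (h' : U' ⊆ U) (𝓕 : Set (MvPolynomial σ A)) :
    (idl U' 𝓕).comap (incl (A := A) h) ≤ idl U 𝓕 := by
  obtain rfl : U = U' := Set.Subset.antisymm h h'
  intro x hx
  have e : incl (A := A) h x = x := Subtype.ext (coe_incl _ x)
  have hx' := Ideal.mem_comap.mp hx
  rw [e] at hx'
  exact hx'

theorem Fam.ker_cmp_nil {A : Type u} [CommRing A] {σ ι : Type u} [Preorder ι]
    (𝔉 𝔉' : Fam A σ ι) (hUU : ∀ i, 𝔉.U i ⊆ 𝔉'.U i)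
    (hII : ∀ i, 𝔉.I i ≤ (𝔉'.I i).comap (incl (A := A) (hUU i))) (j : ι)
    (h' : 𝔉'.U j ⊆ 𝔉.U j) (𝓕 : Set (MvPolynomial σ A)) (hI' : 𝔉'.I j = idl (𝔉'.U j) 𝓕)
    (hpow : ∀ x : ↥(Sp A (𝔉.U j)), (x : MvPolynomial σ A) ∈ 𝓕 → ∃ n : ℕ, x ^ n ∈ 𝔉.I j) :
    ∀ z ∈ RingHom.ker (cmp 𝔉 𝔉' hUU hII j).toRingHom, IsNilpotent z := by
  intro z hz
  obtain ⟨x, rfl⟩ := Ideal.Quotient.mk_surjective z
  have hz' : Ideal.Quotient.mk (𝔉'.I j) (incl (A := A) (hUU j) x) = 0 := RingHom.mem_ker.mp hz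
  rw [Ideal.Quotient.eq_zero_iff_mem, hI'] at hz'
  have hx : x ∈ idl (𝔉.U j) 𝓕 := comap_incl_idl_le (hUU j) h' 𝓕 (Ideal.mem_comap.mpr hz')
  have hle : (idl (𝔉.U j) 𝓕).map (Ideal.Quotient.mk (𝔉.I j)) ≤
      nilradical (↥(Sp A (𝔉.U j)) ⧸ 𝔉.I j) := by
    unfold idl
    rw [Ideal.map_span, Ideal.span_le]
    rintro _ ⟨s, hs, rfl⟩
    obtain ⟨n, hn⟩ := hpow s hs
    exact mem_nilradical.mpr ⟨n, by rw [← map_pow]; exact Ideal.Quotient.eq_zero_iff_mem.mpr hn⟩
  exact mem_nilradical.mp (hle (Ideal.mem_map_of_mem _ hx))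

theorem Fam.cmp_isIntegral {A : Type u} [CommRing A] {σ ι : Type u} [Preorder ι]
    (𝔉 𝔉' : Fam A σ ι) (hUU : ∀ i, 𝔉.U i ⊆ 𝔉'.U i)
    (hII : ∀ i, 𝔉.I i ≤ (𝔉'.I i).comap (incl (A := A) (hUU i))) (j : ι)
    (h : ∀ u (hu : u ∈ 𝔉'.U j), @RingHom.IsIntegralElem (𝔉.Q j) (𝔉'.Q j) _ _
      (cmp 𝔉 𝔉' hUU hII j).toRingHom (Ideal.Quotient.mk (𝔉'.I j) (Xs u hu))) :
    @RingHom.IsIntegral (𝔉.Q j) (𝔉'.Q j) _ _ (cmp 𝔉 𝔉' hUU hII j).toRingHom := by
  intro y
  refine Q_induction (𝔉'.I j) (fun y => @RingHom.IsIntegralElem (𝔉.Q j) (𝔉'.Q j) _ _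
    (cmp 𝔉 𝔉' hUU hII j).toRingHom y) h ?_ ?_ ?_ y
  · intro a
    have e : algebraMap A (𝔉'.Q j) a =
        (cmp 𝔉 𝔉' hUU hII j).toRingHom (algebraMap A (𝔉.Q j) a) :=
      ((cmp 𝔉 𝔉' hUU hII j).commutes a).symm
    rw [e]
    exact RingHom.isIntegralElem_map _
  · intro x y hx hy
    exact @RingHom.IsIntegralElem.add (𝔉.Q j) (𝔉'.Q j) _ (Ideal.Quotient.commRing _) _ x y hx hy
  · intro x y hx hy
    exact @RingHom.IsIntegralElem.mul (𝔉.Q j) (𝔉'.Q j) _ (Ideal.Quotient.commRing _) _ x y hx hy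

theorem monic_rel_integral {Q Q' : Type u} [CommRing Q] [CommRing Q'] (φ : Q →+* Q') (Y : Q')
    (n : ℕ) (c : Fin n → Q) (h : Y ^ n + ∑ k : Fin n, φ (c k) * Y ^ (k : ℕ) = 0) :
    φ.IsIntegralElem Y := by
  refine ⟨Polynomial.X ^ n + ∑ k : Fin n, Polynomial.C (c k) * Polynomial.X ^ (k : ℕ),
    Polynomial.monic_X_pow_add (Polynomial.degree_sum_fin_lt c), ?_⟩
  simp only [Polynomial.eval₂_add, Polynomial.eval₂_pow, Polynomial.eval₂_X,
    Polynomial.eval₂_finsetSum, Polynomial.eval₂_mul, Polynomial.eval₂_C]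
  exact h

theorem Fam.isIntegralElem_of_rel {A : Type u} [CommRing A] {σ ι : Type u} [Preorder ι]
    (𝔉 𝔉' : Fam A σ ι) (hUU : ∀ i, 𝔉.U i ⊆ 𝔉'.U i)
    (hII : ∀ i, 𝔉.I i ≤ (𝔉'.I i).comap (incl (A := A) (hUU i))) (j : ι)
    (𝓕 : Set (MvPolynomial σ A)) (hI' : idl (𝔉'.U j) 𝓕 ≤ 𝔉'.I j)
    (u : σ) (hu : u ∈ 𝔉'.U j) (n : ℕ) (v : Fin n → σ) (hv : ∀ k, v k ∈ 𝔉.U j)
    (hrel : (MvPolynomial.X u ^ n + ∑ k : Fin n, MvPolynomial.X (v k) *
      MvPolynomial.X u ^ (k : ℕ) : MvPolynomial σ A) ∈ 𝓕) :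
    @RingHom.IsIntegralElem (𝔉.Q j) (𝔉'.Q j) _ _ (cmp 𝔉 𝔉' hUU hII j).toRingHom
      (Ideal.Quotient.mk (𝔉'.I j) (Xs u hu)) := by
  obtain ⟨φ, hφ⟩ : ∃ φ : 𝔉.Q j →+* 𝔉'.Q j, φ = (cmp 𝔉 𝔉' hUU hII j).toRingHom := ⟨_, rfl⟩
  rw [← hφ]
  obtain ⟨c, hc⟩ : ∃ c : Fin n → 𝔉.Q j,
      c = fun k => Ideal.Quotient.mk (𝔉.I j) (Xs (v k) (hv k)) := ⟨_, rfl⟩
  obtain ⟨Y, hY⟩ : ∃ Y : 𝔉'.Q j, Y = Ideal.Quotient.mk (𝔉'.I j) (Xs u hu) := ⟨_, rfl⟩
  rw [← hY]
  obtain ⟨w, hwdef⟩ : ∃ w : ↥(Sp A (𝔉'.U j)),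
      w = Xs u hu ^ n + ∑ k : Fin n, Xs (v k) (hUU j (hv k)) * Xs u hu ^ (k : ℕ) := ⟨_, rfl⟩
  have hw : w ∈ 𝔉'.I j := by
    apply hI'
    apply mem_idl
    have e : ((w : ↥(Sp A (𝔉'.U j))) : MvPolynomial σ A) =
        MvPolynomial.X u ^ n + ∑ k : Fin n, MvPolynomial.X (v k) *
          MvPolynomial.X u ^ (k : ℕ) := by
      show (Sp A (𝔉'.U j)).val w = _
      rw [hwdef]
      simp only [map_add, map_pow, map_sum, map_mul]
      rfl
    rw [e]
    exact hrel
  have hφc : ∀ k, φ (c k) = Ideal.Quotient.mk (𝔉'.I j) (Xs (v k) (hUU j (hv k))) := by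
    intro k
    rw [hφ, hc]
    exact congrArg (Ideal.Quotient.mk (𝔉'.I j)) (incl_Xs (hUU j) (v k) (hv k))
  have e2 : Ideal.Quotient.mk (𝔉'.I j) w = Y ^ n + ∑ k : Fin n, φ (c k) * Y ^ (k : ℕ) := by
    rw [hwdef, hY]
    simp only [map_add, map_pow, map_sum, map_mul, hφc]
  exact @monic_rel_integral (𝔉.Q j) (𝔉'.Q j) (Ideal.Quotient.commRing _)
    (Ideal.Quotient.commRing _) φ Y n c (e2.symm.trans (Ideal.Quotient.eq_zero_iff_mem.mpr hw))

namespace NP

/-- the polynomial ring -/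
abbrev Pol (R B D' : Type u) [CommRing R] := MvPolynomial (B ⊕ D') R

section Defs

variable {R B D D' : Type u} [CommRing R] [CommRing B] [CommRing D] [CommRing D']
  [Algebra R B] [Algebra R D] [Algebra R D'] (f : B →ₐ[R] D) (i : D' →ₐ[R] D)

/-- chosen lifts along `i` -/
noncomputable def dl : B → D' := fun b => Function.invFun (i : D' → D) (f b)

/-- chosen lifts along `f` -/
noncomputable def β : D' → B := fun t => Function.invFun (f : B → D) (i t)

/-- evaluation to `D'` -/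
noncomputable def πD' : Pol R B D' →ₐ[R] D' := MvPolynomial.aeval (Sum.elim (dl f i) id)

/-- evaluation to `D` -/
noncomputable def πD : Pol R B D' →ₐ[R] D := i.comp (πD' f i)

/-- evaluation to `B` -/
noncomputable def πB : Pol R B D' →ₐ[R] B := MvPolynomial.aeval (Sum.elim id (β f i))

theorem i_dl (hi : Function.Surjective i) (b : B) : i (dl f i b) = f b :=
  Function.rightInverse_invFun hi (f b)

theorem f_β (hf : Function.Surjective f) (t : D') : f (β f i t) = i t :=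
  Function.rightInverse_invFun hf (i t)

theorem πD'_inr (t : D') : πD' f i (MvPolynomial.X (Sum.inr t)) = t := by
  simp [πD']

theorem πD_inl (hi : Function.Surjective i) (b : B) :
    πD f i (MvPolynomial.X (Sum.inl b)) = f b := by
  simp [πD, πD', i_dl f i hi]

theorem πD_inr (t : D') : πD f i (MvPolynomial.X (Sum.inr t)) = i t := by
  simp [πD, πD']

theorem πB_inl (b : B) : πB f i (MvPolynomial.X (Sum.inl b)) = b := by
  simp [πB]

theorem πB_inr (t : D') : πB f i (MvPolynomial.X (Sum.inr t)) = β f i t := by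
  simp [πB]

theorem πD_eq_i (x : Pol R B D') : πD f i x = i (πD' f i x) := rfl

theorem compat_of (U : Set (B ⊕ D'))
    (hU : ∀ u ∈ U, πD f i (MvPolynomial.X u) = f (πB f i (MvPolynomial.X u)))
    (x : Pol R B D') (hx : x ∈ MvPolynomial.supported R U) :
    πD f i x = f (πB f i x) := by
  induction hx using Algebra.adjoin_induction with
  | mem y hy =>
    obtain ⟨u, hu, rfl⟩ := hy
    exact hU u hu
  | algebraMap r =>
    rw [AlgHom.commutes, AlgHom.commutes, AlgHom.commutes]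
  | add x y hx hy ihx ihy => rw [map_add, map_add, map_add, ihx, ihy]
  | mul x y hx hy ihx ihy => rw [map_mul, map_mul, map_mul, ihx, ihy]

theorem compat_global (hi : Function.Surjective i) (hf : Function.Surjective f)
    (x : Pol R B D') : πD f i x = f (πB f i x) := by
  refine compat_of f i Set.univ ?_ x (by rw [MvPolynomial.supported_univ]; exact Algebra.mem_top)
  rintro (b | t) _
  · rw [πD_inl f i hi, πB_inl]
  · rw [πD_inr, πB_inr, f_β f i hf]

/-- relations for `B` -/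
structure KB where
  /-- the polynomial -/
  val : Pol R B D'
  hB : πB f i val = 0
  hD : πD f i val = 0

/-- relations for `D'` -/
structure KD' where
  /-- the polynomial -/
  val : Pol R B D'
  h : πD' f i val = 0

/-- relations for `D` -/
structure KD where
  /-- the polynomial -/
  val : Pol R B D'
  h : πD f i val = 0

/-- the index type -/
abbrev Idx := (Finset B × Finset D') × (Finset (KB f i) × (Finset (KD' f i) × Finset (KD f i)))

/-- a chosen monic polynomial -/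
noncomputable def pf (t : D') : Polynomial B :=
  if h : f.toRingHom.IsIntegralElem (i t) then h.choose else 1

theorem pf_spec (hint : f.toRingHom.IsIntegral) (t : D') :
    (pf f i t).Monic ∧ Polynomial.eval₂ f.toRingHom (i t) (pf f i t) = 0 := by
  unfold pf
  rw [dif_pos (hint (i t))]
  exact (hint (i t)).choose_spec

/-- the coefficients of the chosen monic polynomial below the top -/
noncomputable def cf (t : D') : Finset B :=
  (Finset.range (pf f i t).natDegree).image (pf f i t).coeff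

/-- the integrality relation -/
noncomputable def Pt (t : D') : Pol R B D' :=
  MvPolynomial.X (Sum.inr t) ^ (pf f i t).natDegree +
    ∑ k : Fin (pf f i t).natDegree,
      MvPolynomial.X (Sum.inl ((pf f i t).coeff k)) * MvPolynomial.X (Sum.inr t) ^ (k : ℕ)

theorem Pt_kill (hi : Function.Surjective i) (hint : f.toRingHom.IsIntegral) (t : D') :
    πD f i (Pt f i t) = 0 := by
  have h2 := (pf_spec f i hint t).2
  rw [Polynomial.eval₂_eq_sum_range, Finset.sum_range_succ,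
    (pf_spec f i hint t).1.coeff_natDegree, map_one, one_mul] at h2
  rw [Pt, map_add, map_pow, map_sum, πD_inr]
  simp only [map_mul, map_pow, πD_inl f i hi, πD_inr]
  rw [Fin.sum_univ_eq_sum_range (fun k => f ((pf f i t).coeff k) * (i t) ^ k)
    (pf f i t).natDegree, add_comm]
  exact h2

/-- nilpotency exponents -/
noncomputable def nD' (k : Pol R B D') : ℕ :=
  if h : ∃ n : ℕ, (πD' f i k) ^ n = 0 then h.choose else 0

/-- nilpotency exponents -/
noncomputable def nB (k : Pol R B D') : ℕ :=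
  if h : ∃ n : ℕ, (πB f i k) ^ n = 0 then h.choose else 0

/-- the power relation -/
noncomputable def pw (k : Pol R B D') : Pol R B D' := k ^ (nD' f i k + nB f i k)

theorem pw_killD' (hnil : ∀ x ∈ RingHom.ker i.toRingHom, IsNilpotent x) (k : Pol R B D')
    (hk : πD f i k = 0) : πD' f i (pw f i k) = 0 := by
  have h : ∃ n : ℕ, (πD' f i k) ^ n = 0 := hnil _ (RingHom.mem_ker.mpr hk)
  have e : (πD' f i k) ^ (nD' f i k) = 0 := by
    unfold nD'
    rw [dif_pos h]
    exact h.choose_spec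
  rw [pw, map_pow, pow_add, e, zero_mul]

theorem pw_killD (hnil : ∀ x ∈ RingHom.ker i.toRingHom, IsNilpotent x) (k : Pol R B D')
    (hk : πD f i k = 0) : πD f i (pw f i k) = 0 := by
  rw [πD_eq_i, pw_killD' f i hnil k hk, map_zero]

theorem pw_killB (hi : Function.Surjective i) (hf : Function.Surjective f)
    (hfn : ∀ x ∈ RingHom.ker f.toRingHom, IsNilpotent x) (k : Pol R B D')
    (hk : πD f i k = 0) : πB f i (pw f i k) = 0 := by
  have h : ∃ n : ℕ, (πB f i k) ^ n = 0 :=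
    hfn _ (RingHom.mem_ker.mpr ((compat_global f i hi hf k).symm.trans hk))
  have e : (πB f i k) ^ (nB f i k) = 0 := by
    unfold nB
    rw [dif_pos h]
    exact h.choose_spec
  rw [pw, map_pow, pow_add, e, mul_zero]

/-- the `B`-variables -/
noncomputable def SB (j : Idx f i) : Finset B := j.1.1 ∪ j.1.2.biUnion (cf f i)

/-- the variable set for `D` and `D'` -/
def UD (j : Idx f i) : Set (B ⊕ D') :=
  Sum.inl '' (SB f i j : Set B) ∪ Sum.inr '' (j.1.2 : Set D')

/-- the variable set for `B` -/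
def UB (j : Idx f i) : Set (B ⊕ D') :=
  Sum.inl '' (SB f i j : Set B) ∪ gateS (Function.Surjective f) (Sum.inr '' (j.1.2 : Set D'))

/-- basic relations -/
noncomputable def K0 (j : Idx f i) : Finset (Pol R B D') :=
  ((j.2.1.image KB.val ∪ j.2.2.1.image KD'.val) ∪ j.2.2.2.image KD.val) ∪
    gate (f.toRingHom.IsIntegral) (j.1.2.image (Pt f i))

/-- power relations -/
noncomputable def W (j : Idx f i) : Finset (Pol R B D') := (K0 f i j).image (pw f i)

/-- relations for `B` -/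
noncomputable def FB (j : Idx f i) : Finset (Pol R B D') :=
  j.2.1.image KB.val ∪
    gate (Function.Surjective f ∧ ∀ x ∈ RingHom.ker f.toRingHom, IsNilpotent x) (W f i j)

/-- relations for `D'` -/
noncomputable def FD' (j : Idx f i) : Finset (Pol R B D') :=
  j.2.2.1.image KD'.val ∪ W f i j

/-- relations for `D` -/
noncomputable def FD (j : Idx f i) : Finset (Pol R B D') := K0 f i j ∪ W f i j

variable {f i}

theorem SB_mono {j k : Idx f i} (h : j ≤ k) : SB f i j ⊆ SB f i k :=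
  Finset.union_subset_union h.1.1 (Finset.biUnion_subset_biUnion_of_subset_left _ h.1.2)

theorem UD_mono {j k : Idx f i} (h : j ≤ k) : UD f i j ⊆ UD f i k :=
  Set.union_subset_union (Set.image_mono (Finset.coe_subset.mpr (SB_mono h)))
    (Set.image_mono (Finset.coe_subset.mpr h.1.2))

theorem UB_mono {j k : Idx f i} (h : j ≤ k) : UB f i j ⊆ UB f i k :=
  Set.union_subset_union (Set.image_mono (Finset.coe_subset.mpr (SB_mono h)))
    (fun u hu => ⟨hu.1, Set.image_mono (Finset.coe_subset.mpr h.1.2) hu.2⟩)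

theorem UB_sub_UD (j : Idx f i) : UB f i j ⊆ UD f i j :=
  Set.union_subset_union subset_rfl (fun u hu => hu.2)

theorem UD_sub_UB (hf : Function.Surjective f) (j : Idx f i) : UD f i j ⊆ UB f i j :=
  Set.union_subset_union subset_rfl (fun u hu => ⟨hf, hu⟩)

theorem UD_finite (j : Idx f i) : (UD f i j).Finite :=
  ((Finset.finite_toSet _).image _).union ((Finset.finite_toSet _).image _)

theorem UB_finite (j : Idx f i) : (UB f i j).Finite := (UD_finite j).subset (UB_sub_UD j)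

theorem K0_mono {j k : Idx f i} (h : j ≤ k) : K0 f i j ⊆ K0 f i k :=
  Finset.union_subset_union
    (Finset.union_subset_union
      (Finset.union_subset_union (Finset.image_subset_image h.2.1)
        (Finset.image_subset_image h.2.2.1))
      (Finset.image_subset_image h.2.2.2))
    (gate_mono _ (Finset.image_subset_image h.1.2))

theorem W_mono {j k : Idx f i} (h : j ≤ k) : W f i j ⊆ W f i k :=
  Finset.image_subset_image (K0_mono h)

theorem FB_mono {j k : Idx f i} (h : j ≤ k) : FB f i j ⊆ FB f i k :=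
  Finset.union_subset_union (Finset.image_subset_image h.2.1) (gate_mono _ (W_mono h))

theorem FD'_mono {j k : Idx f i} (h : j ≤ k) : FD' f i j ⊆ FD' f i k :=
  Finset.union_subset_union (Finset.image_subset_image h.2.2.1) (W_mono h)

theorem FD_mono {j k : Idx f i} (h : j ≤ k) : FD f i j ⊆ FD f i k :=
  Finset.union_subset_union (K0_mono h) (W_mono h)

theorem FB_sub_FD (j : Idx f i) : FB f i j ⊆ FD f i j := by
  intro x hx
  rcases Finset.mem_union.mp hx with hx | hx
  · exact Finset.mem_union_left _ (Finset.mem_union_left _ (Finset.mem_union_left _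
      (Finset.mem_union_left _ hx)))
  · exact Finset.mem_union_right _ (mem_gate.mp hx).2

theorem FD'_sub_FD (j : Idx f i) : FD' f i j ⊆ FD f i j := by
  intro x hx
  rcases Finset.mem_union.mp hx with hx | hx
  · exact Finset.mem_union_left _ (Finset.mem_union_left _ (Finset.mem_union_left _
      (Finset.mem_union_right _ hx)))
  · exact Finset.mem_union_right _ hx

theorem K0_killD (hi : Function.Surjective i) (j : Idx f i) : ∀ x ∈ K0 f i j, πD f i x = 0 := by
  intro x hx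
  rw [K0, Finset.mem_union, Finset.mem_union, Finset.mem_union] at hx
  rcases hx with ((hx | hx) | hx) | hx
  · obtain ⟨k, _, rfl⟩ := Finset.mem_image.mp hx
    exact k.hD
  · obtain ⟨k, _, rfl⟩ := Finset.mem_image.mp hx
    rw [πD_eq_i, k.h, map_zero]
  · obtain ⟨k, _, rfl⟩ := Finset.mem_image.mp hx
    exact k.h
  · rw [mem_gate] at hx
    obtain ⟨hint, hx⟩ := hx
    obtain ⟨t, _, rfl⟩ := Finset.mem_image.mp hx
    exact Pt_kill f i hi hint t

theorem FD_killD (hi : Function.Surjective i)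
    (hnil : ∀ x ∈ RingHom.ker i.toRingHom, IsNilpotent x) (j : Idx f i) :
    ∀ x ∈ (FD f i j : Set (Pol R B D')), πD f i x = 0 := by
  intro x hx
  rcases Finset.mem_union.mp (Finset.mem_coe.mp hx) with hx | hx
  · exact K0_killD hi j x hx
  · obtain ⟨k, hk, rfl⟩ := Finset.mem_image.mp hx
    exact pw_killD f i hnil k (K0_killD hi j k hk)

theorem FD'_killD' (hi : Function.Surjective i)
    (hnil : ∀ x ∈ RingHom.ker i.toRingHom, IsNilpotent x) (j : Idx f i) :
    ∀ x ∈ (FD' f i j : Set (Pol R B D')), πD' f i x = 0 := by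
  intro x hx
  rcases Finset.mem_union.mp (Finset.mem_coe.mp hx) with hx | hx
  · obtain ⟨k, _, rfl⟩ := Finset.mem_image.mp hx
    exact k.h
  · obtain ⟨k, hk, rfl⟩ := Finset.mem_image.mp hx
    exact pw_killD' f i hnil k (K0_killD hi j k hk)

theorem FB_killB (hi : Function.Surjective i) (j : Idx f i) :
    ∀ x ∈ (FB f i j : Set (Pol R B D')), πB f i x = 0 := by
  intro x hx
  rcases Finset.mem_union.mp (Finset.mem_coe.mp hx) with hx | hx
  · obtain ⟨k, _, rfl⟩ := Finset.mem_image.mp hx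
    exact k.hB
  · rw [mem_gate] at hx
    obtain ⟨⟨hf, hfn⟩, hx⟩ := hx
    obtain ⟨k, hk, rfl⟩ := Finset.mem_image.mp hx
    exact pw_killB f i hi hf hfn k (K0_killD hi j k hk)

end Defs

section Main

variable {R B D D' : Type u} [CommRing R] [CommRing B] [CommRing D] [CommRing D']
  [Algebra R B] [Algebra R D] [Algebra R D'] (f : B →ₐ[R] D) (i : D' →ₐ[R] D)

/-- the family for `B` -/
noncomputable def famB : Fam R (B ⊕ D') (Idx f i) where
  U := UB f i
  I j := idl (UB f i j) (FB f i j : Set (Pol R B D'))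
  hU h := UB_mono h
  hI h := idl_le_comap (UB_mono h) (Finset.coe_subset.mpr (FB_mono h))

/-- the family for `D'` -/
noncomputable def famD' : Fam R (B ⊕ D') (Idx f i) where
  U := UD f i
  I j := idl (UD f i j) (FD' f i j : Set (Pol R B D'))
  hU h := UD_mono h
  hI h := idl_le_comap (UD_mono h) (Finset.coe_subset.mpr (FD'_mono h))

/-- the family for `D` -/
noncomputable def famD : Fam R (B ⊕ D') (Idx f i) where
  U := UD f i
  I j := idl (UD f i j) (FD f i j : Set (Pol R B D'))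
  hU h := UD_mono h
  hI h := idl_le_comap (UD_mono h) (Finset.coe_subset.mpr (FD_mono h))

theorem hUB (j : Idx f i) : (famB f i).U j ⊆ (famD f i).U j := UB_sub_UD j

theorem hIB (j : Idx f i) :
    (famB f i).I j ≤ ((famD f i).I j).comap (incl (A := R) (hUB f i j)) :=
  idl_le_comap (UB_sub_UD j) (Finset.coe_subset.mpr (FB_sub_FD j))

theorem hUD' (j : Idx f i) : (famD' f i).U j ⊆ (famD f i).U j := subset_refl (UD f i j)

theorem hID' (j : Idx f i) :
    (famD' f i).I j ≤ ((famD f i).I j).comap (incl (A := R) (hUD' f i j)) :=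
  idl_le_comap (subset_refl (UD f i j)) (Finset.coe_subset.mpr (FD'_sub_FD j))

variable {f i}

theorem UB_compat (hi : Function.Surjective i) (j : Idx f i) :
    ∀ u ∈ UB f i j, πD f i (MvPolynomial.X u) = f (πB f i (MvPolynomial.X u)) := by
  intro u hu
  rcases hu with ⟨b, _, rfl⟩ | ⟨hf, t, _, rfl⟩
  · rw [πD_inl f i hi, πB_inl]
  · rw [πD_inr, πB_inr, f_β f i hf]

theorem compatB (hi : Function.Surjective i) (j : Idx f i) (x : ↥(Sp R (UB f i j))) :
    πD f i (x : Pol R B D') = f (πB f i (x : Pol R B D')) :=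
  compat_of f i (UB f i j) (UB_compat hi j) x.1 x.2

theorem pw_eq (x : Pol R B D') : x ^ (nD' f i x + nB f i x) = pw f i x := rfl

theorem hψ_nil (j : Idx f i) :
    ∀ x ∈ RingHom.ker (cmp (famD' f i) (famD f i) (hUD' f i) (hID' f i) j).toRingHom,
      IsNilpotent x := by
  refine Fam.ker_cmp_nil (famD' f i) (famD f i) (hUD' f i) (hID' f i) j
    (subset_refl (UD f i j)) (FD f i j : Set (Pol R B D')) rfl ?_
  intro x hx
  rcases Finset.mem_union.mp (Finset.mem_coe.mp hx) with hx | hx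
  · refine ⟨nD' f i x.1 + nB f i x.1, mem_idl _ ?_⟩
    rw [Subalgebra.coe_pow, pw_eq]
    exact Finset.mem_coe.mpr (Finset.mem_union_right _ (Finset.mem_image.mpr ⟨x.1, hx, rfl⟩))
  · refine ⟨1, mem_idl _ ?_⟩
    rw [pow_one]
    exact Finset.mem_coe.mpr (Finset.mem_union_right _ hx)

theorem h13 (hf : Function.Surjective f)
    (hfn : ∀ x ∈ RingHom.ker f.toRingHom, IsNilpotent x) (j : Idx f i) :
    ∀ x ∈ RingHom.ker (cmp (famB f i) (famD f i) (hUB f i) (hIB f i) j).toRingHom,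
      IsNilpotent x := by
  refine Fam.ker_cmp_nil (famB f i) (famD f i) (hUB f i) (hIB f i) j
    (UD_sub_UB hf j) (FD f i j : Set (Pol R B D')) rfl ?_
  intro x hx
  rcases Finset.mem_union.mp (Finset.mem_coe.mp hx) with hx | hx
  · refine ⟨nD' f i x.1 + nB f i x.1, mem_idl _ ?_⟩
    rw [Subalgebra.coe_pow, pw_eq]
    exact Finset.mem_coe.mpr (Finset.mem_union_right _
      (mem_gate.mpr ⟨⟨hf, hfn⟩, Finset.mem_image.mpr ⟨x.1, hx, rfl⟩⟩))
  · refine ⟨1, mem_idl _ ?_⟩
    rw [pow_one]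
    exact Finset.mem_coe.mpr (Finset.mem_union_right _ (mem_gate.mpr ⟨⟨hf, hfn⟩, hx⟩))

theorem h14 (hi : Function.Surjective i) (hint : f.toRingHom.IsIntegral) (j : Idx f i) :
    @RingHom.IsIntegral ((famB f i).Q j) ((famD f i).Q j) _ _
      (cmp (famB f i) (famD f i) (hUB f i) (hIB f i) j).toRingHom := by
  refine Fam.cmp_isIntegral (famB f i) (famD f i) (hUB f i) (hIB f i) j ?_
  intro u hu
  rcases hu with ⟨b, hb, rfl⟩ | ⟨t, ht, rfl⟩
  · have hb' : Sum.inl b ∈ (famB f i).U j := Or.inl ⟨b, hb, rfl⟩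
    exact RingHom.isIntegralElem_map (cmp (famB f i) (famD f i) (hUB f i) (hIB f i) j).toRingHom
      (x := Ideal.Quotient.mk ((famB f i).I j) (Xs (Sum.inl b) hb'))
  · refine Fam.isIntegralElem_of_rel (famB f i) (famD f i) (hUB f i) (hIB f i) j
      (FD f i j : Set (Pol R B D')) le_rfl (Sum.inr t) _ (pf f i t).natDegree
      (fun k => Sum.inl ((pf f i t).coeff k)) ?_ ?_
    · intro k
      refine Or.inl ⟨(pf f i t).coeff k, ?_, rfl⟩
      apply Finset.mem_coe.mpr
      apply Finset.mem_union_right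
      exact Finset.mem_biUnion.mpr ⟨t, Finset.mem_coe.mp ht,
        Finset.mem_image.mpr ⟨k, Finset.mem_range.mpr k.2, rfl⟩⟩
    · apply Finset.mem_coe.mpr
      apply Finset.mem_union_left
      apply Finset.mem_union_right
      exact mem_gate.mpr ⟨hint, Finset.mem_image.mpr ⟨t, Finset.mem_coe.mp ht, rfl⟩⟩

theorem main {P : Type u} [CommRing P] [Algebra R P] (hi : Function.Surjective i)
    (hnil : ∀ x ∈ RingHom.ker i.toRingHom, IsNilpotent x) (q₁ : P →ₐ[R] B) (q₂ : P →ₐ[R] D')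
    (hP : IsPullback (CommRingCat.ofHom q₁.toRingHom) (CommRingCat.ofHom q₂.toRingHom)
      (CommRingCat.ofHom f.toRingHom) (CommRingCat.ofHom i.toRingHom)) :
    ∃ (ι : Type u) (_ : SmallCategory ι) (_ : IsFiltered ι) (DB DD DD' DP : ι ⥤ Under (CommRingCat.of R))
      (φ : DB ⟶ DD) (ψ : DD' ⟶ DD) (π₁ : DP ⟶ DB) (π₂ : DP ⟶ DD')
      (cB : DB ⟶ (Functor.const ι).obj (Under.mk (CommRingCat.ofHom (algebraMap R B))))
      (cD : DD ⟶ (Functor.const ι).obj (Under.mk (CommRingCat.ofHom (algebraMap R D))))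
      (cD' : DD' ⟶ (Functor.const ι).obj (Under.mk (CommRingCat.ofHom (algebraMap R D'))))
      (cP : DP ⟶ (Functor.const ι).obj (Under.mk (CommRingCat.ofHom (algebraMap R P)))),
      Nonempty (IsColimit (Cocone.mk _ cB)) ∧ Nonempty (IsColimit (Cocone.mk _ cD)) ∧
      Nonempty (IsColimit (Cocone.mk _ cD')) ∧ Nonempty (IsColimit (Cocone.mk _ cP)) ∧
      (∀ j, (φ.app j).right ≫ (cD.app j).right = (cB.app j).right ≫ CommRingCat.ofHom f.toRingHom) ∧
      (∀ j, (ψ.app j).right ≫ (cD.app j).right = (cD'.app j).right ≫ CommRingCat.ofHom i.toRingHom) ∧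
      (∀ j, (π₁.app j).right ≫ (cB.app j).right = (cP.app j).right ≫ CommRingCat.ofHom q₁.toRingHom) ∧
      (∀ j, (π₂.app j).right ≫ (cD'.app j).right = (cP.app j).right ≫ CommRingCat.ofHom q₂.toRingHom) ∧
      (∀ j, (DB.obj j).hom.hom.FinitePresentation ∧ (DD.obj j).hom.hom.FinitePresentation ∧
        (DD'.obj j).hom.hom.FinitePresentation) ∧
      (∀ j, Function.Surjective (ψ.app j).right.hom ∧ ∀ x ∈ RingHom.ker (ψ.app j).right.hom, IsNilpotent x) ∧
      (∀ j, IsPullback (π₁.app j).right (π₂.app j).right (φ.app j).right (ψ.app j).right) ∧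
      (Function.Surjective f → ∀ j, Function.Surjective (φ.app j).right.hom) ∧
      (Function.Surjective f → (∀ x ∈ RingHom.ker f.toRingHom, IsNilpotent x) →
        ∀ j, Function.Surjective (φ.app j).right.hom ∧ ∀ x ∈ RingHom.ker (φ.app j).right.hom, IsNilpotent x) ∧
      (f.toRingHom.IsIntegral → ∀ j, (φ.app j).right.hom.IsIntegral) := by
  refine assemble2 f i q₁ q₂ hP (famB f i) (famD' f i) (famD f i) (hUB f i) (hIB f i)
    (hUD' f i) (hID' f i) (πB f i) (πD' f i) (πD f i)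
    (fun j => idl_kills _ _ _ (FB_killB hi j)) (fun j => idl_kills _ _ _ (FD'_killD' hi hnil j))
    (fun j => idl_kills _ _ _ (FD_killD hi hnil j))
    (compatB hi) (fun j x => rfl) ?_ ?_ ?_ ?_ ?_ ?_ UB_finite UD_finite UD_finite
    (fun j => idl_fg _ _) (fun j => idl_fg _ _) (fun j => idl_fg _ _)
    (fun j => ⟨?_, hψ_nil j⟩) ?_ (fun hf hfn j => h13 hf hfn j) (fun hint j => h14 hi hint j)
  · -- hsurjB
    intro b
    refine ⟨(({b}, ∅), (∅, (∅, ∅))), Xs (Sum.inl b) (Or.inl ⟨b, ?_, rfl⟩), πB_inl f i b⟩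
    exact Finset.mem_coe.mpr (Finset.mem_union_left _ (Finset.mem_singleton_self b))
  · -- hinjB
    intro j x hx
    have hxD : πD f i (x : Pol R B D') = 0 := by rw [compatB hi j x, hx, map_zero]
    obtain ⟨F', hF', hk⟩ : ∃ F' : Finset (KB f i), j.2.1 ⊆ F' ∧
        (⟨x.1, hx, hxD⟩ : KB f i) ∈ F' :=
      ⟨insert _ j.2.1, Finset.subset_insert _ _, Finset.mem_insert_self _ _⟩
    refine ⟨(j.1, (F', j.2.2)), ⟨le_rfl, hF', le_rfl⟩, ?_⟩
    apply mem_idl
    rw [coe_incl]
    apply Finset.mem_coe.mpr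
    apply Finset.mem_union_left
    exact Finset.mem_image.mpr ⟨(⟨x.1, hx, hxD⟩ : KB f i), hk, rfl⟩
  · -- hsurjD'
    intro t
    refine ⟨((∅, {t}), (∅, (∅, ∅))), Xs (Sum.inr t) (Or.inr ⟨t, ?_, rfl⟩), πD'_inr f i t⟩
    exact Finset.mem_coe.mpr (Finset.mem_singleton_self t)
  · -- hinjD'
    intro j x hx
    obtain ⟨G', hG', hk⟩ : ∃ G' : Finset (KD' f i), j.2.2.1 ⊆ G' ∧
        (⟨x.1, hx⟩ : KD' f i) ∈ G' :=
      ⟨insert _ j.2.2.1, Finset.subset_insert _ _, Finset.mem_insert_self _ _⟩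
    refine ⟨(j.1, (j.2.1, (G', j.2.2.2))), ⟨le_rfl, le_rfl, hG', le_rfl⟩, ?_⟩
    apply mem_idl
    rw [coe_incl]
    apply Finset.mem_coe.mpr
    apply Finset.mem_union_left
    exact Finset.mem_image.mpr ⟨(⟨x.1, hx⟩ : KD' f i), hk, rfl⟩
  · -- hsurjD
    intro d
    obtain ⟨t, rfl⟩ := hi d
    refine ⟨((∅, {t}), (∅, (∅, ∅))), Xs (Sum.inr t) (Or.inr ⟨t, ?_, rfl⟩), πD_inr f i t⟩
    exact Finset.mem_coe.mpr (Finset.mem_singleton_self t)
  · -- hinjD
    intro j x hx
    obtain ⟨H', hH', hk⟩ : ∃ H' : Finset (KD f i), j.2.2.2 ⊆ H' ∧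
        (⟨x.1, hx⟩ : KD f i) ∈ H' :=
      ⟨insert _ j.2.2.2, Finset.subset_insert _ _, Finset.mem_insert_self _ _⟩
    refine ⟨(j.1, (j.2.1, (j.2.2.1, H'))), ⟨le_rfl, le_rfl, le_rfl, hH'⟩, ?_⟩
    apply mem_idl
    rw [coe_incl]
    apply Finset.mem_coe.mpr
    apply Finset.mem_union_left
    apply Finset.mem_union_left
    apply Finset.mem_union_right
    exact Finset.mem_image.mpr ⟨(⟨x.1, hx⟩ : KD f i), hk, rfl⟩
  · -- ψ surjective
    refine cmp_surjective (famD' f i) (famD f i) (hUD' f i) (hID' f i) j ?_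
    intro u hu
    exact ⟨Ideal.Quotient.mk _ (Xs u hu),
      congrArg (Ideal.Quotient.mk _) (incl_Xs (hUD' f i j) u hu)⟩
  · -- h12
    intro hf j
    refine cmp_surjective (famB f i) (famD f i) (hUB f i) (hIB f i) j ?_
    intro u hu
    exact ⟨Ideal.Quotient.mk _ (Xs u (UD_sub_UB hf j hu)),
      congrArg (Ideal.Quotient.mk _) (incl_Xs (hUB f i j) u (UD_sub_UB hf j hu))⟩

end Main

end NP

end H9IntColim
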