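import Mathlib
import Groth.Agent.Lib.Helper9.HochIntegral

/-!
The Reynolds operator `v ↦ (id ⊗ c)(ρ v)` attached to a normalized left integral `c`.
-/

set_option autoImplicit false

namespace Groth.Agent.Helper9.IntegralReynolds

open TensorProduct Groth.Agent.Helper9

universe u v

section
variable {k : Type u} [CommRing k] {H : Type v} [Ring H] [Bialgebra k H]
variable {V : Type v} [AddCommGroup V] [Module k V] [HopfRep.Comod k H V]
variable {W : Type v} [AddCommGroup W] [Module k W] [HopfRep.Comod k H W]

/-- Reynolds operator of an integral -/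
noncomputable def R (c : H →ₗ[k] k) : V →ₗ[k] V :=
  slice c ∘ₗ HopfRep.Comod.coact (k := k) (A := H)

lemma R_apply (c : H →ₗ[k] k) (v : V) :
    R c v = slice c (HopfRep.Comod.coact (k := k) (A := H) v) := rfl

omit [HopfRep.Comod k H V] in
lemma slice_assoc_symm_comul (c : H →ₗ[k] k)
    (hc : ∀ a, slice c (Coalgebra.comul (R := k) a) = c a • (1 : H)) (y : V ⊗[k] H) :
    slice (V := V ⊗[k] H) c
      ((TensorProduct.assoc k V H H).symm ((Coalgebra.comul (R := k) (A := H)).lTensor V y)) =
      (slice c y) ⊗ₜ[k] (1 : H) := by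
  induction y using TensorProduct.induction_on with
  | zero => simp
  | tmul m h =>
    rw [LinearMap.lTensor_tmul, slice_assoc_symm, hc, slice_tmul, TensorProduct.tmul_smul,
      TensorProduct.smul_tmul']
  | add x y hx hy => simp only [map_add, hx, hy, TensorProduct.add_tmul]

lemma R_mem_fixedPts (c : H →ₗ[k] k)
    (hc : ∀ a, slice c (Coalgebra.comul (R := k) a) = c a • (1 : H)) (v : V) :
    R c v ∈ HopfRep.fixedPts k H V := by
  show HopfRep.Comod.coact (k := k) (A := H) (R c v) = R c v ⊗ₜ[k] (1 : H)
  rw [R_apply, ← slice_rTensor (HopfRep.Comod.coact (k := k) (A := H) (V := V)) c]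
  have hco := LinearMap.congr_fun (HopfRep.Comod.coassoc (k := k) (A := H) (V := V)) v
  simp only [LinearMap.comp_apply, LinearEquiv.coe_coe] at hco
  have hco' : (HopfRep.Comod.coact (k := k) (A := H) (V := V)).rTensor H
      (HopfRep.Comod.coact (k := k) (A := H) v) =
      (TensorProduct.assoc k V H H).symm ((Coalgebra.comul (R := k) (A := H)).lTensor V
        (HopfRep.Comod.coact (k := k) (A := H) v)) := by
    rw [← hco, LinearEquiv.symm_apply_apply]
  rw [hco', slice_assoc_symm_comul c hc]

lemma R_of_mem_fixedPts (c : H →ₗ[k] k) (hc1 : c 1 = 1) (v : V)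
    (hv : v ∈ HopfRep.fixedPts k H V) : R c v = v := by
  have h : HopfRep.Comod.coact (k := k) (A := H) v = v ⊗ₜ[k] (1 : H) := hv
  rw [R_apply, h, slice_tmul, hc1, one_smul]

lemma R_natural (c : H →ₗ[k] k) (f : V →ₗ[k] W) (hf : Hoch.IsComodHom H f) (v : V) :
    R c (f v) = f (R c v) := by
  have h := LinearMap.congr_fun hf v
  simp only [LinearMap.comp_apply] at h
  rw [R_apply, h, slice_rTensor, R_apply]

end

end Groth.Agent.Helper9.IntegralReynolds
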