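import Mathlib

/-!
Jacobian criterion for the quotient `A ⧸ I` of an algebra of finite type over a Noetherian ring
at a prime `P`, assuming `A` is smooth at the preimage `q` of `P`:
`(A ⧸ I)_P` is formally smooth iff `I A_q` is generated by finitely many elements of `I` whose
differentials are linearly independent in `κ(q) ⊗ Ω[A/R]`.
-/

set_option autoImplicit false

namespace Groth.Agent.Helper9.JacCrit

open TensorProduct KaehlerDifferential IsLocalRing

universe u


section setup
variable (R A : Type u) [CommRing R] [CommRing A] [Algebra R A]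
  (I : Ideal A) (P : Ideal (A ⧸ I)) [P.IsPrime]

/-- The preimage prime. -/
abbrev q : Ideal A := P.comap (Ideal.Quotient.mk I)

instance : (q A I P).IsPrime := Ideal.comap_isPrime _ _

instance liesOver : P.LiesOver (q A I P) := ⟨rfl⟩

noncomputable instance algAB : Algebra (Localization.AtPrime (q A I P)) (Localization.AtPrime P) :=
  Localization.AtPrime.algebraOfLiesOver (q A I P) P

omit [P.IsPrime] in
lemma I_le_q : I ≤ q A I P := by
  intro a ha
  have : Ideal.Quotient.mk I a = 0 := Ideal.Quotient.eq_zero_iff_mem.mpr ha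
  simp [q, Ideal.mem_comap, this]

/-- the ring hom `B_P → κ(q)` -/
noncomputable def toK : Localization.AtPrime P →+* (q A I P).ResidueField :=
  IsLocalization.lift (M := P.primeCompl)
    (g := Ideal.Quotient.lift I (algebraMap A (q A I P).ResidueField)
      (fun a ha => (Ideal.algebraMap_residueField_eq_zero).mpr (I_le_q A I P ha)))
    (fun y => by
      obtain ⟨y, hy⟩ := y
      obtain ⟨a, rfl⟩ := Ideal.Quotient.mk_surjective y
      have : a ∉ q A I P := hy
      simp only [Ideal.Quotient.lift_mk]
      rw [isUnit_iff_ne_zero, Ne, Ideal.algebraMap_residueField_eq_zero]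
      exact this)

lemma toK_algebraMap (a : A) :
    toK A I P (algebraMap (A ⧸ I) (Localization.AtPrime P) (Ideal.Quotient.mk I a)) =
      algebraMap A (q A I P).ResidueField a := by
  simp [toK]

noncomputable instance algBK : Algebra (Localization.AtPrime P) (q A I P).ResidueField :=
  (toK A I P).toAlgebra

instance towerK : IsScalarTower (Localization.AtPrime (q A I P)) (Localization.AtPrime P)
    (q A I P).ResidueField := by
  refine .of_algebraMap_eq' ?_
  refine IsLocalization.ringHom_ext (q A I P).primeCompl ?_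
  ext a
  simp only [RingHom.coe_comp, Function.comp_apply]
  rw [← IsScalarTower.algebraMap_apply A (Localization.AtPrime (q A I P)) (q A I P).ResidueField]
  rw [← IsScalarTower.algebraMap_apply A (Localization.AtPrime (q A I P)) (Localization.AtPrime P)]
  rw [IsScalarTower.algebraMap_apply A (A ⧸ I) (Localization.AtPrime P)]
  exact (toK_algebraMap A I P a).symm

lemma surj : Function.Surjective
    (algebraMap (Localization.AtPrime (q A I P)) (Localization.AtPrime P)) := by
  have := (RingHom.surjectiveOnStalks_of_surjective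
    (Ideal.Quotient.mk_surjective (I := I))).localRingHom_surjective (q A I P) P rfl
  exact this

lemma ker_eq : RingHom.ker (algebraMap (Localization.AtPrime (q A I P)) (Localization.AtPrime P)) =
    I.map (algebraMap A (Localization.AtPrime (q A I P))) := by
  refine le_antisymm ?_ ?_
  · intro x hx
    obtain ⟨a, s, rfl⟩ := IsLocalization.exists_mk'_eq (q A I P).primeCompl x
    rw [IsLocalization.mk'_mem_map_algebraMap_iff]
    rw [RingHom.mem_ker] at hx
    have h1 : algebraMap (Localization.AtPrime (q A I P)) (Localization.AtPrime P)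
        (algebraMap A _ a) = 0 := by
      have := IsLocalization.mk'_spec (M := (q A I P).primeCompl)
        (Localization.AtPrime (q A I P)) a s
      rw [← this, map_mul, hx, zero_mul]
    rw [← IsScalarTower.algebraMap_apply, IsScalarTower.algebraMap_apply A (A ⧸ I),
      IsLocalization.map_eq_zero_iff P.primeCompl] at h1
    obtain ⟨⟨m, hm⟩, hm2⟩ := h1
    obtain ⟨t, rfl⟩ := Ideal.Quotient.mk_surjective m
    refine ⟨t, hm, ?_⟩
    rw [← Ideal.Quotient.eq_zero_iff_mem, map_mul]
    exact hm2
  · rw [Ideal.map_le_iff_le_comap]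
    intro a ha
    rw [Ideal.mem_comap, RingHom.mem_ker, ← IsScalarTower.algebraMap_apply,
      IsScalarTower.algebraMap_apply A (A ⧸ I)]
    have : algebraMap A (A ⧸ I) a = 0 := Ideal.Quotient.eq_zero_iff_mem.mpr ha
    rw [this, map_zero]

lemma max_le : maximalIdeal (Localization.AtPrime P) ≤
    RingHom.ker (algebraMap (Localization.AtPrime P) (q A I P).ResidueField) := by
  intro x hx
  obtain ⟨b, s, rfl⟩ := IsLocalization.exists_mk'_eq P.primeCompl x
  rw [IsLocalization.AtPrime.mk'_mem_maximal_iff (Localization.AtPrime P) P] at hx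
  obtain ⟨a, rfl⟩ := Ideal.Quotient.mk_surjective b
  rw [RingHom.mem_ker]
  have h1 : algebraMap (Localization.AtPrime P) (q A I P).ResidueField
      (algebraMap (A ⧸ I) _ (Ideal.Quotient.mk I a)) = 0 := by
    change toK A I P _ = 0
    rw [toK_algebraMap, Ideal.algebraMap_residueField_eq_zero]
    exact hx
  have := IsLocalization.mk'_spec (M := P.primeCompl)
        (Localization.AtPrime P) (Ideal.Quotient.mk I a) s
  have h2 := congrArg (algebraMap (Localization.AtPrime P) (q A I P).ResidueField) this
  rw [h1, map_mul] at h2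
  rcases mul_eq_zero.mp h2 with h | h
  · exact h
  · exfalso
    obtain ⟨s, hs⟩ := s
    obtain ⟨t, rfl⟩ := Ideal.Quotient.mk_surjective s
    change toK A I P _ = 0 at h
    rw [toK_algebraMap, Ideal.algebraMap_residueField_eq_zero] at h
    exact hs h

end setup

section main
variable (R A : Type u) [CommRing R] [CommRing A] [IsNoetherianRing R] [Algebra R A]
  [Algebra.FiniteType R A] (I : Ideal A) (P : Ideal (A ⧸ I)) [P.IsPrime]
  [Algebra.FormallySmooth R (Localization.AtPrime (q A I P))]

local notation "Aq" => Localization.AtPrime (q A I P)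
local notation "BP" => Localization.AtPrime P
local notation "K" => Ideal.ResidueField (q A I P)

/-- `Ω[Aq/R] ≅ Aq ⊗ Ω[A/R]`. -/
noncomputable def eΩ : Aq ⊗[A] Ω[A⁄R] ≃ₗ[Aq] Ω[Aq⁄R] :=
  have : Algebra.FormallyEtale A Aq := .of_isLocalization (q A I P).primeCompl
  KaehlerDifferential.tensorKaehlerEquivOfFormallyEtale R A Aq

instance finΩ : Module.Finite Aq Ω[Aq⁄R] :=
  Module.Finite.equiv (eΩ R A I P)

instance freeΩ : Module.Free Aq Ω[Aq⁄R] := by
  have : Module.Projective Aq Ω[Aq⁄R] := inferInstance
  exact Module.free_of_flat_of_isLocalRing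

include R in
lemma noethA : IsNoetherianRing A := Algebra.FiniteType.isNoetherianRing R A

theorem crit : Algebra.IsSmoothAt R P ↔
    Function.Injective (cotangentComplexBaseChange R BP Aq K) :=
  have := noethA R A
  have : IsNoetherianRing Aq := IsLocalization.isNoetherianRing (q A I P).primeCompl _ inferInstance
  Algebra.FormallySmooth.iff_injective_cotangentComplexBaseChange Aq K (surj A I P)
    (IsNoetherian.noetherian _) (max_le A I P)


variable {A I} in
/-- the element of `J = ker (Aq → BP)` given by `g ∈ I` -/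
noncomputable def w (g : I) : RingHom.ker (algebraMap Aq BP) :=
  ⟨algebraMap A Aq g, by rw [ker_eq]; exact Ideal.mem_map_of_mem _ g.2⟩

variable {A I} in
/-- `1 ⊗ w g` -/
noncomputable def v (g : I) : K ⊗[Aq] RingHom.ker (algebraMap Aq BP) := 1 ⊗ₜ w P g

/-- the identification `κ(q) ⊗_{Aq} Ω[Aq/R] = κ(q) ⊗_A Ω[A/R]`. -/
noncomputable def eK : K ⊗[Aq] Ω[Aq⁄R] ≃ₗ[K] K ⊗[A] Ω[A⁄R] :=
  (AlgebraTensorModule.congr (LinearEquiv.refl K K) (eΩ R A I P).symm) ≪≫ₗ
    AlgebraTensorModule.cancelBaseChange A Aq K K Ω[A⁄R]

omit [IsNoetherianRing R] [Algebra.FiniteType R A] [Algebra.FormallySmooth R (Localization.AtPrime (q A I P))] in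
lemma eK_c_v (g : I) : eK R A I P (cotangentComplexBaseChange R BP Aq K (v P g)) =
    (1 : K) ⊗ₜ[A] D R A (g : A) := by
  have : Algebra.FormallyEtale A Aq := .of_isLocalization (q A I P).primeCompl
  simp only [v, w, cotangentComplexBaseChange_tmul, kerToTensor_apply, one_smul, eK, eΩ,
    LinearEquiv.trans_apply, AlgebraTensorModule.congr_tmul, LinearEquiv.refl_apply,
    tensorKaehlerEquivOfFormallyEtale_symm_D_algebraMap,
    AlgebraTensorModule.cancelBaseChange_tmul, one_smul]

lemma span_w_iff {κ : Type*} (a : κ → I) :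
    Submodule.span Aq (Set.range (w P ∘ a)) = ⊤ ↔
      Ideal.span (Set.range (fun k => algebraMap A Aq (a k))) = I.map (algebraMap A Aq) := by
  rw [← ker_eq]
  set J := RingHom.ker (algebraMap Aq BP) with hJ
  have h1 : Submodule.map (Submodule.subtype J) (Submodule.span Aq (Set.range (w P ∘ a))) =
      Ideal.span (Set.range (fun k => algebraMap A Aq (a k))) := by
    rw [Submodule.map_span, ← Set.range_comp]
    rfl
  have h2 : Submodule.map (Submodule.subtype J) ⊤ = J := by simp
  rw [← h1]
  constructor
  · intro h; rw [h, h2]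
  · intro h
    apply Submodule.map_injective_of_injective (Submodule.injective_subtype J)
    rw [h, h2]

omit [Algebra.FormallySmooth R (Localization.AtPrime (q A I P))] in
include R in
lemma span_v_iff {κ : Type*} (a : κ → I) :
    Submodule.span K (Set.range (v P ∘ a)) = ⊤ ↔
      Submodule.span Aq (Set.range (w P ∘ a)) = ⊤ := by
  have := noethA R A
  have : IsNoetherianRing Aq := IsLocalization.isNoetherianRing (q A I P).primeCompl _ inferInstance
  constructor
  · intro h
    rw [← IsLocalRing.map_tensorProduct_mk_eq_top, Submodule.map_span, ← Set.range_comp]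
    have h3 := Submodule.restrictScalars_span Aq K (residue_surjective (R := Aq))
      (Set.range (v P ∘ a))
    rw [h] at h3
    have h4 : (⇑(TensorProduct.mk Aq K (RingHom.ker (algebraMap Aq BP)) 1) ∘ w P ∘ a) = v P ∘ a := rfl
    rw [h4, ← h3]
    rfl
  · intro h
    have := Submodule.baseChange_span (A := K) (R := Aq) (Set.range (w P ∘ a))
    rw [h, Submodule.baseChange_top, ← Set.range_comp] at this
    exact this.symm


theorem main : Algebra.IsSmoothAt R P ↔ ∃ s : Finset A, (↑s : Set A) ⊆ (I : Set A) ∧
      Ideal.map (algebraMap A Aq) I = Ideal.span ((algebraMap A Aq) '' (↑s : Set A)) ∧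
      LinearIndependent K (fun g : ↥s => (1 : K) ⊗ₜ[A] KaehlerDifferential.D R A (g : A)) := by
  have hnA := noethA R A
  have : IsNoetherianRing Aq := IsLocalization.isNoetherianRing (q A I P).primeCompl _ inferInstance
  rw [crit]
  obtain ⟨φ, hφdef⟩ : ∃ φ : K ⊗[Aq] RingHom.ker (algebraMap Aq BP) →ₗ[K] K ⊗[A] Ω[A⁄R],
    φ = (eK R A I P).toLinearMap ∘ₗ cotangentComplexBaseChange R BP Aq K := ⟨_, rfl⟩
  have hφ : Function.Injective (cotangentComplexBaseChange R BP Aq K) ↔ Function.Injective φ := by
    rw [hφdef, LinearMap.coe_comp]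
    exact ((eK R A I P).injective.of_comp_iff _).symm
  rw [hφ]
  have hφv : ∀ g : I, φ (v P g) = (1 : K) ⊗ₜ[A] D R A (g : A) := by
    intro g
    rw [hφdef]
    exact eK_c_v R A I P g
  constructor
  · intro hinj
    have hfull : Submodule.span K (Set.range (v P ∘ (id : I → I))) = ⊤ := by
      refine (span_v_iff R A I P id).mpr ((span_w_iff A I P id).mpr ?_)
      rw [Ideal.map]
      congr 1
      ext x
      simp
    obtain ⟨κ, a, ha, hsp, hli⟩ := exists_linearIndependent' K (v P (A := A) (I := I))
    have hfin : Finite κ := hli.finite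
    have := Fintype.ofFinite κ
    have hli2 : LinearIndependent K (fun k : κ => (1 : K) ⊗ₜ[A] D R A ((a k : I) : A)) := by
      have := hli.map' φ (LinearMap.ker_eq_bot.mpr hinj)
      have heq : (fun k : κ => (1 : K) ⊗ₜ[A] D R A ((a k : I) : A)) = ⇑φ ∘ v P ∘ a :=
        funext fun k => (hφv (a k)).symm
      rw [heq]
      exact this
    classical
    refine ⟨Finset.univ.image (fun k => ((a k : I) : A)), ?_, ?_, ?_⟩
    · intro x hx
      simp only [Finset.coe_image, Finset.coe_univ, Set.image_univ, Set.mem_range] at hx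
      obtain ⟨k, rfl⟩ := hx
      exact (a k).2
    · have h1 : Submodule.span K (Set.range (v P ∘ a)) = ⊤ := by
        rw [hsp]; exact hfull
      have h2 := (span_w_iff A I P a).mp ((span_v_iff R A I P a).mp h1)
      rw [← h2]
      congr 1
      ext x
      simp
    · let e : κ ≃ ↥(Finset.univ.image (fun k => ((a k : I) : A))) :=
        Equiv.ofBijective (fun k => ⟨((a k : I) : A), Finset.mem_image_of_mem _ (Finset.mem_univ _)⟩)
          ⟨fun k₁ k₂ h => ha (Subtype.ext (by simpa using h)), by
            rintro ⟨x, hx⟩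
            simp only [Finset.mem_image, Finset.mem_univ, true_and] at hx
            obtain ⟨k, rfl⟩ := hx
            exact ⟨k, rfl⟩⟩
      exact (linearIndependent_equiv e).mp hli2
  · rintro ⟨s, hsI, hspan, hli⟩
    let a : s → I := fun g => ⟨g, hsI g.2⟩
    have hsp : Submodule.span K (Set.range (v P ∘ a)) = ⊤ := by
      refine (span_v_iff R A I P a).mpr ((span_w_iff A I P a).mpr ?_)
      rw [hspan]
      congr 1
      ext x
      simp [a]
    rw [← LinearMap.ker_eq_bot, eq_bot_iff]
    intro x hx
    have hx' : x ∈ Submodule.span K (Set.range (v P ∘ a)) := hsp ▸ Submodule.mem_top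
    obtain ⟨c, rfl⟩ := (Submodule.mem_span_range_iff_exists_fun K).mp hx'
    rw [LinearMap.mem_ker, map_sum] at hx
    simp only [map_smul, Function.comp, hφv] at hx
    have := Fintype.linearIndependent_iff.mp hli c hx
    simp [this]

end main
end Groth.Agent.Helper9.JacCrit
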