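import Mathlib
import Groth.Prelude.Def_Koszul

/-!
# The Koszul complex of `x * l`

The Koszul complex (mapping cone model) of `(x f₁, …, x f_n)` has the same terms as that of
`(f₁, …, f_n)` and its differential is `x` times the differential.
-/

namespace Groth.Agent.Helper9.KoszulMul

open CategoryTheory CategoryTheory.Limits CochainComplex HomologicalComplex

universe u

variable {A : Type u} [CommRing A]

/-- a degreewise isomorphism under which the differential of `F` is `x` times that of `G` -/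
structure GIso (x : A) (F G : CochainComplex (ModuleCat.{u} A) ℤ) where
  θ : ∀ n, F.X n ≅ G.X n
  comm : ∀ n, F.d n (n + 1) ≫ (θ (n + 1)).hom = x • ((θ n).hom ≫ G.d n (n + 1))

namespace GIso

variable {x : A} {F G : CochainComplex (ModuleCat.{u} A) ℤ} (T : GIso x F G)

/-- the morphism on cones, degreewise -/
noncomputable def coneHom (a b : A) (n : ℤ) :
    (mappingCone (a • 𝟙 F)).X n ⟶ (mappingCone (b • 𝟙 G)).X n :=
  (mappingCone.fst (a • 𝟙 F)).1.v n (n + 1) rfl ≫ (T.θ (n + 1)).hom ≫
      (mappingCone.inl (b • 𝟙 G)).v (n + 1) n (by omega) +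
    (mappingCone.snd (a • 𝟙 F)).v n n (add_zero n) ≫ (T.θ n).hom ≫
      (mappingCone.inr (b • 𝟙 G)).f n

/-- the inverse morphism on cones, degreewise -/
noncomputable def coneInv (a b : A) (n : ℤ) :
    (mappingCone (b • 𝟙 G)).X n ⟶ (mappingCone (a • 𝟙 F)).X n :=
  (mappingCone.fst (b • 𝟙 G)).1.v n (n + 1) rfl ≫ (T.θ (n + 1)).inv ≫
      (mappingCone.inl (a • 𝟙 F)).v (n + 1) n (by omega) +
    (mappingCone.snd (b • 𝟙 G)).v n n (add_zero n) ≫ (T.θ n).inv ≫
      (mappingCone.inr (a • 𝟙 F)).f n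

theorem coneHom_inv (a b : A) (n : ℤ) : T.coneHom a b n ≫ T.coneInv a b n = 𝟙 _ := by
  unfold coneHom coneInv
  simp only [Preadditive.add_comp, Preadditive.comp_add, Category.assoc,
    mappingCone.inl_v_fst_v_assoc, mappingCone.inl_v_snd_v_assoc, mappingCone.inr_f_fst_v_assoc,
    mappingCone.inr_f_snd_v_assoc, zero_comp, comp_zero, add_zero, zero_add,
    Iso.hom_inv_id_assoc]
  exact mappingCone.id_X (a • 𝟙 F) n (n + 1) rfl

theorem coneInv_hom (a b : A) (n : ℤ) : T.coneInv a b n ≫ T.coneHom a b n = 𝟙 _ := by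
  unfold coneHom coneInv
  simp only [Preadditive.add_comp, Preadditive.comp_add, Category.assoc,
    mappingCone.inl_v_fst_v_assoc, mappingCone.inl_v_snd_v_assoc, mappingCone.inr_f_fst_v_assoc,
    mappingCone.inr_f_snd_v_assoc, zero_comp, comp_zero, add_zero, zero_add,
    Iso.inv_hom_id_assoc]
  exact mappingCone.id_X (b • 𝟙 G) n (n + 1) rfl

theorem cone_comm (a b : A) (hab : a = x * b) (n : ℤ) :
    (mappingCone (a • 𝟙 F)).d n (n + 1) ≫ T.coneHom a b (n + 1) =
      x • (T.coneHom a b n ≫ (mappingCone (b • 𝟙 G)).d n (n + 1)) := by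
  unfold coneHom
  have h1 := mappingCone.d_fst_v (a • 𝟙 F) n (n + 1) (n + 1 + 1) rfl rfl
  have h2 := mappingCone.d_snd_v (a • 𝟙 F) n (n + 1) rfl
  have h3 := mappingCone.inl_v_d (b • 𝟙 G) (n + 1) n (n + 1 + 1) (by omega) (by omega)
  have h4 := mappingCone.inr_f_d (b • 𝟙 G) n (n + 1)
  have h5 := T.comm n
  have h6 := T.comm (n + 1)
  rw [Preadditive.comp_add, Preadditive.add_comp, reassoc_of% h1, reassoc_of% h2]
  simp only [Category.assoc, h3, h4]
  simp only [Preadditive.add_comp, Preadditive.comp_sub, Preadditive.neg_comp,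
    Category.assoc, reassoc_of% h5, reassoc_of% h6]
  simp only [HomologicalComplex.smul_f_apply, HomologicalComplex.id_f, Linear.smul_comp,
    Linear.comp_smul, Category.id_comp, smul_add, smul_sub, smul_smul, hab, Category.assoc]
  abel

/-- the cone of a `GIso` -/
noncomputable def cone (a b : A) (hab : a = x * b) :
    GIso x (mappingCone (a • 𝟙 F)) (mappingCone (b • 𝟙 G)) where
  θ n := ⟨T.coneHom a b n, T.coneInv a b n, T.coneHom_inv a b n, T.coneInv_hom a b n⟩
  comm n := T.cone_comm a b hab n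

end GIso

theorem koszul_nil_d (n m : ℤ) : (Koszul.koszul A ([] : List A)).d n m = 0 :=
  HomologicalComplex.single_obj_d (c := ComplexShape.up ℤ) (j := 0) (ModuleCat.of A A) n m

/-- the Koszul complex of `x * l` against that of `l` -/
noncomputable def koszulGIso (x : A) :
    ∀ l : List A, GIso x (Koszul.koszul A (l.map (fun f => x * f))) (Koszul.koszul A l)
  | [] =>
    { θ := fun n => Iso.refl _
      comm := fun n => by
        show (Koszul.koszul A ([] : List A)).d n (n + 1) ≫ 𝟙 _ =
          x • (𝟙 _ ≫ (Koszul.koszul A ([] : List A)).d n (n + 1))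
        rw [koszul_nil_d, zero_comp, comp_zero, smul_zero] }
  | f :: l => (koszulGIso x l).cone (x * f) f rfl

theorem cone_smul_eq_zero_imp (x : A) {F G : CochainComplex (ModuleCat.{u} A) ℤ} (φ : F ⟶ G) (n : ℤ)
    (hF : ∀ m : F.X (n + 1), x • m = 0 → m = 0) (hG : ∀ m : G.X n, x • m = 0 → m = 0)
    (m : (mappingCone φ).X n) (h : x • m = 0) : m = 0 := by
  have h1 : ((mappingCone.fst φ).1.v n (n + 1) rfl).hom m = 0 := by
    apply hF
    rw [← LinearMap.map_smul, h, map_zero]
  have h2 : ((mappingCone.snd φ).v n n (add_zero n)).hom m = 0 := by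
    apply hG
    rw [← LinearMap.map_smul, h, map_zero]
  have h3 := mappingCone.id_X φ n (n + 1) rfl
  have h4 : ((mappingCone.inl φ).v (n + 1) n (by omega)).hom
      (((mappingCone.fst φ).1.v n (n + 1) rfl).hom m) +
      ((mappingCone.inr φ).f n).hom (((mappingCone.snd φ).v n n (add_zero n)).hom m) = m := by
    have := congrArg (fun g => g.hom m) h3
    simpa using this
  rw [← h4, h1, h2, map_zero, map_zero, add_zero]

/-- the terms of the Koszul complex are torsion free -/
theorem smul_eq_zero_imp (x : A) (hx : x ∈ nonZeroDivisors A) :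
    ∀ (l : List A) (n : ℤ) (m : (Koszul.koszul A l).X n), x • m = 0 → m = 0
  | [], n, m, h => by
    by_cases hn : n = 0
    · subst hn
      let e : (Koszul.koszul A ([] : List A)).X 0 ≅ ModuleCat.of A A :=
        HomologicalComplex.singleObjXSelf (ComplexShape.up ℤ) 0 (ModuleCat.of A A)
      have h1 : x • (e.hom.hom m : A) = 0 := by
        rw [← LinearMap.map_smul, h, map_zero]
      have h2 : (e.hom.hom m : A) = 0 := by
        have := (mem_nonZeroDivisors_iff.1 hx).1 (e.hom.hom m : A)
        rw [smul_eq_mul] at h1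
        exact this h1
      have h3 : e.inv.hom (e.hom.hom m) = m := by
        have := congrArg (fun g => g.hom m) e.hom_inv_id
        simpa using this
      rw [← h3, h2, map_zero]
    · have hz : IsZero ((Koszul.koszul A ([] : List A)).X n) :=
        HomologicalComplex.isZero_single_obj_X (ComplexShape.up ℤ) 0 (ModuleCat.of A A) n hn
      exact (ModuleCat.isZero_iff_subsingleton.1 hz).elim _ _
  | f :: l, n, m, h =>
    cone_smul_eq_zero_imp x (f • 𝟙 (Koszul.koszul A l)) n (smul_eq_zero_imp x hx l (n + 1))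
      (smul_eq_zero_imp x hx l n) m h

namespace GIso

variable {x : A} {F G : CochainComplex (ModuleCat.{u} A) ℤ} (T : GIso x F G)

theorem comm' (p q : ℤ) (h : p + 1 = q) :
    F.d p q ≫ (T.θ q).hom = x • ((T.θ p).hom ≫ G.d p q) := by
  subst h
  exact T.comm p

theorem comm_apply (p q : ℤ) (h : p + 1 = q) (u : F.X p) :
    (T.θ q).hom.hom ((F.d p q).hom u) = x • (G.d p q).hom ((T.θ p).hom.hom u) := by
  have := congrArg (fun g => g.hom u) (T.comm' p q h)
  simpa using this

theorem map_ker (q r : ℤ) (hqr : q + 1 = r) (hG : ∀ m : G.X r, x • m = 0 → m = 0) :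
    (LinearMap.ker (F.d q r).hom).map ((T.θ q).toLinearEquiv : F.X q →ₗ[A] G.X q) =
      LinearMap.ker (G.d q r).hom := by
  ext z
  constructor
  · rintro ⟨v, hv, rfl⟩
    have hv' : (F.d q r).hom v = 0 := hv
    show (G.d q r).hom ((T.θ q).hom.hom v) = 0
    apply hG
    rw [← T.comm_apply q r hqr, hv', map_zero]
  · intro hz
    have hz' : (G.d q r).hom z = 0 := hz
    refine ⟨(T.θ q).inv.hom z, ?_, ?_⟩
    · show (F.d q r).hom ((T.θ q).inv.hom z) = 0
      have h1 := T.comm_apply q r hqr ((T.θ q).inv.hom z)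
      have h2 : (T.θ q).hom.hom ((T.θ q).inv.hom z) = z := by
        have := congrArg (fun g => g.hom z) (T.θ q).inv_hom_id
        simpa using this
      rw [h2, hz', smul_zero] at h1
      have h3 : (T.θ r).inv.hom ((T.θ r).hom.hom ((F.d q r).hom ((T.θ q).inv.hom z))) =
          (F.d q r).hom ((T.θ q).inv.hom z) := by
        have := congrArg (fun g => g.hom ((F.d q r).hom ((T.θ q).inv.hom z))) (T.θ r).hom_inv_id
        simpa using this
      rw [← h3, h1, map_zero]
    · have := congrArg (fun g => g.hom z) (T.θ q).inv_hom_id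
      simpa using this

/-- the induced equivalence on cocycles -/
noncomputable def kerEquiv (q r : ℤ) (hqr : q + 1 = r) (hG : ∀ m : G.X r, x • m = 0 → m = 0) :
    ↥(LinearMap.ker (F.d q r).hom) ≃ₗ[A] ↥(LinearMap.ker (G.d q r).hom) :=
  (T.θ q).toLinearEquiv.ofSubmodules _ _ (T.map_ker q r hqr hG)

theorem kerEquiv_apply (q r : ℤ) (hqr : q + 1 = r) (hG : ∀ m : G.X r, x • m = 0 → m = 0)
    (v : ↥(LinearMap.ker (F.d q r).hom)) :
    ((T.kerEquiv q r hqr hG v : ↥(LinearMap.ker (G.d q r).hom)) : G.X q) = (T.θ q).hom.hom v := rfl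

/-- the map to cocycles -/
noncomputable def toCyc (F : CochainComplex (ModuleCat.{u} A) ℤ) (p q r : ℤ) :
    F.X p →ₗ[A] ↥(LinearMap.ker (F.d q r).hom) :=
  (F.d p q).hom.codRestrict _ (fun u => by
    show (F.d q r).hom ((F.d p q).hom u) = 0
    rw [← LinearMap.comp_apply, ← ModuleCat.hom_comp, F.d_comp_d]
    rfl)

theorem range_toCyc (F : CochainComplex (ModuleCat.{u} A) ℤ) (p q r : ℤ) :
    LinearMap.range (F.sc' p q r).moduleCatToCycles = LinearMap.range (toCyc F p q r) := rfl

theorem map_range (p q r : ℤ) (hpq : p + 1 = q) (hqr : q + 1 = r)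
    (hG : ∀ m : G.X r, x • m = 0 → m = 0) :
    (LinearMap.range (toCyc F p q r)).map
        (T.kerEquiv q r hqr hG : ↥(LinearMap.ker (F.d q r).hom) →ₗ[A] ↥(LinearMap.ker (G.d q r).hom)) =
      Submodule.comap (LinearMap.ker (G.d q r).hom).subtype
        (Ideal.span {x} • LinearMap.range (G.d p q).hom) := by
  ext z
  rw [Submodule.mem_comap, Submodule.ideal_span_singleton_smul,
    Submodule.mem_smul_pointwise_iff_exists]
  constructor
  · rintro ⟨_, ⟨u, rfl⟩, rfl⟩
    refine ⟨(G.d p q).hom ((T.θ p).hom.hom u), ⟨_, rfl⟩, ?_⟩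
    rw [← T.comm_apply p q hpq]
    rfl
  · rintro ⟨_, ⟨w, rfl⟩, hw⟩
    refine ⟨toCyc F p q r ((T.θ p).inv.hom w), ⟨_, rfl⟩, ?_⟩
    apply Subtype.ext
    show (T.θ q).hom.hom ((F.d p q).hom ((T.θ p).inv.hom w)) = (z : G.X q)
    have h1 : (T.θ p).hom.hom ((T.θ p).inv.hom w) = w := by
      have := congrArg (fun g => g.hom w) (T.θ p).inv_hom_id
      simpa using this
    have h2 := T.comm_apply p q hpq ((T.θ p).inv.hom w)
    rw [h1] at h2
    rw [h2]
    exact hw

include T in
theorem nonempty_homology_iso (p q r : ℤ) (hpq : p + 1 = q) (hqr : q + 1 = r)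
    (hG : ∀ m : G.X r, x • m = 0 → m = 0) :
    Nonempty (F.homology q ≅ ModuleCat.of A (↥(LinearMap.ker (G.d q r).hom) ⧸
        Submodule.comap (LinearMap.ker (G.d q r).hom).subtype
          (Ideal.span {x} • LinearMap.range (G.d p q).hom))) := by
  have e1 : F.homology q ≅ (F.sc' p q r).homology :=
    F.homologyIsoSc' p q r (by simp [← hpq]) (by simp [← hqr])
  have e2 := (F.sc' p q r).moduleCatHomologyIso
  have e3 : (↥(LinearMap.ker (F.d q r).hom) ⧸ LinearMap.range (F.sc' p q r).moduleCatToCycles) ≃ₗ[A]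
      (↥(LinearMap.ker (G.d q r).hom) ⧸
        Submodule.comap (LinearMap.ker (G.d q r).hom).subtype
          (Ideal.span {x} • LinearMap.range (G.d p q).hom)) :=
    Submodule.Quotient.equiv _ _ (T.kerEquiv q r hqr hG)
      ((congrArg (fun N => Submodule.map (T.kerEquiv q r hqr hG :
        ↥(LinearMap.ker (F.d q r).hom) →ₗ[A] ↥(LinearMap.ker (G.d q r).hom)) N)
          (range_toCyc F p q r)).trans (T.map_range p q r hpq hqr hG))
  exact ⟨e1 ≪≫ e2 ≪≫ e3.toModuleIso⟩

end GIso

/-- the cohomology of the Koszul complex of `x * l` -/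
theorem nonempty_koszul_mul_homology_iso (l : List A) (x : A) (hx : x ∈ nonZeroDivisors A) (q : ℤ) :
    Nonempty ((Koszul.koszul A (l.map (fun f => x * f))).homology q ≅
      ModuleCat.of A (↥(LinearMap.ker ((Koszul.koszul A l).d q (q + 1)).hom) ⧸
        Submodule.comap (LinearMap.ker ((Koszul.koszul A l).d q (q + 1)).hom).subtype
          (Ideal.span {x} • LinearMap.range ((Koszul.koszul A l).d (q - 1) q).hom))) :=
  (koszulGIso x l).nonempty_homology_iso (q - 1) q (q + 1) (by omega) rfl
    (smul_eq_zero_imp x hx l (q + 1))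

end Groth.Agent.Helper9.KoszulMul
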