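import Mathlib

set_option autoImplicit false
universe u

namespace Groth.Agent.Helper9.Krasner

open Polynomial IsLocalRing Function List
open scoped Ring

/-- Hensel's lemma for adically complete rings, without the monic hypothesis (same Newton
iteration as for the monic case). -/
theorem hensel_of_isAdicComplete (R : Type*) [CommRing R] (I : Ideal R) [IsAdicComplete I R]
    (f : R[X]) (a₀ : R) (h₁ : f.eval a₀ ∈ I)
    (h₂ : IsUnit (Ideal.Quotient.mk I (f.derivative.eval a₀))) :
    ∃ a : R, f.IsRoot a ∧ a - a₀ ∈ I := by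
  classical
    let f' := derivative f
    -- we define a sequence `c n` by starting at `a₀` and then continually
    -- applying the function sending `b` to `b - f(b)/f'(b)` (Newton's method).
    -- Note that `f'.eval b` is a unit, because `b` has the same residue as `a₀` modulo `I`.
    let c : ℕ → R := fun n => Nat.recOn n a₀ fun _ b => b - f.eval b * (f'.eval b)⁻¹ʳ
    have hc : ∀ n, c (n + 1) = c n - f.eval (c n) * (f'.eval (c n))⁻¹ʳ := by
      intro n
      simp only [c]
    -- we now spend some time determining properties of the sequence `c : ℕ → R`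
    -- `hc_mod`: for every `n`, we have `c n ≡ a₀ [SMOD I]`
    -- `hf'c`  : for every `n`, `f'.eval (c n)` is a unit
    -- `hfcI`  : for every `n`, `f.eval (c n)` is contained in `I ^ (n+1)`
    have hc_mod : ∀ n, c n ≡ a₀ [SMOD I] := by
      intro n
      induction n with
      | zero => rfl
      | succ n ih => ?_
      rw [hc, sub_eq_add_neg, ← add_zero a₀]
      refine ih.add ?_
      rw [SModEq.zero, Ideal.neg_mem_iff]
      refine I.mul_mem_right _ ?_
      rw [← SModEq.zero] at h₁ ⊢
      exact (ih.eval f).trans h₁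
    have hf'c : ∀ n, IsUnit (f'.eval (c n)) := by
      intro n
      have := isLocalHom_of_le_jacobson_bot I (IsAdicComplete.le_jacobson_bot I)
      apply IsUnit.of_map (Ideal.Quotient.mk I)
      convert! h₂ using 1
      exact SModEq.def.mp ((hc_mod n).eval _)
    have hfcI : ∀ n, f.eval (c n) ∈ I ^ (n + 1) := by
      intro n
      induction n with
      | zero => simpa only [Nat.rec_zero, zero_add, pow_one] using! h₁
      | succ n ih => ?_
      rw [← taylor_eval_sub (c n), hc, sub_eq_add_neg, sub_eq_add_neg,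
        add_neg_cancel_comm]
      rw [eval_eq_sum, sum_over_range' _ _ _ (lt_add_of_pos_right _ zero_lt_two), ←
        Finset.sum_range_add_sum_Ico _ (Nat.le_add_left _ _)]
      swap
      · intro i
        rw [zero_mul]
      refine Ideal.add_mem _ ?_ ?_
      · rw [← one_add_one_eq_two, Finset.sum_range_succ, Finset.range_one, Finset.sum_singleton,
          taylor_coeff_zero, taylor_coeff_one, pow_zero, pow_one, mul_one, mul_neg,
          mul_left_comm, Ring.mul_inverse_cancel _ (hf'c n), mul_one, add_neg_cancel]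
        exact Ideal.zero_mem _
      · refine Submodule.sum_mem _ ?_
        simp only [Finset.mem_Ico]
        rintro i ⟨h2i, _⟩
        have aux : n + 2 ≤ i * (n + 1) := by trans 2 * (n + 1) <;> nlinarith only [h2i]
        refine Ideal.mul_mem_left _ _ (Ideal.pow_le_pow_right aux ?_)
        rw [pow_mul']
        exact Ideal.pow_mem_pow ((Ideal.neg_mem_iff _).2 <| Ideal.mul_mem_right _ _ ih) _
    -- we are now in the position to show that `c : ℕ → R` is a Cauchy sequence
    have aux : ∀ m n, m ≤ n → c m ≡ c n [SMOD (I ^ m • ⊤ : Ideal R)] := by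
      intro m n hmn
      rw [← Ideal.one_eq_top, Ideal.smul_eq_mul, mul_one]
      obtain ⟨k, rfl⟩ := Nat.exists_eq_add_of_le hmn
      clear hmn
      induction k with
      | zero => rw [add_zero]
      | succ k ih => ?_
      rw [← add_assoc, hc, ← add_zero (c m), sub_eq_add_neg]
      refine ih.add ?_
      symm
      rw [SModEq.zero, Ideal.neg_mem_iff]
      refine Ideal.mul_mem_right _ _ (Ideal.pow_le_pow_right ?_ (hfcI _))
      rw [add_assoc]
      exact le_self_add
    -- hence the sequence converges to some limit point `a`, which is the `a` we are looking for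
    obtain ⟨a, ha⟩ := IsPrecomplete.prec' c (aux _ _)
    refine ⟨a, ?_, ?_⟩
    · show f.IsRoot a
      suffices ∀ n, f.eval a ≡ 0 [SMOD (I ^ n • ⊤ : Ideal R)] by exact IsHausdorff.haus' _ this
      intro n
      specialize ha n
      rw [← Ideal.one_eq_top, Ideal.smul_eq_mul, mul_one] at ha ⊢
      refine (ha.symm.eval f).trans ?_
      rw [SModEq.zero]
      exact Ideal.pow_le_pow_right le_self_add (hfcI _)
    · show a - a₀ ∈ I
      specialize ha (0 + 1)
      rw [hc, pow_one, ← Ideal.one_eq_top, Ideal.smul_eq_mul, mul_one, sub_eq_add_neg] at ha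
      rw [← SModEq.sub_mem, ← add_zero a₀]
      refine ha.symm.trans (SModEq.rfl.add ?_)
      rw [SModEq.zero, Ideal.neg_mem_iff]
      exact Ideal.mul_mem_right _ _ h₁


section dimOne
variable {A : Type u} [CommRing A] [IsDomain A] [IsLocalRing A] [IsNoetherianRing A]

lemma exists_pow_le_span (hdim : ringKrullDim A = 1) (d : A) (hd : d ≠ 0) :
    ∃ N : ℕ, maximalIdeal A ^ N ≤ Ideal.span {d} := by
  haveI : Ring.KrullDimLE 1 A := Ring.krullDimLE_iff.2 (by rw [hdim]; rfl)
  apply Ideal.exists_pow_le_of_le_radical_of_fg _ (IsNoetherian.noetherian _)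
  rw [Ideal.radical_eq_sInf]
  apply le_sInf
  rintro J ⟨hJ, hJp⟩
  have hJ0 : J ≠ ⊥ := by
    intro h
    apply hd
    have : d ∈ J := hJ (Ideal.subset_span rfl)
    rwa [h, Ideal.mem_bot] at this
  have hJm : J.IsMaximal := hJp.isMaximal_of_ne_bot hJ0
  rw [IsLocalRing.eq_maximalIdeal hJm]

end dimOne

section taylor
variable {A : Type u} [CommRing A]

/-- the auxiliary polynomial `F` with `d² F(y) = R(α + d y)` -/
noncomputable def auxF (R : A[X]) (α d e t : A) : A[X] :=
  C e + C (1 + t) * X + X ^ 2 * ((taylor α R).divX.divX).comp (C d * X)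

lemma eval_auxF (R : A[X]) (α d e t y : A) :
    (auxF R α d e t).eval y =
      e + (1 + t) * y + y ^ 2 * ((taylor α R).divX.divX).eval (d * y) := by
  unfold auxF
  simp only [eval_add, eval_mul, eval_C, eval_X, eval_pow, eval_comp]

lemma eval_taylor_decomp (R : A[X]) (α z : A) :
    R.eval (α + z) = R.eval α + R.derivative.eval α * z +
      z ^ 2 * ((taylor α R).divX.divX).eval z := by
  have h1 : (taylor α R).eval z = R.eval (z + α) := taylor_eval α R z
  have h2 : (taylor α R) = ((taylor α R).divX.divX * X + C ((taylor α R).divX.coeff 0)) * X +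
      C ((taylor α R).coeff 0) := by
    rw [divX_mul_X_add, divX_mul_X_add]
  have h3 : (taylor α R).divX.coeff 0 = R.derivative.eval α := by
    rw [coeff_divX, zero_add, taylor_coeff_one]
  rw [add_comm α z, ← h1]
  conv_lhs => rw [h2]
  rw [h3, taylor_coeff_zero]
  simp only [eval_add, eval_mul, eval_C, eval_X]
  ring

lemma sq_mul_eval_auxF (R : A[X]) (α d e t y : A) (he : R.eval α = d ^ 2 * e)
    (ht : R.derivative.eval α = d * (1 + t)) :
    d ^ 2 * (auxF R α d e t).eval y = R.eval (α + d * y) := by
  rw [eval_auxF, eval_taylor_decomp, he, ht]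
  ring

lemma auxF_eval_zero (R : A[X]) (α d e t : A) : (auxF R α d e t).eval 0 = e := by
  rw [eval_auxF]; ring

lemma auxF_derivative_eval_zero (R : A[X]) (α d e t : A) :
    (auxF R α d e t).derivative.eval 0 = 1 + t := by
  unfold auxF
  simp only [derivative_add, derivative_mul, derivative_C, derivative_X, derivative_X_pow,
    eval_add, eval_mul, eval_C, eval_X, eval_pow, zero_mul, mul_zero, add_zero, zero_add,
    mul_one, eval_zero]
  simp

end taylor

section main
variable {A : Type u} [CommRing A]

lemma eval_mem_of_coeff_mem (I : Ideal A) (Q : A[X]) (h : ∀ i, Q.coeff i ∈ I) (x : A) :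
    Q.eval x ∈ I := by
  rw [eval_eq_sum_range]
  exact Ideal.sum_mem _ fun i _ => Ideal.mul_mem_right _ _ (h i)

lemma derivative_coeff_mem (I : Ideal A) (Q : A[X]) (h : ∀ i, Q.coeff i ∈ I) (i : ℕ) :
    Q.derivative.coeff i ∈ I := by
  rw [coeff_derivative]
  exact Ideal.mul_mem_right _ _ (h _)

theorem main1965 [IsDomain A] [IsLocalRing A] [IsNoetherianRing A]
    [IsAdicComplete (maximalIdeal A) A] (hdim : ringKrullDim A = 1) (P : A[X]) (α : A)
    (hα : P.eval α = 0) (hα' : (derivative P).eval α ≠ 0) (c : ℕ) :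
    ∃ n : ℕ, ∀ Q : A[X], (∀ i, Q.coeff i ∈ maximalIdeal A ^ n) →
      ∃ β : A, (P + Q).eval β = 0 ∧ β - α ∈ maximalIdeal A ^ c := by
  set d := (derivative P).eval α with hd
  obtain ⟨N, hN⟩ := exists_pow_le_span hdim d hα'
  refine ⟨2 * N + (c + 1), fun Q hQ => ?_⟩
  have hQα := eval_mem_of_coeff_mem _ Q hQ α
  have hQ'α := eval_mem_of_coeff_mem _ Q.derivative (derivative_coeff_mem _ Q hQ) α
  have hle1 : maximalIdeal A ^ (2 * N + (c + 1)) ≤
      Ideal.span {d ^ 2} * maximalIdeal A ^ (c + 1) := by
    rw [pow_add, two_mul, pow_add, pow_two, ← Ideal.span_singleton_mul_span_singleton]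
    exact Ideal.mul_mono_left (Ideal.mul_mono hN hN)
  have hle2 : maximalIdeal A ^ (2 * N + (c + 1)) ≤ Ideal.span {d} * maximalIdeal A := by
    have h1 : maximalIdeal A ^ (2 * N + (c + 1)) ≤ maximalIdeal A ^ (N + 1) :=
      Ideal.pow_le_pow_right (by omega)
    refine h1.trans ?_
    rw [pow_succ]
    exact Ideal.mul_mono_left hN
  obtain ⟨e, he, hde⟩ := Ideal.mem_span_singleton_mul.1 (hle1 hQα)
  obtain ⟨t, ht, hdt⟩ := Ideal.mem_span_singleton_mul.1 (hle2 hQ'α)
  have hR0 : (P + Q).eval α = d ^ 2 * e := by rw [eval_add, hα, zero_add, hde]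
  have hR1 : (P + Q).derivative.eval α = d * (1 + t) := by
    rw [derivative_add, eval_add, ← hd, mul_add, mul_one, hdt]
  have hem : e ∈ maximalIdeal A := Ideal.pow_le_self (Nat.succ_ne_zero c) he
  have hF0 : (auxF (P + Q) α d e t).eval 0 ∈ maximalIdeal A := by
    rw [auxF_eval_zero]; exact hem
  have hF1 : IsUnit (Ideal.Quotient.mk (maximalIdeal A)
      ((auxF (P + Q) α d e t).derivative.eval 0)) := by
    rw [auxF_derivative_eval_zero, map_add, map_one, Ideal.Quotient.eq_zero_iff_mem.2 ht, add_zero]
    exact isUnit_one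
  obtain ⟨y, hy, hym⟩ := hensel_of_isAdicComplete A (maximalIdeal A) _ 0 hF0 hF1
  rw [sub_zero] at hym
  have hy' : (auxF (P + Q) α d e t).eval y = 0 := hy
  rw [eval_auxF] at hy'
  set U := ((taylor α (P + Q)).divX.divX).eval (d * y) with hU
  have hw : IsUnit ((1 + t) + y * U) := by
    by_contra hnu
    have h1 : (1 + t) + y * U ∈ maximalIdeal A := (IsLocalRing.mem_maximalIdeal _).2 hnu
    have h2 : t + y * U ∈ maximalIdeal A :=
      Ideal.add_mem _ ht (Ideal.mul_mem_right _ _ hym)
    have h3 : (1 : A) ∈ maximalIdeal A := by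
      have : (1 : A) = ((1 + t) + y * U) - (t + y * U) := by ring
      rw [this]
      exact Ideal.sub_mem _ h1 h2
    exact (Ideal.ne_top_iff_one _).1 (IsLocalRing.maximalIdeal.isMaximal A).ne_top h3
  obtain ⟨w, hw⟩ := hw
  have hyw : y * (w : A) = -e := by
    rw [hw]
    linear_combination hy'
  have hyc : y ∈ maximalIdeal A ^ (c + 1) := by
    have : y = -e * ((w⁻¹ : Aˣ) : A) := by
      rw [← hyw, mul_assoc, Units.mul_inv, mul_one]
    rw [this]
    exact Ideal.mul_mem_right _ _ (Ideal.neg_mem_iff _ |>.2 he)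
  refine ⟨α + d * y, ?_, ?_⟩
  · rw [← sq_mul_eval_auxF (P + Q) α d e t y hR0 hR1]
    have : (auxF (P + Q) α d e t).eval y = 0 := hy
    rw [this, mul_zero]
  · rw [add_sub_cancel_left]
    exact Ideal.mul_mem_left _ _ (Ideal.pow_le_pow_right (Nat.le_succ c) hyc)

end main

end Groth.Agent.Helper9.Krasner
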