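import Mathlib

set_option autoImplicit false

namespace Groth.Agent.Lib.Helper9.LogPoly

open Polynomial Finset

/-- truncated logarithm `Σ_{n ≤ d} (-1)^n/(n+1) X^(n+1)` -/
noncomputable def A (d : ℕ) : ℚ[X] :=
  ∑ n ∈ range (d + 1), C ((-1 : ℚ) ^ n / ((n : ℚ) + 1)) * X ^ (n + 1)

lemma derivative_A (d : ℕ) : derivative (A d) = ∑ n ∈ range (d + 1), (-X : ℚ[X]) ^ n := by
  rw [A, derivative_sum]
  refine Finset.sum_congr rfl fun n _ => ?_
  rw [derivative_C_mul, derivative_X_pow, ← mul_assoc, ← C_mul]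
  have h : ((-1 : ℚ) ^ n / ((n : ℚ) + 1)) * ((n + 1 : ℕ) : ℚ) = (-1) ^ n := by
    have : ((n : ℚ) + 1) ≠ 0 := by positivity
    push_cast
    field_simp
  rw [h, Nat.add_sub_cancel, neg_pow (X : ℚ[X]) n, C_pow, C_neg, C_1]

lemma one_add_mul_geom (R : Type*) [CommRing R] (y : R) (d : ℕ) :
    (1 + y) * ∑ n ∈ range (d + 1), (-y) ^ n = 1 - (-y) ^ (d + 1) := by
  have := mul_neg_geom_sum (-y) (d + 1)
  rwa [sub_neg_eq_add] at this

lemma eval_zero_A (d : ℕ) : (A d).eval 0 = 0 := by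
  rw [A, eval_finsetSum]
  refine Finset.sum_eq_zero fun n _ => ?_
  simp

/-- the key congruence `log((1+X)^j) ≡ j log(1+X)` modulo `X^(d+1)` -/
theorem key (d j : ℕ) (hj : 1 ≤ j) :
    (X : ℚ[X]) ^ (d + 1) ∣ (A d).comp ((1 + X) ^ j - 1) - C (j : ℚ) * A d := by
  set Y : ℚ[X] := (1 + X) ^ j - 1 with hY
  set D : ℚ[X] := (A d).comp Y - C (j : ℚ) * A d with hD
  have hXY : (X : ℚ[X]) ∣ Y := by
    have := sub_dvd_pow_sub_pow (1 + X : ℚ[X]) 1 j
    rwa [one_pow, add_sub_cancel_left] at this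
  have hY1 : 1 + Y = (1 + X) ^ j := by rw [hY]; ring
  have hdY : derivative Y = C (j : ℚ) * (1 + X) ^ (j - 1) := by
    rw [hY, derivative_sub, derivative_one, sub_zero, derivative_pow, derivative_add, derivative_one,
      derivative_X, zero_add, mul_one, C_eq_natCast]
  have hdD : (1 + X) * derivative D = C (j : ℚ) * ((-X) ^ (d + 1) - (-Y) ^ (d + 1)) := by
    have h1 : (1 + X : ℚ[X]) * (1 + X) ^ (j - 1) = (1 + X) ^ j := by
      rw [← pow_succ']; congr 1; omega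
    have h2 : (derivative (A d)).comp Y = ∑ n ∈ range (d + 1), (-Y) ^ n := by
      rw [derivative_A, ← coe_compRingHom_apply, map_sum]
      refine Finset.sum_congr rfl fun n _ => ?_
      rw [map_pow, map_neg, coe_compRingHom_apply, X_comp]
    have h3 := one_add_mul_geom ℚ[X] Y d
    have h4 := one_add_mul_geom ℚ[X] X d
    rw [hD, derivative_sub, derivative_comp, derivative_C_mul, hdY, h2, derivative_A]
    calc (1 + X) * (C (j : ℚ) * (1 + X) ^ (j - 1) * ∑ n ∈ range (d + 1), (-Y) ^ n -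
          C (j : ℚ) * ∑ n ∈ range (d + 1), (-X) ^ n)
        = C (j : ℚ) * (((1 + X) * (1 + X) ^ (j - 1)) * ∑ n ∈ range (d + 1), (-Y) ^ n -
          (1 + X) * ∑ n ∈ range (d + 1), (-X) ^ n) := by ring
      _ = C (j : ℚ) * ((-X) ^ (d + 1) - (-Y) ^ (d + 1)) := by
          rw [h1, ← hY1, h3, h4]; ring
  have hdvd1 : (X : ℚ[X]) ^ (d + 1) ∣ (1 + X) * derivative D := by
    rw [hdD]
    apply Dvd.dvd.mul_left
    apply dvd_sub
    · rw [neg_pow]; exact Dvd.intro_left _ rfl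
    · rw [neg_pow]; exact Dvd.dvd.mul_left (pow_dvd_pow_of_dvd hXY _) _
  have hcop : IsCoprime ((X : ℚ[X]) ^ (d + 1)) (1 + X) := by
    apply IsCoprime.pow_left
    exact ⟨-1, 1, by ring⟩
  have hdvd2 : (X : ℚ[X]) ^ (d + 1) ∣ derivative D := hcop.dvd_of_dvd_mul_left hdvd1
  rw [X_pow_dvd_iff] at hdvd2 ⊢
  intro m hm
  rcases m with _ | n
  · rw [coeff_zero_eq_eval_zero, hD, eval_sub, eval_comp, eval_mul, eval_zero_A]
    have : Y.eval 0 = 0 := by rw [hY]; simp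
    rw [this, eval_zero_A]; simp
  · have h := hdvd2 n (by omega)
    rw [coeff_derivative] at h
    have hn : ((n : ℚ) + 1) ≠ 0 := by positivity
    exact (mul_eq_zero.1 h).resolve_right hn

end Groth.Agent.Lib.Helper9.LogPoly
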