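import Mathlib

set_option autoImplicit false
universe u

namespace Groth.Agent.Helper9.S13916

open MvPolynomial

theorem main (k : Type u) [Field k] :
    (¬ ∃ g h : GL (Fin 2) k,
      (MvPolynomial.C : k →+* MvPolynomial (Fin 3) k).mapMatrix g.val *
          !![MvPolynomial.X 1, 0; MvPolynomial.X 0, MvPolynomial.X 2] *
        (MvPolynomial.C : k →+* MvPolynomial (Fin 3) k).mapMatrix h.val =
      !![MvPolynomial.X 2, 0; MvPolynomial.X 0, MvPolynomial.X 1]) ∧
    (∀ α β γ : k, α ≠ 0 → ∃ g h : GL (Fin 2) k,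
      (MvPolynomial.C : k →+* MvPolynomial (Fin 3) k).mapMatrix g.val *
          !![MvPolynomial.X 1, 0;
             MvPolynomial.C α * MvPolynomial.X 0 + MvPolynomial.C β * MvPolynomial.X 1 + MvPolynomial.C γ * MvPolynomial.X 2,
             MvPolynomial.X 2] *
        (MvPolynomial.C : k →+* MvPolynomial (Fin 3) k).mapMatrix h.val =
      !![MvPolynomial.X 1, 0; MvPolynomial.X 0, MvPolynomial.X 2]) := by
  constructor
  · rintro ⟨g, h, H⟩
    have e11 := congrFun (congrFun H 1) 1
    have e01 := congrFun (congrFun H 0) 1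
    simp [Matrix.mul_apply, Fin.sum_univ_two] at e11 e01
    -- evaluate at e₁ and e₀
    have a1 := congrArg (MvPolynomial.eval (![0, 1, 0] : Fin 3 → k)) e11
    have a2 := congrArg (MvPolynomial.eval (![0, 1, 0] : Fin 3 → k)) e01
    have a3 := congrArg (MvPolynomial.eval (![1, 0, 0] : Fin 3 → k)) e01
    simp at a1 a2 a3
    have hdet : (g.val).det = 0 := by
      rw [Matrix.det_fin_two]
      rcases a2 with h1 | h1
      · rcases a3 with h2 | h2
        · rw [h1, h2]; ring
        · rw [h2] at a1; simp at a1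
      · rw [h1] at a1; simp at a1
    have := g.isUnit.map (Matrix.detMonoidHom)
    simp only [Matrix.coe_detMonoidHom] at this
    rw [hdet] at this
    exact not_isUnit_zero this
  · intro α β γ hα
    refine ⟨Matrix.GeneralLinearGroup.mkOfDetNeZero !![1, 0; -β / α, 1 / α] (by
        rw [Matrix.det_fin_two]; simp [hα]),
      Matrix.GeneralLinearGroup.mkOfDetNeZero !![1, 0; -γ, α] (by
        rw [Matrix.det_fin_two]; simp [hα]), ?_⟩
    have hc : (C α⁻¹ : MvPolynomial (Fin 3) k) * C α = 1 := by
      rw [← C_mul, inv_mul_cancel₀ hα, C_1]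
    have hb : (C (-β / α) : MvPolynomial (Fin 3) k) = -(C β * C α⁻¹) := by
      rw [neg_div, div_eq_mul_inv, map_neg, map_mul]
    apply Matrix.ext
    intro i j
    fin_cases i <;> fin_cases j <;>
      simp [Matrix.mul_apply, Fin.sum_univ_two, Matrix.GeneralLinearGroup.mkOfDetNeZero]
    · rw [hb]
      linear_combination (X 0 + C β * X 1 * C α⁻¹ * 0) * hc
    · linear_combination (X 2) * hc

end Groth.Agent.Helper9.S13916
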