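import Mathlib

set_option autoImplicit false
universe u

namespace Groth.Agent.Helper9.MonicAnn

open Polynomial

lemma map_eq_X_pow {A : Type u} [CommRing A] (I : Ideal A) (g : A[X]) (hg : g.Monic)
    (hc : ∀ k, g.coeff k ∈ I ^ (g.natDegree - k)) :
    g.map (Ideal.Quotient.mk I) = X ^ g.natDegree := by
  ext k
  rw [coeff_map, coeff_X_pow]
  split_ifs with h
  · rw [h, hg.coeff_natDegree, map_one]
  · rcases lt_or_gt_of_ne h with h1 | h1
    · rw [Ideal.Quotient.eq_zero_iff_mem]
      have h2 := hc k
      have h3 : g.natDegree - k ≠ 0 := by omega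
      exact Ideal.pow_le_self h3 h2
    · rw [coeff_eq_zero_of_natDegree_lt h1, map_zero]

theorem main (A B : Type u) [CommRing A] [CommRing B] [Algebra A B]
    [Algebra.IsIntegral A B] (I : Ideal A) (b : B)
    (hb : IsIdempotentElem (Ideal.Quotient.mk (I.map (algebraMap A B)) b)) :
    ∃ (f : A[X]) (d : ℕ), f.Monic ∧ 1 ≤ d ∧ aeval b f = 0 ∧
      f.map (Ideal.Quotient.mk I) = X ^ d * (X - 1) ^ d := by
  classical
  cases subsingleton_or_nontrivial A with
  | inl hsub =>
    haveI : Subsingleton B := Module.subsingleton A B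
    haveI : Subsingleton (A ⧸ I) := Function.Surjective.subsingleton Ideal.Quotient.mk_surjective
    exact ⟨1, 1, Subsingleton.elim _ _, le_refl _, Subsingleton.elim _ _, Subsingleton.elim _ _⟩
  | inr hnt =>
  have hc : b * b - b ∈ I.map (algebraMap A B) := by
    rw [← Ideal.Quotient.eq_zero_iff_mem, map_sub, map_mul, hb.eq, sub_self]
  have hc' : b * b - b ∈ Submodule.span B ((algebraMap A B) '' (I : Set A)) := hc
  rw [Submodule.mem_span_image_iff_exists_fun] at hc'
  obtain ⟨t, htI, coef, hsum⟩ := hc'
  let S : Set B := insert b (Set.range coef)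
  have hSfin : S.Finite := (Set.finite_range coef).insert b
  haveI : Module.Finite A (Algebra.adjoin A S) :=
    Algebra.finite_adjoin_of_finite_of_isIntegral hSfin (fun x _ => Algebra.IsIntegral.isIntegral x)
  have hbS : b ∈ Algebra.adjoin A S := Algebra.subset_adjoin (Set.mem_insert _ _)
  have hcoefS : ∀ i, coef i ∈ Algebra.adjoin A S := fun i =>
    Algebra.subset_adjoin (Set.mem_insert_of_mem _ (Set.mem_range_self i))
  let b' : Algebra.adjoin A S := ⟨b, hbS⟩
  let c' : Algebra.adjoin A S := b' * b' - b'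
  have hrange : LinearMap.range (Algebra.lmul A (Algebra.adjoin A S) c') ≤
      I • (⊤ : Submodule A (Algebra.adjoin A S)) := by
    rintro _ ⟨x, rfl⟩
    have h1 : Algebra.lmul A (Algebra.adjoin A S) c' x =
        ∑ i : t, (i : A) • ((⟨coef i, hcoefS i⟩ : Algebra.adjoin A S) * x) := by
      apply Subtype.ext
      change (b * b - b) * (x : B) = _
      rw [← hsum, Finset.sum_mul]
      push_cast
      refine Finset.sum_congr rfl fun i _ => ?_
      change coef i * algebraMap A B (i : A) * (x : B) = (i : A) • (coef i * (x : B))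
      rw [Algebra.smul_def]
      ring
    rw [h1]
    exact Submodule.sum_mem _ fun i _ =>
      Submodule.smul_mem_smul (htI i.2) Submodule.mem_top
  obtain ⟨g, hgm, -, hgc, hg0⟩ :=
    LinearMap.exists_monic_and_natDegree_eq_and_coeff_mem_pow_and_aeval_eq_zero A
      (Algebra.lmul A (Algebra.adjoin A S) c') I hrange
  have hgc' : aeval c' g = 0 := by
    have h2 := congrArg (fun φ : Module.End A (Algebra.adjoin A S) => φ 1) hg0
    simp only [aeval_algHom_apply, LinearMap.zero_apply] at h2
    change aeval c' g * 1 = 0 at h2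
    rwa [mul_one] at h2
  have hgc'' : aeval (b * b - b) g = 0 := by
    have h3 := congrArg (Subtype.val : Algebra.adjoin A S → B) hgc'
    rwa [aeval_subalgebra_coe, Subalgebra.coe_zero] at h3
  have hq : (X ^ 2 - X : A[X]).Monic := by
    apply monic_X_pow_sub
    rw [degree_X]
    norm_num
  have hqd : (X ^ 2 - X : A[X]).natDegree ≠ 0 := by
    have : (X ^ 2 - X : A[X]).natDegree = 2 := by
      rw [natDegree_sub_eq_left_of_natDegree_lt, natDegree_X_pow]
      rw [natDegree_X_pow, natDegree_X]
      norm_num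
    omega
  refine ⟨(g * X).comp (X ^ 2 - X), g.natDegree + 1, (hgm.mul monic_X).comp hq hqd,
    Nat.le_add_left _ _, ?_, ?_⟩
  · rw [aeval_comp, map_sub, map_pow, aeval_X, map_mul, aeval_X, pow_two, hgc'', zero_mul]
  · rw [map_comp, Polynomial.map_mul, map_X, map_eq_X_pow I g hgm hgc, Polynomial.map_sub,
      Polynomial.map_pow, map_X, ← pow_succ, X_pow_comp, ← mul_pow]
    congr 1
    ring

end Groth.Agent.Helper9.MonicAnn
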