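import Mathlib

set_option autoImplicit false
universe u
open scoped TensorProduct
open Polynomial

namespace Groth.Agent.Helper9.Monog

variable (A : Type u) [CommRing A] [IsDomain A]
    (B : Type u) [CommRing B] [Algebra A B] [NoZeroSMulDivisors A B]

local notation "K" => FractionRing A
local notation "L" => (FractionRing A) ⊗[A] B

lemma inj : Function.Injective (TensorProduct.mk A K B 1) := by
  rw [injective_iff_map_eq_zero]
  intro b hb
  obtain ⟨s, hs⟩ := (IsLocalizedModule.eq_zero_iff (nonZeroDivisors A) (TensorProduct.mk A K B 1)).mp hb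
  have hs0 : (s : A) ≠ 0 := nonZeroDivisors.ne_zero s.2
  exact (smul_eq_zero.mp hs).resolve_left hs0

variable {A B}

omit [IsDomain A] [NoZeroSMulDivisors A B] in
lemma aeval_tmul (x : B) (p : A[X]) :
    aeval ((1 : K) ⊗ₜ[A] x) (p.map (algebraMap A K)) = (1 : K) ⊗ₜ[A] (aeval x p) := by
  rw [aeval_map_algebraMap]
  have := Polynomial.aeval_algHom_apply (Algebra.TensorProduct.includeRight : B →ₐ[A] L) x p
  simpa using this

omit [IsDomain A] [NoZeroSMulDivisors A B] in
lemma adjoin_top (x : B) (hx : Algebra.adjoin A {x} = ⊤) :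
    Algebra.adjoin K {(1 : K) ⊗ₜ[A] x} = ⊤ := by
  rw [eq_top_iff]
  rintro z -
  induction z using TensorProduct.induction_on with
  | zero => exact Subalgebra.zero_mem _
  | tmul k b =>
    have hb : b ∈ Algebra.adjoin A {x} := by rw [hx]; trivial
    rw [Algebra.adjoin_singleton_eq_range_aeval] at hb
    obtain ⟨p, rfl⟩ := hb
    change k ⊗ₜ[A] (aeval x p) ∈ _
    have : k ⊗ₜ[A] (aeval x p) = k • ((1 : K) ⊗ₜ[A] (aeval x p)) := by
      rw [TensorProduct.smul_tmul', smul_eq_mul, mul_one]
    rw [this, ← aeval_tmul]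
    exact Subalgebra.smul_mem _ (Polynomial.aeval_mem_adjoin_singleton _ _) _
  | add a b ha hb => exact Subalgebra.add_mem _ ha hb

theorem main [IsIntegrallyClosed A] [Module.Finite A B] (x : B) (hx : Algebra.adjoin A {x} = ⊤) :
    ∃ P : Polynomial A, P.Monic ∧
      Polynomial.map (algebraMap A (FractionRing A)) P =
        (LinearMap.mulLeft (FractionRing A) ((1 : FractionRing A) ⊗ₜ[A] x)).charpoly ∧
      RingHom.ker (Polynomial.aeval x).toRingHom = Ideal.span {P} := by
  set y : L := (1 : K) ⊗ₜ[A] x with hy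
  have hxint : IsIntegral A x := Algebra.IsIntegral.isIntegral x
  have hyK : IsIntegral K y := Algebra.IsIntegral.isIntegral y
  -- a monic polynomial over A killing x
  obtain ⟨f, hfm, hfx⟩ := hxint
  have hfx' : aeval x f = 0 := by simpa [aeval_def] using hfx
  have hfy : aeval y (f.map (algebraMap A K)) = 0 := by rw [hy, aeval_tmul, hfx', TensorProduct.tmul_zero]
  have hdvd : minpoly K y ∣ f.map (algebraMap A K) := minpoly.dvd K y hfy
  obtain ⟨P, hP⟩ := IsIntegrallyClosed.eq_map_mul_C_of_dvd K hfm hdvd
  have hmm : (minpoly K y).Monic := minpoly.monic hyK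
  rw [hmm.leadingCoeff, C_1, mul_one] at hP
  have hinjK : Function.Injective (algebraMap A K) := IsFractionRing.injective A K
  have hPm : P.Monic := Polynomial.monic_of_injective hinjK (by rw [hP]; exact hmm)
  refine ⟨P, hPm, ?_, ?_⟩
  · rw [hP]
    let pb := PowerBasis.ofAdjoinEqTop hyK (adjoin_top x hx)
    have h1 : (Algebra.leftMulMatrix pb.basis pb.gen).charpoly = minpoly K pb.gen :=
      charpoly_leftMulMatrix pb
    have h2 : pb.gen = y := PowerBasis.ofAdjoinEqTop_gen hyK (adjoin_top x hx)
    rw [h2] at h1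
    rw [← h1]
    have h3 : Algebra.leftMulMatrix pb.basis y = LinearMap.toMatrix pb.basis pb.basis (LinearMap.mulLeft K y) := by
      rw [Algebra.leftMulMatrix_apply]; rfl
    rw [h3, LinearMap.charpoly_toMatrix]
  · ext g
    simp only [AlgHom.toRingHom_eq_coe, RingHom.mem_ker, RingHom.coe_coe, Ideal.mem_span_singleton]
    constructor
    · intro hg
      have hgy : aeval y (g.map (algebraMap A K)) = 0 := by
        rw [hy, aeval_tmul, hg, TensorProduct.tmul_zero]
      have := minpoly.dvd K y hgy
      rw [← hP] at this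
      exact (Polynomial.map_dvd_map _ hinjK hPm).mp this
    · rintro ⟨q, rfl⟩
      have hPy : aeval y (P.map (algebraMap A K)) = 0 := by rw [hP]; exact minpoly.aeval K y
      rw [hy, aeval_tmul] at hPy
      have hPx : aeval x P = 0 := (injective_iff_map_eq_zero _).mp (inj A B) _ hPy
      rw [map_mul, hPx, zero_mul]

end Groth.Agent.Helper9.Monog
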