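import Mathlib
import Groth.Agent.Lib.Helper9.OrbitLib

/-!
The numerical function `IsMu` of a vector and a one-parameter subgroup: characterisation in
terms of polynomial preimages, uniqueness, existence for a non-zero vector.
-/

set_option autoImplicit false

namespace Groth.Agent.Helper9.MuLib

open TensorProduct LaurentPolynomial

universe u v w

section Poly
variable {k : Type u} [Field k] {ι : Type w}

/-- pull out the largest common power of `X` from a family of polynomials, not all zero -/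
theorem exists_pow_mul (n : ℕ) : ∀ (q : ι → Polynomial k) (i0 : ι), q i0 ≠ 0 →
    (q i0).natDegree = n →
    ∃ (d : ℕ) (q' : ι → Polynomial k), (∀ i, q i = Polynomial.X ^ d * q' i) ∧
      ∃ i, (q' i).coeff 0 ≠ 0 := by
  induction n using Nat.strong_induction_on with
  | _ n ih =>
    intro q i0 h0 hn
    by_cases hex : ∃ i, (q i).coeff 0 ≠ 0
    · exact ⟨0, q, fun i => by simp, hex⟩
    · push Not at hex
      have hdvd : ∀ i, Polynomial.X ∣ q i := fun i => Polynomial.X_dvd_iff.mpr (hex i)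
      choose q'' hq'' using hdvd
      have h0' : q'' i0 ≠ 0 := by
        intro h; apply h0; rw [hq'' i0, h, mul_zero]
      have hdeg : (q'' i0).natDegree < n := by
        rw [← hn, hq'' i0, Polynomial.natDegree_X_mul h0']; omega
      obtain ⟨d, q', hq', hex'⟩ := ih _ hdeg q'' i0 h0' rfl
      refine ⟨d + 1, q', fun i => ?_, hex'⟩
      rw [hq'' i, hq' i, pow_succ', mul_assoc]

/-- `T e * toLaurent g` for `e ≥ 0` is the image of `X ^ e * g` -/
lemma T_mul_toLaurent (e : ℤ) (he : 0 ≤ e) (g : Polynomial k) :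
    T e * Polynomial.toLaurent g = Polynomial.toLaurent (Polynomial.X ^ e.toNat * g) := by
  rw [map_mul, map_pow, Polynomial.toLaurent_X, T_pow, mul_one, Int.toNat_of_nonneg he]

lemma T_mul_cancel (e : ℤ) (p : k[T;T⁻¹]) : T (-e) * (T e * p) = p := by
  rw [← mul_assoc, ← T_add, neg_add_cancel, T_zero, one_mul]

/-- normalisation of a finite family of Laurent polynomials, not all zero -/
theorem exists_shift [Finite ι] (p : ι → k[T;T⁻¹]) (i0 : ι) (h0 : p i0 ≠ 0) :
    ∃ (m : ℤ) (g : ι → Polynomial k), (∀ i, Polynomial.toLaurent (g i) = T m * p i) ∧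
      ∃ i, (g i).coeff 0 ≠ 0 := by
  classical
  have := Fintype.ofFinite ι
  choose n f hf using fun i => (p i).exists_T_pow
  let N : ℕ := ∑ i, n i
  have hle : ∀ i, n i ≤ N := fun i => Finset.single_le_sum (fun _ _ => Nat.zero_le _) (Finset.mem_univ i)
  let q : ι → Polynomial k := fun i => f i * Polynomial.X ^ (N - n i)
  have hq : ∀ i, Polynomial.toLaurent (q i) = T N * p i := by
    intro i
    show Polynomial.toLaurent (f i * Polynomial.X ^ (N - n i)) = _
    rw [map_mul, hf i, map_pow, Polynomial.toLaurent_X, T_pow, mul_one, mul_assoc, ← T_add, mul_comm]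
    congr 2
    have := hle i
    omega
  have hq0 : q i0 ≠ 0 := by
    intro h
    apply h0
    have h1 := hq i0
    rw [h, map_zero] at h1
    rw [← T_mul_cancel (N : ℤ) (p i0), ← h1, mul_zero]
  obtain ⟨d, q', hq', hex⟩ := exists_pow_mul _ q i0 hq0 rfl
  refine ⟨(N : ℤ) - d, q', fun i => ?_, hex⟩
  have h1 := hq i
  rw [hq' i, map_mul, map_pow, Polynomial.toLaurent_X, T_pow, mul_one] at h1
  have h2 : Polynomial.toLaurent (q' i) = T (-(d : ℤ)) * (T (N : ℤ) * p i) := by
    rw [← h1, T_mul_cancel]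
  rw [h2, ← mul_assoc, ← T_add]
  congr 2
  ring

end Poly

section Mu
variable {k : Type u} [Field k] {A : Type v} [CommRing A] [Bialgebra k A]
  {ι : Type w} [Fintype ι] [HopfRep.Comod k A (MvPolynomial ι k)]
  [GLin.IsCoactAlg k A (MvPolynomial ι k)]

/-- the coordinates of the one-parameter orbit -/
noncomputable def pc (lam : A →ₐc[k] k[T;T⁻¹]) (v : ι → k) (i : ι) : k[T;T⁻¹] :=
  GLin.lamOrbit k A lam (GLin.vecPt k ι v) (MvPolynomial.X i)

lemma counit_pc (lam : A →ₐc[k] k[T;T⁻¹]) (v : ι → k) (i : ι) :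
    Coalgebra.counit (R := k) (pc lam v i) = v i := by
  show Coalgebra.counit (R := k) (lam (GLin.orbitHom k A (GLin.vecPt k ι v) (MvPolynomial.X i))) = _
  rw [CoalgHomClass.counit_comp_apply, OrbitLib.orbitHom_eq_coeff, counit_coeff]
  show MvPolynomial.aeval v (MvPolynomial.X i) = v i
  rw [MvPolynomial.aeval_X]

lemma pc_ne_zero (lam : A →ₐc[k] k[T;T⁻¹]) (v : ι → k) (i : ι) (hv : v i ≠ 0) : pc lam v i ≠ 0 := by
  intro h
  apply hv
  rw [← counit_pc lam v i, h, map_zero]

theorem isMu_iff (lam : A →ₐc[k] k[T;T⁻¹]) (v : ι → k) (m : ℤ) :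
    GLin.IsMu k A lam v m ↔ ∃ g : ι → Polynomial k,
      (∀ i, Polynomial.toLaurent (g i) = T m * pc lam v i) ∧ ∃ i, (g i).coeff 0 ≠ 0 := by
  constructor
  · rintro ⟨h, hh, hne⟩
    refine ⟨fun i => h (MvPolynomial.X i), fun i => ?_, ?_⟩
    · have := congrArg (fun φ : MvPolynomial ι k →ₐ[k] k[T;T⁻¹] => φ (MvPolynomial.X i)) hh
      simp only [AlgHom.comp_apply] at this
      rw [GLin.shiftedOrbit, MvPolynomial.aeval_X] at this
      exact this
    · by_contra hcon
      push Not at hcon
      apply hne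
      apply MvPolynomial.algHom_ext
      intro i
      rw [AlgHom.comp_apply, MvPolynomial.aeval_X, ← Polynomial.coeff_zero_eq_aeval_zero]
      exact hcon i
  · rintro ⟨g, hg, i, hi⟩
    refine ⟨MvPolynomial.aeval g, ?_, ?_⟩
    · apply MvPolynomial.algHom_ext
      intro j
      rw [AlgHom.comp_apply, MvPolynomial.aeval_X, GLin.shiftedOrbit, MvPolynomial.aeval_X]
      exact hg j
    · intro h
      apply hi
      have := congrArg (fun φ : MvPolynomial ι k →ₐ[k] k => φ (MvPolynomial.X i)) h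
      simp only [AlgHom.comp_apply, MvPolynomial.aeval_X] at this
      rw [Polynomial.coeff_zero_eq_aeval_zero]
      exact this

theorem exists_isMu (lam : A →ₐc[k] k[T;T⁻¹]) (v : ι → k) (hv : v ≠ 0) :
    ∃ m : ℤ, GLin.IsMu k A lam v m := by
  have : ∃ i, v i ≠ 0 := by
    by_contra h
    push Not at h
    exact hv (funext h)
  obtain ⟨i0, hi0⟩ := this
  obtain ⟨m, g, hg, hex⟩ := exists_shift (pc lam v) i0 (pc_ne_zero lam v i0 hi0)
  exact ⟨m, (isMu_iff lam v m).mpr ⟨g, hg, hex⟩⟩

/-- comparison of two preimages -/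
lemma eq_X_pow_mul (p : k[T;T⁻¹]) (m m' : ℤ) (hmm : m ≤ m') (g g' : Polynomial k)
    (hg : Polynomial.toLaurent g = T m * p) (hg' : Polynomial.toLaurent g' = T m' * p) :
    g' = Polynomial.X ^ (m' - m).toNat * g := by
  apply Polynomial.toLaurent_injective
  rw [← T_mul_toLaurent (m' - m) (by omega), hg, hg', ← mul_assoc, ← T_add]
  congr 2
  ring

theorem isMu_unique (lam : A →ₐc[k] k[T;T⁻¹]) (v : ι → k) (m m' : ℤ)
    (h : GLin.IsMu k A lam v m) (h' : GLin.IsMu k A lam v m') : m = m' := by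
  have key : ∀ m m' : ℤ, GLin.IsMu k A lam v m → GLin.IsMu k A lam v m' → m' ≤ m := by
    intro m m' h h'
    by_contra hlt
    push Not at hlt
    obtain ⟨g, hg, _⟩ := (isMu_iff lam v m).mp h
    obtain ⟨g', hg', i, hi⟩ := (isMu_iff lam v m').mp h'
    apply hi
    rw [eq_X_pow_mul (pc lam v i) m m' hlt.le (g i) (g' i) (hg i) (hg' i), Polynomial.mul_coeff_zero,
      Polynomial.coeff_X_pow]
    have : (0 : ℕ) ≠ (m' - m).toNat := by omega
    rw [if_neg this, zero_mul]
  exact le_antisymm (key m' m h' h) (key m m' h h')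

end Mu

end Groth.Agent.Helper9.MuLib
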