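import Mathlib
import Groth.Prelude.Def_W4c5qllcourbesmultMultCrv

/-!
Basic facts on modules over `R[X]/(X^n)`.
-/

set_option autoImplicit false

namespace Groth.Agent.Helper9
namespace MC

open MultCrv Polynomial

variable (R : Type*) [CommRing R] (n : ℕ)

theorem z_pow_n : (z R n) ^ n = 0 := by
  change (Ideal.Quotient.mk (Ideal.span {(X : R[X]) ^ n}) X) ^ n = 0
  rw [← map_pow, Ideal.Quotient.eq_zero_iff_mem]
  exact Ideal.subset_span rfl

variable {R n}
variable {M : Type*} [AddCommGroup M] [Module (Rn R n) M]

theorem mem_filt_iff (i : ℕ) (v : M) : v ∈ filt R n M i ↔ ∃ w : M, (z R n) ^ i • w = v := by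
  rfl

theorem mem_filt2_iff (i : ℕ) (v : M) : v ∈ filt2 R n M i ↔ (z R n) ^ i • v = 0 := by
  rfl

/-- If `z^k u = 0`-type vanishing propagates: an element whose `z`-socle multiples vanish is
zero. -/
theorem eq_zero_of_socle (P : M → Prop) (hP : ∀ u, P u → P (z R n • u))
    (h : ∀ u, P u → z R n • u = 0 → u = 0) (u : M) (hu : P u) : u = 0 := by
  have key : ∀ k : ℕ, ∀ u : M, P u → (z R n) ^ k • u = 0 → u = 0 := by
    intro k
    induction k with
    | zero => intro u _ h0; simpa using h0
    | succ k ih =>
      intro u hu h0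
      apply ih u hu
      have hPk : ∀ j : ℕ, P ((z R n) ^ j • u) := by
        intro j
        induction j with
        | zero => simpa using hu
        | succ j ihj =>
          rw [pow_succ', mul_smul]
          exact hP _ ihj
      apply h _ (hPk k)
      rw [smul_smul, ← pow_succ', h0]
  apply key n u hu
  rw [z_pow_n]
  exact zero_smul (Rn R n) u

end MC
end Groth.Agent.Helper9
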