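import Mathlib
import Groth.Agent.Lib.Helper9.MultCrvBasic

/-!
The Frobenius structure of `A = R[X]/(X^(k+1))` over `R`: the `R`-linear form `τ` (coefficient of
`z^k`) induces a bijection `Hom_A(M, A) ≅ Hom_R(M, R)`.
-/

set_option autoImplicit false

namespace Groth.Agent.Helper9
namespace MC

open MultCrv Polynomial

variable (R : Type*) [CommRing R] [Nontrivial R] (k : ℕ)

/-- The coefficient of `z^k`. -/
noncomputable def tau : Rn R (k + 1) →ₗ[R] R :=
  lcoeff R k ∘ₗ AdjoinRoot.modByMonicHom (monic_X_pow (k + 1))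

theorem modByMonicHom_X_pow (j : ℕ) (hj : j < k + 1) :
    AdjoinRoot.modByMonicHom (monic_X_pow (k + 1))
      (AdjoinRoot.mk ((X : R[X]) ^ (k + 1)) (X ^ j)) = X ^ j := by
  rw [AdjoinRoot.modByMonicHom_mk, (modByMonic_eq_self_iff (monic_X_pow (k + 1))).mpr]
  rw [degree_X_pow, degree_X_pow]
  exact_mod_cast hj

theorem tau_z_pow (j : ℕ) : tau R k (z R (k + 1) ^ j) = if j = k then 1 else 0 := by
  by_cases hj : j < k + 1
  · have h1 : z R (k + 1) ^ j = AdjoinRoot.mk (X ^ (k + 1)) (X ^ j) := by
      rw [map_pow]; rfl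
    rw [h1]
    change (AdjoinRoot.modByMonicHom (monic_X_pow (k + 1))
      (AdjoinRoot.mk ((X : R[X]) ^ (k + 1)) (X ^ j))).coeff k = _
    rw [modByMonicHom_X_pow R k j hj, coeff_X_pow]
    simp [eq_comm]
  · have h1 : z R (k + 1) ^ j = 0 := by
      have : j = (k + 1) + (j - (k + 1)) := by omega
      rw [this, pow_add, z_pow_n, zero_mul]
    rw [h1, map_zero, if_neg (by omega)]

variable {R k}
variable {M : Type*} [AddCommGroup M] [Module (Rn R (k + 1)) M] [Module R M]
  [IsScalarTower R (Rn R (k + 1)) M]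

/-- The `R`-linear version of the lifted form. -/
noncomputable def liftFormR (l : M →ₗ[R] R) : M →ₗ[R] Rn R (k + 1) where
  toFun m := ∑ j ∈ Finset.range (k + 1), l (z R (k + 1) ^ (k - j) • m) • z R (k + 1) ^ j
  map_add' m m' := by
    simp only [smul_add, map_add, add_smul, Finset.sum_add_distrib]
  map_smul' r m := by
    simp only [RingHom.id_apply, Finset.smul_sum]
    apply Finset.sum_congr rfl
    intro j _
    rw [smul_comm, map_smul, smul_eq_mul, mul_smul]

theorem liftFormR_apply (l : M →ₗ[R] R) (m : M) : liftFormR l m =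
    ∑ j ∈ Finset.range (k + 1), l (z R (k + 1) ^ (k - j) • m) • z R (k + 1) ^ j := rfl

theorem liftFormR_z_smul (l : M →ₗ[R] R) (m : M) :
    liftFormR l (z R (k + 1) • m) = z R (k + 1) * liftFormR l m := by
  rw [liftFormR_apply, liftFormR_apply, Finset.sum_range_succ', Finset.mul_sum,
    Finset.sum_range_succ]
  have h0 : l (z R (k + 1) ^ (k - 0) • z R (k + 1) • m) • z R (k + 1) ^ 0 = 0 := by
    rw [Nat.sub_zero, smul_smul, ← pow_succ, z_pow_n]
    have : (0 : Rn R (k + 1)) • m = 0 := zero_smul (Rn R (k + 1)) m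
    rw [this, map_zero, zero_smul]
  have hk : z R (k + 1) * (l (z R (k + 1) ^ (k - k) • m) • z R (k + 1) ^ k) = 0 := by
    rw [mul_smul_comm, ← pow_succ', z_pow_n, smul_zero]
  rw [h0, hk, add_zero, add_zero]
  apply Finset.sum_congr rfl
  intro j hj
  have hjk : j < k := Finset.mem_range.mp hj
  have e : k - j = (k - (j + 1)) + 1 := by omega
  rw [mul_smul_comm, ← pow_succ', smul_smul, ← pow_succ, ← e]

theorem liftFormR_smul (l : M →ₗ[R] R) (a : Rn R (k + 1)) (m : M) :
    liftFormR l (a • m) = a * liftFormR l m := by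
  have hA : a ∈ Algebra.adjoin R ({z R (k + 1)} : Set (Rn R (k + 1))) := by
    have := AdjoinRoot.adjoinRoot_eq_top (f := (X : R[X]) ^ (k + 1))
    change Algebra.adjoin R ({z R (k + 1)} : Set (Rn R (k + 1))) = ⊤ at this
    rw [this]; exact Algebra.mem_top
  induction hA using Algebra.adjoin_induction generalizing m with
  | mem x hx =>
    rw [Set.mem_singleton_iff] at hx
    subst hx
    exact liftFormR_z_smul l m
  | algebraMap r =>
    rw [algebraMap_smul, map_smul]
    exact Algebra.smul_def (A := Rn R (k + 1)) r (liftFormR l m)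
  | add x y _ _ hx hy =>
    rw [add_smul, map_add, hx, hy, add_mul]
  | mul x y _ _ hx hy =>
    rw [mul_smul, hx, hy, mul_assoc]

/-- The `A`-linear form attached to an `R`-linear form. -/
noncomputable def liftForm (l : M →ₗ[R] R) : M →ₗ[Rn R (k + 1)] Rn R (k + 1) where
  toFun m := liftFormR l m
  map_add' m m' := map_add _ m m'
  map_smul' a m := by
    rw [RingHom.id_apply, smul_eq_mul]
    exact liftFormR_smul l a m

theorem liftForm_apply (l : M →ₗ[R] R) (m : M) : liftForm l m =
    ∑ j ∈ Finset.range (k + 1), l (z R (k + 1) ^ (k - j) • m) • z R (k + 1) ^ j := rfl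

theorem tau_liftForm (l : M →ₗ[R] R) (m : M) : tau R k (liftForm l m) = l m := by
  rw [liftForm_apply, map_sum]
  simp only [map_smul, tau_z_pow, smul_eq_mul, mul_ite, mul_one, mul_zero]
  rw [Finset.sum_ite_eq' (Finset.range (k + 1)) k, if_pos (Finset.mem_range.mpr (by omega))]
  simp

theorem liftForm_tau_one :
    liftForm (R := R) (k := k) (M := Rn R (k + 1)) (tau R k) (1 : Rn R (k + 1)) = 1 := by
  rw [liftForm_apply]
  simp only [smul_eq_mul, mul_one, tau_z_pow]
  rw [Finset.sum_eq_single 0]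
  · simp
  · intro j hjr hj
    have := Finset.mem_range.mp hjr
    rw [if_neg (by omega), zero_smul]
  · intro h
    exact absurd (Finset.mem_range.mpr (by omega)) h

theorem liftForm_tau_comp (φ : M →ₗ[Rn R (k + 1)] Rn R (k + 1)) :
    liftForm ((tau R k) ∘ₗ (φ.restrictScalars R)) = φ := by
  apply LinearMap.ext
  intro m
  have h1 : liftForm ((tau R k) ∘ₗ (φ.restrictScalars R)) m =
      liftForm (R := R) (k := k) (M := Rn R (k + 1)) (tau R k) (φ m) := by
    rw [liftForm_apply, liftForm_apply]
    apply Finset.sum_congr rfl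
    intro j _
    simp only [LinearMap.comp_apply, LinearMap.restrictScalars_apply, map_smul]
  rw [h1]
  calc liftForm (R := R) (k := k) (M := Rn R (k + 1)) (tau R k) (φ m)
      = liftForm (R := R) (k := k) (M := Rn R (k + 1)) (tau R k) (φ m • (1 : Rn R (k + 1))) := by
        rw [smul_eq_mul, mul_one]
    _ = φ m • liftForm (R := R) (k := k) (M := Rn R (k + 1)) (tau R k) (1 : Rn R (k + 1)) :=
        map_smul _ _ _
    _ = φ m := by rw [liftForm_tau_one, smul_eq_mul, mul_one]

end MC
end Groth.Agent.Helper9
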