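import Mathlib
import Groth.Agent.S17941

/-!
Vanishing of `Ext^i_A(M, A)` for `A = R[X]/(X^n)` and `M` finitely generated, torsion-free over
the discrete valuation ring `R`.
-/

set_option autoImplicit false

universe u

open CategoryTheory

namespace Groth.Agent.Helper9
namespace MC

open MultCrv Polynomial

variable (R : Type u) [CommRing R] [IsDomain R] [IsDiscreteValuationRing R] (n : ℕ)

instance instFreeRn : Module.Free R (Rn R n) := (monic_X_pow n).free_quotient

theorem ext_succ_eq_zero (hn : 1 ≤ n) : ∀ (i : ℕ) (M : Type u) [AddCommGroup M]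
    [Module (Rn R n) M] [Module R M] [IsScalarTower R (Rn R n) M] [Module.Finite (Rn R n) M]
    [Module.IsTorsionFree R M]
    (x : Abelian.Ext (ModuleCat.of (Rn R n) M) (ModuleCat.of (Rn R n) (Rn R n)) (i + 1)),
    x = 0 := by
  intro i
  induction i with
  | zero =>
    intro M _ _ _ _ _ _ x
    obtain ⟨r, φ, hφ⟩ := Module.Finite.exists_fin' (Rn R n) M
    have hS := LinearMap.shortExact_shortComplexKer hφ
    haveI : Projective (ModuleCat.of (Rn R n) (Fin r → Rn R n)) :=
      (IsProjective.iff_projective _).mp inferInstance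
    have h0 : (Abelian.Ext.mk₀ φ.shortComplexKer.g).comp x (zero_add 1) = 0 :=
      Abelian.Ext.eq_zero_of_projective _
    obtain ⟨x₁, hx₁⟩ := Abelian.Ext.contravariant_sequence_exact₃ hS _ x h0
      (n₀ := 0) (by omega : 1 + 0 = 0 + 1)
    obtain ⟨ψ, rfl⟩ := (Abelian.Ext.mk₀_bijective _ _).2 x₁
    obtain ⟨ψ', hψ'⟩ := Groth.Agent.S17941.result R n hn (LinearMap.ker φ) (Fin r → Rn R n) M
      (LinearMap.ker φ).subtype φ (LinearMap.ker φ).injective_subtype hφ
      (Submodule.range_subtype _) ψ.hom
    have hψ : ψ = φ.shortComplexKer.f ≫ ModuleCat.ofHom ψ' := by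
      apply ModuleCat.hom_ext
      rw [← hψ']
      rfl
    rw [← hx₁, hψ, ← Abelian.Ext.mk₀_comp_mk₀]
    exact hS.extClass_comp_assoc _
  | succ i ih =>
    intro M _ _ _ _ _ _ x
    obtain ⟨r, φ, hφ⟩ := Module.Finite.exists_fin' (Rn R n) M
    have hS := LinearMap.shortExact_shortComplexKer hφ
    haveI : Projective (ModuleCat.of (Rn R n) (Fin r → Rn R n)) :=
      (IsProjective.iff_projective _).mp inferInstance
    have h0 : (Abelian.Ext.mk₀ φ.shortComplexKer.g).comp x (zero_add (i + 1 + 1)) = 0 :=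
      Abelian.Ext.eq_zero_of_projective _
    obtain ⟨x₁, hx₁⟩ := Abelian.Ext.contravariant_sequence_exact₃ hS _ x h0
      (n₀ := i + 1) (by omega : 1 + (i + 1) = i + 1 + 1)
    have hK : x₁ = 0 := by
      haveI : Module.IsTorsionFree R (LinearMap.ker φ) :=
        Function.Injective.moduleIsTorsionFree
          ((LinearMap.ker φ).subtype.restrictScalars R) (LinearMap.ker φ).injective_subtype
          (fun r m => rfl)
      exact ih (LinearMap.ker φ) x₁
    rw [← hx₁, hK, Abelian.Ext.comp_zero]

end MC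
end Groth.Agent.Helper9
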