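import Mathlib
import Groth.Agent.Lib.Helper9.MultCrvFrob

/-!
More on the Frobenius duality of `A = R[X]/(X^(k+1))`: linearity of `liftForm` in the form,
and reflexivity of modules which are finite free over `R`.
-/

set_option autoImplicit false

namespace Groth.Agent.Helper9
namespace MC

open MultCrv Polynomial

variable {R : Type*} [CommRing R] [Nontrivial R] {k : ℕ}
variable {M : Type*} [AddCommGroup M] [Module (Rn R (k + 1)) M] [Module R M]
  [IsScalarTower R (Rn R (k + 1)) M]

theorem liftForm_add (l l' : M →ₗ[R] R) :
    liftForm (R := R) (k := k) (l + l') = liftForm l + liftForm l' := by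
  apply LinearMap.ext
  intro m
  rw [LinearMap.add_apply, liftForm_apply, liftForm_apply, liftForm_apply,
    ← Finset.sum_add_distrib]
  apply Finset.sum_congr rfl
  intro j _
  rw [LinearMap.add_apply, add_smul]

theorem liftForm_smul' (r : R) (l : M →ₗ[R] R) :
    liftForm (R := R) (k := k) (r • l) = algebraMap R (Rn R (k + 1)) r • liftForm l := by
  apply LinearMap.ext
  intro m
  rw [LinearMap.smul_apply, liftForm_apply, liftForm_apply, Finset.smul_sum]
  apply Finset.sum_congr rfl
  intro j _
  rw [LinearMap.smul_apply, smul_eq_mul, mul_smul]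
  exact Algebra.smul_def (A := Rn R (k + 1)) r _

theorem liftForm_tau_self (a : Rn R (k + 1)) :
    liftForm (R := R) (k := k) (M := Rn R (k + 1)) (tau R k) a = a := by
  have h := liftForm_tau_comp (R := R) (k := k) (M := Rn R (k + 1)) LinearMap.id
  have h2 : (tau R k) ∘ₗ ((LinearMap.id : Rn R (k + 1) →ₗ[Rn R (k + 1)] Rn R (k + 1)).restrictScalars R)
      = tau R k := by
    apply LinearMap.ext; intro x; rfl
  rw [h2] at h
  exact LinearMap.congr_fun h a

/-- An element of `A` is determined by the values `τ(z^j a)`. -/
theorem eq_of_tau_z_pow_smul_eq {a b : Rn R (k + 1)}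
    (h : ∀ j : ℕ, tau R k (z R (k + 1) ^ j • a) = tau R k (z R (k + 1) ^ j • b)) : a = b := by
  rw [← liftForm_tau_self a, ← liftForm_tau_self b, liftForm_apply, liftForm_apply]
  apply Finset.sum_congr rfl
  intro j _
  rw [h]

end MC
end Groth.Agent.Helper9
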