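import Mathlib
import Groth.Prelude.Def_W4c5spincurvestfNode
import Groth.Agent.Lib.Helper9.NodeNF

set_option autoImplicit false
universe u

namespace Groth.Agent.Lib.Helper9.NodeAlpha

open SpinCurv MvPowerSeries Groth.Agent.Lib.Helper9.NodeNF

section basic
variable (R : Type u) [CommRing R] (t : R)

lemma ofX_add (f g : PowerSeries R) :
    NodeRing.ofX R t (f + g) = NodeRing.ofX R t f + NodeRing.ofX R t g := by
  unfold NodeRing.ofX
  rw [map_add, map_add]

lemma ofX_sub (f g : PowerSeries R) :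
    NodeRing.ofX R t (f - g) = NodeRing.ofX R t f - NodeRing.ofX R t g := by
  unfold NodeRing.ofX
  rw [map_sub, map_sub]

lemma ofX_mul (f g : PowerSeries R) :
    NodeRing.ofX R t (f * g) = NodeRing.ofX R t f * NodeRing.ofX R t g := by
  unfold NodeRing.ofX
  rw [map_mul, map_mul]

lemma ofX_zero : NodeRing.ofX R t 0 = 0 := by
  unfold NodeRing.ofX
  rw [map_zero, map_zero]

lemma ofX_C (r : R) : NodeRing.ofX R t (PowerSeries.C r) = algebraMap R (NodeRing R t) r := by
  unfold NodeRing.ofX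
  rw [PowerSeries.toMvPowerSeries_C]
  rfl

lemma ofX_X : NodeRing.ofX R t PowerSeries.X = NodeRing.x R t := by
  unfold NodeRing.ofX NodeRing.x
  rw [PowerSeries.toMvPowerSeries_X]

lemma ofY_add (f g : PowerSeries R) :
    NodeRing.ofY R t (f + g) = NodeRing.ofY R t f + NodeRing.ofY R t g := by
  unfold NodeRing.ofY
  rw [map_add, map_add]

lemma ofY_sub (f g : PowerSeries R) :
    NodeRing.ofY R t (f - g) = NodeRing.ofY R t f - NodeRing.ofY R t g := by
  unfold NodeRing.ofY
  rw [map_sub, map_sub]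

lemma ofY_mul (f g : PowerSeries R) :
    NodeRing.ofY R t (f * g) = NodeRing.ofY R t f * NodeRing.ofY R t g := by
  unfold NodeRing.ofY
  rw [map_mul, map_mul]

lemma ofY_zero : NodeRing.ofY R t 0 = 0 := by
  unfold NodeRing.ofY
  rw [map_zero, map_zero]

lemma ofY_C (r : R) : NodeRing.ofY R t (PowerSeries.C r) = algebraMap R (NodeRing R t) r := by
  unfold NodeRing.ofY
  rw [PowerSeries.toMvPowerSeries_C]
  rfl

lemma ofY_X : NodeRing.ofY R t PowerSeries.X = NodeRing.y R t := by
  unfold NodeRing.ofY NodeRing.y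
  rw [PowerSeries.toMvPowerSeries_X]

lemma x_mul_y : NodeRing.x R t * NodeRing.y R t = algebraMap R (NodeRing R t) t := by
  unfold NodeRing.x NodeRing.y
  rw [← map_mul]
  have : algebraMap R (NodeRing R t) t = Ideal.Quotient.mk _ (C t : MvPowerSeries (Fin 2) R) := rfl
  rw [this, Ideal.Quotient.eq]
  exact Ideal.subset_span rfl

end basic

section nf
variable (R : Type u) [CommRing R] (I : Ideal R) [IsAdicComplete I R] (t : R) (ht : t ∈ I)

include ht in
lemma exists_nf (z : NodeRing R t) :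
    ∃ f g : PowerSeries R, z = NodeRing.ofX R t f + NodeRing.ofY R t g := by
  obtain ⟨h, rfl⟩ := Ideal.Quotient.mk_surjective z
  obtain ⟨f, g, h', hh⟩ := nf_exists I t ht h
  refine ⟨f, g, ?_⟩
  unfold NodeRing.ofX NodeRing.ofY
  rw [← map_add, Ideal.Quotient.eq]
  have : h - (PowerSeries.toMvPowerSeries (σ := Fin 2) 0 f +
      PowerSeries.toMvPowerSeries (σ := Fin 2) 1 g) = h' * (X 0 * X 1 - C t) := by
    rw [hh]; ring
  rw [this]
  exact Ideal.mul_mem_left _ _ (Ideal.subset_span rfl)

include ht in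
lemma nf_unique' (f g : PowerSeries R)
    (h0 : NodeRing.ofX R t f + NodeRing.y R t * NodeRing.ofY R t g = 0) : f = 0 ∧ g = 0 := by
  unfold NodeRing.ofX NodeRing.ofY NodeRing.y at h0
  rw [← map_mul, ← map_add, Ideal.Quotient.eq_zero_iff_mem, Ideal.mem_span_singleton'] at h0
  obtain ⟨h, hh⟩ := h0
  exact nf_unique I t ht f g h hh.symm

include ht in
lemma exists_nf_x (z : NodeRing R t) :
    ∃ f g : PowerSeries R, z = NodeRing.ofX R t f + NodeRing.y R t * NodeRing.ofY R t g := by
  obtain ⟨f, g, rfl⟩ := exists_nf R I t ht z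
  refine ⟨f + PowerSeries.C (PowerSeries.constantCoeff g),
    PowerSeries.mk fun p => PowerSeries.coeff (p + 1) g, ?_⟩
  conv_lhs => rw [PowerSeries.eq_X_mul_shift_add_const g]
  rw [ofY_add, ofY_mul, ofY_X, ofY_C, ofX_add, ofX_C]
  ring

include ht in
lemma exists_nf_y (z : NodeRing R t) :
    ∃ f g : PowerSeries R, z = NodeRing.ofY R t g + NodeRing.x R t * NodeRing.ofX R t f := by
  obtain ⟨f, g, rfl⟩ := exists_nf R I t ht z
  refine ⟨PowerSeries.mk fun p => PowerSeries.coeff (p + 1) f,
    g + PowerSeries.C (PowerSeries.constantCoeff f), ?_⟩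
  conv_lhs => rw [PowerSeries.eq_X_mul_shift_add_const f]
  rw [ofX_add, ofX_mul, ofX_X, ofX_C, ofY_add, ofY_C]
  ring

end nf


section alpha
variable (R : Type u) [CommRing R] (p q : R)

lemma alpha_mulVec (v : Fin 2 → NodeRing R (p * q)) :
    Matrix.mulVec (nodeAlpha R p q) v =
      ![NodeRing.x R (p * q) * v 0 + algebraMap R (NodeRing R (p * q)) p * v 1,
        algebraMap R (NodeRing R (p * q)) q * v 0 + NodeRing.y R (p * q) * v 1] := by
  funext i
  fin_cases i
  · simp [nodeAlpha, Matrix.mulVec, dotProduct, Fin.sum_univ_two]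
  · simp [nodeAlpha, Matrix.mulVec, dotProduct, Fin.sum_univ_two]

lemma alpha_gen1 :
    Matrix.mulVec (nodeAlpha R p q)
      ![algebraMap R (NodeRing R (p * q)) p, -NodeRing.x R (p * q)] = 0 := by
  rw [alpha_mulVec]
  have hxy := (x_mul_y R (p * q)).trans (map_mul _ p q)
  funext i
  fin_cases i
  · show NodeRing.x R (p * q) * algebraMap R (NodeRing R (p * q)) p +
      algebraMap R (NodeRing R (p * q)) p * (-NodeRing.x R (p * q)) = 0
    ring
  · show algebraMap R (NodeRing R (p * q)) q * algebraMap R (NodeRing R (p * q)) p +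
      NodeRing.y R (p * q) * (-NodeRing.x R (p * q)) = 0
    linear_combination (-1 : NodeRing R (p * q)) * hxy

lemma alpha_gen2 :
    Matrix.mulVec (nodeAlpha R p q)
      ![NodeRing.y R (p * q), -algebraMap R (NodeRing R (p * q)) q] = 0 := by
  rw [alpha_mulVec]
  have hxy := (x_mul_y R (p * q)).trans (map_mul _ p q)
  funext i
  fin_cases i
  · show NodeRing.x R (p * q) * NodeRing.y R (p * q) +
      algebraMap R (NodeRing R (p * q)) p * (-algebraMap R (NodeRing R (p * q)) q) = 0
    linear_combination hxy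
  · show algebraMap R (NodeRing R (p * q)) q * NodeRing.y R (p * q) +
      NodeRing.y R (p * q) * (-algebraMap R (NodeRing R (p * q)) q) = 0
    ring

variable (I : Ideal R) [IsAdicComplete I R] (ht : p * q ∈ I)

include ht in
lemma reduce (v : Fin 2 → NodeRing R (p * q)) :
    ∃ (f g : PowerSeries R) (s₁ s₂ : NodeRing R (p * q)),
      v = ![NodeRing.ofX R (p * q) f, NodeRing.ofY R (p * q) g] +
        s₁ • ![NodeRing.y R (p * q), -algebraMap R (NodeRing R (p * q)) q] +
        s₂ • ![algebraMap R (NodeRing R (p * q)) p, -NodeRing.x R (p * q)] := by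
  obtain ⟨f₂, g₂, h0⟩ := exists_nf_x R I (p * q) ht (v 0)
  obtain ⟨f₄, g₄, h1⟩ := exists_nf_y R I (p * q) ht
    (v 1 + algebraMap R (NodeRing R (p * q)) q * NodeRing.ofY R (p * q) g₂)
  refine ⟨f₂ + PowerSeries.C p * f₄, g₄, NodeRing.ofY R (p * q) g₂,
    - NodeRing.ofX R (p * q) f₄, ?_⟩
  funext i
  fin_cases i
  · show v 0 = NodeRing.ofX R (p * q) (f₂ + PowerSeries.C p * f₄) +
      NodeRing.ofY R (p * q) g₂ * NodeRing.y R (p * q) +
      (- NodeRing.ofX R (p * q) f₄) * algebraMap R (NodeRing R (p * q)) p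
    rw [h0, ofX_add, ofX_mul, ofX_C]
    ring
  · show v 1 = NodeRing.ofY R (p * q) g₄ +
      NodeRing.ofY R (p * q) g₂ * (-algebraMap R (NodeRing R (p * q)) q) +
      (- NodeRing.ofX R (p * q) f₄) * (-NodeRing.x R (p * q))
    linear_combination h1

include ht in
lemma alpha_inj (f g : PowerSeries R)
    (h0 : Matrix.mulVec (nodeAlpha R p q)
      ![NodeRing.ofX R (p * q) f, NodeRing.ofY R (p * q) g] = 0) : f = 0 ∧ g = 0 := by
  rw [alpha_mulVec] at h0
  have e0 : NodeRing.x R (p * q) * NodeRing.ofX R (p * q) f +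
      algebraMap R (NodeRing R (p * q)) p * NodeRing.ofY R (p * q) g = 0 := congrFun h0 0
  have e1 : algebraMap R (NodeRing R (p * q)) q * NodeRing.ofX R (p * q) f +
      NodeRing.y R (p * q) * NodeRing.ofY R (p * q) g = 0 := congrFun h0 1
  rw [← ofX_C, ← ofX_mul] at e1
  obtain ⟨-, hg⟩ := nf_unique' R I (p * q) ht _ _ e1
  subst hg
  rw [ofY_zero, mul_zero, add_zero, ← ofX_X, ← ofX_mul] at e0
  have e0' : NodeRing.ofX R (p * q) (PowerSeries.X * f) +
      NodeRing.y R (p * q) * NodeRing.ofY R (p * q) 0 = 0 := by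
    rw [e0, ofY_zero, mul_zero, add_zero]
  obtain ⟨hf, -⟩ := nf_unique' R I (p * q) ht _ _ e0'
  refine ⟨?_, rfl⟩
  ext n
  have := congrArg (PowerSeries.coeff (n + 1)) hf
  rw [PowerSeries.coeff_succ_X_mul, map_zero] at this
  rw [this, map_zero]

end alpha


section main
variable (R : Type u) [CommRing R] (p q : R) (I : Ideal R) [IsAdicComplete I R] (ht : p * q ∈ I)

include ht in
theorem ker_eq :
    LinearMap.ker (Matrix.mulVecLin (nodeAlpha R p q)) =
      Submodule.span (NodeRing R (p * q))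
        {![algebraMap R (NodeRing R (p * q)) p, -NodeRing.x R (p * q)],
         ![NodeRing.y R (p * q), -algebraMap R (NodeRing R (p * q)) q]} := by
  apply le_antisymm
  · intro v hv
    rw [LinearMap.mem_ker, Matrix.mulVecLin_apply] at hv
    obtain ⟨f, g, s₁, s₂, hvv⟩ := reduce R p q I ht v
    have h0 : Matrix.mulVec (nodeAlpha R p q)
        ![NodeRing.ofX R (p * q) f, NodeRing.ofY R (p * q) g] = 0 := by
      rw [hvv, Matrix.mulVec_add, Matrix.mulVec_add, Matrix.mulVec_smul, Matrix.mulVec_smul,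
        alpha_gen1, alpha_gen2, smul_zero, smul_zero, add_zero, add_zero] at hv
      exact hv
    obtain ⟨rfl, rfl⟩ := alpha_inj R p q I ht f g h0
    rw [hvv, ofX_zero, ofY_zero]
    have hz : (![0, 0] : Fin 2 → NodeRing R (p * q)) = 0 := by
      funext i; fin_cases i <;> rfl
    rw [hz, zero_add]
    refine Submodule.add_mem _ (Submodule.smul_mem _ _ (Submodule.subset_span ?_))
      (Submodule.smul_mem _ _ (Submodule.subset_span ?_))
    · simp
    · simp
  · rw [Submodule.span_le]
    intro v hv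
    simp only [Set.mem_insert_iff, Set.mem_singleton_iff] at hv
    rw [SetLike.mem_coe, LinearMap.mem_ker, Matrix.mulVecLin_apply]
    rcases hv with rfl | rfl
    · exact alpha_gen1 R p q
    · exact alpha_gen2 R p q

include ht in
theorem inj_and_range :
    Function.Injective (fun fg : PowerSeries R × PowerSeries R =>
        Matrix.mulVec (nodeAlpha R p q)
          ![NodeRing.ofX R (p * q) fg.1, NodeRing.ofY R (p * q) fg.2]) ∧
    Set.range (fun fg : PowerSeries R × PowerSeries R =>
        Matrix.mulVec (nodeAlpha R p q)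
          ![NodeRing.ofX R (p * q) fg.1, NodeRing.ofY R (p * q) fg.2]) =
      Set.range (Matrix.mulVec (nodeAlpha R p q)) := by
  constructor
  · rintro ⟨f, g⟩ ⟨f', g'⟩ h
    have h' : Matrix.mulVec (nodeAlpha R p q)
        ![NodeRing.ofX R (p * q) f, NodeRing.ofY R (p * q) g] =
        Matrix.mulVec (nodeAlpha R p q)
        ![NodeRing.ofX R (p * q) f', NodeRing.ofY R (p * q) g'] := h
    have h0 : Matrix.mulVec (nodeAlpha R p q)
        ![NodeRing.ofX R (p * q) (f - f'), NodeRing.ofY R (p * q) (g - g')] = 0 := by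
      have e : (![NodeRing.ofX R (p * q) (f - f'), NodeRing.ofY R (p * q) (g - g')] :
          Fin 2 → NodeRing R (p * q)) =
          ![NodeRing.ofX R (p * q) f, NodeRing.ofY R (p * q) g] -
          ![NodeRing.ofX R (p * q) f', NodeRing.ofY R (p * q) g'] := by
        rw [ofX_sub, ofY_sub]
        funext i; fin_cases i <;> rfl
      rw [e, Matrix.mulVec_sub, h', sub_self]
    obtain ⟨hf, hg⟩ := alpha_inj R p q I ht _ _ h0
    rw [sub_eq_zero] at hf hg
    rw [hf, hg]
  · apply Set.eq_of_subset_of_subset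
    · rintro _ ⟨fg, rfl⟩
      exact ⟨_, rfl⟩
    · rintro _ ⟨v, rfl⟩
      obtain ⟨f, g, s₁, s₂, hvv⟩ := reduce R p q I ht v
      refine ⟨(f, g), ?_⟩
      show Matrix.mulVec (nodeAlpha R p q)
        ![NodeRing.ofX R (p * q) f, NodeRing.ofY R (p * q) g] = _
      conv_rhs => rw [hvv]
      rw [Matrix.mulVec_add, Matrix.mulVec_add, Matrix.mulVec_smul, Matrix.mulVec_smul,
        alpha_gen1, alpha_gen2, smul_zero, smul_zero, add_zero, add_zero]

end main

end Groth.Agent.Lib.Helper9.NodeAlpha
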