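import Mathlib
import Groth.Agent.S18434

set_option autoImplicit false
universe u

namespace Groth.Agent.Lib.Helper9.NodeIdeal

open MvPowerSeries
open Groth.Agent.S18434.Aux

section coeffs
variable {k : Type u} [Field k]

lemma coeff_x_top (u v : ℕ) (hv : 1 ≤ v) (w : k) (A B G : MvPowerSeries (Fin 2) k) :
    coeff (Finsupp.single 0 u) (A * X 0 ^ u + B * (C w * X 1 ^ v) + G * (X 0 * X 1)) =
      coeff 0 A := by
  rw [X_pow_eq, CwX1_eq, X0X1_eq]
  have h2 : ¬ (Finsupp.single 1 v : Fin 2 →₀ ℕ) ≤ Finsupp.single 0 u := by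
    rw [single1_le]; simp; omega
  have h3 : ¬ (Finsupp.single 0 1 + Finsupp.single 1 1 : Fin 2 →₀ ℕ) ≤ Finsupp.single 0 u := by
    rw [single01_le]; simp
  rw [map_add, map_add, coeff_mul_monomial, coeff_mul_monomial, coeff_mul_monomial,
    if_pos le_rfl, if_neg h2, if_neg h3, add_zero, add_zero, tsub_self, mul_one]

lemma coeff_y_top (u v : ℕ) (hu : 1 ≤ u) (w : k) (A B G : MvPowerSeries (Fin 2) k) :
    coeff (Finsupp.single 1 v) (A * X 0 ^ u + B * (C w * X 1 ^ v) + G * (X 0 * X 1)) =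
      coeff 0 B * w := by
  rw [X_pow_eq, CwX1_eq, X0X1_eq]
  have h1 : ¬ (Finsupp.single 0 u : Fin 2 →₀ ℕ) ≤ Finsupp.single 1 v := by
    rw [single0_le]; simp; omega
  have h3 : ¬ (Finsupp.single 0 1 + Finsupp.single 1 1 : Fin 2 →₀ ℕ) ≤ Finsupp.single 1 v := by
    rw [single01_le]; simp
  rw [map_add, map_add, coeff_mul_monomial, coeff_mul_monomial, coeff_mul_monomial,
    if_neg h1, if_pos le_rfl, if_neg h3, add_zero, zero_add, tsub_self]

/-- unit criterion -/
lemma isUnit_of_coeff_zero_ne (A : MvPowerSeries (Fin 2) k) (h : coeff 0 A ≠ 0) : IsUnit A := by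
  rw [MvPowerSeries.isUnit_iff_constantCoeff]
  exact Ne.isUnit h

end coeffs


section ideal
variable {k : Type u} [Field k] (J : Ideal (MvPowerSeries (Fin 2) k))
  (hxy : (X 0 * X 1 : MvPowerSeries (Fin 2) k) ∈ J) (hJ : J ≠ ⊤)

include hJ in
lemma coeff_zero_of_mem (p : MvPowerSeries (Fin 2) k) (hp : p ∈ J) : coeff 0 p = 0 := by
  by_contra h
  exact hJ (Ideal.eq_top_of_isUnit_mem J hp (isUnit_of_coeff_zero_ne p h))

include hxy in
lemma stepx (p : MvPowerSeries (Fin 2) k) (hp : p ∈ J) (i : ℕ) (hi : 1 ≤ i)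
    (h0 : ∀ i' < i, coeff (Finsupp.single 0 i') p = 0)
    (hne : coeff (Finsupp.single 0 i) p ≠ 0) : (X 0 : MvPowerSeries (Fin 2) k) ^ (i + 1) ∈ J := by
  obtain ⟨A, B, G, hABG⟩ := mem_of_coeff i 1 hi le_rfl 1 one_ne_zero p h0
    (fun j h1 h2 => absurd h1 (by omega))
  have hA : coeff 0 A ≠ 0 := by
    rw [← coeff_x_top i 1 le_rfl 1 A B G, ← hABG]; exact hne
  have hAu := isUnit_of_coeff_zero_ne A hA
  have h1 : A * X 0 ^ (i + 1) = X 0 * p - (B * C 1 + G * X 0) * (X 0 * X 1) := by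
    rw [hABG]; ring
  have h2 : A * X 0 ^ (i + 1) ∈ J := by
    rw [h1]
    exact J.sub_mem (J.mul_mem_left _ hp) (J.mul_mem_left _ hxy)
  exact (Ideal.unit_mul_mem_iff_mem J hAu).mp h2

include hxy in
lemma stepy (p : MvPowerSeries (Fin 2) k) (hp : p ∈ J) (j : ℕ) (hj : 1 ≤ j)
    (hc : coeff 0 p = 0)
    (h1 : ∀ j', 1 ≤ j' → j' < j → coeff (Finsupp.single 1 j') p = 0)
    (hne : coeff (Finsupp.single 1 j) p ≠ 0) : (X 1 : MvPowerSeries (Fin 2) k) ^ (j + 1) ∈ J := by
  obtain ⟨A, B, G, hABG⟩ := mem_of_coeff 1 j le_rfl hj 1 one_ne_zero p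
    (fun i hi => by
      have : i = 0 := by omega
      rw [this, Finsupp.single_zero]; exact hc) h1
  have hB : coeff 0 B ≠ 0 := by
    have := coeff_y_top 1 j le_rfl 1 A B G
    rw [← hABG, mul_one] at this
    rw [← this]; exact hne
  have hBu := isUnit_of_coeff_zero_ne B hB
  have h2 : B * X 1 ^ (j + 1) = X 1 * p - (A + G * X 1) * (X 0 * X 1) := by
    rw [hABG, map_one]; ring
  have h3 : B * X 1 ^ (j + 1) ∈ J := by
    rw [h2]
    exact J.sub_mem (J.mul_mem_left _ hp) (J.mul_mem_left _ hxy)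
  exact (Ideal.unit_mul_mem_iff_mem J hBu).mp h3

/-- existence of powers in `J` -/
lemma exists_pow_mem [Module.Finite k (MvPowerSeries (Fin 2) k ⧸ J)] (hJ : J ≠ ⊤) (s : Fin 2) :
    ∃ N, (X s : MvPowerSeries (Fin 2) k) ^ N ∈ J := by
  have : Nontrivial (MvPowerSeries (Fin 2) k ⧸ J) := Ideal.Quotient.nontrivial_iff.mpr hJ
  have : IsArtinianRing (MvPowerSeries (Fin 2) k ⧸ J) := IsArtinianRing.of_finite k _
  have : IsLocalRing (MvPowerSeries (Fin 2) k ⧸ J) :=
    IsLocalRing.of_surjective' (Ideal.Quotient.mk J) Ideal.Quotient.mk_surjective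
  have hnil := IsArtinianRing.isNilpotent_jacobson_bot (R := MvPowerSeries (Fin 2) k ⧸ J)
  rw [IsLocalRing.jacobson_eq_maximalIdeal ⊥ bot_ne_top] at hnil
  obtain ⟨N, hN⟩ := hnil
  refine ⟨N, ?_⟩
  have hx : Ideal.Quotient.mk J (X s) ∈ IsLocalRing.maximalIdeal (MvPowerSeries (Fin 2) k ⧸ J) := by
    rw [IsLocalRing.mem_maximalIdeal, mem_nonunits_iff]
    intro hu
    have : IsLocalHom (Ideal.Quotient.mk J) :=
      IsLocalHom.of_surjective _ Ideal.Quotient.mk_surjective
    have hX : IsUnit (X s : MvPowerSeries (Fin 2) k) := isUnit_of_map_unit (Ideal.Quotient.mk J) _ hu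
    rw [MvPowerSeries.isUnit_iff_constantCoeff, constantCoeff_X] at hX
    exact not_isUnit_zero hX
  have h1 : (Ideal.Quotient.mk J (X s)) ^ N ∈
      (IsLocalRing.maximalIdeal (MvPowerSeries (Fin 2) k ⧸ J)) ^ N := Ideal.pow_mem_pow hx N
  rw [hN, Ideal.zero_eq_bot, Ideal.mem_bot, ← map_pow, Ideal.Quotient.eq_zero_iff_mem] at h1
  exact h1

end ideal


section Tmap
variable (k : Type u) [Field k] (a b : ℕ)

/-- the ideal `(xy, x^a, y^b)` -/
noncomputable def J0 : Ideal (MvPowerSeries (Fin 2) k) :=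
  Ideal.span {X 0 * X 1, X 0 ^ a, X 1 ^ b}

/-- the low pure coefficients -/
noncomputable def T : MvPowerSeries (Fin 2) k →ₗ[k] (Fin a ⊕ Fin (b - 1) → k) where
  toFun p := Sum.elim (fun i : Fin a => coeff (Finsupp.single 0 i.val) p)
    (fun j : Fin (b - 1) => coeff (Finsupp.single 1 (j.val + 1)) p)
  map_add' p q := by
    funext s
    rcases s with i | j <;> simp
  map_smul' c p := by
    funext s
    rcases s with i | j <;> simp

lemma T_inl (p : MvPowerSeries (Fin 2) k) (i : Fin a) :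
    T k a b p (Sum.inl i) = coeff (Finsupp.single 0 i.val) p := rfl

lemma T_inr (p : MvPowerSeries (Fin 2) k) (j : Fin (b - 1)) :
    T k a b p (Sum.inr j) = coeff (Finsupp.single 1 (j.val + 1)) p := rfl

lemma T_eq_zero_iff (p : MvPowerSeries (Fin 2) k) :
    T k a b p = 0 ↔ (∀ i < a, coeff (Finsupp.single 0 i) p = 0) ∧
      (∀ j, 1 ≤ j → j < b → coeff (Finsupp.single 1 j) p = 0) := by
  constructor
  · intro h
    refine ⟨fun i hi => ?_, fun j hj1 hj => ?_⟩
    · have := congrFun h (Sum.inl ⟨i, hi⟩)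
      exact this
    · have := congrFun h (Sum.inr ⟨j - 1, by omega⟩)
      rw [T_inr] at this
      have e : j - 1 + 1 = j := by omega
      simp only [e] at this
      exact this
  · rintro ⟨h0, h1⟩
    funext s
    rcases s with i | j
    · exact h0 i.val i.2
    · exact h1 (j.val + 1) (by omega) (by have := j.2; omega)

lemma T_surjective : Function.Surjective (T k a b) := by
  intro g
  refine ⟨Q k a b g, ?_⟩
  funext s
  rcases s with i | j
  · exact coeff_Q0 k a b g i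
  · exact coeff_Q1 k a b g j

lemma mem_J0_iff (ha : 1 ≤ a) (hb : 1 ≤ b) (p : MvPowerSeries (Fin 2) k) :
    p ∈ J0 k a b ↔ T k a b p = 0 := by
  rw [T_eq_zero_iff]
  constructor
  · intro hp
    rw [J0, Ideal.mem_span_insert] at hp
    obtain ⟨G, z, hz, rfl⟩ := hp
    rw [Ideal.mem_span_pair] at hz
    obtain ⟨A, B, rfl⟩ := hz
    have := coeff_of_mem a b ha hb 1 A B G
    have e : G * (X 0 * X 1) + (A * X 0 ^ a + B * X 1 ^ b) =
        A * X 0 ^ a + B * (C 1 * X 1 ^ b) + G * (X 0 * X 1) := by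
      rw [map_one]; ring
    rw [e]
    exact this
  · rintro ⟨h0, h1⟩
    obtain ⟨A, B, G, rfl⟩ := mem_of_coeff a b ha hb 1 one_ne_zero p h0 h1
    rw [J0]
    refine Ideal.add_mem _ (Ideal.add_mem _ ?_ ?_) ?_
    · exact Ideal.mul_mem_left _ _ (Ideal.subset_span (by simp))
    · rw [map_one, one_mul]
      exact Ideal.mul_mem_left _ _ (Ideal.subset_span (by simp))
    · exact Ideal.mul_mem_left _ _ (Ideal.subset_span (by simp))

lemma ker_T (ha : 1 ≤ a) (hb : 1 ≤ b) :
    LinearMap.ker (T k a b) = (J0 k a b).restrictScalars k := by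
  ext p
  rw [LinearMap.mem_ker, Submodule.restrictScalars_mem, mem_J0_iff k a b ha hb]

end Tmap


section finrank
variable {k : Type u} [Field k] (a b : ℕ) (ha1 : 1 ≤ a) (hb1 : 1 ≤ b)
  (J : Ideal (MvPowerSeries (Fin 2) k)) (hJ0 : J0 k a b ≤ J)

include ha1 hb1 hJ0 in
lemma finrank_quot_add :
    Module.finrank k (MvPowerSeries (Fin 2) k ⧸ J) +
      Module.finrank k (Submodule.map (T k a b) (J.restrictScalars k)) = a + (b - 1) := by
  set S := Submodule.map (T k a b) (J.restrictScalars k) with hS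
  have hsurj : Function.Surjective (S.mkQ ∘ₗ T k a b) :=
    (Submodule.mkQ_surjective S).comp (T_surjective k a b)
  have hker : LinearMap.ker (S.mkQ ∘ₗ T k a b) = J.restrictScalars k := by
    rw [LinearMap.ker_comp, Submodule.ker_mkQ, hS, Submodule.comap_map_eq, ker_T k a b ha1 hb1]
    apply sup_eq_left.mpr
    intro x hx
    exact hJ0 hx
  have e1 : (MvPowerSeries (Fin 2) k ⧸ J.restrictScalars k) ≃ₗ[k]
      ((Fin a ⊕ Fin (b - 1) → k) ⧸ S) :=
    (Submodule.quotEquivOfEq _ _ hker.symm).trans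
      (LinearMap.quotKerEquivOfSurjective _ hsurj)
  have e2 := Submodule.Quotient.restrictScalarsEquiv k J
  rw [← e2.finrank_eq, e1.finrank_eq, Submodule.finrank_quotient_add_finrank,
    Module.finrank_fintype_fun_eq_card, Fintype.card_sum, Fintype.card_fin, Fintype.card_fin]

end finrank


section gencoeff
variable {k : Type u} [Field k]

lemma single0_ne_single1 (i l : ℕ) (hl : 1 ≤ l) :
    (Finsupp.single 0 i : Fin 2 →₀ ℕ) ≠ Finsupp.single 1 l := by
  intro h
  have := DFunLike.congr_fun h 1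
  simp at this
  omega

lemma single1_ne_single0 (j m : ℕ) (hm : 1 ≤ m) :
    (Finsupp.single 1 j : Fin 2 →₀ ℕ) ≠ Finsupp.single 0 m := by
  intro h
  have := DFunLike.congr_fun h 0
  simp at this
  omega

lemma cx_gen (m l : ℕ) (hl : 1 ≤ l) (c : k) (i : ℕ) :
    coeff (Finsupp.single 0 i) (X 0 ^ m + C c * X 1 ^ l : MvPowerSeries (Fin 2) k) =
      if i = m then 1 else 0 := by
  rw [X_pow_eq, CwX1_eq, map_add, coeff_monomial, coeff_monomial,
    if_neg (single0_ne_single1 i l hl), add_zero]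
  by_cases h : i = m
  · rw [if_pos h, if_pos (by rw [h])]
  · rw [if_neg h, if_neg (fun h' => h (Finsupp.single_injective 0 h'))]

lemma cy_gen (m l : ℕ) (hm : 1 ≤ m) (c : k) (j : ℕ) :
    coeff (Finsupp.single 1 j) (X 0 ^ m + C c * X 1 ^ l : MvPowerSeries (Fin 2) k) =
      if j = l then c else 0 := by
  rw [X_pow_eq, CwX1_eq, map_add, coeff_monomial, coeff_monomial,
    if_neg (single1_ne_single0 j m hm), zero_add]
  by_cases h : j = l
  · rw [if_pos h, if_pos (by rw [h])]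
  · rw [if_neg h, if_neg (fun h' => h (Finsupp.single_injective 1 h'))]

end gencoeff


section classify
variable {k : Type u} [Field k] (J : Ideal (MvPowerSeries (Fin 2) k))
  (hxy : (X 0 * X 1 : MvPowerSeries (Fin 2) k) ∈ J) (hJ : J ≠ ⊤)
  (a b : ℕ) (ha : (X 0 : MvPowerSeries (Fin 2) k) ^ a ∈ J)
  (hb : (X 1 : MvPowerSeries (Fin 2) k) ^ b ∈ J)
  (hamin : ∀ m < a, (X 0 : MvPowerSeries (Fin 2) k) ^ m ∉ J)
  (hbmin : ∀ m < b, (X 1 : MvPowerSeries (Fin 2) k) ^ m ∉ J)

include hxy hJ hamin in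
lemma K2x (p : MvPowerSeries (Fin 2) k) (hp : p ∈ J) :
    ∀ i, i + 1 < a → coeff (Finsupp.single 0 i) p = 0 := by
  intro i
  induction i using Nat.strong_induction_on with
  | _ i ih =>
    intro hi
    by_contra hne
    rcases Nat.eq_zero_or_pos i with h0 | hpos
    · subst h0
      apply hne
      rw [Finsupp.single_zero]
      exact coeff_zero_of_mem J hJ p hp
    · have := stepx J hxy p hp i hpos (fun i' hi' => ih i' hi' (by omega)) hne
      exact hamin (i + 1) hi this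

include hxy hJ hbmin in
lemma K2y (p : MvPowerSeries (Fin 2) k) (hp : p ∈ J) :
    ∀ j, 1 ≤ j → j + 1 < b → coeff (Finsupp.single 1 j) p = 0 := by
  intro j
  induction j using Nat.strong_induction_on with
  | _ j ih =>
    intro hj1 hj
    by_contra hne
    have := stepy J hxy p hp j hj1 (coeff_zero_of_mem J hJ p hp)
      (fun j' h1 h2 => ih j' h2 h1 (by omega)) hne
    exact hbmin (j + 1) hj this

include hxy hJ hb hamin in
lemma Lx (hb1 : 1 ≤ b) (p : MvPowerSeries (Fin 2) k) (hp : p ∈ J)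
    (hy : ∀ j, 1 ≤ j → j < b → coeff (Finsupp.single 1 j) p = 0) :
    coeff (Finsupp.single 0 (a - 1)) p = 0 := by
  rcases Nat.lt_or_ge a 2 with h | h
  · have : a - 1 = 0 := by omega
    rw [this, Finsupp.single_zero]
    exact coeff_zero_of_mem J hJ p hp
  · obtain ⟨A, B, G, hABG⟩ := mem_of_coeff (a - 1) b (by omega) hb1 1 one_ne_zero p
      (fun i hi => K2x J hxy hJ a hamin p hp i (by omega)) hy
    by_contra hne
    have hA : coeff 0 A ≠ 0 := by
      rw [← coeff_x_top (a - 1) b hb1 1 A B G, ← hABG]; exact hne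
    have hAu := isUnit_of_coeff_zero_ne A hA
    have h1 : A * X 0 ^ (a - 1) = p - B * X 1 ^ b - G * (X 0 * X 1) := by
      rw [hABG, map_one]; ring
    have h2 : A * X 0 ^ (a - 1) ∈ J := by
      rw [h1]
      exact J.sub_mem (J.sub_mem hp (J.mul_mem_left _ hb)) (J.mul_mem_left _ hxy)
    exact hamin (a - 1) (by omega) ((Ideal.unit_mul_mem_iff_mem J hAu).mp h2)

include hxy hJ ha hbmin in
lemma Ly (hb2 : 2 ≤ b) (ha1 : 1 ≤ a) (p : MvPowerSeries (Fin 2) k) (hp : p ∈ J)
    (hx : ∀ i < a, coeff (Finsupp.single 0 i) p = 0) :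
    coeff (Finsupp.single 1 (b - 1)) p = 0 := by
  obtain ⟨A, B, G, hABG⟩ := mem_of_coeff a (b - 1) ha1 (by omega) 1 one_ne_zero p hx
    (fun j hj1 hj => K2y J hxy hJ b hbmin p hp j hj1 (by omega))
  by_contra hne
  have hB : coeff 0 B ≠ 0 := by
    have := coeff_y_top a (b - 1) ha1 1 A B G
    rw [← hABG, mul_one] at this
    rw [← this]; exact hne
  have hBu := isUnit_of_coeff_zero_ne B hB
  have h1 : B * X 1 ^ (b - 1) = p - A * X 0 ^ a - G * (X 0 * X 1) := by
    rw [hABG, map_one]; ring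
  have h2 : B * X 1 ^ (b - 1) ∈ J := by
    rw [h1]
    exact J.sub_mem (J.sub_mem hp (J.mul_mem_left _ ha)) (J.mul_mem_left _ hxy)
  exact hbmin (b - 1) (by omega) ((Ideal.unit_mul_mem_iff_mem J hBu).mp h2)

include hxy ha hb in
lemma J0_le : J0 k a b ≤ J := by
  rw [J0, Ideal.span_le]
  intro x hx
  simp only [Set.mem_insert_iff, Set.mem_singleton_iff] at hx
  rcases hx with rfl | rfl | rfl
  · exact hxy
  · exact ha
  · exact hb

end classify


section caseB
variable {k : Type u} [Field k] (J : Ideal (MvPowerSeries (Fin 2) k))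
  (hxy : (X 0 * X 1 : MvPowerSeries (Fin 2) k) ∈ J) (hJ : J ≠ ⊤)
  (a b : ℕ) (ha : (X 0 : MvPowerSeries (Fin 2) k) ^ a ∈ J)
  (hb : (X 1 : MvPowerSeries (Fin 2) k) ^ b ∈ J)
  (hamin : ∀ m < a, (X 0 : MvPowerSeries (Fin 2) k) ^ m ∉ J)
  (hbmin : ∀ m < b, (X 1 : MvPowerSeries (Fin 2) k) ^ m ∉ J)
  (ha2 : 2 ≤ a) (hb2 : 2 ≤ b) (c : k)
  (hgen : (X 0 ^ (a - 1) + C c * X 1 ^ (b - 1) : MvPowerSeries (Fin 2) k) ∈ J)

include hxy hJ ha hamin hbmin ha2 hb2 hgen in
lemma sub_mem_J0 (p : MvPowerSeries (Fin 2) k) (hp : p ∈ J) :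
    p - C (coeff (Finsupp.single 0 (a - 1)) p) * (X 0 ^ (a - 1) + C c * X 1 ^ (b - 1)) ∈
      J0 k a b := by
  set α := coeff (Finsupp.single 0 (a - 1)) p with hα
  set q := p - C α * (X 0 ^ (a - 1) + C c * X 1 ^ (b - 1)) with hq
  have hqJ : q ∈ J := J.sub_mem hp (J.mul_mem_left _ hgen)
  rw [mem_J0_iff k a b (by omega) (by omega), T_eq_zero_iff]
  have h0 : ∀ i < a, coeff (Finsupp.single 0 i) q = 0 := by
    intro i hi
    rcases Nat.lt_or_ge (i + 1) a with h | h
    · exact K2x J hxy hJ a hamin q hqJ i h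
    · have hi' : i = a - 1 := by omega
      rw [hi', hq, map_sub, coeff_C_mul, cx_gen (a - 1) (b - 1) (by omega) c (a - 1), if_pos rfl,
        mul_one, ← hα, sub_self]
  refine ⟨h0, ?_⟩
  intro j hj1 hj
  rcases Nat.lt_or_ge (j + 1) b with h | h
  · exact K2y J hxy hJ b hbmin q hqJ j hj1 h
  · have hj' : j = b - 1 := by omega
    rw [hj']
    exact Ly J hxy hJ a b ha hbmin hb2 (by omega) q hqJ h0

include ha2 hb2 in
lemma J0_le_span (hc : c ≠ 0) :
    J0 k a b ≤ Ideal.span {(X 0 * X 1 : MvPowerSeries (Fin 2) k),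
      X 0 ^ (a - 1) + C c * X 1 ^ (b - 1)} := by
  obtain ⟨a', rfl⟩ : ∃ a', a = a' + 2 := ⟨a - 2, by omega⟩
  obtain ⟨b', rfl⟩ : ∃ b', b = b' + 2 := ⟨b - 2, by omega⟩
  have e1 : a' + 2 - 1 = a' + 1 := by omega
  have e2 : b' + 2 - 1 = b' + 1 := by omega
  rw [e1, e2, J0, Ideal.span_le]
  intro x hx
  simp only [Set.mem_insert_iff, Set.mem_singleton_iff] at hx
  rw [SetLike.mem_coe, Ideal.mem_span_pair]
  have hcc : (C c⁻¹ * C c : MvPowerSeries (Fin 2) k) = 1 := by
    rw [← map_mul, inv_mul_cancel₀ hc, map_one]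
  rcases hx with rfl | rfl | rfl
  · exact ⟨1, 0, by ring⟩
  · exact ⟨- (C c * X 1 ^ b'), X 0, by ring⟩
  · refine ⟨- (C c⁻¹ * X 0 ^ a'), C c⁻¹ * X 1, ?_⟩
    linear_combination (X 1 ^ (b' + 2)) * hcc

include hxy hJ ha hamin hbmin ha2 hb2 hgen in
lemma J_eq_span (hc : c ≠ 0) :
    J = Ideal.span {(X 0 * X 1 : MvPowerSeries (Fin 2) k),
      X 0 ^ (a - 1) + C c * X 1 ^ (b - 1)} := by
  apply le_antisymm
  · intro p hp
    have h1 := J0_le_span a b ha2 hb2 c hc
      (sub_mem_J0 J hxy hJ a b ha hamin hbmin ha2 hb2 c hgen p hp)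
    have h2 : C (coeff (Finsupp.single 0 (a - 1)) p) * (X 0 ^ (a - 1) + C c * X 1 ^ (b - 1)) ∈
        Ideal.span {(X 0 * X 1 : MvPowerSeries (Fin 2) k),
          X 0 ^ (a - 1) + C c * X 1 ^ (b - 1)} :=
      Ideal.mul_mem_left _ _ (Ideal.subset_span (by simp))
    have := Ideal.add_mem _ h1 h2
    rwa [sub_add_cancel] at this
  · rw [Ideal.span_le]
    intro x hx
    simp only [Set.mem_insert_iff, Set.mem_singleton_iff] at hx
    rcases hx with rfl | rfl
    · exact hxy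
    · exact hgen

include hxy hJ ha hamin hbmin ha2 hb2 hgen in
lemma map_T_eq :
    Submodule.map (T k a b) (J.restrictScalars k) =
      Submodule.span k {T k a b (X 0 ^ (a - 1) + C c * X 1 ^ (b - 1))} := by
  apply le_antisymm
  · rintro _ ⟨p, hp, rfl⟩
    have hp' : p ∈ J := hp
    have h1 := sub_mem_J0 J hxy hJ a b ha hamin hbmin ha2 hb2 c hgen p hp'
    rw [mem_J0_iff k a b (by omega) (by omega), map_sub, sub_eq_zero, ← smul_eq_C_mul,
      map_smul] at h1
    rw [h1]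
    exact Submodule.smul_mem _ _ (Submodule.mem_span_singleton_self _)
  · rw [Submodule.span_singleton_le_iff_mem]
    exact ⟨_, hgen, rfl⟩

include ha2 hb2 in
lemma T_gen_ne : T k a b (X 0 ^ (a - 1) + C c * X 1 ^ (b - 1)) ≠ 0 := by
  intro h
  have := congrFun h (Sum.inl ⟨a - 1, by omega⟩)
  rw [T_inl, cx_gen (a - 1) (b - 1) (by omega) c (a - 1), if_pos rfl] at this
  exact one_ne_zero this

end caseB


section main
variable (k : Type u) [Field k]

theorem classification (J : Ideal (MvPowerSeries (Fin 2) k))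
    (hxy : (X 0 * X 1 : MvPowerSeries (Fin 2) k) ∈ J)
    [Module.Finite k (MvPowerSeries (Fin 2) k ⧸ J)] (n : ℕ)
    (hn : Module.finrank k (MvPowerSeries (Fin 2) k ⧸ J) = n) (h2 : 2 ≤ n) :
    ∃ a b : ℕ, 1 ≤ a ∧ 1 ≤ b ∧
      ((a + b = n + 1 ∧
        J = Ideal.span {X 0 * X 1, X 0 ^ a, X 1 ^ b}) ∨
       (a + b = n ∧ ∃ α : k, α ≠ 0 ∧
        J = Ideal.span {X 0 * X 1, X 0 ^ a + C α * X 1 ^ b})) := by
  classical
  have hJ : J ≠ ⊤ := by
    intro h
    have : Subsingleton (MvPowerSeries (Fin 2) k ⧸ J) := Ideal.Quotient.subsingleton_iff.mpr h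
    rw [Module.finrank_zero_of_subsingleton] at hn
    omega
  have hex0 := exists_pow_mem J hJ 0
  have hex1 := exists_pow_mem J hJ 1
  set a := Nat.find hex0 with ha_def
  set b := Nat.find hex1 with hb_def
  have ha : (X 0 : MvPowerSeries (Fin 2) k) ^ a ∈ J := Nat.find_spec hex0
  have hb : (X 1 : MvPowerSeries (Fin 2) k) ^ b ∈ J := Nat.find_spec hex1
  have hamin : ∀ m < a, (X 0 : MvPowerSeries (Fin 2) k) ^ m ∉ J := fun m hm => Nat.find_min hex0 hm
  have hbmin : ∀ m < b, (X 1 : MvPowerSeries (Fin 2) k) ^ m ∉ J := fun m hm => Nat.find_min hex1 hm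
  have ha1 : 1 ≤ a := by
    rcases Nat.eq_zero_or_pos a with h | h
    · exfalso
      rw [h, pow_zero] at ha
      exact hJ ((Ideal.eq_top_iff_one J).mpr ha)
    · exact h
  have hb1 : 1 ≤ b := by
    rcases Nat.eq_zero_or_pos b with h | h
    · exfalso
      rw [h, pow_zero] at hb
      exact hJ ((Ideal.eq_top_iff_one J).mpr hb)
    · exact h
  have hJ0 := J0_le J hxy a b ha hb
  have hfin := finrank_quot_add a b ha1 hb1 J hJ0
  rw [hn] at hfin
  by_cases hA : ∀ p ∈ J, T k a b p = 0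
  · -- case A
    refine ⟨a, b, ha1, hb1, Or.inl ⟨?_, ?_⟩⟩
    · have hbot : Submodule.map (T k a b) (J.restrictScalars k) = ⊥ := by
        rw [Submodule.eq_bot_iff]
        rintro _ ⟨p, hp, rfl⟩
        exact hA p hp
      rw [hbot, finrank_bot] at hfin
      omega
    · exact le_antisymm (fun p hp => (mem_J0_iff k a b ha1 hb1 p).mpr (hA p hp)) hJ0
  · -- case B
    push_neg at hA
    obtain ⟨p₁, hp₁, hT⟩ := hA
    have hα₁ : coeff (Finsupp.single 0 (a - 1)) p₁ ≠ 0 := by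
      intro h0
      apply hT
      rw [T_eq_zero_iff]
      have hx : ∀ i < a, coeff (Finsupp.single 0 i) p₁ = 0 := by
        intro i hi
        rcases Nat.lt_or_ge (i + 1) a with h | h
        · exact K2x J hxy hJ a hamin p₁ hp₁ i h
        · have hi' : i = a - 1 := by omega
          rw [hi']; exact h0
      refine ⟨hx, ?_⟩
      intro j hj1 hj
      rcases Nat.lt_or_ge (j + 1) b with h | h
      · exact K2y J hxy hJ b hbmin p₁ hp₁ j hj1 h
      · have hj' : j = b - 1 := by omega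
        rw [hj']
        exact Ly J hxy hJ a b ha hbmin (by omega) ha1 p₁ hp₁ hx
    have hβ₁ : 2 ≤ b ∧ coeff (Finsupp.single 1 (b - 1)) p₁ ≠ 0 := by
      by_contra hcon
      apply hα₁
      apply Lx J hxy hJ a b hb hamin hb1 p₁ hp₁
      intro j hj1 hj
      rcases Nat.lt_or_ge (j + 1) b with h | h
      · exact K2y J hxy hJ b hbmin p₁ hp₁ j hj1 h
      · have hj' : j = b - 1 := by omega
        rw [hj']
        by_contra hne
        exact hcon ⟨by omega, hne⟩
    obtain ⟨hb2, hβ₁⟩ := hβ₁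
    have ha2 : 2 ≤ a := by
      by_contra hlt
      apply hα₁
      have : a - 1 = 0 := by omega
      rw [this, Finsupp.single_zero]
      exact coeff_zero_of_mem J hJ p₁ hp₁
    set α₁ := coeff (Finsupp.single 0 (a - 1)) p₁ with hα₁_def
    set β₁ := coeff (Finsupp.single 1 (b - 1)) p₁ with hβ₁_def
    set c := α₁⁻¹ * β₁ with hc_def
    have hc : c ≠ 0 := mul_ne_zero (inv_ne_zero hα₁) hβ₁
    have hgen : (X 0 ^ (a - 1) + C c * X 1 ^ (b - 1) : MvPowerSeries (Fin 2) k) ∈ J := by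
      have hq : C α₁⁻¹ * p₁ - (X 0 ^ (a - 1) + C c * X 1 ^ (b - 1)) ∈ J0 k a b := by
        rw [mem_J0_iff k a b ha1 hb1, T_eq_zero_iff]
        constructor
        · intro i hi
          rw [map_sub, coeff_C_mul, cx_gen (a - 1) (b - 1) (by omega) c i]
          rcases Nat.lt_or_ge (i + 1) a with h | h
          · rw [K2x J hxy hJ a hamin p₁ hp₁ i h, if_neg (by omega), mul_zero, sub_zero]
          · have hi' : i = a - 1 := by omega
            rw [if_pos hi', hi', ← hα₁_def, inv_mul_cancel₀ hα₁, sub_self]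
        · intro j hj1 hj
          rw [map_sub, coeff_C_mul, cy_gen (a - 1) (b - 1) (by omega) c j]
          rcases Nat.lt_or_ge (j + 1) b with h | h
          · rw [K2y J hxy hJ b hbmin p₁ hp₁ j hj1 h, if_neg (by omega), mul_zero, sub_zero]
          · have hj' : j = b - 1 := by omega
            rw [if_pos hj', hj', ← hβ₁_def, ← hc_def, sub_self]
      have h3 := J.sub_mem (J.mul_mem_left (C α₁⁻¹) hp₁) (hJ0 hq)
      rwa [sub_sub_cancel] at h3
    refine ⟨a - 1, b - 1, by omega, by omega, Or.inr ⟨?_, c, hc, ?_⟩⟩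
    · rw [map_T_eq J hxy hJ a b ha hamin hbmin ha2 hb2 c hgen,
        finrank_span_singleton (T_gen_ne a b ha2 hb2 c)] at hfin
      omega
    · exact J_eq_span J hxy hJ a b ha hamin hbmin ha2 hb2 c hgen hc

end main

end Groth.Agent.Lib.Helper9.NodeIdeal
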