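import Mathlib
import Groth.Prelude.Def_W4c5spincurvestfNode

set_option autoImplicit false

namespace Groth.Agent.Lib.Helper9.PolyNodeBasis

open MvPolynomial SpinCurv

universe u

section
variable (R : Type u) [CommRing R] (c : R)

/-- the relation `xy - c` -/
noncomputable abbrev rel : MvPolynomial (Fin 2) R := X 0 * X 1 - C c

/-- the normal form map on polynomials: `x^a y^b ↦ c^{min a b} T^{a-b}` -/
noncomputable def psi : MvPolynomial (Fin 2) R →ₗ[R] (ℤ →₀ R) :=
  (MvPolynomial.basisMonomials (Fin 2) R).constr R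
    (fun e => Finsupp.single ((e 0 : ℤ) - (e 1 : ℤ)) (c ^ min (e 0) (e 1)))

lemma psi_monomial (e : Fin 2 →₀ ℕ) (r : R) :
    psi R c (monomial e r) = Finsupp.single ((e 0 : ℤ) - (e 1 : ℤ)) (r * c ^ min (e 0) (e 1)) := by
  have h1 : monomial e r = r • (MvPolynomial.basisMonomials (Fin 2) R e) := by
    rw [MvPolynomial.coe_basisMonomials, smul_monomial, smul_eq_mul, mul_one]
  rw [h1, map_smul, psi, Module.Basis.constr_basis, Finsupp.smul_single, smul_eq_mul]

lemma psi_mul_rel (h : MvPolynomial (Fin 2) R) : psi R c (h * rel R c) = 0 := by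
  induction h using MvPolynomial.induction_on' with
  | monomial e r =>
    have h1 : monomial e r * rel R c =
        monomial (e + Finsupp.single 0 1 + Finsupp.single 1 1) r - monomial e (r * c) := by
      rw [rel, mul_sub, X, X, ← mul_assoc, monomial_mul, monomial_mul, C_apply, monomial_mul]
      simp
    rw [h1, map_sub, psi_monomial, psi_monomial]
    simp only [Finsupp.coe_add, Pi.add_apply, Finsupp.single_eq_same, ne_eq, zero_ne_one,
      not_false_eq_true, Finsupp.single_eq_of_ne, add_zero, one_ne_zero, zero_add]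
    have e1 : min (e 0 + 1) (e 1 + 1) = min (e 0) (e 1) + 1 := by omega
    rw [e1]
    have e2 : ((e 0 + 1 : ℕ) : ℤ) - ((e 1 + 1 : ℕ) : ℤ) = (e 0 : ℤ) - (e 1 : ℤ) := by
      push_cast; ring
    rw [e2, pow_succ, sub_eq_zero]
    congr 1
    ring
  | add p q hp hq => rw [add_mul, map_add, hp, hq, add_zero]

/-- the descended map -/
noncomputable def psiBar : PolyNodeRing R c →ₗ[R] (ℤ →₀ R) :=
  (Submodule.liftQ ((Ideal.span {rel R c}).restrictScalars R) (psi R c) (by
    intro h hh
    rw [Submodule.restrictScalars_mem, Ideal.mem_span_singleton'] at hh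
    obtain ⟨a, rfl⟩ := hh
    rw [LinearMap.mem_ker]
    exact psi_mul_rel R c a)) ∘ₗ
  (Submodule.Quotient.restrictScalarsEquiv R (Ideal.span {rel R c})).symm.toLinearMap

lemma psiBar_mk (h : MvPolynomial (Fin 2) R) :
    psiBar R c (Ideal.Quotient.mk _ h) = psi R c h := rfl

/-- the standard monomial of index `k` -/
noncomputable def std (k : ℤ) : PolyNodeRing R c :=
  if 0 ≤ k then PolyNodeRing.x R c ^ k.toNat else PolyNodeRing.y R c ^ (-k).toNat

/-- the inverse map -/
noncomputable def theta : (ℤ →₀ R) →ₗ[R] PolyNodeRing R c :=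
  Finsupp.linearCombination R (std R c)

lemma theta_single (k : ℤ) (r : R) : theta R c (Finsupp.single k r) = r • std R c k := by
  rw [theta, Finsupp.linearCombination_single]

lemma xy_eq : PolyNodeRing.x R c * PolyNodeRing.y R c = algebraMap R _ c := by
  rw [← map_mul, ← sub_eq_zero]
  have : algebraMap R (PolyNodeRing R c) c = Ideal.Quotient.mk _ (C c) := rfl
  rw [this, ← map_sub, Ideal.Quotient.eq_zero_iff_mem]
  exact Ideal.subset_span rfl

lemma psiBar_std (k : ℤ) : psiBar R c (std R c k) = Finsupp.single k 1 := by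
  unfold std
  split_ifs with hk
  · have : PolyNodeRing.x R c ^ k.toNat =
        Ideal.Quotient.mk _ (monomial (Finsupp.single 0 k.toNat) (1 : R)) := by
      rw [← map_pow, X_pow_eq_monomial]
    rw [this, psiBar_mk, psi_monomial]
    simp only [Finsupp.single_eq_same, ne_eq, one_ne_zero, not_false_eq_true,
      Finsupp.single_eq_of_ne, Nat.cast_zero, sub_zero, one_mul]
    rw [Int.toNat_of_nonneg hk, Nat.min_zero, pow_zero]
  · push Not at hk
    have : PolyNodeRing.y R c ^ (-k).toNat =
        Ideal.Quotient.mk _ (monomial (Finsupp.single 1 (-k).toNat) (1 : R)) := by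
      rw [← map_pow, X_pow_eq_monomial]
    rw [this, psiBar_mk, psi_monomial]
    simp only [ne_eq, zero_ne_one, not_false_eq_true, Finsupp.single_eq_of_ne, Nat.cast_zero,
      Finsupp.single_eq_same, zero_sub, one_mul]
    rw [Int.toNat_of_nonneg (by omega), Nat.zero_min, pow_zero, neg_neg]

lemma mk_monomial (e : Fin 2 →₀ ℕ) (r : R) :
    (Ideal.Quotient.mk (Ideal.span {rel R c}) (monomial e r) : PolyNodeRing R c) =
      algebraMap R _ r * PolyNodeRing.x R c ^ (e 0) * PolyNodeRing.y R c ^ (e 1) := by
  have h1 : monomial e r = C r * X 0 ^ (e 0) * X 1 ^ (e 1) := by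
    rw [monomial_eq, Finsupp.prod_fintype _ _ (by simp)]
    simp [Fin.prod_univ_two, mul_assoc]
  rw [h1, map_mul, map_mul, map_pow, map_pow]
  rfl

lemma x_pow_mul_y_pow (a b : ℕ) :
    PolyNodeRing.x R c ^ a * PolyNodeRing.y R c ^ b =
      algebraMap R _ (c ^ min a b) * std R c ((a : ℤ) - (b : ℤ)) := by
  unfold std
  rcases le_total b a with hab | hab
  · have h0 : (0 : ℤ) ≤ (a : ℤ) - (b : ℤ) := by omega
    rw [if_pos h0, min_eq_right hab]
    have e1 : ((a : ℤ) - (b : ℤ)).toNat = a - b := by omega
    rw [e1]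
    have e2 : a = (a - b) + b := by omega
    conv_lhs => rw [e2, pow_add, mul_assoc, ← mul_pow, xy_eq]
    rw [map_pow]
    ring
  · rcases eq_or_lt_of_le hab with rfl | hlt
    · rw [sub_self, if_pos le_rfl, min_self, ← mul_pow, xy_eq, map_pow]
      simp
    · have h0 : ¬ (0 : ℤ) ≤ (a : ℤ) - (b : ℤ) := by omega
      rw [if_neg h0, min_eq_left hab]
      have e1 : (-((a : ℤ) - (b : ℤ))).toNat = b - a := by omega
      rw [e1]
      have e2 : b = a + (b - a) := by omega
      conv_lhs => rw [e2, pow_add, ← mul_assoc, ← mul_pow, xy_eq]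
      rw [map_pow]

lemma theta_psiBar (z : PolyNodeRing R c) : theta R c (psiBar R c z) = z := by
  obtain ⟨h, rfl⟩ := Ideal.Quotient.mk_surjective z
  induction h using MvPolynomial.induction_on' with
  | monomial e r =>
    rw [psiBar_mk, psi_monomial, theta_single, mk_monomial, mul_assoc, x_pow_mul_y_pow]
    have key : ∀ (s : R) (z : PolyNodeRing R c), s • z = algebraMap R (PolyNodeRing R c) s * z :=
      fun s z => Algebra.smul_def s z
    rw [mul_smul, key, key]
  | add p q hp hq =>
    rw [map_add, map_add, map_add, hp, hq]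

lemma psiBar_theta (z : ℤ →₀ R) : psiBar R c (theta R c z) = z := by
  induction z using Finsupp.induction_linear with
  | zero => simp
  | add f g hf hg => rw [map_add, map_add, hf, hg]
  | single k r =>
    rw [theta_single, map_smul, psiBar_std, Finsupp.smul_single, smul_eq_mul, mul_one]

/-- the `R`-linear normal form equivalence -/
noncomputable def nf : PolyNodeRing R c ≃ₗ[R] (ℤ →₀ R) :=
  LinearEquiv.ofLinearMap (psiBar R c) (theta R c)
    (LinearMap.ext fun z => psiBar_theta R c z) (LinearMap.ext fun z => theta_psiBar R c z)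

lemma nf_std (k : ℤ) : nf R c (std R c k) = Finsupp.single k 1 := psiBar_std R c k

lemma nf_symm_single (k : ℤ) (r : R) : (nf R c).symm (Finsupp.single k r) = r • std R c k :=
  theta_single R c k r

end

end Groth.Agent.Lib.Helper9.PolyNodeBasis
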