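import Mathlib
import Groth.Prelude.Def_W4c5spincurvestfNode
import Groth.Agent.Lib.Helper9.PolyNodeBasis
import Groth.Agent.Lib.Helper9.FinsuppScale

set_option autoImplicit false
universe u
open SpinCurv

namespace Groth.Agent.Lib.Helper9.NodeTwist

open Groth.Agent.Lib.Helper9.PolyNodeBasis Groth.Agent.Lib.Helper9.FinsuppScale
open LaurentPolynomial

section
variable (R : Type u) [CommRing R]

/-- coefficients of a Laurent polynomial, linearly -/
noncomputable abbrev cL : LaurentPolynomial R ≃ₗ[R] (ℤ →₀ R) := AddMonoidAlgebra.coeffLinearEquiv R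

lemma cL_C_mul_T (r : R) (k : ℤ) : cL R (C r * T k) = Finsupp.single k r := by
  rw [← single_eq_C_mul_T]
  rfl

lemma map_std_U (c : R) (g : PolyNodeRing R c →ₐ[R] LaurentPolynomial R)
    (hx : g (PolyNodeRing.x R c) = T 1) (hy : g (PolyNodeRing.y R c) = C c * T (-1)) (k : ℤ) :
    g (std R c k) = C (c ^ (-k).toNat) * T k := by
  unfold std
  split_ifs with hk
  · rw [map_pow, hx, T_pow, mul_one, Int.toNat_of_nonneg hk]
    have : (-k).toNat = 0 := by omega
    rw [this, pow_zero, map_one, one_mul]
  · push Not at hk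
    rw [map_pow, hy, mul_pow, ← map_pow, T_pow]
    congr 2
    have : ((-k).toNat : ℤ) = -k := Int.toNat_of_nonneg (by omega)
    rw [this]; ring

lemma map_std_V (c : R) (g : PolyNodeRing R c →ₐ[R] LaurentPolynomial R)
    (hx : g (PolyNodeRing.x R c) = T (-1)) (hy : g (PolyNodeRing.y R c) = C c * T 1) (k : ℤ) :
    g (std R c k) = C (c ^ (-k).toNat) * T (-k) := by
  unfold std
  split_ifs with hk
  · rw [map_pow, hx, T_pow, Int.toNat_of_nonneg hk]
    have : (-k).toNat = 0 := by omega
    rw [this, pow_zero, map_one, one_mul]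
    congr 1; ring
  · push Not at hk
    rw [map_pow, hy, mul_pow, ← map_pow, T_pow, mul_one]
    congr 2
    exact Int.toNat_of_nonneg (by omega)

variable (p q : R) (n : ℤ)

/-- weights -/
def Uw : ℤ → R := fun k => q ^ (-k).toNat
/-- weights -/
def Vw : ℤ → R := fun k => p ^ (k - n).toNat

/-- reindexing `k ↦ n - k` -/
noncomputable def reindex : (ℤ →₀ R) ≃ₗ[R] (ℤ →₀ R) := Finsupp.domLCongr (Equiv.subLeft n)

lemma reindex_single (k : ℤ) (r : R) :
    reindex R n (Finsupp.single k r) = Finsupp.single (n - k) r := by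
  show Finsupp.domLCongr (Equiv.subLeft n) (Finsupp.single k r) = _
  rw [Finsupp.domLCongr_single]
  rfl

lemma reindex_symm_single (k : ℤ) (r : R) :
    (reindex R n).symm (Finsupp.single k r) = Finsupp.single (n - k) r := by
  rw [LinearEquiv.symm_apply_eq, reindex_single]
  congr 1; ring

/-- coordinates on the product of the two charts -/
noncomputable def E : (PolyNodeRing R q × PolyNodeRing R p) ≃ₗ[R] (ℤ →₀ R) × (ℤ →₀ R) :=
  (nf R q).prodCongr ((nf R p).trans (reindex R n))

/-- the parametrization of the module of sections -/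
noncomputable def Phi : (ℤ →₀ R) →ₗ[R] PolyNodeRing R q × PolyNodeRing R p :=
  (E R p q n).symm.toLinearMap ∘ₗ param (Uw R q) (Vw R p n) (fun k => k ≤ n)

lemma Phi_injective : Function.Injective (Phi R p q n) :=
  (E R p q n).symm.injective.comp (param_injective _ _ _)

lemma Phi_single (k : ℤ) (r : R) :
    Phi R p q n (Finsupp.single k r) =
      ((r * if k ≤ n then 1 else p ^ (k - n).toNat) • std R q k,
        (r * if k ≤ n then q ^ (-k).toNat else 1) • std R p (n - k)) := by
  classical
  have h1 : param (Uw R q) (Vw R p n) (fun k => k ≤ n) (Finsupp.single k r) =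
      (Finsupp.single k ((if k ≤ n then 1 else p ^ (k - n).toNat) * r),
        Finsupp.single k ((if k ≤ n then q ^ (-k).toNat else 1) * r)) := by
    show (scale _ (Finsupp.single k r), scale _ (Finsupp.single k r)) = _
    rw [scale_single, scale_single]
    rfl
  show (E R p q n).symm (param (Uw R q) (Vw R p n) (fun k => k ≤ n) (Finsupp.single k r)) = _
  rw [h1]
  show ((nf R q).symm _, ((nf R p).trans (reindex R n)).symm _) = _
  rw [nf_symm_single, LinearEquiv.trans_symm, LinearEquiv.trans_apply, reindex_symm_single,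
    nf_symm_single, mul_comm r, mul_comm r]

variable (gU : PolyNodeRing R q →ₐ[R] LaurentPolynomial R)
  (hgUs : gU (PolyNodeRing.x R q) = T 1) (hgUy : gU (PolyNodeRing.y R q) = C q * T (-1))
  (gV : PolyNodeRing R p →ₐ[R] LaurentPolynomial R)
  (hgVt : gV (PolyNodeRing.x R p) = T (-1)) (hgVx : gV (PolyNodeRing.y R p) = C p * T 1)

include hgUs hgUy in
lemma hC1 (A : ℤ →₀ R) : cL R (gU ((nf R q).symm A)) = scale (Uw R q) A := by
  classical
  induction A using Finsupp.induction_linear with
  | zero => simp
  | add f g hf hg => simp only [map_add, hf, hg]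
  | single k r =>
    rw [nf_symm_single, map_smul, map_std_U R q gU hgUs hgUy, map_smul, cL_C_mul_T,
      scale_single, Finsupp.smul_single, smul_eq_mul, mul_comm]
    rfl

include hgVt hgVx in
lemma hC2 (Cc : ℤ →₀ R) :
    cL R (T n * gV ((nf R p).symm Cc)) = scale (Vw R p n) (reindex R n Cc) := by
  classical
  induction Cc using Finsupp.induction_linear with
  | zero => simp
  | add f g hf hg => simp only [map_add, mul_add, hf, hg]
  | single k r =>
    rw [nf_symm_single, map_smul, map_std_V R p gV hgVt hgVx, mul_smul_comm, map_smul]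
    have e1 : T n * (C (p ^ (-k).toNat) * T (-k)) = C (p ^ (-k).toNat) * T (n - k) := by
      rw [← mul_assoc, T_mul, mul_assoc, ← T_add]
      congr 2
    rw [e1, cL_C_mul_T, reindex_single, scale_single, Finsupp.smul_single, smul_eq_mul]
    congr 1
    show r * p ^ (-k).toNat = p ^ (n - k - n).toNat * r
    have : n - k - n = -k := by ring
    rw [this, mul_comm]

include hgUs hgUy hgVt hgVx in
lemma mem_iff (g : PolyNodeRing R q) (f : PolyNodeRing R p) :
    gU g = T n * gV f ↔ E R p q n (g, f) ∈ K' (Uw R q) (Vw R p n) := by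
  rw [mem_K']
  have hg : g = (nf R q).symm (nf R q g) := ((nf R q).symm_apply_apply g).symm
  have hf : f = (nf R p).symm (nf R p f) := ((nf R p).symm_apply_apply f).symm
  constructor
  · intro h k
    have h1 := congrArg (cL R) h
    rw [hg, hf, hC1 R q gU hgUs hgUy, hC2 R p n gV hgVt hgVx] at h1
    have := DFunLike.congr_fun h1 k
    rw [scale_apply, scale_apply] at this
    exact this
  · intro h
    apply (cL R).injective
    rw [hg, hf, hC1 R q gU hgUs hgUy, hC2 R p n gV hgVt hgVx]
    ext k
    rw [scale_apply, scale_apply]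
    exact h k

include hgUs hgUy hgVt hgVx in
/-- the sections are exactly the range of `Phi` (for `n ≥ -1`) -/
lemma range_Phi (hn : -1 ≤ n) (gf : PolyNodeRing R q × PolyNodeRing R p) :
    gU gf.1 = T n * gV gf.2 ↔ gf ∈ LinearMap.range (Phi R p q n) := by
  rw [mem_iff R p q n gU hgUs hgUy gV hgVt hgVx]
  have hr := range_param (Uw R q) (Vw R p n) (fun k => k ≤ n)
    (fun k hk => by
      show p ^ (k - n).toNat = 1
      have : (k - n).toNat = 0 := by omega
      rw [this, pow_zero])
    (fun k hk => by
      show q ^ (-k).toNat = 1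
      have : (-k).toNat = 0 := by omega
      rw [this, pow_zero])
  rw [← hr]
  constructor
  · rintro ⟨z, hz⟩
    refine ⟨z, ?_⟩
    show (E R p q n).symm (param _ _ _ z) = gf
    rw [hz, LinearEquiv.symm_apply_apply]
  · rintro ⟨z, rfl⟩
    refine ⟨z, ?_⟩
    show _ = E R p q n ((E R p q n).symm (param _ _ _ z))
    rw [LinearEquiv.apply_symm_apply]

end

end Groth.Agent.Lib.Helper9.NodeTwist
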