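import Mathlib
import Groth.Agent.Lib.Helper9.OrbitLib
import Groth.Agent.Lib.Helper9.Reynolds2

/-!
The action of rational points of the group on rational points of a comodule algebra:
composition law; closed orbits contain the rational points of their closure;
extension of ideals of the invariant ring.
-/

set_option autoImplicit false

namespace Groth.Agent.Helper9.OrbitLib

open TensorProduct Groth.Agent.Helper9 WithConv

universe u v w

section Act
variable {k : Type u} [Field k] {A : Type v} [CommRing A] [HopfAlgebra k A]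
variable {R : Type w} [CommRing R] [Algebra k R] [HopfRep.Comod k A R] [GLin.IsCoactAlg k A R]

lemma actPt_apply (g : A →ₐ[k] k) (x : R →ₐ[k] k) (f : R) :
    GLin.actPt k g x f = g (coeff (A := A) x.toLinearMap f) := rfl

omit [HopfAlgebra k A] in
lemma conv_aux [Bialgebra k A] (g g' : A →ₐ[k] k) (t : A ⊗[k] A) :
    g' (TensorProduct.lid k A (g.toLinearMap.rTensor A t)) =
      Algebra.TensorProduct.lift g g' (fun _ _ => Commute.all _ _) t := by
  induction t using TensorProduct.induction_on with
  | zero => simp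
  | tmul a b => simp
  | add x y hx hy => simp only [map_add, hx, hy]

theorem actPt_actPt (g g' : A →ₐ[k] k) (x : R →ₐ[k] k) :
    GLin.actPt k g' (GLin.actPt k g x) = GLin.actPt k (toConv g * toConv g').ofConv x := by
  apply AlgHom.ext
  intro f
  rw [actPt_apply, actPt_apply, AlgHom.convMul_apply]
  have h1 : (GLin.actPt k g x).toLinearMap = g.toLinearMap ∘ₗ coeff (A := A) x.toLinearMap := rfl
  show g' (TensorProduct.lid k A ((GLin.actPt k g x).toLinearMap.rTensor A
    (HopfRep.Comod.coact (k := k) (A := A) f))) = _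
  rw [h1, LinearMap.rTensor_comp, LinearMap.comp_apply, ← comul_coeff, conv_aux]

theorem actPt_one (x : R →ₐ[k] k) :
    GLin.actPt k (1 : WithConv (A →ₐ[k] k)).ofConv x = x := by
  apply AlgHom.ext
  intro f
  rw [actPt_apply]
  show algebraMap k k (Coalgebra.counit (R := k) (coeff (A := A) x.toLinearMap f)) = x f
  rw [counit_coeff]
  rfl

/-- two points in the same orbit -/
theorem exists_actPt_of_actPt_eq (g g' : A →ₐ[k] k) (x x' : R →ₐ[k] k)
    (h : GLin.actPt k g x = GLin.actPt k g' x') :
    ∃ g'' : A →ₐ[k] k, x' = GLin.actPt k g'' x := by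
  refine ⟨(toConv g * (toConv g')⁻¹).ofConv, ?_⟩
  have h1 : GLin.actPt k ((toConv g')⁻¹).ofConv (GLin.actPt k g' x') = x' := by
    have := actPt_actPt g' ((toConv g')⁻¹).ofConv x'
    rw [this, WithConv.toConv_ofConv, mul_inv_cancel, actPt_one]
  rw [← h1, ← h]
  have := actPt_actPt g ((toConv g')⁻¹).ofConv x
  rw [this, WithConv.toConv_ofConv]

end Act

section Closed
variable {k : Type u} [Field k] [IsAlgClosed k] {A : Type v} [CommRing A] [Bialgebra k A]
  [Algebra.FiniteType k A]
variable {R : Type w} [CommRing R] [Algebra k R] [HopfRep.Comod k A R] [GLin.IsCoactAlg k A R]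

/-- a rational point in the closure of a closed orbit lies in the orbit -/
theorem exists_actPt_of_isClosedOrbit (x z : R →ₐ[k] k) (hcl : GLin.IsClosedOrbit k A x)
    (hz : GLin.InOrbitClosure k A x z) : ∃ g : A →ₐ[k] k, z = GLin.actPt k g x := by
  have hzprime : (RingHom.ker z).IsPrime := RingHom.ker_isPrime _
  let pz : PrimeSpectrum R := ⟨RingHom.ker z, hzprime⟩
  have hmem : pz ∈ closure (Set.range (PrimeSpectrum.comap (GLin.orbitHom k A x).toRingHom)) := by
    rw [PrimeSpectrum.closure_range_comap, PrimeSpectrum.mem_zeroLocus]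
    exact hz
  rw [hcl.closure_eq] at hmem
  obtain ⟨q, hq⟩ := hmem
  have hJ : Ideal.map (GLin.orbitHom k A x) (RingHom.ker z) ≠ ⊤ := by
    intro htop
    have hle : Ideal.map (GLin.orbitHom k A x) (RingHom.ker z) ≤ q.asIdeal := by
      rw [Ideal.map_le_iff_le_comap]
      intro r hr
      have h1 : r ∈ (PrimeSpectrum.comap (GLin.orbitHom k A x).toRingHom q).asIdeal := by
        rw [hq]; exact hr
      exact h1
    rw [htop] at hle
    exact q.isPrime.ne_top (top_le_iff.mp hle)
  obtain ⟨g, hg⟩ := exists_algHom_of_ne_top (k := k) _ hJ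
  refine ⟨g, ?_⟩
  apply AlgHom.ext
  intro r
  have h1 : r - algebraMap k R (z r) ∈ RingHom.ker z := by
    rw [RingHom.mem_ker, map_sub, AlgHom.commutes]
    simp
  have h2 : GLin.orbitHom k A x (r - algebraMap k R (z r)) ∈ RingHom.ker g :=
    hg (Ideal.mem_map_of_mem _ h1)
  rw [RingHom.mem_ker, map_sub, map_sub, AlgHom.commutes, AlgHom.commutes, sub_eq_zero] at h2
  have h3 : g (GLin.orbitHom k A x r) = z r := by
    rw [h2]; simp
  exact h3.symm

end Closed

section Ext
variable {k : Type u} [Field k] {A : Type u} [CommRing A] [HopfAlgebra k A]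
variable {R : Type u} [CommRing R] [Algebra k R] [HopfRep.Comod k A R] [GLin.IsCoactAlg k A R]

/-- extension–contraction for ideals of the ring of invariants -/
theorem mem_of_mem_map_invariants (hG : HopfRep.IsLinearlyReductive k A)
    (m : Ideal (GLin.invariants k A R)) (f : GLin.invariants k A R)
    (hf : (f : R) ∈ Ideal.map (algebraMap (GLin.invariants k A R) R) m) : f ∈ m := by
  obtain ⟨E, hE₁, hE₂, hE₃⟩ := exists_reynolds hG R
  have hfix : ∀ a, E a ∈ GLin.invariants k A R := fun a =>
    (hE₃ (E a)).mp (LinearMap.congr_fun hE₂ a)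
  have key : ∀ r ∈ Ideal.map (algebraMap (GLin.invariants k A R) R) m, ∀ a : R,
      (⟨E (a * r), hfix _⟩ : GLin.invariants k A R) ∈ m := by
    intro r hr
    refine Submodule.span_induction ?_ ?_ ?_ ?_ hr
    · rintro _ ⟨n, hn, rfl⟩ a
      have h1 : E (a * (n : R)) = (n : R) * E a := by
        rw [mul_comm]
        exact reynolds_mul hG E hE₁ hE₂ hE₃ (n : R) n.2 a
      have h2 : (⟨E (a * (algebraMap (GLin.invariants k A R) R n)), hfix _⟩ :
          GLin.invariants k A R) = n * ⟨E a, hfix a⟩ := Subtype.ext h1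
      rw [h2]
      exact m.mul_mem_right _ hn
    · intro a
      have : (⟨E (a * 0), hfix _⟩ : GLin.invariants k A R) = 0 := Subtype.ext (by simp)
      rw [this]; exact zero_mem _
    · intro r s _ _ hr hs a
      have : (⟨E (a * (r + s)), hfix _⟩ : GLin.invariants k A R) =
          ⟨E (a * r), hfix _⟩ + ⟨E (a * s), hfix _⟩ := Subtype.ext (by simp [mul_add])
      rw [this]; exact add_mem (hr a) (hs a)
    · intro b r _ hr a
      have : (⟨E (a * (b • r)), hfix _⟩ : GLin.invariants k A R) =
          ⟨E ((a * b) * r), hfix _⟩ := Subtype.ext (by simp [mul_assoc])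
      rw [this]; exact hr (a * b)
  have h1 := key (f : R) hf 1
  have h2 : (⟨E (1 * (f : R)), hfix _⟩ : GLin.invariants k A R) = f := by
    apply Subtype.ext
    show E (1 * (f : R)) = f
    rw [one_mul]
    exact (hE₃ _).mpr f.2
  rwa [h2] at h1

end Ext

end Groth.Agent.Helper9.OrbitLib
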