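import Mathlib

set_option autoImplicit false

namespace Groth.Agent.Lib.Helper9.PGroupFlag

open Module

section fixed
variable {p : ℕ} [Fact p.Prime] {k : Type*} [Field k] [CharP k p]
variable {G : Type*} [Group G] [Finite G] {V : Type*} [AddCommGroup V] [Module k V]

/-- A representation of a finite `p`-group on a nonzero vector space over a field of
characteristic `p` has a nonzero fixed vector. -/
theorem exists_fixed_ne_zero (hG : IsPGroup p G) (ρ : Representation k G V) [Nontrivial V] :
    ∃ v : V, v ≠ 0 ∧ ∀ g : G, ρ g v = v := by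
  classical
  obtain ⟨x₀, hx₀⟩ := exists_ne (0 : V)
  letI : Algebra (ZMod p) k := ZMod.algebra k p
  letI : Module (ZMod p) V := Module.compHom V (algebraMap (ZMod p) k)
  have hlin : ∀ (g : G) (c : ZMod p) (v : V), ρ g (c • v) = c • ρ g v := by
    intro g c v
    show ρ g ((algebraMap (ZMod p) k c) • v) = (algebraMap (ZMod p) k c) • ρ g v
    rw [map_smul]
  let X : Submodule (ZMod p) V := Submodule.span (ZMod p) (Set.range fun g : G => ρ g x₀)
  have hXfin : Module.Finite (ZMod p) X := Module.Finite.span_of_finite _ (Set.finite_range _)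
  haveI : Finite X := Module.finite_of_finite (ZMod p)
  have hstable : ∀ (g : G) (x : V), x ∈ X → ρ g x ∈ X := by
    intro g x hx
    induction hx using Submodule.span_induction with
    | mem y hy =>
      obtain ⟨h, rfl⟩ := hy
      apply Submodule.subset_span
      refine ⟨g * h, ?_⟩
      simp only [map_mul]
      rfl
    | zero => rw [map_zero]; exact Submodule.zero_mem _
    | add y z _ _ hy hz => rw [map_add]; exact Submodule.add_mem _ hy hz
    | smul c y _ hy => rw [hlin]; exact Submodule.smul_mem _ _ hy
  letI : MulAction G X :=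
    { smul := fun g x => ⟨ρ g x.1, hstable g x.1 x.2⟩
      one_smul := by
        intro x
        apply Subtype.ext
        show ρ 1 x.1 = x.1
        rw [map_one]; rfl
      mul_smul := by
        intro g h x
        apply Subtype.ext
        show ρ (g * h) x.1 = ρ g (ρ h x.1)
        rw [map_mul]; rfl }
  have hsmul : ∀ (g : G) (x : X), ((g • x : X) : V) = ρ g x.1 := fun _ _ => rfl
  have hx₀X : x₀ ∈ X := by
    apply Submodule.subset_span
    exact ⟨1, by simp⟩
  haveI : Nontrivial X := ⟨⟨⟨x₀, hx₀X⟩, 0, fun h => hx₀ (congrArg Subtype.val h)⟩⟩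
  have hcard : p ∣ Nat.card X := by
    rw [Module.natCard_eq_pow_finrank (K := ZMod p) (V := X), Nat.card_zmod]
    exact dvd_pow_self p (Module.finrank_pos (R := ZMod p) (M := X)).ne'
  have h0 : (0 : X) ∈ MulAction.fixedPoints G X := by
    intro g
    apply Subtype.ext
    rw [hsmul]
    simp
  obtain ⟨b, hb, hne⟩ := hG.exists_fixed_point_of_prime_dvd_card_of_fixed_point X hcard h0
  refine ⟨b.1, fun h => hne (Subtype.ext h.symm), fun g => ?_⟩
  have := hb g
  rw [← hsmul, this]

end fixed

section flag
variable {p : ℕ} [Fact p.Prime] {k : Type*} [Field k] [CharP k p]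
variable {G : Type*} [Group G] [Finite G] {V : Type*} [AddCommGroup V] [Module k V]
  [FiniteDimensional k V]

theorem exists_flag_aux (hG : IsPGroup p G) (ρ : Representation k G V) (d : ℕ)
    (hd : d ≤ finrank k V) :
    ∃ v : Fin d → V, LinearIndependent k v ∧
      ∀ (g : G) (i : Fin d), ρ g (v i) - v i ∈ Submodule.span k (v '' {j | j < i}) := by
  induction d with
  | zero =>
    exact ⟨Fin.elim0, linearIndependent_empty_type, fun _ i => i.elim0⟩
  | succ d ih =>
    obtain ⟨v, hv, htri⟩ := ih (Nat.le_of_succ_le hd)
    set U : Submodule k V := Submodule.span k (Set.range v) with hU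
    have hUrank : finrank k U = d := by
      rw [hU, finrank_span_eq_card hv, Fintype.card_fin]
    have hUne : U ≠ ⊤ := by
      intro h
      rw [h, finrank_top] at hUrank
      omega
    have hstable : ∀ g, U ≤ U.comap (ρ g) := by
      intro g
      rw [hU, Submodule.span_le]
      rintro _ ⟨i, rfl⟩
      simp only [Submodule.comap_coe, Set.mem_preimage, SetLike.mem_coe]
      have h1 : ρ g (v i) - v i ∈ Submodule.span k (Set.range v) :=
        Submodule.span_mono (Set.image_subset_range _ _) (htri g i)
      have h2 : v i ∈ Submodule.span k (Set.range v) := Submodule.subset_span ⟨i, rfl⟩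
      have := Submodule.add_mem _ h1 h2
      simpa using this
    haveI : Nontrivial (V ⧸ U) := Submodule.Quotient.nontrivial_iff.mpr hUne
    obtain ⟨wbar, hw0, hwfix⟩ := exists_fixed_ne_zero hG (ρ.quotient U hstable)
    obtain ⟨w, rfl⟩ := Submodule.Quotient.mk_surjective U wbar
    have hwU : w ∉ U := fun h => hw0 ((Submodule.Quotient.mk_eq_zero U).mpr h)
    have hwfix' : ∀ g, ρ g w - w ∈ U := by
      intro g
      have := hwfix g
      rw [Representation.quotient_apply, Submodule.mapQ_apply] at this
      rw [← Submodule.Quotient.mk_eq_zero U, Submodule.Quotient.mk_sub, this, sub_self]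
    refine ⟨Fin.snoc v w, linearIndependent_finSnoc.mpr ⟨hv, hwU⟩, ?_⟩
    intro g i
    refine Fin.lastCases ?_ (fun i' => ?_) i
    · rw [Fin.snoc_last]
      have h1 : Set.range v ⊆ (Fin.snoc v w : Fin (d + 1) → V) '' {j | j < Fin.last d} := by
        rintro _ ⟨j, rfl⟩
        exact ⟨Fin.castSucc j, Fin.castSucc_lt_last j, by simp⟩
      exact Submodule.span_mono h1 (hwfix' g)
    · rw [Fin.snoc_castSucc]
      have h1 : v '' {j | j < i'} ⊆
          (Fin.snoc v w : Fin (d + 1) → V) '' {j | j < Fin.castSucc i'} := by
        rintro _ ⟨j, hj, rfl⟩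
        exact ⟨Fin.castSucc j, Fin.castSucc_lt_castSucc_iff.mpr hj, by simp⟩
      exact Submodule.span_mono h1 (htri g i')

/-- A representation of a finite `p`-group in characteristic `p` admits a basis in which
it is unipotent upper triangular. -/
theorem exists_flag (hG : IsPGroup p G) (ρ : Representation k G V) :
    ∃ v : Fin (finrank k V) → V, LinearIndependent k v ∧ Submodule.span k (Set.range v) = ⊤ ∧
      ∀ (g : G) (i : Fin (finrank k V)),
        ρ g (v i) - v i ∈ Submodule.span k (v '' {j | j < i}) := by
  obtain ⟨v, hv, htri⟩ := exists_flag_aux hG ρ (finrank k V) le_rfl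
  refine ⟨v, hv, ?_, htri⟩
  exact hv.span_eq_top_of_card_eq_finrank' (by simp)

end flag

end Groth.Agent.Lib.Helper9.PGroupFlag
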