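import Mathlib
import Groth.Prelude.Def_PP16
import Groth.Agent.Lib.Helper9.PPLib

set_option autoImplicit false
universe u
open scoped TensorProduct

namespace Groth.Agent.Helper9.PPLib

section retraction2
variable (n : ℕ) (A B : Type u) [CommRing A] [CommRing B] [Algebra A B] (g : B →ₐ[A] A)

lemma ker_rhoBar :
    RingHom.ker (rhoBar n A B g) = (RingHom.ker g).map (algebraMap B (PP16.P n A B)) := by
  apply le_antisymm
  · intro t ht
    obtain ⟨x, rfl⟩ := Ideal.Quotient.mk_surjective t
    rw [RingHom.mem_ker, rhoBar_mk, Ideal.Quotient.eq_zero_iff_mem, ← ideal_map_rho A B g,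
      ← Ideal.map_pow] at ht
    obtain ⟨z, hz, hzb⟩ := (Ideal.mem_map_iff_of_surjective _ (rho_surjective A B g)).1 ht
    have h0 : rho A B g (x - z) = 0 := by rw [map_sub, hzb, sub_self]
    have h1 : Ideal.Quotient.mk (KaehlerDifferential.ideal A B ^ (n + 1)) x =
        Ideal.Quotient.mk (KaehlerDifferential.ideal A B ^ (n + 1))
          ((x - z) - (1 : B) ⊗ₜ[A] rho A B g (x - z)) := by
      rw [h0, TensorProduct.tmul_zero, sub_zero, map_sub, Ideal.Quotient.eq_zero_iff_mem.2 hz,
        sub_zero]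
    rw [h1]
    exact map_mk_includeLeft_le n A B g (Ideal.mem_map_of_mem _ (sub_rho_mem A B g _))
  · rw [Ideal.map_le_iff_le_comap]
    intro k hk
    rw [Ideal.mem_comap, RingHom.mem_ker, algebraMap_P, rhoBar_mk, rho_tmul,
      RingHom.mem_ker.1 hk, map_zero, zero_mul, map_zero]

end retraction2

section aug
variable (n : ℕ) (A B : Type u) [CommRing A] [CommRing B] [Algebra A B]

/-- multiplication `P^n → B` -/
noncomputable def multBar : PP16.P n A B →+* B :=
  Ideal.Quotient.lift _ (Algebra.TensorProduct.lmul' A : B ⊗[A] B →ₐ[A] B).toRingHom (by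
    intro x hx
    exact Ideal.pow_le_self (Nat.succ_ne_zero n) hx)

lemma multBar_mk (x : B ⊗[A] B) :
    multBar n A B (Ideal.Quotient.mk _ x) = Algebra.TensorProduct.lmul' A x := rfl

lemma multBar_algebraMap (b : B) : multBar n A B (algebraMap B (PP16.P n A B) b) = b := by
  rw [algebraMap_P, multBar_mk]; simp

lemma multBar_aug {t : PP16.P n A B} (ht : t ∈ PP16.augIdeal n A B) : multBar n A B t = 0 := by
  have h : PP16.augIdeal n A B ≤ RingHom.ker (multBar n A B) := by
    rw [PP16.augIdeal, Ideal.map_le_iff_le_comap]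
    intro x hx
    rw [Ideal.mem_comap, RingHom.mem_ker, multBar_mk]
    exact hx
  exact h ht

/-- projection onto the augmentation ideal -/
noncomputable def piP : PP16.P n A B →ₗ[B] PP16.P n A B where
  toFun t := t - algebraMap B (PP16.P n A B) (multBar n A B t)
  map_add' x y := by simp only [map_add]; abel
  map_smul' b x := by
    simp only [RingHom.id_apply, Algebra.smul_def, map_mul, multBar_algebraMap, mul_sub]

lemma piP_apply (t : PP16.P n A B) :
    piP n A B t = t - algebraMap B (PP16.P n A B) (multBar n A B t) := rfl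

lemma piP_mem (t : PP16.P n A B) : piP n A B t ∈ PP16.augIdeal n A B := by
  obtain ⟨x, rfl⟩ := Ideal.Quotient.mk_surjective t
  rw [piP_apply, multBar_mk, algebraMap_P, ← map_sub]
  apply Ideal.mem_map_of_mem
  change Algebra.TensorProduct.lmul' A _ = 0
  rw [map_sub, Algebra.TensorProduct.lmul'_apply_tmul, mul_one, sub_self]

lemma piP_of_mem {t : PP16.P n A B} (ht : t ∈ PP16.augIdeal n A B) : piP n A B t = t := by
  rw [piP_apply, multBar_aug n A B ht, map_zero, sub_zero]

lemma mem_smul_aug (K : Ideal B) {t : PP16.P n A B} (ht : t ∈ PP16.augIdeal n A B)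
    (hK : t ∈ K.map (algebraMap B (PP16.P n A B))) :
    t ∈ K • (PP16.augIdeal n A B).restrictScalars B := by
  have h1 : t ∈ (K • ⊤ : Submodule B (PP16.P n A B)) := by
    rw [Ideal.smul_top_eq_map]; exact hK
  have h2 : piP n A B t ∈ (K • ⊤ : Submodule B (PP16.P n A B)).map (piP n A B) :=
    Submodule.mem_map_of_mem h1
  rw [Submodule.map_smul'', piP_of_mem n A B ht] at h2
  refine Submodule.smul_mono le_rfl ?_ h2
  rintro _ ⟨x, -, rfl⟩
  exact piP_mem n A B x

lemma smul_aug_le (K : Ideal B) :
    K • (PP16.augIdeal n A B).restrictScalars B ≤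
      (K.map (algebraMap B (PP16.P n A B))).restrictScalars B := by
  rw [← Ideal.smul_top_eq_map]
  exact Submodule.smul_mono le_rfl le_top

end aug


section vanish
variable (R SY SX : Type u) [CommRing R] [CommRing SY] [CommRing SX] [Algebra R SY]
  [Algebra R SX] [Algebra SY SX] [IsScalarTower R SY SX] (σ : SX →ₐ[R] R) (n : ℕ)

lemma map_aug_le :
    (PP16.augIdeal n R SY).map (PP16.map n R SY R SX) ≤ PP16.augIdeal n R SX := by
  rw [PP16.augIdeal, Ideal.map_le_iff_le_comap, Ideal.map_le_iff_le_comap]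
  intro x hx
  rw [Ideal.mem_comap, Ideal.mem_comap, PP16.map_mk]
  exact Ideal.mem_map_of_mem _ (PP16.ideal_map_tensorMap_le R SY R SX (Ideal.mem_map_of_mem _ hx))

lemma rhoBar_map_gen (b : SY) :
    rhoBar n R SX σ (PP16.map n R SY R SX (Ideal.Quotient.mk _ ((1 : SY) ⊗ₜ[R] b - b ⊗ₜ[R] (1 : SY)))) =
      Ideal.Quotient.mk _ (algebraMap SY SX b - algebraMap R SX (σ (algebraMap SY SX b))) := by
  rw [PP16.map_mk, rhoBar_mk, map_sub, PP16.tensorMap_tmul, PP16.tensorMap_tmul, map_one, map_sub,
    rho_tmul, rho_tmul, map_one, map_one, one_mul, mul_one]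

theorem vanish_iff :
    (∀ y ∈ PP16.augIdeal n R SY, PP16.map n R SY R SX y ∈
        RingHom.ker σ • (PP16.augIdeal n R SX).restrictScalars SX) ↔
      (∀ b : SY, algebraMap SY SX b ∈ RingHom.ker σ →
        algebraMap SY SX b ∈ RingHom.ker σ ^ (n + 1)) := by
  constructor
  · intro h b hb
    have h1 := h (Ideal.Quotient.mk _ ((1 : SY) ⊗ₜ[R] b - b ⊗ₜ[R] (1 : SY)))
      (Ideal.mem_map_of_mem _ (KaehlerDifferential.one_smul_sub_smul_one_mem_ideal R b))
    have h2 := smul_aug_le n R SX (RingHom.ker σ) h1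
    rw [Submodule.restrictScalars_mem, ← ker_rhoBar, RingHom.mem_ker, rhoBar_map_gen,
      RingHom.mem_ker.1 hb, map_zero, sub_zero, Ideal.Quotient.eq_zero_iff_mem] at h2
    exact h2
  · intro h y hy
    apply mem_smul_aug
    · exact map_aug_le R SY SX n (Ideal.mem_map_of_mem _ hy)
    · rw [← ker_rhoBar]
      have h3 : PP16.augIdeal n R SY ≤
          RingHom.ker ((rhoBar n R SX σ).comp (PP16.map n R SY R SX).toRingHom) := by
        rw [PP16.augIdeal, Ideal.map_le_iff_le_comap]
        refine le_trans (KaehlerDifferential.span_range_eq_ideal R SY).symm.le ?_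
        rw [Ideal.span_le]
        rintro _ ⟨b, rfl⟩
        change (rhoBar n R SX σ) (PP16.map n R SY R SX
          (Ideal.Quotient.mk _ ((1 : SY) ⊗ₜ[R] b - b ⊗ₜ[R] (1 : SY)))) = 0
        rw [rhoBar_map_gen, Ideal.Quotient.eq_zero_iff_mem]
        have h4 : algebraMap SY SX b - algebraMap R SX (σ (algebraMap SY SX b)) =
            algebraMap SY SX (b - algebraMap R SY (σ (algebraMap SY SX b))) := by
          rw [map_sub, ← IsScalarTower.algebraMap_apply]
        rw [h4]
        apply h
        rw [← h4]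
        exact sub_mem_ker R SX σ _
      exact h3 hy

end vanish

end Groth.Agent.Helper9.PPLib
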