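import Mathlib
import Groth.Prelude.Def_PP16
import Groth.Agent.Lib.Helper9.PPLib

set_option autoImplicit false
universe u
open scoped TensorProduct
open MvPolynomial

namespace Groth.Agent.Helper9.PPLib

section poly
variable (n : ℕ) (A : Type u) [CommRing A] (σ : Type u)

local notation "B" => MvPolynomial σ A

/-- shift `U_i ↦ U_i + T_i` -/
noncomputable def shift : MvPolynomial σ B →ₐ[B] MvPolynomial σ B :=
  aeval (fun i => X i + C (X i))

/-- shift `U_i ↦ U_i - T_i` -/
noncomputable def unshift : MvPolynomial σ B →ₐ[B] MvPolynomial σ B :=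
  aeval (fun i => X i - C (X i))

/-- the shift automorphism -/
noncomputable def shiftEquiv : MvPolynomial σ B ≃ₐ[B] MvPolynomial σ B :=
  AlgEquiv.ofAlgHom (shift A σ) (unshift A σ)
    (by apply MvPolynomial.algHom_ext; intro i; simp [shift, unshift])
    (by apply MvPolynomial.algHom_ext; intro i; simp [shift, unshift])

/-- `B ⊗ B ≃ B[U]` with `1 ⊗ T_i ↦ T_i + U_i` -/
noncomputable def iotaEquiv : B ⊗[A] B ≃ₐ[B] MvPolynomial σ B :=
  (MvPolynomial.algebraTensorAlgEquiv A B).trans (shiftEquiv A σ)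

lemma iotaEquiv_one_tmul_X (i : σ) :
    iotaEquiv A σ ((1 : B) ⊗ₜ[A] (X i : B)) = X i + C (X i) := by
  simp [iotaEquiv, shiftEquiv, shift]

lemma iotaEquiv_tmul_one (b : B) :
    iotaEquiv A σ (b ⊗ₜ[A] (1 : B)) = C b := by
  simp [iotaEquiv, shiftEquiv, shift, MvPolynomial.algebraMap_eq, Algebra.smul_def]

/-- constant coefficient as a `B`-algebra map -/
noncomputable def cc : MvPolynomial σ B →ₐ[B] B := aeval (fun _ => (0 : B))

lemma cc_apply (p : MvPolynomial σ B) : cc A σ p = constantCoeff p := by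
  induction p using MvPolynomial.induction_on with
  | C a => simp [cc]
  | add p q hp hq => simp only [map_add, hp, hq]
  | mul_X p i h => simp [cc]

lemma ker_cc : RingHom.ker (cc A σ) = Ideal.span (Set.range (X : σ → MvPolynomial σ B)) := by
  ext p
  rw [RingHom.mem_ker, cc_apply]
  have h := MvPolynomial.mem_pow_idealOfVars_iff' (σ := σ) (R := B) 1 p
  rw [pow_one] at h
  change _ ↔ p ∈ MvPolynomial.idealOfVars σ B
  rw [h]
  constructor
  · intro h0 x hx
    have hx0 : x = 0 := by
      have : Finsupp.degree x = 0 := by omega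
      exact (Finsupp.degree_eq_zero_iff x).1 this
    rw [hx0]
    exact h0
  · intro h0
    exact h0 0 (by simp)

lemma cc_comp_iota (x : B ⊗[A] B) :
    cc A σ (iotaEquiv A σ x) = Algebra.TensorProduct.lmul' A x := by
  have h : (cc A σ).comp (iotaEquiv A σ).toAlgHom = Algebra.TensorProduct.lmul'' A := by
    apply Algebra.TensorProduct.ext
    · apply AlgHom.ext
      intro b
      simp [iotaEquiv_tmul_one, cc, Algebra.TensorProduct.lmul'']
    · apply MvPolynomial.algHom_ext
      intro i
      simp [iotaEquiv_one_tmul_X, cc, Algebra.TensorProduct.lmul'']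
  exact DFunLike.congr_fun h x

lemma ideal_map_iota :
    (KaehlerDifferential.ideal A B).map (iotaEquiv A σ) =
      Ideal.span (Set.range (X : σ → MvPolynomial σ B)) := by
  apply le_antisymm
  · rw [← ker_cc, Ideal.map_le_iff_le_comap]
    intro x hx
    rw [Ideal.mem_comap, RingHom.mem_ker, cc_comp_iota]
    exact hx
  · rw [Ideal.span_le]
    rintro _ ⟨i, rfl⟩
    have h1 : (X i : MvPolynomial σ B) =
        iotaEquiv A σ ((1 : B) ⊗ₜ[A] (X i : B) - (X i : B) ⊗ₜ[A] (1 : B)) := by
      rw [map_sub, iotaEquiv_one_tmul_X, iotaEquiv_tmul_one, add_sub_cancel_right]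
    rw [h1]
    exact Ideal.mem_map_of_mem _ (KaehlerDifferential.one_smul_sub_smul_one_mem_ideal A _)

theorem poly_main :
    ∃ e : PP16.P n A B ≃ₐ[B]
        (MvPolynomial σ B ⧸ Ideal.span (Set.range (X : σ → MvPolynomial σ B)) ^ (n + 1)),
      ∀ i : σ, e (PP16.dn n A B (X i)) =
        Ideal.Quotient.mk _ (C (X i : B) + (X i : MvPolynomial σ B)) := by
  refine ⟨Ideal.quotientEquivAlg _ _ (iotaEquiv A σ) ?_, ?_⟩
  · rw [Ideal.map_pow]
    congr 1
    exact (ideal_map_iota A σ).symm
  · intro i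
    rw [dn_apply, Ideal.quotientEquivAlg_mk, iotaEquiv_one_tmul_X,
      add_comm (X i : MvPolynomial σ B)]

end poly

end Groth.Agent.Helper9.PPLib
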