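import Mathlib
import Groth.Prelude.Def_PP16
import Groth.Agent.Lib.Helper9.PPLib

set_option autoImplicit false
universe u
open scoped TensorProduct

namespace Groth.Agent.Helper9.PPLib

section sym
variable (n : ℕ) (A : Type u) [CommRing A] (E : Type u) [AddCommGroup E] [Module A E]

local notation "B" => SymmetricAlgebra A E

/-- `t ↦ ι t ⊗ 1 + 1 ⊗ ι t` -/
noncomputable def phiPlus : E →ₗ[A] B ⊗[A] B :=
  (TensorProduct.mk A B B).flip 1 ∘ₗ SymmetricAlgebra.ι A E +
    (TensorProduct.mk A B B 1) ∘ₗ SymmetricAlgebra.ι A E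

/-- `t ↦ 1 ⊗ ι t - ι t ⊗ 1` -/
noncomputable def phiMinus : E →ₗ[A] B ⊗[A] B :=
  (TensorProduct.mk A B B 1) ∘ₗ SymmetricAlgebra.ι A E -
    (TensorProduct.mk A B B).flip 1 ∘ₗ SymmetricAlgebra.ι A E

@[simp] lemma phiPlus_apply (t : E) : phiPlus A E t =
    SymmetricAlgebra.ι A E t ⊗ₜ[A] (1 : B) + (1 : B) ⊗ₜ[A] SymmetricAlgebra.ι A E t := by
  simp [phiPlus]

@[simp] lemma phiMinus_apply (t : E) : phiMinus A E t =
    (1 : B) ⊗ₜ[A] SymmetricAlgebra.ι A E t - SymmetricAlgebra.ι A E t ⊗ₜ[A] (1 : B) := by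
  simp [phiMinus]

/-- shear map -/
noncomputable def shear : B ⊗[A] B →ₐ[B] B ⊗[A] B :=
  Algebra.TensorProduct.lift (Algebra.ofId B (B ⊗[A] B)) (SymmetricAlgebra.lift (phiPlus A E))
    (fun _ _ => Commute.all _ _)

/-- inverse shear map -/
noncomputable def unshear : B ⊗[A] B →ₐ[B] B ⊗[A] B :=
  Algebra.TensorProduct.lift (Algebra.ofId B (B ⊗[A] B)) (SymmetricAlgebra.lift (phiMinus A E))
    (fun _ _ => Commute.all _ _)

lemma shear_tmul_one (b : B) : shear A E (b ⊗ₜ[A] (1 : B)) = b ⊗ₜ[A] (1 : B) := by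
  simp [shear, Algebra.ofId_apply]

lemma unshear_tmul_one (b : B) : unshear A E (b ⊗ₜ[A] (1 : B)) = b ⊗ₜ[A] (1 : B) := by
  simp [unshear, Algebra.ofId_apply]

lemma shear_one_tmul_ι (t : E) : shear A E ((1 : B) ⊗ₜ[A] SymmetricAlgebra.ι A E t) =
    SymmetricAlgebra.ι A E t ⊗ₜ[A] (1 : B) + (1 : B) ⊗ₜ[A] SymmetricAlgebra.ι A E t := by
  simp [shear, ← Algebra.TensorProduct.one_def]

lemma unshear_one_tmul_ι (t : E) : unshear A E ((1 : B) ⊗ₜ[A] SymmetricAlgebra.ι A E t) =
    (1 : B) ⊗ₜ[A] SymmetricAlgebra.ι A E t - SymmetricAlgebra.ι A E t ⊗ₜ[A] (1 : B) := by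
  simp [unshear, ← Algebra.TensorProduct.one_def]

/-- the shear automorphism -/
noncomputable def shearEquiv : B ⊗[A] B ≃ₐ[B] B ⊗[A] B :=
  AlgEquiv.ofAlgHom (shear A E) (unshear A E)
    (by
      apply Algebra.TensorProduct.ext
      · apply AlgHom.ext
        intro b
        simp [shear_tmul_one, unshear_tmul_one]
      · apply SymmetricAlgebra.algHom_ext
        apply LinearMap.ext
        intro t
        simp [shear_tmul_one, unshear_one_tmul_ι, shear_one_tmul_ι])
    (by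
      apply Algebra.TensorProduct.ext
      · apply AlgHom.ext
        intro b
        simp [shear_tmul_one, unshear_tmul_one]
      · apply SymmetricAlgebra.algHom_ext
        apply LinearMap.ext
        intro t
        simp [unshear_tmul_one, unshear_one_tmul_ι, shear_one_tmul_ι])

/-- augmentation -/
noncomputable def eps : B →ₐ[A] A := SymmetricAlgebra.lift (0 : E →ₗ[A] A)

/-- `b ⊗ c ↦ b * ε(c)` -/
noncomputable def eta : B ⊗[A] B →ₐ[B] B :=
  Algebra.TensorProduct.lift (AlgHom.id B B) ((Algebra.ofId A B).comp (eps A E))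
    (fun _ _ => Commute.all _ _)

@[simp] lemma eta_tmul (b c : B) : eta A E (b ⊗ₜ[A] c) = b * algebraMap A B (eps A E c) := by
  simp [eta, Algebra.ofId_apply]

lemma eps_ι (t : E) : eps A E (SymmetricAlgebra.ι A E t) = 0 := by
  simp [eps]

lemma eps_algebraMap (a : A) : eps A E (algebraMap A B a) = a := by
  rw [(eps A E).commutes]; rfl

lemma eta_shear (x : B ⊗[A] B) :
    eta A E (shearEquiv A E x) = Algebra.TensorProduct.lmul' A x := by
  have h : (eta A E).comp (shearEquiv A E).toAlgHom = Algebra.TensorProduct.lmul'' A := by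
    apply Algebra.TensorProduct.ext
    · apply AlgHom.ext
      intro b
      simp [shearEquiv, shear_tmul_one, Algebra.TensorProduct.lmul'']
    · apply SymmetricAlgebra.algHom_ext
      apply LinearMap.ext
      intro t
      simp [shearEquiv, shear_one_tmul_ι, eps_ι, Algebra.TensorProduct.lmul'']
  exact DFunLike.congr_fun h x

lemma sub_eta_mem (x : B ⊗[A] B) :
    x - eta A E x ⊗ₜ[A] (1 : B) ∈
      (RingHom.ker (eps A E)).map (Algebra.TensorProduct.includeRight : B →ₐ[A] B ⊗[A] B) := by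
  induction x using TensorProduct.induction_on with
  | zero => simp
  | tmul b c =>
    have h1 : b ⊗ₜ[A] c - eta A E (b ⊗ₜ c) ⊗ₜ[A] (1 : B) =
        (b ⊗ₜ[A] (1 : B)) * (Algebra.TensorProduct.includeRight : B →ₐ[A] B ⊗[A] B)
          (c - algebraMap A B (eps A E c)) := by
      have h2 : (b * algebraMap A B (eps A E c)) ⊗ₜ[A] (1 : B) =
          b ⊗ₜ[A] algebraMap A B (eps A E c) := by
        rw [mul_comm, ← Algebra.smul_def, TensorProduct.smul_tmul, Algebra.smul_def, mul_one]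
      rw [eta_tmul, Algebra.TensorProduct.includeRight_apply, Algebra.TensorProduct.tmul_mul_tmul,
        one_mul, mul_one, TensorProduct.tmul_sub, h2]
    rw [h1]
    refine Ideal.mul_mem_left _ _ (Ideal.mem_map_of_mem _ ?_)
    rw [RingHom.mem_ker, map_sub, eps_algebraMap, sub_self]
  | add x y hx hy =>
    have h1 : x + y - eta A E (x + y) ⊗ₜ[A] (1 : B) =
        (x - eta A E x ⊗ₜ[A] (1 : B)) + (y - eta A E y ⊗ₜ[A] (1 : B)) := by
      rw [map_add, TensorProduct.add_tmul]; abel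
    rw [h1]
    exact add_mem hx hy

lemma ker_eta : RingHom.ker (eta A E) =
    (RingHom.ker (eps A E)).map (Algebra.TensorProduct.includeRight : B →ₐ[A] B ⊗[A] B) := by
  apply le_antisymm
  · intro x hx
    have h := sub_eta_mem A E x
    rw [RingHom.mem_ker.1 hx, TensorProduct.zero_tmul, sub_zero] at h
    exact h
  · rw [Ideal.map_le_iff_le_comap]
    intro k hk
    rw [Ideal.mem_comap, RingHom.mem_ker, Algebra.TensorProduct.includeRight_apply, eta_tmul,
      RingHom.mem_ker.1 hk, map_zero, mul_zero]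

lemma ideal_map_shear : (KaehlerDifferential.ideal A B).map (shearEquiv A E) =
    (RingHom.ker (eps A E)).map (Algebra.TensorProduct.includeRight : B →ₐ[A] B ⊗[A] B) := by
  rw [← ker_eta]
  apply le_antisymm
  · rw [Ideal.map_le_iff_le_comap]
    intro x hx
    rw [Ideal.mem_comap, RingHom.mem_ker, eta_shear]
    exact hx
  · intro y hy
    have h1 : y = shearEquiv A E ((shearEquiv A E).symm y) := by simp
    rw [h1]
    apply Ideal.mem_map_of_mem
    change Algebra.TensorProduct.lmul' A _ = 0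
    rw [← eta_shear, ← h1]
    exact hy

lemma tqe_symm_mk (I : Ideal B) (a c : B) :
    (Algebra.TensorProduct.tensorQuotientEquiv (R := A) B B B I).symm
      (Ideal.Quotient.mk _ (a ⊗ₜ[A] c)) = a ⊗ₜ[A] (Ideal.Quotient.mk I c) := rfl

theorem sym_main :
    ∃ e : PP16.P n A B ≃ₐ[B]
        (B ⊗[A] (B ⧸ RingHom.ker (SymmetricAlgebra.lift (0 : E →ₗ[A] A)) ^ (n + 1))),
      ∀ t : E, e (PP16.dn n A B (SymmetricAlgebra.ι A E t)) =
        SymmetricAlgebra.ι A E t ⊗ₜ 1 + 1 ⊗ₜ Ideal.Quotient.mk _ (SymmetricAlgebra.ι A E t) := by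
  have h : (RingHom.ker (eps A E) ^ (n + 1)).map
        (Algebra.TensorProduct.includeRight : B →ₐ[A] B ⊗[A] B) =
      (KaehlerDifferential.ideal A B ^ (n + 1)).map
        ((shearEquiv A E : B ⊗[A] B ≃ₐ[B] B ⊗[A] B) : B ⊗[A] B →+* B ⊗[A] B) := by
    rw [Ideal.map_pow, Ideal.map_pow]
    congr 1
    exact (ideal_map_shear A E).symm
  refine ⟨(Ideal.quotientEquivAlg _ _ (shearEquiv A E) h).trans
    (Algebra.TensorProduct.tensorQuotientEquiv (R := A) B B B
      (RingHom.ker (eps A E) ^ (n + 1))).symm, ?_⟩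
  intro t
  have h2 : shearEquiv A E ((1 : B) ⊗ₜ[A] SymmetricAlgebra.ι A E t) =
      SymmetricAlgebra.ι A E t ⊗ₜ[A] (1 : B) + (1 : B) ⊗ₜ[A] SymmetricAlgebra.ι A E t :=
    shear_one_tmul_ι A E t
  change (Algebra.TensorProduct.tensorQuotientEquiv (R := A) B B B
      (RingHom.ker (eps A E) ^ (n + 1))).symm
      (Ideal.Quotient.mk _ (shearEquiv A E ((1 : B) ⊗ₜ[A] SymmetricAlgebra.ι A E t))) = _
  rw [h2, map_add, map_add, tqe_symm_mk, tqe_symm_mk, map_one]
  rfl

end sym

end Groth.Agent.Helper9.PPLib
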