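import Mathlib
import Groth.Prelude.Def_PP16
import Groth.Agent.Lib.Helper9.PPLib

set_option autoImplicit false
universe u
open scoped TensorProduct

namespace Groth.Agent.Helper9.PPLib

section quotPushout
variable {R R' : Type*} [CommRing R] [CommRing R'] [Algebra R R'] (I : Ideal R)

attribute [local instance] Algebra.TensorProduct.rightAlgebra

/-- `R'/IR'` is the pushout of `R/I` along `R → R'`. -/
lemma isPushout_quot [Algebra (R ⧸ I) (R' ⧸ I.map (algebraMap R R'))]
    [IsScalarTower R (R ⧸ I) (R' ⧸ I.map (algebraMap R R'))] :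
    Algebra.IsPushout R (R ⧸ I) R' (R' ⧸ I.map (algebraMap R R')) := by
  apply Algebra.IsPushout.symm
  have h : Algebra.IsPushout R R' (R ⧸ I) (R' ⊗[R] (R ⧸ I)) := inferInstance
  refine Algebra.IsPushout.of_equiv (h := h)
    (Algebra.TensorProduct.quotIdealMapEquivTensorQuot R' I).symm ?_
  ext r
  have h1 : algebraMap (R ⧸ I) (R' ⧸ I.map (algebraMap R R')) (Ideal.Quotient.mk I r) =
      Ideal.Quotient.mk _ (algebraMap R R' r) := by
    have := IsScalarTower.algebraMap_apply R (R ⧸ I) (R' ⧸ I.map (algebraMap R R')) r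
    rw [Ideal.Quotient.algebraMap_eq] at this
    rw [← this]
    rfl
  rw [RingHom.comp_apply, RingHom.comp_apply, RingHom.comp_apply, h1]
  have h2 : algebraMap (R ⧸ I) (R' ⊗[R] (R ⧸ I)) (Ideal.Quotient.mk I r) =
      (1 : R') ⊗ₜ[R] (Ideal.Quotient.mk I r) := rfl
  rw [h2]
  change (Algebra.TensorProduct.quotIdealMapEquivTensorQuot R' I).symm _ = _
  rw [AlgEquiv.symm_apply_eq, Algebra.TensorProduct.quotIdealMapEquivTensorQuot_mk]
  rw [Algebra.algebraMap_eq_smul_one, TensorProduct.smul_tmul, ← Ideal.Quotient.algebraMap_eq,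
    Algebra.algebraMap_eq_smul_one]

lemma isPushout_quot' (J : Ideal R') (hJ : I.map (algebraMap R R') = J)
    [Algebra (R ⧸ I) (R' ⧸ J)] [IsScalarTower R (R ⧸ I) (R' ⧸ J)] :
    Algebra.IsPushout R (R ⧸ I) R' (R' ⧸ J) := by
  subst hJ
  exact isPushout_quot I

end quotPushout

section leftSquare
variable (n : ℕ) (A B A' B' : Type u) [CommRing A] [CommRing B] [Algebra A B]
    [CommRing A'] [CommRing B'] [Algebra A' B'] [Algebra A A'] [Algebra B B'] [Algebra A B']
    [IsScalarTower A A' B'] [IsScalarTower A B B']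

/-- algebra structure `B ⊗ B → B' ⊗ B'` -/
@[instance_reducible]
noncomputable def tensorAlgebra : Algebra (B ⊗[A] B) (B' ⊗[A'] B') :=
  (PP16.tensorMap A B A' B').toRingHom.toAlgebra

attribute [local instance] tensorAlgebra

lemma tensorAlgebra_algebraMap (x : B ⊗[A] B) :
    algebraMap (B ⊗[A] B) (B' ⊗[A'] B') x = PP16.tensorMap A B A' B' x := rfl

instance isScalarTower_tensorAlgebra : IsScalarTower B (B ⊗[A] B) (B' ⊗[A'] B') :=
  IsScalarTower.of_algebraMap_eq (fun b => by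
    rw [tensorAlgebra_algebraMap, Algebra.TensorProduct.algebraMap_apply,
      Algebra.TensorProduct.algebraMap_apply, PP16.tensorMap_tmul, map_one]
    rfl)

variable [Algebra.IsPushout A B A' B']

/-- `B' ⊗_B (B ⊗_A B) ≃ B' ⊗_{A'} B'` -/
noncomputable def leftEquiv : B' ⊗[B] (B ⊗[A] B) ≃ₗ[B'] B' ⊗[A'] B' :=
  have h : Algebra.IsPushout A A' B B' := Algebra.IsPushout.symm inferInstance
  (TensorProduct.AlgebraTensorModule.cancelBaseChange A B B' B' B) ≪≫ₗ
    (TensorProduct.AlgebraTensorModule.cancelBaseChange A A' B' B' B).symm ≪≫ₗ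
    TensorProduct.AlgebraTensorModule.congr (LinearEquiv.refl B' B') h.out.equiv

lemma leftEquiv_tmul (b c : B) :
    leftEquiv A B A' B' ((1 : B') ⊗ₜ[B] (b ⊗ₜ[A] c)) =
      algebraMap B B' b ⊗ₜ[A'] algebraMap B B' c := by
  simp [leftEquiv, IsBaseChange.equiv_tmul, Algebra.algebraMap_eq_smul_one]

lemma isPushout_left : Algebra.IsPushout B (B ⊗[A] B) B' (B' ⊗[A'] B') := by
  apply Algebra.IsPushout.symm
  constructor
  refine IsBaseChange.of_equiv (leftEquiv A B A' B') ?_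
  intro x
  induction x using TensorProduct.induction_on with
  | zero => simp
  | tmul b c =>
    rw [leftEquiv_tmul]
    exact (PP16.tensorMap_tmul A B A' B' b c).symm
  | add x y hx hy =>
    rw [TensorProduct.tmul_add, map_add, hx, hy, map_add]

omit [Algebra.IsPushout A B A' B'] in
lemma mem_aux (b : B) (s : B')
    (hs : (1 : B') ⊗ₜ[A'] s - s ⊗ₜ[A'] (1 : B') ∈
      (KaehlerDifferential.ideal A B).map (PP16.tensorMap A B A' B')) :
    (1 : B') ⊗ₜ[A'] (b • s) - (b • s) ⊗ₜ[A'] (1 : B') ∈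
      (KaehlerDifferential.ideal A B).map (PP16.tensorMap A B A' B') := by
  have h1 : (1 : B') ⊗ₜ[A'] (b • s) - (b • s) ⊗ₜ[A'] (1 : B') =
      ((1 : B') ⊗ₜ[A'] algebraMap B B' b) * ((1 : B') ⊗ₜ[A'] s - s ⊗ₜ[A'] (1 : B')) +
        (s ⊗ₜ[A'] (1 : B')) * PP16.tensorMap A B A' B' ((1 : B) ⊗ₜ[A] b - b ⊗ₜ[A] (1 : B)) := by
    rw [map_sub, PP16.tensorMap_tmul, PP16.tensorMap_tmul, map_one, mul_sub, mul_sub,
      Algebra.TensorProduct.tmul_mul_tmul, Algebra.TensorProduct.tmul_mul_tmul,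
      Algebra.TensorProduct.tmul_mul_tmul, Algebra.TensorProduct.tmul_mul_tmul,
      Algebra.smul_def]
    simp only [one_mul, mul_one]
    rw [mul_comm s]
    abel
  rw [h1]
  exact add_mem (Ideal.mul_mem_left _ _ hs) (Ideal.mul_mem_left _ _ (Ideal.mem_map_of_mem _
    (KaehlerDifferential.one_smul_sub_smul_one_mem_ideal A b)))

lemma ideal_map_tensorMap_eq_of_isPushout :
    (KaehlerDifferential.ideal A B).map (PP16.tensorMap A B A' B') =
      KaehlerDifferential.ideal A' B' := by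
  apply le_antisymm (PP16.ideal_map_tensorMap_le A B A' B')
  rw [← KaehlerDifferential.span_range_eq_ideal, Ideal.span_le]
  rintro _ ⟨s, rfl⟩
  change (1 : B') ⊗ₜ[A'] s - s ⊗ₜ[A'] (1 : B') ∈
    (KaehlerDifferential.ideal A B).map (PP16.tensorMap A B A' B')
  have h : Algebra.IsPushout A B A' B' := inferInstance
  refine h.out.inductionOn s
    (fun s => (1 : B') ⊗ₜ[A'] s - s ⊗ₜ[A'] (1 : B') ∈
      (KaehlerDifferential.ideal A B).map (PP16.tensorMap A B A' B')) ?_ ?_ ?_ ?_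
  · simp
  · intro a'
    have h2 : (1 : B') ⊗ₜ[A'] (algebraMap A' B' a') = (algebraMap A' B' a') ⊗ₜ[A'] (1 : B') := by
      rw [Algebra.algebraMap_eq_smul_one, TensorProduct.smul_tmul]
    change (1 : B') ⊗ₜ[A'] (algebraMap A' B' a') - (algebraMap A' B' a') ⊗ₜ[A'] (1 : B') ∈ _
    rw [h2, sub_self]
    exact zero_mem _
  · intro b s hs
    exact mem_aux A B A' B' b s hs
  · intro s₁ s₂ h₁ h₂
    have h3 : (1 : B') ⊗ₜ[A'] (s₁ + s₂) - (s₁ + s₂) ⊗ₜ[A'] (1 : B') =
        ((1 : B') ⊗ₜ[A'] s₁ - s₁ ⊗ₜ[A'] (1 : B')) + ((1 : B') ⊗ₜ[A'] s₂ - s₂ ⊗ₜ[A'] (1 : B')) := by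
      rw [TensorProduct.tmul_add, TensorProduct.add_tmul]; abel
    rw [h3]
    exact add_mem h₁ h₂

attribute [local instance] PP16.mapAlgebra PP16.isScalarTower_mapAlgebra

omit [Algebra.IsPushout A B A' B'] in
lemma isScalarTower_right :
    IsScalarTower (B ⊗[A] B) (PP16.P n A B) (PP16.P n A' B') :=
  IsScalarTower.of_algebraMap_eq (R := B ⊗[A] B) (S := PP16.P n A B) (A := PP16.P n A' B')
    (fun _ => rfl)

attribute [local instance] isScalarTower_right

lemma isPushout_right :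
    Algebra.IsPushout (B ⊗[A] B) (PP16.P n A B) (B' ⊗[A'] B') (PP16.P n A' B') := by
  refine isPushout_quot' (R := B ⊗[A] B) (R' := B' ⊗[A'] B')
    (KaehlerDifferential.ideal A B ^ (n + 1)) (KaehlerDifferential.ideal A' B' ^ (n + 1)) ?_
  rw [Ideal.map_pow]
  congr 1
  exact ideal_map_tensorMap_eq_of_isPushout A B A' B'

theorem pushout_main : Algebra.IsPushout B (PP16.P n A B) B' (PP16.P n A' B') := by
  have h1 := isPushout_left A B A' B'
  have h2 := isPushout_right n A B A' B'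
  exact (Algebra.IsPushout.comp_iff B (B ⊗[A] B) B' (B' ⊗[A'] B')).2 h2

end leftSquare

end Groth.Agent.Helper9.PPLib
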