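import Mathlib
import Groth.Prelude.Def_PP16
import Groth.Agent.Lib.Helper9.PPLib

set_option autoImplicit false
universe u
open scoped TensorProduct

namespace Groth.Agent.Helper9.PPLib

section locBase
variable (n : ℕ) (A A' B' : Type u) [CommRing A] [CommRing A'] [CommRing B'] [Algebra A A']
  [Algebra A' B'] [Algebra A B'] [IsScalarTower A A' B'] (R : Submonoid A) [IsLocalization R A']

include R in
lemma ideal_eq_bot_of_isLocalization : KaehlerDifferential.ideal A A' = ⊥ := by
  have := IsLocalization.tensorProduct_compatibleSMul R A' A' A'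
  rw [← KaehlerDifferential.span_range_eq_ideal, Ideal.span_eq_bot]
  rintro _ ⟨s, rfl⟩
  have h : (1 : A') ⊗ₜ[A] s = s ⊗ₜ[A] (1 : A') := by
    have := TensorProduct.smul_tmul (R := A) s (1 : A') (1 : A')
    rw [smul_eq_mul, mul_one] at this
    exact this.symm
  change (1 : A') ⊗ₜ[A] s - s ⊗ₜ[A] (1 : A') = 0
  rw [h, sub_self]

include R in
theorem locBase_main : Function.Bijective (PP16.map n A B' A' B') := by
  obtain ⟨h1, h2⟩ := map_surj_ker n A B' A' B' (fun x => ⟨x, rfl⟩)
  refine ⟨?_, h1⟩
  rw [injective_iff_map_eq_zero]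
  intro x hx
  have hx' : x ∈ RingHom.ker (PP16.map n A B' A' B') := hx
  rw [h2, ker_tensorMap_tower, ideal_eq_bot_of_isLocalization A A' R, Ideal.map_bot,
    Ideal.map_bot] at hx'
  exact hx'

end locBase

end Groth.Agent.Helper9.PPLib
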