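import Mathlib

set_option autoImplicit false
universe u

namespace Groth.Agent.Lib.Helper9.PadicQuotCard

section
variable (ℓ : ℕ) [Fact ℓ.Prime] (N : Type u) [AddCommGroup N] [Module ℤ_[ℓ] N]
  [Module.Free ℤ_[ℓ] N] [Module.Finite ℤ_[ℓ] N]

/-- reduction of coordinates mod `ℓ` -/
noncomputable def psi : N →+ (Fin (Module.finrank ℤ_[ℓ] N) → ZMod ℓ) :=
  ((PadicInt.toZMod (p := ℓ)).toAddMonoidHom.compLeft (Fin (Module.finrank ℤ_[ℓ] N))).comp
    (Module.finBasis ℤ_[ℓ] N).equivFun.toLinearMap.toAddMonoidHom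

lemma psi_apply (x : N) (i : Fin (Module.finrank ℤ_[ℓ] N)) :
    psi ℓ N x i = PadicInt.toZMod ((Module.finBasis ℤ_[ℓ] N).repr x i) := rfl

lemma psi_surjective : Function.Surjective (psi ℓ N) := by
  intro y
  have hs := ZMod.ringHom_surjective (PadicInt.toZMod (p := ℓ))
  choose z hz using fun i => hs (y i)
  refine ⟨(Module.finBasis ℤ_[ℓ] N).equivFun.symm z, ?_⟩
  funext i
  rw [psi_apply]
  have : (Module.finBasis ℤ_[ℓ] N).repr ((Module.finBasis ℤ_[ℓ] N).equivFun.symm z) i = z i := by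
    have := (Module.finBasis ℤ_[ℓ] N).equivFun.apply_symm_apply z
    exact congrFun this i
  rw [this, hz]

lemma toZMod_eq_zero_iff (a : ℤ_[ℓ]) : PadicInt.toZMod a = 0 ↔ ∃ b, a = (ℓ : ℤ_[ℓ]) * b := by
  rw [← RingHom.mem_ker, PadicInt.ker_toZMod, PadicInt.maximalIdeal_eq_span_p,
    Ideal.mem_span_singleton]
  rfl

lemma mem_ker_psi (x : N) : x ∈ (psi ℓ N).ker ↔ ∃ y : N, x = (ℓ : ℤ_[ℓ]) • y := by
  rw [AddMonoidHom.mem_ker]
  constructor
  · intro h
    have h1 : ∀ i, ∃ b, (Module.finBasis ℤ_[ℓ] N).repr x i = (ℓ : ℤ_[ℓ]) * b := by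
      intro i
      rw [← toZMod_eq_zero_iff, ← psi_apply, h]
      rfl
    choose c hc using h1
    refine ⟨(Module.finBasis ℤ_[ℓ] N).equivFun.symm c, ?_⟩
    apply (Module.finBasis ℤ_[ℓ] N).equivFun.injective
    rw [map_smul, LinearEquiv.apply_symm_apply]
    funext i
    rw [Pi.smul_apply, smul_eq_mul, ← hc i]
    rfl
  · rintro ⟨y, rfl⟩
    funext i
    rw [psi_apply, map_smul, Finsupp.smul_apply, smul_eq_mul, map_mul]
    have : PadicInt.toZMod (ℓ : ℤ_[ℓ]) = 0 := by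
      rw [toZMod_eq_zero_iff]; exact ⟨1, (mul_one _).symm⟩
    rw [this, zero_mul]
    rfl

theorem card_quot (S : Submodule ℤ_[ℓ] N)
    (hS : ∀ x : N, x ∈ S ↔ ∃ y : N, x = (ℓ : ℤ_[ℓ]) • y) :
    Nat.card (N ⧸ S) = ℓ ^ Module.finrank ℤ_[ℓ] N := by
  have h1 : S.toAddSubgroup = (psi ℓ N).ker := by
    ext x
    rw [Submodule.mem_toAddSubgroup, hS, mem_ker_psi]
  have h2 : Nat.card (N ⧸ S) = Nat.card (N ⧸ S.toAddSubgroup) := rfl
  rw [h2, h1, Nat.card_congr
    (QuotientAddGroup.quotientKerEquivOfSurjective (psi ℓ N) (psi_surjective ℓ N)).toEquiv]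
  rw [Nat.card_fun, Nat.card_zmod, Nat.card_fin]

end

section index
variable {G : Type u} [AddCommGroup G] (φ : G →+ G) (hφ : Function.Injective φ)

include hφ in
theorem index_range_comp : (φ.comp φ).range.index = φ.range.index ^ 2 := by
  have h1 : (φ.comp φ).range = φ.range.map φ := by
    rw [AddMonoidHom.range_eq_map, AddMonoidHom.range_eq_map, ← AddSubgroup.map_map]
  have h2 : φ.range.map φ ≤ φ.range := by
    rintro _ ⟨x, _, rfl⟩
    exact ⟨x, rfl⟩
  have h3 : (φ.range.map φ).relIndex φ.range = φ.range.index := by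
    conv_lhs => rw [show φ.range = (⊤ : AddSubgroup G).map φ from AddMonoidHom.range_eq_map φ]
    rw [AddSubgroup.relIndex_map_map_of_injective _ _ hφ, AddSubgroup.relIndex_top_right,
      ← AddMonoidHom.range_eq_map]
  rw [h1, ← AddSubgroup.relIndex_mul_index h2, h3, sq]

end index

end Groth.Agent.Lib.Helper9.PadicQuotCard
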