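import Mathlib

set_option autoImplicit false

namespace Groth.Agent.Helper9.S7825

open Polynomial

theorem main {n : ℕ} (β : Fin n → ℂ) (C : ℝ)
    (hC : ∀ r : ℕ, 1 ≤ r → ‖∑ i, β i ^ r‖ ≤ C) (i : Fin n) : ‖β i‖ ≤ 1 := by
  classical
  by_contra hgt
  push Not at hgt
  -- the distinct other values
  set S : Finset ℂ := (Finset.univ.image β).erase (β i) with hS
  set Q : ℂ[X] := ∏ b ∈ S, (X - Polynomial.C b) with hQ
  have hQi : Q.eval (β i) ≠ 0 := by
    rw [hQ, eval_prod, Finset.prod_ne_zero_iff]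
    intro b hb
    rw [eval_sub, eval_X, eval_C, sub_ne_zero]
    exact fun h => (Finset.ne_of_mem_erase hb) h.symm
  have hQj : ∀ j, β j ≠ β i → Q.eval (β j) = 0 := by
    intro j hj
    rw [hQ, eval_prod]
    apply Finset.prod_eq_zero (i := β j)
    · exact Finset.mem_erase.2 ⟨hj, Finset.mem_image_of_mem _ (Finset.mem_univ _)⟩
    · simp
  -- key identity
  have key : ∀ r : ℕ, ∑ j, Q.eval (β j) * β j ^ (r + 1) =
      ∑ k ∈ Finset.range (Q.natDegree + 1), Q.coeff k * ∑ j, β j ^ (k + (r + 1)) := by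
    intro r
    simp_rw [Finset.mul_sum]
    rw [Finset.sum_comm]
    refine Finset.sum_congr rfl fun j _ => ?_
    rw [eval_eq_sum_range, Finset.sum_mul]
    refine Finset.sum_congr rfl fun k _ => ?_
    rw [pow_add]; ring
  set m : ℕ := (Finset.univ.filter fun j => β j = β i).card with hm
  have hm1 : 1 ≤ m := Finset.card_pos.2 ⟨i, by simp⟩
  have lhs : ∀ r : ℕ, ∑ j, Q.eval (β j) * β j ^ (r + 1) = (m : ℂ) * (Q.eval (β i) * β i ^ (r + 1)) := by
    intro r
    rw [← Finset.sum_filter_add_sum_filter_not Finset.univ (fun j => β j = β i)]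
    have h2 : ∑ j ∈ Finset.univ.filter (fun j => ¬ β j = β i), Q.eval (β j) * β j ^ (r + 1) = 0 := by
      apply Finset.sum_eq_zero
      intro j hj
      rw [hQj j (Finset.mem_filter.1 hj).2, zero_mul]
    rw [h2, add_zero]
    have h1 : ∀ j ∈ Finset.univ.filter (fun j => β j = β i), Q.eval (β j) * β j ^ (r + 1) =
        Q.eval (β i) * β i ^ (r + 1) := by
      intro j hj
      rw [(Finset.mem_filter.1 hj).2]
    rw [Finset.sum_congr rfl h1, Finset.sum_const, nsmul_eq_mul]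
  set D : ℝ := ∑ k ∈ Finset.range (Q.natDegree + 1), ‖Q.coeff k‖ * C with hD
  have bound : ∀ r : ℕ, ‖Q.eval (β i)‖ * ‖β i‖ ^ (r + 1) ≤ D := by
    intro r
    have h1 : ‖(m : ℂ) * (Q.eval (β i) * β i ^ (r + 1))‖ ≤ D := by
      rw [← lhs r, key r]
      refine (norm_sum_le _ _).trans (Finset.sum_le_sum fun k _ => ?_)
      rw [norm_mul]
      exact mul_le_mul_of_nonneg_left (hC _ (by omega)) (norm_nonneg _)
    rw [norm_mul, norm_mul, norm_pow] at h1
    have h2 : (1 : ℝ) ≤ ‖(m : ℂ)‖ := by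
      rw [Complex.norm_natCast]; exact_mod_cast hm1
    have h3 : 0 ≤ ‖Q.eval (β i)‖ * ‖β i‖ ^ (r + 1) := by positivity
    calc ‖Q.eval (β i)‖ * ‖β i‖ ^ (r + 1) = 1 * (‖Q.eval (β i)‖ * ‖β i‖ ^ (r + 1)) := (one_mul _).symm
      _ ≤ ‖(m : ℂ)‖ * (‖Q.eval (β i)‖ * ‖β i‖ ^ (r + 1)) := mul_le_mul_of_nonneg_right h2 h3
      _ ≤ D := h1
  have hpos : 0 < ‖Q.eval (β i)‖ := norm_pos_iff.2 hQi
  have htend := tendsto_pow_atTop_atTop_of_one_lt hgt
  obtain ⟨N, hN⟩ := (htend.eventually_gt_atTop (D / ‖Q.eval (β i)‖)).exists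
  rcases N with _ | N
  · have := bound 0
    have h0 : D / ‖Q.eval (β i)‖ < 1 := by simpa using hN
    rw [div_lt_one hpos] at h0
    have h5 : ‖Q.eval (β i)‖ * 1 ≤ ‖Q.eval (β i)‖ * ‖β i‖ ^ (0 + 1) := by
      apply mul_le_mul_of_nonneg_left _ hpos.le
      simpa using hgt.le
    linarith
  · have := bound N
    rw [div_lt_iff₀ hpos] at hN
    linarith

end Groth.Agent.Helper9.S7825
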