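import Mathlib
import Groth.Agent.Lib.Helper3.SchlA

/-!
# Algebra maps out of a power series ring into a ring with a nilpotent ideal

Generalisation of `ps_algHom_ext` / `exists_ps_eval` of Helper3's `SchlA` from Artinian objects to
an arbitrary algebra with a nilpotent ideal containing the images of the variables.
-/

universe u

namespace H9PsNil

open MvPowerSeries Groth.Agent.Helper3.ArtFunLib

variable {Λ : Type*} [CommRing Λ] {σ : Type*} [Finite σ] {T : Type*} [CommRing T] [Algebra Λ T]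
  (𝔑 : Ideal T) (N : ℕ) (hN : 𝔑 ^ N = ⊥)

include hN in
theorem kill (ψ : MvPowerSeries σ Λ →ₐ[Λ] T) (hψ : ∀ s, ψ (X s) ∈ 𝔑) :
    ∀ g ∈ varsIdeal σ Λ ^ N, ψ g = 0 := by
  intro g hg
  have h1 : Ideal.map ψ (varsIdeal σ Λ) ≤ 𝔑 := by
    unfold varsIdeal
    rw [Ideal.map_span, Ideal.span_le]
    rintro _ ⟨_, ⟨s, rfl⟩, rfl⟩
    exact hψ s
  have h2 : Ideal.map ψ (varsIdeal σ Λ ^ N) ≤ ⊥ := by
    rw [Ideal.map_pow, ← hN]
    exact Ideal.pow_right_mono h1 _
  exact (Submodule.mem_bot T).1 (h2 (Ideal.mem_map_of_mem _ hg))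

include hN in
/-- algebra maps out of a power series ring which agree on the variables (sent into a nilpotent
ideal) are equal -/
theorem ps_algHom_ext_nil (φ φ' : MvPowerSeries σ Λ →ₐ[Λ] T)
    (hm : ∀ s, φ (X s) ∈ 𝔑) (h : ∀ s, φ (X s) = φ' (X s)) : φ = φ' := by
  have hpoly : ∀ p : MvPolynomial σ Λ, φ (p : MvPowerSeries σ Λ) = φ' (p : MvPowerSeries σ Λ) := by
    intro p
    induction p using MvPolynomial.induction_on with
    | C c =>
      rw [MvPolynomial.coe_C]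
      have : (C c : MvPowerSeries σ Λ) = algebraMap Λ _ c := by
        rw [MvPowerSeries.algebraMap_apply]; rfl
      rw [this, AlgHom.commutes, AlgHom.commutes]
    | add p q hp hq => rw [MvPolynomial.coe_add, map_add, map_add, hp, hq]
    | mul_X p s hp => rw [MvPolynomial.coe_mul, MvPolynomial.coe_X, map_mul, map_mul, hp, h s]
  apply AlgHom.ext
  intro f
  have hf := sub_truncTotal_mem N f
  have e1 := kill 𝔑 N hN φ hm _ hf
  have e2 := kill 𝔑 N hN φ' (fun s => by rw [← h s]; exact hm s) _ hf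
  rw [map_sub, sub_eq_zero] at e1 e2
  rw [e1, e2, hpoly]

include hN in
/-- evaluation of power series at elements of a nilpotent ideal -/
theorem exists_ps_eval_nil (β : σ → T) (hβ : ∀ s, β s ∈ 𝔑) :
    ∃ φ : MvPowerSeries σ Λ →ₐ[Λ] T, ∀ p : MvPolynomial σ Λ,
      φ (p : MvPowerSeries σ Λ) = MvPolynomial.aeval β p := by
  have hkill : ∀ p ∈ MvPolynomial.idealOfVars σ Λ ^ N, MvPolynomial.aeval β p = 0 := by
    intro p hp
    have h1 : Ideal.map (MvPolynomial.aeval β : MvPolynomial σ Λ →ₐ[Λ] T)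
        (MvPolynomial.idealOfVars σ Λ) ≤ 𝔑 := by
      rw [MvPolynomial.idealOfVars, Ideal.map_span, Ideal.span_le]
      rintro _ ⟨_, ⟨s, rfl⟩, rfl⟩
      rw [MvPolynomial.aeval_X]
      exact hβ s
    have h2 : Ideal.map (MvPolynomial.aeval β : MvPolynomial σ Λ →ₐ[Λ] T)
        (MvPolynomial.idealOfVars σ Λ ^ N) ≤ ⊥ := by
      rw [Ideal.map_pow, ← hN]
      exact Ideal.pow_right_mono h1 _
    exact (Submodule.mem_bot T).1 (h2 (Ideal.mem_map_of_mem _ hp))
  refine ⟨(Ideal.Quotient.liftₐ (MvPolynomial.idealOfVars σ Λ ^ N)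
    (MvPolynomial.aeval β) hkill).comp ((truncTotalAlgHom σ Λ N).restrictScalars Λ), ?_⟩
  intro p
  have h1 : truncTotalAlgHom σ Λ N (p : MvPowerSeries σ Λ) = Ideal.Quotient.mk _ p :=
    (truncTotalAlgHom σ Λ N).commutes p
  change Ideal.Quotient.liftₐ _ (MvPolynomial.aeval β) hkill
    (truncTotalAlgHom σ Λ N (p : MvPowerSeries σ Λ)) = _
  rw [h1]
  rfl

include hN in
theorem exists_ps_eval_nil_X (β : σ → T) (hβ : ∀ s, β s ∈ 𝔑) :
    ∃ φ : MvPowerSeries σ Λ →ₐ[Λ] T, ∀ s, φ (X s) = β s := by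
  obtain ⟨φ, hφ⟩ := exists_ps_eval_nil (Λ := Λ) 𝔑 N hN β hβ
  refine ⟨φ, fun s => ?_⟩
  rw [← MvPolynomial.coe_X, hφ, MvPolynomial.aeval_X]

end H9PsNil
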