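import Mathlib
import Groth.Prelude.Def_CAlgX
import Groth.Agent.S8773

/-!
# Universally exact resolutions (chain complex version) and pure projective lifting

Translation of "`ε : N' ⟶ single₀ N` is a quasi-isomorphism after tensoring with any module" into
concrete `Function.Exact` statements, and the basic lifting lemma for pure projective modules.
-/

universe v u

namespace Groth.Agent.Helper9.PureRes

open CategoryTheory Category Limits ChainComplex HomologicalComplex

section General

variable {C : Type u} [Category.{v} C] [Abelian C]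
variable {K : ChainComplex C ℕ} {Z : C} (π : K ⟶ (ChainComplex.single₀ C).obj Z) [QuasiIso π]

include π in
lemma exactAt_succ (n : ℕ) : K.ExactAt (n + 1) := by
  rw [← quasiIsoAt_iff_exactAt' π (n + 1) (exactAt_succ_single_obj _ _)]
  infer_instance

include π in
lemma exact_succ (n : ℕ) :
    (ShortComplex.mk _ _ (K.d_comp_d (n + 2) (n + 1) n)).Exact :=
  ((HomologicalComplex.exactAt_iff' _ (n + 2) (n + 1) n) (by simp only [ChainComplex.prev]; rfl)
    (by simp)).1 (exactAt_succ π n)

omit [QuasiIso π] in
theorem d_comp_π : K.d 1 0 ≫ π.f 0 = 0 := by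
  rw [← π.comm 1 0, single_obj_d, comp_zero]

set_option backward.isDefEq.respectTransparency.types false in
set_option backward.defeqAttrib.useBackward true in
noncomputable def isColimitCokernelCofork :
    IsColimit (CokernelCofork.ofπ (π.f 0) (d_comp_π π)) := by
  refine IsColimit.ofIsoColimit (K.opcyclesIsCokernel 1 0 (by simp)) ?_
  refine Cofork.ext (K.isoHomologyι₀.symm ≪≫ isoOfQuasiIsoAt π 0 ≪≫
    singleObjHomologySelfIso _ _ _) ?_
  rw [← cancel_mono (singleObjHomologySelfIso (ComplexShape.down ℕ) 0 _).inv,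
    ← cancel_mono (isoHomologyι₀ _).hom]
  dsimp
  simp only [isoHomologyι₀_inv_naturality_assoc, p_opcyclesMap_assoc, single₀_obj_zero, assoc,
    Iso.hom_inv_id, comp_id, isoHomologyι_inv_hom_id, singleObjHomologySelfIso_inv_homologyι,
    singleObjOpcyclesSelfIso_hom, single₀ObjXSelf, Iso.refl_inv, id_comp]

lemma exact_zero : (ShortComplex.mk _ _ (d_comp_π π)).Exact :=
  ShortComplex.exact_of_g_is_cokernel _ (isColimitCokernelCofork π)

lemma epi_zero : Epi (π.f 0) := epi_of_isColimit_cofork (isColimitCokernelCofork π)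

end General

section Mod

open MonoidalCategory

variable {R : Type u} [CommRing R]
variable {N : ModuleCat.{u} R} {N' : ChainComplex (ModuleCat.{u} R) ℕ}
  (ε : N' ⟶ (ChainComplex.single₀ (ModuleCat.{u} R)).obj N)

/-- the tensored augmentation, with target rewritten as a single complex -/
noncomputable def π' (T : ModuleCat.{u} R) :
    ((tensorRight T).mapHomologicalComplex (ComplexShape.down ℕ)).obj N' ⟶
      (ChainComplex.single₀ (ModuleCat.{u} R)).obj (N ⊗ T) :=
  ((tensorRight T).mapHomologicalComplex (ComplexShape.down ℕ)).map ε ≫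
    (HomologicalComplex.singleMapHomologicalComplex (tensorRight T) (ComplexShape.down ℕ) 0).hom.app N

theorem π'_f_zero (T : ModuleCat.{u} R) : (π' ε T).f 0 = ε.f 0 ▷ T := by
  simp [π', singleMapHomologicalComplex_hom_app_self, single₀ObjXSelf]
  exact Category.comp_id _

variable (hN' : ∀ T : ModuleCat.{u} R,
      QuasiIso (((tensorRight T).mapHomologicalComplex (ComplexShape.down ℕ)).map ε))

include hN' in
theorem quasiIso_π' (T : ModuleCat.{u} R) : QuasiIso (π' ε T) := by
  have := hN' T
  unfold π'
  infer_instance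

include hN' in
theorem uexact_succ (n : ℕ) (Q : Type u) [AddCommGroup Q] [Module R Q] :
    Function.Exact ((N'.d (n + 2) (n + 1)).hom.rTensor Q) ((N'.d (n + 1) n).hom.rTensor Q) := by
  have := quasiIso_π' ε hN' (ModuleCat.of R Q)
  have h := exact_succ (π' ε (ModuleCat.of R Q)) n
  rw [ShortComplex.ShortExact.moduleCat_exact_iff_function_exact] at h
  exact h

include hN' in
theorem uexact_zero (Q : Type u) [AddCommGroup Q] [Module R Q] :
    Function.Exact ((N'.d 1 0).hom.rTensor Q) ((ε.f 0).hom.rTensor Q) := by
  have := quasiIso_π' ε hN' (ModuleCat.of R Q)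
  have h := exact_zero (π' ε (ModuleCat.of R Q))
  rw [ShortComplex.ShortExact.moduleCat_exact_iff_function_exact] at h
  have e : ((π' ε (ModuleCat.of R Q)).f 0).hom = (ε.f 0).hom.rTensor Q := by
    rw [π'_f_zero]; rfl
  have h' : Function.Exact ((N'.d 1 0).hom.rTensor Q) ((π' ε (ModuleCat.of R Q)).f 0).hom := h
  rw [e] at h'
  exact h'

include hN' in
theorem usurj_zero (Q : Type u) [AddCommGroup Q] [Module R Q] :
    Function.Surjective ((ε.f 0).hom.rTensor Q) := by
  have := quasiIso_π' ε hN' (ModuleCat.of R Q)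
  have h := epi_zero (π' ε (ModuleCat.of R Q))
  rw [π'_f_zero] at h
  exact (ModuleCat.epi_iff_surjective _).mp h

end Mod

section Plain

variable {R : Type u} [CommRing R]

theorem exact_of_rTensor_self {A B C : Type u} [AddCommGroup A] [Module R A] [AddCommGroup B]
    [Module R B] [AddCommGroup C] [Module R C] (a : A →ₗ[R] B) (b : B →ₗ[R] C)
    (h : Function.Exact (a.rTensor R) (b.rTensor R)) : Function.Exact a b := by
  refine (Function.Exact.iff_of_ladder_linearEquiv (e₁ := TensorProduct.rid R A)
    (e₂ := TensorProduct.rid R B) (e₃ := TensorProduct.rid R C) ?_ ?_).mpr h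
  · ext; simp
  · ext; simp

theorem surjective_of_rTensor_self {A B : Type u} [AddCommGroup A] [Module R A] [AddCommGroup B]
    [Module R B] (a : A →ₗ[R] B)
    (h : Function.Surjective (a.rTensor R)) : Function.Surjective a := by
  have e : a ∘ₗ (TensorProduct.rid R A).toLinearMap =
      (TensorProduct.rid R B).toLinearMap ∘ₗ a.rTensor R := by
    ext; simp
  have h2 : Function.Surjective (a ∘ₗ (TensorProduct.rid R A).toLinearMap) := by
    rw [e]
    exact (TensorProduct.rid R B).surjective.comp h
  exact Function.Surjective.of_comp h2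

/-- the basic lifting lemma for pure projective modules -/
theorem pure_lift {P A B C : Type u} [AddCommGroup P] [Module R P] [AddCommGroup A] [Module R A]
    [AddCommGroup B] [Module R B] [AddCommGroup C] [Module R C]
    (hP : ∀ ⦃L T : Type u⦄ [AddCommGroup L] [Module R L] [AddCommGroup T] [Module R T]
      (g : L →ₗ[R] T), Function.Surjective g →
      CAlgX.UniversallyInjective R (LinearMap.ker g).subtype →
      ∀ φ : P →ₗ[R] T, ∃ ψ : P →ₗ[R] L, g ∘ₗ ψ = φ)
    (a : A →ₗ[R] B) (b : B →ₗ[R] C) (hab : Function.Exact a b)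
    (hpure : CAlgX.UniversallyInjective R (LinearMap.ker a).subtype)
    (h : P →ₗ[R] B) (hb : b ∘ₗ h = 0) : ∃ l : P →ₗ[R] A, a ∘ₗ l = h := by
  have hk : LinearMap.ker a.rangeRestrict = LinearMap.ker a := LinearMap.ker_rangeRestrict a
  have hpure' : CAlgX.UniversallyInjective R (LinearMap.ker a.rangeRestrict).subtype := by
    rw [hk]; exact hpure
  obtain ⟨ψ, hψ⟩ := hP a.rangeRestrict a.surjective_rangeRestrict hpure'
    (h.codRestrict (LinearMap.range a) (fun x => (hab (h x)).mp (LinearMap.congr_fun hb x)))
  refine ⟨ψ, ?_⟩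
  ext x
  exact congrArg Subtype.val (LinearMap.congr_fun hψ x)

end Plain

section Mod2

open MonoidalCategory

variable {R : Type u} [CommRing R]
variable {N : ModuleCat.{u} R} {N' : ChainComplex (ModuleCat.{u} R) ℕ}
  (ε : N' ⟶ (ChainComplex.single₀ (ModuleCat.{u} R)).obj N)
  (hN' : ∀ T : ModuleCat.{u} R,
      QuasiIso (((tensorRight T).mapHomologicalComplex (ComplexShape.down ℕ)).map ε))

include hN' in
theorem exact_succ_plain (n : ℕ) :
    Function.Exact (N'.d (n + 2) (n + 1)).hom (N'.d (n + 1) n).hom :=
  exact_of_rTensor_self _ _ (uexact_succ ε hN' n R)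

include hN' in
theorem exact_zero_plain : Function.Exact (N'.d 1 0).hom (ε.f 0).hom :=
  exact_of_rTensor_self _ _ (uexact_zero ε hN' R)

include hN' in
theorem surj_zero_plain : Function.Surjective (ε.f 0).hom :=
  surjective_of_rTensor_self _ (usurj_zero ε hN' R)

include hN' in
theorem pure_ker_d (n : ℕ) :
    CAlgX.UniversallyInjective R (LinearMap.ker (N'.d (n + 1) n).hom).subtype := by
  have h1 : LinearMap.ker (N'.d (n + 1) n).hom = LinearMap.range (N'.d (n + 2) (n + 1)).hom :=
    LinearMap.exact_iff.mp (exact_succ_plain ε hN' n)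
  rw [h1]
  exact Groth.Agent.S8773.result R _ _ (fun Q _ _ => uexact_succ ε hN' (n + 1) Q)

include hN' in
theorem pure_ker_ε :
    CAlgX.UniversallyInjective R (LinearMap.ker (ε.f 0).hom).subtype := by
  have h1 : LinearMap.ker (ε.f 0).hom = LinearMap.range (N'.d 1 0).hom :=
    LinearMap.exact_iff.mp (exact_zero_plain ε hN')
  rw [h1]
  exact Groth.Agent.S8773.result R _ _ (fun Q _ _ => uexact_succ ε hN' 0 Q)

end Mod2

end Groth.Agent.Helper9.PureRes
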