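import Mathlib
import Groth.Prelude.Def_CAlgX
import Groth.Agent.S8773
import Groth.Agent.Lib.Helper9.PureRes

/-!
# Universally exact coresolutions (cochain complex version) and pure injective extension
-/

universe v u

namespace Groth.Agent.Helper9.PureResCo

open CategoryTheory Category Limits CochainComplex HomologicalComplex

section General

variable {C : Type u} [Category.{v} C] [Abelian C]
variable {K : CochainComplex C ℕ} {Z : C} (ι : (CochainComplex.single₀ C).obj Z ⟶ K) [QuasiIso ι]

include ι in
lemma exactAt_succ (n : ℕ) : K.ExactAt (n + 1) := by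
  rw [← quasiIsoAt_iff_exactAt ι (n + 1) (exactAt_succ_single_obj _ _)]
  infer_instance

include ι in
lemma exact_succ (n : ℕ) :
    (ShortComplex.mk _ _ (K.d_comp_d n (n + 1) (n + 2))).Exact :=
  (HomologicalComplex.exactAt_iff' _ n (n + 1) (n + 2) (by simp)
    (by simp only [CochainComplex.next]; rfl)).1 (exactAt_succ ι n)

omit [QuasiIso ι] in
set_option backward.isDefEq.respectTransparency false in
theorem ι_comp_d : ι.f 0 ≫ K.d 0 1 = 0 := by
  simp

set_option backward.defeqAttrib.useBackward true in
set_option backward.isDefEq.respectTransparency false in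
noncomputable def isLimitKernelFork : IsLimit (KernelFork.ofι (ι.f 0) (ι_comp_d ι)) := by
  refine IsLimit.ofIsoLimit (K.cyclesIsKernel 0 1 (by simp)) (Iso.symm ?_)
  refine Fork.ext ((singleObjHomologySelfIso _ _ _).symm ≪≫
    isoOfQuasiIsoAt ι 0 ≪≫ K.isoHomologyπ₀.symm) ?_
  rw [← cancel_epi (singleObjHomologySelfIso (ComplexShape.up ℕ) _ _).hom,
    ← cancel_epi (isoHomologyπ₀ _).hom,
    ← cancel_epi (singleObjCyclesSelfIso (ComplexShape.up ℕ) _ _).inv]
  simp

lemma exact_zero : (ShortComplex.mk _ _ (ι_comp_d ι)).Exact :=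
  ShortComplex.exact_of_f_is_kernel _ (isLimitKernelFork ι)

lemma mono_zero : Mono (ι.f 0) := mono_of_isLimit_fork (isLimitKernelFork ι)

end General

section Mod

open MonoidalCategory

variable {R : Type u} [CommRing R]
variable {M : ModuleCat.{u} R} {M' : CochainComplex (ModuleCat.{u} R) ℕ}
  (η : (CochainComplex.single₀ (ModuleCat.{u} R)).obj M ⟶ M')

/-- the tensored coaugmentation, with source rewritten as a single complex -/
noncomputable def ι' (T : ModuleCat.{u} R) :
    (CochainComplex.single₀ (ModuleCat.{u} R)).obj (M ⊗ T) ⟶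
      ((tensorRight T).mapHomologicalComplex (ComplexShape.up ℕ)).obj M' :=
  (HomologicalComplex.singleMapHomologicalComplex (tensorRight T) (ComplexShape.up ℕ) 0).inv.app M ≫
    ((tensorRight T).mapHomologicalComplex (ComplexShape.up ℕ)).map η

theorem ι'_f_zero (T : ModuleCat.{u} R) : (ι' η T).f 0 = η.f 0 ▷ T := by
  simp [ι', singleMapHomologicalComplex_inv_app_self, CochainComplex.single₀ObjXSelf]
  exact Category.id_comp _

variable (hM' : ∀ T : ModuleCat.{u} R,
      QuasiIso (((tensorRight T).mapHomologicalComplex (ComplexShape.up ℕ)).map η))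

include hM' in
theorem quasiIso_ι' (T : ModuleCat.{u} R) : QuasiIso (ι' η T) := by
  have := hM' T
  unfold ι'
  infer_instance

include hM' in
theorem uexact_succ (n : ℕ) (Q : Type u) [AddCommGroup Q] [Module R Q] :
    Function.Exact ((M'.d n (n + 1)).hom.rTensor Q) ((M'.d (n + 1) (n + 2)).hom.rTensor Q) := by
  have := quasiIso_ι' η hM' (ModuleCat.of R Q)
  have h := exact_succ (ι' η (ModuleCat.of R Q)) n
  rw [ShortComplex.ShortExact.moduleCat_exact_iff_function_exact] at h
  exact h

include hM' in
theorem uexact_zero (Q : Type u) [AddCommGroup Q] [Module R Q] :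
    Function.Exact ((η.f 0).hom.rTensor Q) ((M'.d 0 1).hom.rTensor Q) := by
  have := quasiIso_ι' η hM' (ModuleCat.of R Q)
  have h := exact_zero (ι' η (ModuleCat.of R Q))
  rw [ShortComplex.ShortExact.moduleCat_exact_iff_function_exact] at h
  have e : ((ι' η (ModuleCat.of R Q)).f 0).hom = (η.f 0).hom.rTensor Q := by
    rw [ι'_f_zero]; rfl
  have h' : Function.Exact ((ι' η (ModuleCat.of R Q)).f 0).hom ((M'.d 0 1).hom.rTensor Q) := h
  rw [e] at h'
  exact h'

include hM' in
theorem uinj_zero : CAlgX.UniversallyInjective R (η.f 0).hom := by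
  intro Q _ _
  have := quasiIso_ι' η hM' (ModuleCat.of R Q)
  have h := mono_zero (ι' η (ModuleCat.of R Q))
  rw [ι'_f_zero] at h
  exact (ModuleCat.mono_iff_injective _).mp h

end Mod

section Plain

variable {R : Type u} [CommRing R]

/-- the basic extension lemma for pure injective modules -/
theorem pure_ext {I A B C : Type u} [AddCommGroup I] [Module R I] [AddCommGroup A] [Module R A]
    [AddCommGroup B] [Module R B] [AddCommGroup C] [Module R C]
    (hI : ∀ ⦃K L : Type u⦄ [AddCommGroup K] [Module R K] [AddCommGroup L] [Module R L]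
      (g : K →ₗ[R] L), CAlgX.UniversallyInjective R g →
      ∀ φ : K →ₗ[R] I, ∃ ψ : L →ₗ[R] I, ψ ∘ₗ g = φ)
    (a : A →ₗ[R] B) (b : B →ₗ[R] C)
    (hab : ∀ (Q : Type u) [AddCommGroup Q] [Module R Q],
      Function.Exact (a.rTensor Q) (b.rTensor Q))
    (h : B →ₗ[R] I) (ha : h ∘ₗ a = 0) : ∃ l : C →ₗ[R] I, l ∘ₗ b = h := by
  have hpure : CAlgX.UniversallyInjective R (LinearMap.range b).subtype :=
    Groth.Agent.S8773.result R a b hab
  have hex : Function.Exact a b := PureRes.exact_of_rTensor_self a b (hab R)
  have hle : LinearMap.ker b ≤ LinearMap.ker h := by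
    intro x hx
    obtain ⟨y, rfl⟩ := (hex x).mp hx
    exact LinearMap.congr_fun ha y
  obtain ⟨l, hl⟩ := hI (LinearMap.range b).subtype hpure
    ((LinearMap.ker b).liftQ h hle ∘ₗ b.quotKerEquivRange.symm.toLinearMap)
  refine ⟨l, ?_⟩
  ext x
  have := LinearMap.congr_fun hl ⟨b x, LinearMap.mem_range_self b x⟩
  simp only [LinearMap.comp_apply, Submodule.subtype_apply, LinearEquiv.coe_coe] at this
  rw [LinearMap.comp_apply, this, LinearMap.quotKerEquivRange_symm_apply_image]
  rfl

end Plain

end Groth.Agent.Helper9.PureResCo
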