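import Mathlib

set_option autoImplicit false
universe u

namespace Groth.Agent.Helper9.S5806

open TensorProduct Pointwise

lemma take_succ_smul {B : Type u} [CommRing B] (M : Type u) [AddCommGroup M] [Module B M]
    (fs : List B) (i : ℕ) (hi : i < fs.length) :
    (Ideal.ofList (fs.take (i + 1)) • (⊤ : Submodule B M)) =
      Ideal.ofList (fs.take i) • (⊤ : Submodule B M) ⊔ (fs[i] • (⊤ : Submodule B M)) := by
  rw [List.take_succ_eq_append_getElem hi, Ideal.ofList_append, Ideal.ofList_singleton,
    Submodule.sup_smul, Submodule.ideal_span_singleton_smul]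

theorem main (A B : Type u) [CommRing A]
    [CommRing B] [Algebra A B] (M : Type u) [AddCommGroup M] [Module B M] [Module A M] [IsScalarTower A B M]
    (fs : List B) (hreg : RingTheory.Sequence.IsWeaklyRegular M fs)
    (hflat : ∀ i : ℕ, i ≤ fs.length → Module.Flat A (M ⧸ (Ideal.ofList (fs.take i) • (⊤ : Submodule B M))))
    (A' : Type u) [CommRing A'] [Algebra A A'] (i : Fin fs.length) :
    Function.Injective (LinearMap.lTensor A'
        (((LinearMap.lsmul B (M ⧸ (Ideal.ofList (fs.take i) • (⊤ : Submodule B M)))) (fs.get i)).restrictScalars A)) ∧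
      Module.Flat A' (A' ⊗[A] (M ⧸ (Ideal.ofList (fs.take i) • (⊤ : Submodule B M)))) := by
  have hfl1 := hflat i i.2.le
  have hfl2 := hflat (i + 1) i.2
  refine ⟨?_, inferInstance⟩
  have hle : Ideal.ofList (fs.take i) • (⊤ : Submodule B M) ≤
      Ideal.ofList (fs.take (i + 1)) • (⊤ : Submodule B M) := by
    rw [take_succ_smul M fs i i.2]; exact le_sup_left
  let f : (M ⧸ (Ideal.ofList (fs.take i) • (⊤ : Submodule B M))) →ₗ[A]
      (M ⧸ (Ideal.ofList (fs.take (i + 1)) • (⊤ : Submodule B M))) :=
    (Submodule.mapQ _ _ LinearMap.id hle).restrictScalars A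
  have hf : Function.Surjective f := by
    intro y
    obtain ⟨m, rfl⟩ := Submodule.Quotient.mk_surjective _ y
    exact ⟨Submodule.Quotient.mk m, rfl⟩
  refine LinearMap.lTensor_injective_of_exact_of_flat f hf _ ?_ ?_ A'
  · exact hreg.regular_mod_prev i i.2
  · intro y
    obtain ⟨m, rfl⟩ := Submodule.Quotient.mk_surjective _ y
    constructor
    · intro h
      have h1 : m ∈ Ideal.ofList (fs.take (i + 1)) • (⊤ : Submodule B M) := by
        have : (Submodule.Quotient.mk m : M ⧸ (Ideal.ofList (fs.take (i + 1)) • (⊤ : Submodule B M))) = 0 := h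
        exact (Submodule.Quotient.mk_eq_zero _).1 this
      rw [take_succ_smul M fs i i.2, Submodule.mem_sup] at h1
      obtain ⟨a, ha, b, hb, rfl⟩ := h1
      obtain ⟨c, -, rfl⟩ := (Submodule.mem_smul_pointwise_iff_exists _ _ _).1 hb
      refine ⟨Submodule.Quotient.mk c, ?_⟩
      show fs[i] • (Submodule.Quotient.mk c : M ⧸ (Ideal.ofList (fs.take i) • (⊤ : Submodule B M))) = Submodule.Quotient.mk (a + fs[i] • c)
      rw [Submodule.Quotient.mk_add, (Submodule.Quotient.mk_eq_zero _).2 ha, zero_add,
        Submodule.Quotient.mk_smul]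
    · rintro ⟨z, hz⟩
      obtain ⟨c, rfl⟩ := Submodule.Quotient.mk_surjective _ z
      have hz' : (Submodule.Quotient.mk (fs[i] • c) : M ⧸ (Ideal.ofList (fs.take i) • (⊤ : Submodule B M))) =
          Submodule.Quotient.mk m := hz
      rw [← hz']
      show (Submodule.Quotient.mk (fs[i] • c) : M ⧸ (Ideal.ofList (fs.take (i + 1)) • (⊤ : Submodule B M))) = 0
      rw [Submodule.Quotient.mk_eq_zero, take_succ_smul M fs i i.2]
      exact Submodule.mem_sup_right (Submodule.smul_mem_pointwise_smul _ _ _ Submodule.mem_top)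

end Groth.Agent.Helper9.S5806
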