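import Mathlib
import Groth.Prelude.Def_CAlg
import Groth.Prelude.Def_EGA4b
universe u
namespace Groth.Agent.Helper9.RegTransport
open PrimeSpectrum

/-- regularity of local rings transfers along a ring isomorphism -/
theorem reg_of_ringEquiv {R S : Type u} [CommRing R] [CommRing S] (e : R ≃+* S)
    (P : PrimeSpectrum S) (h : PrimeSpectrum.comap e.toRingHom P ∈ EGA4.regLocus R) :
    P ∈ EGA4.regLocus S := by
  have hreg : IsRegularLocalRing
      (Localization.AtPrime (PrimeSpectrum.comap e.toRingHom P).asIdeal) := h
  have H : (PrimeSpectrum.comap e.toRingHom P).asIdeal.primeCompl.map e.toMonoidHom =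
      P.asIdeal.primeCompl := by
    ext s
    constructor
    · rintro ⟨r, hr, rfl⟩
      exact hr
    · intro hs
      refine ⟨e.symm s, ?_, e.apply_symm_apply s⟩
      show e.symm s ∉ Ideal.comap e.toRingHom P.asIdeal
      rw [Ideal.mem_comap]
      show ¬ e (e.symm s) ∈ P.asIdeal
      rw [e.apply_symm_apply]
      exact hs
  have e' := IsLocalization.ringEquivOfRingEquiv
    (Localization.AtPrime (PrimeSpectrum.comap e.toRingHom P).asIdeal)
    (Localization.AtPrime P.asIdeal) e H
  exact IsRegularLocalRing.of_ringEquiv e'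

/-- a nonempty open subset of the regular locus transfers along a ring isomorphism -/
theorem exists_open_of_ringEquiv {R S : Type u} [CommRing R] [CommRing S] (e : R ≃+* S)
    (h : ∃ U : Set (PrimeSpectrum R), IsOpen U ∧ U.Nonempty ∧ U ⊆ EGA4.regLocus R) :
    ∃ U : Set (PrimeSpectrum S), IsOpen U ∧ U.Nonempty ∧ U ⊆ EGA4.regLocus S := by
  obtain ⟨U, hU, ⟨u, hu⟩, hsub⟩ := h
  refine ⟨PrimeSpectrum.comap e.toRingHom ⁻¹' U, hU.preimage (PrimeSpectrum.continuous_comap _), ?_, ?_⟩
  · refine ⟨PrimeSpectrum.comap e.symm.toRingHom u, ?_⟩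
    show PrimeSpectrum.comap e.toRingHom (PrimeSpectrum.comap e.symm.toRingHom u) ∈ U
    have : PrimeSpectrum.comap e.toRingHom (PrimeSpectrum.comap e.symm.toRingHom u) = u := by
      apply PrimeSpectrum.ext
      show Ideal.comap e.toRingHom (Ideal.comap e.symm.toRingHom u.asIdeal) = u.asIdeal
      ext x
      show e.symm (e x) ∈ u.asIdeal ↔ x ∈ u.asIdeal
      rw [e.symm_apply_apply]
    rw [this]; exact hu
  · intro P hP
    exact reg_of_ringEquiv e P (hsub hP)

/-- the regular locus is open iff it is so for an isomorphic ring -/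
theorem isOpen_regLocus_of_ringEquiv {R S : Type u} [CommRing R] [CommRing S] (e : R ≃+* S)
    (h : IsOpen (EGA4.regLocus R)) : IsOpen (EGA4.regLocus S) := by
  have : EGA4.regLocus S = PrimeSpectrum.comap e.toRingHom ⁻¹' (EGA4.regLocus R) := by
    ext P
    constructor
    · intro hP
      have h2 := reg_of_ringEquiv e.symm (PrimeSpectrum.comap e.toRingHom P) (by
        have : PrimeSpectrum.comap e.symm.toRingHom (PrimeSpectrum.comap e.toRingHom P) = P := by
          apply PrimeSpectrum.ext
          show Ideal.comap e.symm.toRingHom (Ideal.comap e.toRingHom P.asIdeal) = P.asIdeal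
          ext x
          show e (e.symm x) ∈ P.asIdeal ↔ x ∈ P.asIdeal
          rw [e.apply_symm_apply]
        rw [this]; exact hP)
      exact h2
    · intro hP
      exact reg_of_ringEquiv e P hP
  rw [this]
  exact h.preimage (PrimeSpectrum.continuous_comap _)

end Groth.Agent.Helper9.RegTransport
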