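import Mathlib
import Groth.Prelude.Def_W4c1hurwitzcptBd
open W4c1hurwitzcpt
universe u
namespace Groth.Agent.Helper9.RootDiskLib

variable {p : ℕ} {k : Type u} [Field k]

/-- x-adic order -/
noncomputable def o (f : RootDisk p k) : ℕ∞ := PowerSeries.order (RootDisk.val f)

/-- the element `x ^ r` -/
noncomputable def xpow (p : ℕ) (k : Type u) [Field k] (r : ℕ) : RootDisk p k :=
  (RootDisk.val (p := p) (k := k)).symm (PowerSeries.X ^ r)

variable [NeZero p]

lemma val_smul (a : PowerSeries k) (f : RootDisk p k) :
    RootDisk.val (a • f) = PowerSeries.expand p (NeZero.ne p) a * RootDisk.val f := rfl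

lemma o_smul (a : PowerSeries k) (f : RootDisk p k) :
    o (a • f) = p • PowerSeries.order a + o f := by
  unfold o; rw [val_smul, PowerSeries.order_mul, PowerSeries.order_expand]

lemma o_eq_top {f : RootDisk p k} : o f = ⊤ ↔ f = 0 := by
  unfold o; rw [PowerSeries.order_eq_top]; exact RingEquiv.map_eq_zero_iff _

lemma o_xpow (r : ℕ) : o (xpow p k r) = r := by
  unfold o xpow
  rw [RingEquiv.apply_symm_apply, PowerSeries.order_X_pow]

lemma smul_eq_zero' {a : PowerSeries k} {f : RootDisk p k} (h : a • f = 0) : a = 0 ∨ f = 0 := by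
  have h1 : o (a • f) = ⊤ := o_eq_top.2 h
  rw [o_smul] at h1
  rcases WithTop.add_eq_top.1 h1 with h2 | h2
  · left
    rw [← PowerSeries.order_eq_top]
    by_contra hne
    obtain ⟨n, hn⟩ := ENat.ne_top_iff_exists.1 hne
    rw [← hn] at h2
    rw [nsmul_eq_mul, ← Nat.cast_mul] at h2
    exact ENat.natCast_ne_top _ h2
  · right; exact o_eq_top.1 h2


/-- the `r`-th component of a power series mod `p` -/
noncomputable def comp (p : ℕ) (r : ℕ) (f : PowerSeries k) : PowerSeries k :=
  PowerSeries.mk fun n => PowerSeries.coeff (p * n + r) f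

lemma decomp (f : RootDisk p k) :
    f = ∑ r : Fin p, (comp p r.1 (RootDisk.val f)) • xpow p k r.1 := by
  have hp : 0 < p := Nat.pos_of_ne_zero (NeZero.ne p)
  apply (RootDisk.val (p := p) (k := k)).injective
  rw [map_sum]
  simp only [val_smul]
  ext m
  rw [map_sum]
  have hterm : ∀ r : Fin p, PowerSeries.coeff m
      (PowerSeries.expand p (NeZero.ne p) (comp p r.1 (RootDisk.val f)) *
        RootDisk.val (xpow p k r.1)) =
      if r.1 = m % p then PowerSeries.coeff m (RootDisk.val f) else 0 := by
    intro r
    unfold xpow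
    rw [RingEquiv.apply_symm_apply, PowerSeries.coeff_mul_X_pow']
    by_cases hrm : r.1 ≤ m
    · rw [if_pos hrm, PowerSeries.coeff_expand]
      by_cases hd : p ∣ m - r.1
      · rw [if_pos hd]
        have h1 : r.1 = m % p := by
          obtain ⟨q, hq⟩ := hd
          have : m = r.1 + p * q := by omega
          rw [this, Nat.add_mul_mod_self_left, Nat.mod_eq_of_lt r.2]
        rw [if_pos h1]
        unfold comp
        rw [PowerSeries.coeff_mk]
        congr 1
        rw [Nat.mul_div_cancel' hd, Nat.sub_add_cancel hrm]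
      · rw [if_neg hd, if_neg]
        intro h1
        apply hd
        have := Nat.div_add_mod m p
        refine ⟨m / p, Nat.sub_eq_of_eq_add ?_⟩
        rw [h1]; exact this.symm
    · rw [if_neg hrm, if_neg]
      intro h1
      have := Nat.mod_le m p
      omega
  simp_rw [hterm]
  rw [Finset.sum_eq_single ⟨m % p, Nat.mod_lt _ hp⟩]
  · simp
  · intro b _ hb
    rw [if_neg]
    intro h
    exact hb (Fin.ext h)
  · intro h; exact absurd (Finset.mem_univ _) h

lemma span_xpow : Submodule.span (PowerSeries k) (Set.range fun r : Fin p => xpow p k r.1) = ⊤ := by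
  rw [eq_top_iff]
  intro f _
  rw [decomp f]
  exact Submodule.sum_mem _ fun r _ =>
    Submodule.smul_mem _ _ (Submodule.subset_span ⟨r, rfl⟩)


lemma toNat_o_smul_xpow {a : PowerSeries k} (ha : a ≠ 0) (r : ℕ) :
    (o (a • xpow p k r)).toNat = p * (PowerSeries.order a).toNat + r := by
  rw [o_smul, o_xpow]
  obtain ⟨n, hn⟩ := ENat.ne_top_iff_exists.1 (mt PowerSeries.order_eq_top.1 ha)
  rw [← hn, nsmul_eq_mul, ← Nat.cast_mul, ← Nat.cast_add, ENat.toNat_natCast, ENat.toNat_natCast]

lemma exists_mem_residue (M : Submodule (PowerSeries k) (RootDisk p k))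
    (bM : Module.Basis (Fin p) (PowerSeries k) M) (r : Fin p) :
    ∃ f ∈ M, f ≠ 0 ∧ (o f).toNat % p = r.1 := by
  classical
  by_contra hcon
  push Not at hcon
  have hv1 : LinearIndependent (PowerSeries k) (fun i => ((bM i : M) : RootDisk p k)) :=
    bM.linearIndependent.map' M.subtype (Submodule.ker_subtype M)
  have hx0 : xpow p k r.1 ≠ 0 := by
    intro h
    have := o_xpow (p := p) (k := k) r.1
    rw [h, o_eq_top.2 rfl] at this
    exact ENat.natCast_ne_top _ this.symm
  have hv2 : LinearIndependent (PowerSeries k) (fun _ : Unit => xpow p k r.1) := by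
    rw [Fintype.linearIndependent_iff]
    intro g hg i
    rw [Finset.univ_unique, Finset.sum_singleton] at hg
    rcases smul_eq_zero' hg with h | h
    · cases i; exact h
    · exact absurd h hx0
  have hdisj : Disjoint
      (Submodule.span (PowerSeries k) (Set.range (fun i => ((bM i : M) : RootDisk p k))))
      (Submodule.span (PowerSeries k) (Set.range (fun _ : Unit => xpow p k r.1))) := by
    rw [Submodule.disjoint_def]
    intro f hf1 hf2
    have hfM : f ∈ M :=
      (Submodule.span_le.2 (by rintro _ ⟨i, rfl⟩; exact (bM i).2)) hf1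
    rw [Set.range_const, Submodule.mem_span_singleton] at hf2
    obtain ⟨a, rfl⟩ := hf2
    by_contra hne
    have ha : a ≠ 0 := by rintro rfl; exact hne (zero_smul _ _)
    apply hcon _ hfM hne
    rw [toNat_o_smul_xpow ha, Nat.mul_add_mod, Nat.mod_eq_of_lt r.2]
  have hli := LinearIndependent.sum_type hv1 hv2 hdisj
  have hcard := linearIndependent_le_span_finset _ hli
    (Finset.univ.image fun r : Fin p => xpow p k r.1)
    (by rw [Finset.coe_image, Finset.coe_univ, Set.image_univ]; exact span_xpow)
  have h2 : (Finset.univ.image fun r : Fin p => xpow p k r.1).card ≤ p := by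
    calc _ ≤ (Finset.univ : Finset (Fin p)).card := Finset.card_image_le
      _ = p := by simp
  rw [Cardinal.mk_fintype] at hcard
  have h3 : Fintype.card (Fin p ⊕ Unit) = p + 1 := by simp
  rw [h3] at hcard
  have h4 : p + 1 ≤ (Finset.univ.image fun r : Fin p => xpow p k r.1).card := by
    exact_mod_cast hcard
  omega


lemma o_eq_coe {f : RootDisk p k} (hf : f ≠ 0) : o f = ((o f).toNat : ℕ∞) := by
  have : o f ≠ ⊤ := fun h => hf (o_eq_top.1 h)
  exact (ENat.natCast_toNat this).symm

theorem exists_basis (M : Submodule (PowerSeries k) (RootDisk p k))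
    (bM : Module.Basis (Fin p) (PowerSeries k) M) :
    ∃ g : Module.Basis (Fin p) (PowerSeries k) M, ∀ r : Fin p,
      ((g r : M) : RootDisk p k) ≠ 0 ∧ (o ((g r : M) : RootDisk p k)).toNat % p = r.1 := by
  classical
  have hp : 0 < p := Nat.pos_of_ne_zero (NeZero.ne p)
  have hex : ∀ r : Fin p, ∃ n, ∃ f ∈ M, f ≠ 0 ∧ (o f).toNat = n ∧ n % p = r.1 := fun r => by
    obtain ⟨f, hf, hne, hr⟩ := exists_mem_residue M bM r
    exact ⟨_, f, hf, hne, rfl, hr⟩
  let n : Fin p → ℕ := fun r => Nat.find (hex r)
  have hn : ∀ r, ∃ f ∈ M, f ≠ 0 ∧ (o f).toNat = n r ∧ n r % p = r.1 :=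
    fun r => Nat.find_spec (hex r)
  have hmin : ∀ r, ∀ f ∈ M, f ≠ 0 → (o f).toNat % p = r.1 → n r ≤ (o f).toNat :=
    fun r f hf hne hr => Nat.find_min' (hex r) ⟨f, hf, hne, rfl, hr⟩
  choose gS hgM hgne hgo hgr using hn
  let g : Fin p → M := fun r => ⟨gS r, hgM r⟩
  have hunit : IsUnit (bM.det g) := by
    by_contra hnu
    rw [PowerSeries.isUnit_iff_constantCoeff, isUnit_iff_ne_zero, not_not,
      Module.Basis.det_apply, RingHom.map_det] at hnu
    obtain ⟨c, hc0, hc⟩ := Matrix.exists_mulVec_eq_zero_iff.2 hnu
    -- the combination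
    let F : M := ∑ j, (PowerSeries.C (c j)) • g j
    have hrepr : ∀ i, PowerSeries.constantCoeff (bM.repr F i) = 0 := by
      intro i
      have h1 := congrFun hc i
      simp only [Matrix.mulVec, dotProduct, RingHom.mapMatrix_apply, Matrix.map_apply,
        Module.Basis.toMatrix_apply, Pi.zero_apply] at h1
      simp only [F, map_sum, map_smul, Finsupp.coe_finsetSum, Finset.sum_apply,
        Finsupp.coe_smul, Pi.smul_apply, smul_eq_mul, map_mul, PowerSeries.constantCoeff_C]
      rw [← h1]
      exact Finset.sum_congr rfl fun j _ => mul_comm _ _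
    have hdvd : ∀ i, ∃ q, bM.repr F i = PowerSeries.X * q := fun i =>
      PowerSeries.X_dvd_iff.2 (hrepr i)
    choose q hq using hdvd
    let m : M := ∑ i, q i • bM i
    have hXm : (PowerSeries.X : PowerSeries k) • m = F := by
      apply bM.repr.injective
      refine Finsupp.ext fun i => ?_
      rw [map_smul, Finsupp.smul_apply, smul_eq_mul, hq i]
      exact congrArg (PowerSeries.X * ·) (congrFun (bM.repr_sum_self q) i)
    -- in S
    have hFS : RootDisk.val ((F : M) : RootDisk p k) =
        ∑ j, PowerSeries.C (c j) * RootDisk.val (gS j) := by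
      simp only [F, Submodule.coe_sum, Submodule.coe_smul, map_sum, val_smul,
        PowerSeries.expand_C]
      rfl
    obtain ⟨j0, hj0mem, hj0min⟩ := Finset.exists_min_image
      (Finset.univ.filter fun j => c j ≠ 0) n (by
        by_contra hempty
        rw [Finset.not_nonempty_iff_eq_empty] at hempty
        apply hc0
        ext j
        by_contra hj
        have hj' : c j ≠ 0 := hj
        have : j ∈ Finset.univ.filter fun j => c j ≠ 0 := by simp [hj']
        rw [hempty] at this
        exact absurd this (Finset.notMem_empty _))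
    have hj0 : c j0 ≠ 0 := (Finset.mem_filter.1 hj0mem).2
    have hordg : ∀ j, PowerSeries.order (RootDisk.val (gS j)) = (n j : ℕ∞) := by
      intro j
      have := o_eq_coe (hgne j)
      rw [hgo j] at this
      exact this
    have hlow : ∀ j, c j ≠ 0 → j ≠ j0 → n j0 < n j := by
      intro j hcj hne
      have h1 : n j0 ≤ n j := hj0min j (by simp [hcj])
      have h2 : n j0 ≠ n j := by
        intro h
        apply hne
        apply Fin.ext
        rw [← hgr j, ← hgr j0, h]
      omega
    have hoF : o ((F : M) : RootDisk p k) = (n j0 : ℕ∞) := by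
      unfold o
      rw [PowerSeries.order_eq_nat, hFS]
      constructor
      · rw [map_sum, Finset.sum_eq_single j0]
        · rw [PowerSeries.coeff_C_mul]
          refine mul_ne_zero hj0 ?_
          have h1 : RootDisk.val (gS j0) ≠ 0 := by
            intro h; exact hgne j0 ((RingEquiv.map_eq_zero_iff _).1 h)
          have := PowerSeries.coeff_order h1
          rwa [hordg j0, ENat.toNat_natCast] at this
        · intro j _ hj
          rw [PowerSeries.coeff_C_mul]
          by_cases hcj : c j = 0
          · rw [hcj, zero_mul]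
          · rw [PowerSeries.coeff_of_lt_order, mul_zero]
            rw [hordg j]
            exact_mod_cast hlow j hcj hj
        · intro h; exact absurd (Finset.mem_univ _) h
      · intro i hi
        rw [map_sum]
        apply Finset.sum_eq_zero
        intro j _
        rw [PowerSeries.coeff_C_mul]
        by_cases hcj : c j = 0
        · rw [hcj, zero_mul]
        · rw [PowerSeries.coeff_of_lt_order, mul_zero]
          rw [hordg j]
          have h1 : n j0 ≤ n j := hj0min j (by simp [hcj])
          exact_mod_cast lt_of_lt_of_le hi h1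
    have hXmS : ((F : M) : RootDisk p k) = (PowerSeries.X : PowerSeries k) • (m : RootDisk p k) := by
      rw [← hXm]; rfl
    rw [hXmS, o_smul, PowerSeries.order_X, nsmul_eq_mul, mul_one] at hoF
    have hm0 : (m : RootDisk p k) ≠ 0 := by
      intro h
      rw [h, o_eq_top.2 rfl] at hoF
      simp at hoF
    rw [o_eq_coe hm0, ← Nat.cast_add, Nat.cast_inj] at hoF
    have h5 : (o (m : RootDisk p k)).toNat % p = j0.1 := by
      rw [← hgr j0, ← hoF, Nat.add_mod_left]
    have := hmin j0 _ m.2 hm0 h5
    omega
  obtain ⟨hli, hsp⟩ := bM.is_basis_iff_det.2 hunit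
  refine ⟨Module.Basis.mk hli hsp.ge, fun r => ?_⟩
  rw [Module.Basis.mk_apply]
  exact ⟨hgne r, by rw [hgo r]; exact hgr r⟩

end Groth.Agent.Helper9.RootDiskLib
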