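import Mathlib
import Groth.Prelude.Def_W4c1hurwitzcptBd
import Groth.Agent.Lib.Helper9.RootDisk
open W4c1hurwitzcpt
universe u
namespace Groth.Agent.Helper9.RootDiskLibB
open Groth.Agent.Helper9.RootDiskLib

variable {p : ℕ} {k : Type u} [Field k]

lemma o_mul (f h : RootDisk p k) : o (f * h) = o f + o h := by
  unfold o; rw [map_mul, PowerSeries.order_mul]

lemma o_pow (f : RootDisk p k) (n : ℕ) : o (f ^ n) = n • o f := by
  unfold o; rw [map_pow, PowerSeries.order_pow]

lemma o_neg (f : RootDisk p k) : o (-f) = o f := by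
  unfold o; rw [map_neg, PowerSeries.order_neg]

lemma o_add_of_ne {f h : RootDisk p k} (hne : o f ≠ o h) : o (f + h) = min (o f) (o h) := by
  unfold o at *; rw [map_add]; exact PowerSeries.order_add_of_order_ne _ _ hne

lemma o_sub_of_ne {f h : RootDisk p k} (hne : o f ≠ o h) : o (f - h) = min (o f) (o h) := by
  rw [sub_eq_add_neg, o_add_of_ne (by rwa [o_neg]), o_neg]

lemma o_x {x : RootDisk p k} (hx : RootDisk.val x = PowerSeries.X) : o x = 1 := by
  unfold o; rw [hx, PowerSeries.order_X]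

variable [NeZero p]

lemma o_smul_of_ne {a : PowerSeries k} (ha : a ≠ 0) {f : RootDisk p k} (hf : f ≠ 0) :
    o (a • f) = ((p * (PowerSeries.order a).toNat + (o f).toNat : ℕ) : ℕ∞) := by
  rw [o_smul]
  obtain ⟨n, hn⟩ := ENat.ne_top_iff_exists.1 (mt PowerSeries.order_eq_top.1 ha)
  rw [o_eq_coe hf, ← hn, nsmul_eq_mul, ENat.toNat_natCast, ENat.toNat_natCast]
  push_cast
  rfl

end Groth.Agent.Helper9.RootDiskLibB
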