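import Mathlib
import Groth.Prelude.Def_SchFin

/-!
# Degree-zero cohomology of the standard complex = compatible families

For a coefficient structure `φ` over `U`, `H φ X.str 0` is identified (additively, compatibly with
scalars and with restriction to smaller subsets) with the ring of sections `X.sectRing U`.
-/

set_option autoImplicit false

namespace Groth.Agent.Helper9.SchFinH0

open SchFin TensorProduct

universe u

variable {X : RSpace.{u}} {U : Set X.pt} {R : Type u} [CommRing R] (φ : Coef X U R)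

/-- the one-point chain at a point of `U` -/
def pt0 (q : U) : Chain U 0 :=
  OrderEmbedding.ofMapLEIff (fun _ => q) (fun a b => by
    have : a = b := Fin.ext (by omega)
    subst this; simp)

@[simp] lemma pt0_apply (q : U) (i : Fin 1) : pt0 q i = q := rfl

lemma chain0_eq (σ : Chain U 0) : σ = pt0 (σ (Fin.last 0)) := by
  apply RelEmbedding.ext
  intro i
  have : i = Fin.last 0 := Fin.ext (by have := i.isLt; simp)
  subst this
  rfl

/-- the two-point chain `q < q'` -/
def pt1 (q q' : U) (h : q < q') : Chain U 1 :=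
  OrderEmbedding.ofStrictMono (fun i : Fin 2 => if i = 0 then q else q') (by
    intro i j hij
    have hi : i = 0 := by
      apply Fin.ext; have := j.isLt; have : (i : ℕ) < j := hij; simp; omega
    have hj : j = 1 := by
      apply Fin.ext; have := j.isLt; have : (i : ℕ) < j := hij; simp; omega
    subst hi hj
    simpa using h)

lemma pt1_last (q q' : U) (h : q < q') : pt1 q q' h (Fin.last 1) = q' := rfl
lemma pt1_face0 (q q' : U) (h : q < q') : (pt1 q q' h).face 0 = pt0 q' := by
  apply RelEmbedding.ext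
  intro i
  have : i = 0 := Fin.ext (by have := i.isLt; simp)
  subst this
  rfl
lemma pt1_face1 (q q' : U) (h : q < q') : (pt1 q q' h).face 1 = pt0 q := by
  apply RelEmbedding.ext
  intro i
  have : i = 0 := Fin.ext (by have := i.isLt; simp)
  subst this
  rfl

lemma res_congr (c : Cochain φ X.str 0) (τ : Chain U 0) (q : U) (hτ : τ = pt0 q) (p : X.pt)
    (hle : (τ (Fin.last 0)).1 ≤ p) (hle' : q.1 ≤ p) :
    X.str.res hle (c τ) = X.str.res hle' (c (pt0 q)) := by
  subst hτ; rfl

/-- a degree-zero cocycle is a compatible family -/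
lemma cocycle_compat (c : Cochain φ X.str 0) (hc : c ∈ cocycles φ X.str 0) (q q' : U)
    (h : q.1 ≤ q'.1) : X.res h (c (pt0 q)) = c (pt0 q') := by
  by_cases hq : q = q'
  · subst hq
    exact X.res_self _ _
  · have hlt : q < q' := lt_of_le_of_ne h hq
    have h0 : diff φ X.str 0 c (pt1 q q' hlt) = 0 := by
      have : diff φ X.str 0 c = 0 := hc
      rw [this]; rfl
    have h1 : diff φ X.str 0 c (pt1 q q' hlt) =
        ∑ j : Fin 2, ((-1 : ℤ) ^ (j : ℕ)) • c.faceVal (pt1 q q' hlt) j := rfl
    rw [h1, Fin.sum_univ_two] at h0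
    have e0 : c.faceVal (pt1 q q' hlt) 0 = X.str.res (le_refl q'.1) (c (pt0 q')) :=
      res_congr φ c _ q' (pt1_face0 q q' hlt) _ _ _
    have e1 : c.faceVal (pt1 q q' hlt) 1 = X.str.res h (c (pt0 q)) :=
      res_congr φ c _ q (pt1_face1 q q' hlt) _ _ _
    rw [e0, e1] at h0
    have key : ∀ a b : X.str.carrier ((pt1 q q' hlt) (Fin.last 1)).1,
        ((-1 : ℤ) ^ ((0 : Fin 2) : ℕ)) • a + ((-1 : ℤ) ^ ((1 : Fin 2) : ℕ)) • b = 0 → b = a := by
      intro a b hab
      simp at hab
      exact (add_neg_eq_zero.mp hab).symm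
    have := key _ _ h0
    rw [show X.str.res (le_refl q'.1) (c (pt0 q')) = c (pt0 q') from X.res_self _ _] at this
    exact this

/-- a compatible family gives a degree-zero cocycle -/
def ofSectC (s : X.sectRing U) : Cochain φ X.str 0 := fun σ => s.1 (σ (Fin.last 0))

lemma ofSectC_mem (s : X.sectRing U) : ofSectC φ s ∈ cocycles φ X.str 0 := by
  show diff φ X.str 0 (ofSectC φ s) = 0
  funext σ
  show (∑ j : Fin 2, ((-1 : ℤ) ^ (j : ℕ)) • (ofSectC φ s).faceVal σ j) = 0
  rw [Fin.sum_univ_two]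
  have e : ∀ j : Fin 2, (ofSectC φ s).faceVal σ j = s.1 (σ (Fin.last 1)) := by
    intro j
    exact s.2 _ _ _
  rw [e, e]
  have key : ∀ a : X.str.carrier (σ (Fin.last 1)).1,
      ((-1 : ℤ) ^ ((0 : Fin 2) : ℕ)) • a + ((-1 : ℤ) ^ ((1 : Fin 2) : ℕ)) • a = 0 := fun a => by
    simp
  exact key _


lemma cochain_heq (c : Cochain φ X.str 0) {σ τ : Chain U 0} (h : σ = τ) : HEq (c σ) (c τ) := by
  subst h; rfl

/-- the ring map from the coefficient ring to the sections -/
def coefHom : R →+* X.sectRing U where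
  toFun r := ⟨fun q => φ.map q r, fun q q' h => φ.compat q q' h r⟩
  map_one' := Subtype.ext (funext fun q => map_one (φ.map q))
  map_mul' a b := Subtype.ext (funext fun q => map_mul (φ.map q) a b)
  map_zero' := Subtype.ext (funext fun q => map_zero (φ.map q))
  map_add' a b := Subtype.ext (funext fun q => map_add (φ.map q) a b)

/-- restriction of sections to a smaller subset -/
def restrictSect {U' : Set X.pt} (h : U' ⊆ U) : X.sectRing U →+* X.sectRing U' where
  toFun s := ⟨fun q => s.1 ⟨q.1, h q.2⟩, fun q q' hq => s.2 ⟨q.1, h q.2⟩ ⟨q'.1, h q'.2⟩ hq⟩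
  map_one' := rfl
  map_mul' _ _ := rfl
  map_zero' := rfl
  map_add' _ _ := rfl

/-- cocycles → sections -/
def cocyclesToSect : ↥(cocycles φ X.str 0) →+ X.sectRing U where
  toFun c := ⟨fun q => c.1 (pt0 q), fun q q' h => cocycle_compat φ c.1 c.2 q q' h⟩
  map_zero' := rfl
  map_add' _ _ := rfl

/-- `H⁰` → sections -/
def h0ToSect : H φ X.str 0 →+ X.sectRing U :=
  QuotientAddGroup.lift _ (cocyclesToSect φ) (by
    intro c hc
    have : c.1 = 0 := hc
    have hc0 : c = 0 := Subtype.ext this
    rw [hc0]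
    exact zero_mem _)

lemma h0ToSect_mk (c : ↥(cocycles φ X.str 0)) :
    h0ToSect φ (H.mk φ X.str 0 c) = cocyclesToSect φ c := rfl

/-- sections → `H⁰` -/
def sectToH0 (s : X.sectRing U) : H φ X.str 0 :=
  H.mk φ X.str 0 ⟨ofSectC φ s, ofSectC_mem φ s⟩

lemma h0ToSect_sectToH0 (s : X.sectRing U) : h0ToSect φ (sectToH0 φ s) = s := rfl

lemma sectToH0_h0ToSect (m : H φ X.str 0) : sectToH0 φ (h0ToSect φ m) = m := by
  obtain ⟨c, rfl⟩ := Submodule.mkQ_surjective _ m
  show H.mk φ X.str 0 _ = H.mk φ X.str 0 c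
  congr 1
  apply Subtype.ext
  funext σ
  show c.1 (pt0 (σ (Fin.last 0))) = c.1 σ
  exact eq_of_heq (cochain_heq φ c.1 (chain0_eq σ).symm)

lemma h0ToSect_bijective : Function.Bijective (h0ToSect φ) :=
  ⟨Function.LeftInverse.injective (sectToH0_h0ToSect φ),
   Function.RightInverse.surjective (h0ToSect_sectToH0 φ)⟩

lemma h0ToSect_smul (r : R) (m : H φ X.str 0) :
    h0ToSect φ (r • m) = coefHom φ r * h0ToSect φ m := by
  obtain ⟨c, rfl⟩ := Submodule.mkQ_surjective _ m
  rfl

lemma h0ToSect_resH {U' : Set X.pt} {R' : Type u} [CommRing R'] {φ' : Coef X U' R'}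
    (sub : Coef.Sub φ φ') (m : H φ X.str 0) :
    h0ToSect φ' (resH X.str sub 0 m) = restrictSect sub.le (h0ToSect φ m) := by
  obtain ⟨c, rfl⟩ := Submodule.mkQ_surjective _ m
  apply Subtype.ext
  funext q
  show c.1 ((pt0 q).incl sub.le) = c.1 (pt0 ⟨q.1, sub.le q.2⟩)
  have : (pt0 q).incl sub.le = pt0 ⟨q.1, sub.le q.2⟩ := by
    apply RelEmbedding.ext
    intro i
    rfl
  exact eq_of_heq (cochain_heq φ c.1 this)


section Least

variable (X)

lemma resSect_evalRing_of_least (U : Set X.pt) (y : X.pt) (hyU : y ∈ U) (hU : U ⊆ X.up y)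
    (t : X.sectRing U) : X.resSect y U hU (X.evalRing U ⟨y, hyU⟩ t) = t := by
  apply Subtype.ext
  funext q
  exact t.2 ⟨y, hyU⟩ q (hU q.2)

lemma evalRing_resSect (U : Set X.pt) (y : X.pt) (hyU : y ∈ U) (hU : U ⊆ X.up y)
    (b : X.ring y) : X.evalRing U ⟨y, hyU⟩ (X.resSect y U hU b) = b :=
  X.res_self y b

end Least

section Mu
variable (X : RSpace.{u}) {s x y : X.pt} (hx : s ≤ x) (hy : s ≤ y)

theorem exists_sect_hom (hX : X.IsSchematic) {F : Type u} [CommRing F]
    (α : X.ring x →+* F) (β : X.ring y →+* F) (hαβ : α.comp (X.res hx) = β.comp (X.res hy)) :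
    ∃ χ : X.sectRing (X.up x ∩ X.up y) →+* F,
      χ.comp (X.resSect x (X.up x ∩ X.up y) Set.inter_subset_left) = α ∧
      χ.comp (X.resSect y (X.up x ∩ X.up y) Set.inter_subset_right) = β := by
  have hbc := (hX.2.2 0 s x hx y y le_rfl).1
  set φ := Coef.ofLE s ((Hom.id X).wedge s y) ((Hom.id X).wedge_subset_up s y) with hφ
  set φ' := Coef.ofLE x ((Hom.id X).wedge x y) ((Hom.id X).wedge_subset_up x y) with hφ'
  have hUy : (Hom.id X).wedge s y ⊆ X.up y := fun q hq => hq.2
  have hyU : y ∈ (Hom.id X).wedge s y := ⟨hy, le_rfl⟩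
  letI algx : Algebra (X.ring s) (X.ring x) := (X.res hx).toAlgebra
  letI algy : Algebra (X.ring s) (X.ring y) := (X.res hy).toAlgebra
  letI modN : Module (X.ring s) (H φ' X.str 0) := Module.compHom _ (X.res hx)
  haveI : IsScalarTower (X.ring s) (X.ring x) (H φ' X.str 0) :=
    IsScalarTower.of_algebraMap_smul fun _ _ => rfl
  have h' : IsBaseChange (X.ring x)
      ({ toFun := resH X.str ((Hom.id X).subSrc hx y) 0,
         map_add' := (resH X.str ((Hom.id X).subSrc hx y) 0).map_add,
         map_smul' := (resH X.str ((Hom.id X).subSrc hx y) 0).map_smulₛₗ } :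
        H φ X.str 0 →ₗ[X.ring s] H φ' X.str 0) := hbc
  -- M ≃ 𝒪_y
  let eM : H φ X.str 0 ≃ₗ[X.ring s] X.ring y :=
    { toFun := fun m => X.evalRing _ ⟨y, hyU⟩ (h0ToSect φ m)
      map_add' := fun a b => by rw [map_add, map_add]
      map_smul' := fun r m => by
        rw [h0ToSect_smul, map_mul, RingHom.id_apply, Algebra.smul_def]
        rfl
      invFun := fun b => sectToH0 φ (X.resSect y _ hUy b)
      left_inv := fun m => by
        show sectToH0 φ (X.resSect y _ hUy (X.evalRing _ ⟨y, hyU⟩ (h0ToSect φ m))) = m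
        rw [resSect_evalRing_of_least, sectToH0_h0ToSect]
      right_inv := fun b => by
        show X.evalRing _ ⟨y, hyU⟩ (h0ToSect φ (sectToH0 φ (X.resSect y _ hUy b))) = b
        rw [h0ToSect_sectToH0, evalRing_resSect] }
  let rx : X.ring x →+* X.sectRing ((Hom.id X).wedge x y) :=
    X.resSect x _ ((Hom.id X).wedge_subset_up x y)
  let ry : X.ring y →+* X.sectRing ((Hom.id X).wedge x y) := X.resSect y _ (fun q hq => hq.2)
  letI algΓ : Algebra (X.ring s) (X.sectRing ((Hom.id X).wedge x y)) :=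
    (rx.comp (X.res hx)).toAlgebra
  let f₁ : X.ring x →ₐ[X.ring s] X.sectRing ((Hom.id X).wedge x y) :=
    { rx with commutes' := fun r => rfl }
  let f₂ : X.ring y →ₐ[X.ring s] X.sectRing ((Hom.id X).wedge x y) :=
    { ry with
      commutes' := fun r => by
        apply Subtype.ext; funext q
        exact (X.res_comp hy q.2.2 r).trans (X.res_comp hx q.2.1 r).symm }
  let μ := Algebra.TensorProduct.productMap f₁ f₂
  let Ψ : X.ring x ⊗[X.ring s] X.ring y →+ X.sectRing ((Hom.id X).wedge x y) :=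
    (h0ToSect φ').comp ((h'.equiv.toLinearMap.toAddMonoidHom).comp
      ((LinearEquiv.lTensor (X.ring x) eM.symm).toLinearMap.toAddMonoidHom))
  have hΨ : Function.Bijective Ψ :=
    (h0ToSect_bijective φ').comp (h'.equiv.bijective.comp (LinearEquiv.bijective _))
  have hμΨ : ∀ t, μ t = Ψ t := by
    intro t
    induction t using TensorProduct.induction_on with
    | zero => rw [map_zero, map_zero]
    | tmul a b =>
      rw [Algebra.TensorProduct.productMap_apply_tmul]
      show rx a * ry b = h0ToSect φ' (h'.equiv (a ⊗ₜ eM.symm b))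
      rw [IsBaseChange.equiv_tmul, h0ToSect_smul]
      show _ = _ * h0ToSect φ' (resH X.str _ 0 (sectToH0 φ _))
      rw [h0ToSect_resH, h0ToSect_sectToH0]
      rfl
    | add a b ha hb => rw [map_add, map_add, ha, hb]
  have hμ : Function.Bijective μ := by
    have : (μ : _ → _) = Ψ := funext hμΨ
    rw [this]; exact hΨ
  letI algF : Algebra (X.ring s) F := (α.comp (X.res hx)).toAlgebra
  let α' : X.ring x →ₐ[X.ring s] F := { α with commutes' := fun r => rfl }
  let β' : X.ring y →ₐ[X.ring s] F :=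
    { β with commutes' := fun r => (RingHom.congr_fun hαβ r).symm }
  let χ₀ := Algebra.TensorProduct.productMap α' β'
  let eμ := RingEquiv.ofBijective μ hμ
  refine ⟨χ₀.toRingHom.comp eμ.symm.toRingHom, ?_, ?_⟩
  · ext a
    show χ₀ (eμ.symm (rx a)) = α a
    have : eμ.symm (rx a) = a ⊗ₜ 1 := by
      rw [RingEquiv.symm_apply_eq]
      show rx a = μ (a ⊗ₜ 1)
      rw [Algebra.TensorProduct.productMap_apply_tmul, map_one, mul_one]
      rfl
    rw [this, Algebra.TensorProduct.productMap_apply_tmul, map_one, mul_one]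
    rfl
  · ext b
    show χ₀ (eμ.symm (ry b)) = β b
    have : eμ.symm (ry b) = 1 ⊗ₜ b := by
      rw [RingEquiv.symm_apply_eq]
      show ry b = μ (1 ⊗ₜ b)
      rw [Algebra.TensorProduct.productMap_apply_tmul, map_one, one_mul]
      rfl
    rw [this, Algebra.TensorProduct.productMap_apply_tmul, map_one, one_mul]
    rfl
end Mu

end Groth.Agent.Helper9.SchFinH0
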