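import Mathlib
import Groth.Prelude.Def_SchFin
import Groth.Prelude.Def_SchFin2
import Groth.Agent.Lib.Helper9.SchFinH0
universe u
namespace Groth.Agent.Helper9.SchFinBC
open SchFin TensorProduct Groth.Agent.Helper9.SchFinH0

section General
variable {R S : Type u} [CommRing R] [CommRing S] (g : R →+* S) {M N : Type u}
    [AddCommGroup M] [AddCommGroup N] [Module R M] [Module S N] (f : M →ₛₗ[g] N)

/-- criterion: the canonical map `S ⊗ M → N` is bijective -/
theorem isBCAlong_of_lift_bijective
    (h : letI : Algebra R S := g.toAlgebra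
      ∀ (L : S ⊗[R] M →+ N), (∀ s m, L (s ⊗ₜ m) = s • f m) → Function.Bijective L) :
    IsBCAlong g f := by
  letI : Algebra R S := g.toAlgebra
  letI : Module R N := Module.compHom N g
  haveI : IsScalarTower R S N := IsScalarTower.of_algebraMap_smul fun _ _ => rfl
  show IsBaseChange S
      ({ toFun := f, map_add' := f.map_add, map_smul' := f.map_smulₛₗ } : M →ₗ[R] N)
  unfold IsBaseChange IsTensorProduct
  refine h (TensorProduct.lift _).toAddMonoidHom ?_
  intro s m
  simp

theorem isBCAlong_of_subsingleton
    (h : letI : Algebra R S := g.toAlgebra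
      Subsingleton (S ⊗[R] M)) [Subsingleton N] :
    IsBCAlong g f := by
  apply isBCAlong_of_lift_bijective
  intro L hL
  letI : Algebra R S := g.toAlgebra
  haveI : Subsingleton (S ⊗[R] M) := h
  exact ⟨fun a b _ => Subsingleton.elim a b, fun n => ⟨0, Subsingleton.elim _ _⟩⟩

theorem isBCAlong_of_subsingleton' [Subsingleton M] [Subsingleton N] : IsBCAlong g f := by
  apply isBCAlong_of_subsingleton
  letI : Algebra R S := g.toAlgebra
  constructor
  intro a b
  induction a using TensorProduct.induction_on with
  | zero =>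
    induction b using TensorProduct.induction_on with
    | zero => rfl
    | tmul s m => rw [Subsingleton.elim m 0, tmul_zero]
    | add x y hx hy => rw [← hx, ← hy, add_zero]
  | tmul s m =>
    rw [Subsingleton.elim m 0, tmul_zero]
    induction b using TensorProduct.induction_on with
    | zero => rfl
    | tmul s m => rw [Subsingleton.elim m 0, tmul_zero]
    | add x y hx hy => rw [← hx, ← hy, add_zero]
  | add x y hx hy =>
    have h0 : ∀ z : S ⊗[R] M, z = 0 := by
      intro z
      induction z using TensorProduct.induction_on with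
      | zero => rfl
      | tmul s m => rw [Subsingleton.elim m 0, tmul_zero]
      | add x y hx hy => rw [hx, hy, add_zero]
    rw [h0 (x + y), h0 b]


/-- epimorphism in the hom-sense (same universe) -/
def HomEpi : Prop :=
  ∀ {T : Type u} [CommRing T] (g₁ g₂ : S →+* T), g₁.comp g = g₂.comp g → g₁ = g₂

theorem tmul_eq_one_tmul_of_epi (hepi : HomEpi g) (W : Type u) [AddCommGroup W] [Module S W] :
    letI : Algebra R S := g.toAlgebra
    letI : Module R W := Module.compHom W g
    ∀ (s : S) (w : W), (s ⊗ₜ[R] w : S ⊗[R] W) = 1 ⊗ₜ[R] (s • w) := by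
  letI : Algebra R S := g.toAlgebra
  letI : Module R W := Module.compHom W g
  haveI : IsScalarTower R S W := IsScalarTower.of_algebraMap_smul fun _ _ => rfl
  intro s w
  have h1 : (1 : S) ⊗ₜ[R] s = s ⊗ₜ[R] (1 : S) := by
    have := hepi (T := S ⊗[R] S)
      (Algebra.TensorProduct.includeRight (R := R) (A := S) (B := S)).toRingHom
      (Algebra.TensorProduct.includeLeft (R := R) (S := R) (A := S) (B := S)).toRingHom (by
        ext a
        have hga : g a = a • (1 : S) := by rw [Algebra.smul_def, mul_one]; rfl
        show (1 : S) ⊗ₜ[R] g a = g a ⊗ₜ[R] (1 : S)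
        rw [hga, tmul_smul, smul_tmul'])
    exact RingHom.congr_fun this s
  have := congrArg (LinearMap.lTensor S
    ((LinearMap.toSpanSingleton S W w).restrictScalars R)) h1
  simp only [LinearMap.lTensor_tmul, LinearMap.coe_restrictScalars,
    LinearMap.toSpanSingleton_apply, one_smul] at this
  exact this.symm

theorem isBCAlong_of_epi (hepi : HomEpi g) (hf : Function.Bijective f)
    (W : Type u) [AddCommGroup W] [Module S W] (e : M ≃+ W)
    (he : ∀ (r : R) (m : M), e (r • m) = g r • e m) : IsBCAlong g f := by
  apply isBCAlong_of_lift_bijective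
  intro L hL
  letI : Algebra R S := g.toAlgebra
  letI : Module R W := Module.compHom W g
  haveI : IsScalarTower R S W := IsScalarTower.of_algebraMap_smul fun _ _ => rfl
  let eL : M ≃ₗ[R] W := { e with map_smul' := fun r m => he r m }
  have hall : ∀ t : S ⊗[R] M, ∃ m : M, t = 1 ⊗ₜ m := by
    intro t
    induction t using TensorProduct.induction_on with
    | zero => exact ⟨0, (tmul_zero _ _).symm⟩
    | tmul s m =>
      refine ⟨e.symm (s • e m), ?_⟩
      have h1 := tmul_eq_one_tmul_of_epi g hepi W s (e m)
      have h2 := congrArg (LinearMap.lTensor S eL.symm.toLinearMap) h1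
      simp only [LinearMap.lTensor_tmul, LinearEquiv.coe_coe] at h2
      have h3 : eL.symm (e m) = m := e.symm_apply_apply m
      rw [h3] at h2
      exact h2
    | add x y hx hy =>
      obtain ⟨m, rfl⟩ := hx
      obtain ⟨m', rfl⟩ := hy
      exact ⟨m + m', (tmul_add _ _ _).symm⟩
  have hL1 : ∀ m : M, L (1 ⊗ₜ m) = f m := fun m => by rw [hL, one_smul]
  constructor
  · intro t t' htt
    obtain ⟨m, rfl⟩ := hall t
    obtain ⟨m', rfl⟩ := hall t'
    rw [hL1, hL1] at htt
    rw [hf.1 htt]
  · intro n
    obtain ⟨m, rfl⟩ := hf.2 n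
    exact ⟨1 ⊗ₜ m, hL1 m⟩

end General

section Sch
variable {X : RSpace.{u}} {U : Set X.pt} {R : Type u} [CommRing R] (φ : Coef X U R)

theorem subsingleton_H_succ [Subsingleton X.pt] (M : OMod X) (n : ℕ) :
    Subsingleton (H φ M (n + 1)) := by
  have hempty : IsEmpty (Chain U (n + 1)) := by
    constructor
    intro σ
    have h01 : σ 0 < σ 1 := σ.strictMono (by
      show (0 : Fin (n + 2)) < 1
      rw [Fin.lt_def]; simp)
    exact absurd (Subtype.ext (Subsingleton.elim (σ 0).1 (σ 1).1)) (ne_of_lt h01)
  have : Subsingleton (Cochain φ M (n + 1)) := by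
    unfold Cochain; infer_instance
  have : Subsingleton (cocycles φ M (n + 1)) := inferInstance
  unfold H; infer_instance

theorem subsingleton_sectRing_of_empty (hU : U = ∅) : Subsingleton (X.sectRing U) := by
  constructor
  intro a b
  apply Subtype.ext
  funext q
  exact absurd (hU ▸ q.2 : (q : X.pt) ∈ (∅ : Set X.pt)) (Set.notMem_empty _)

theorem subsingleton_H0_of_empty (hU : U = ∅) : Subsingleton (H φ X.str 0) := by
  haveI := subsingleton_sectRing_of_empty (X := X) hU
  exact (h0ToSect_bijective φ).1.subsingleton

theorem restrictSect_bijective {U' : Set X.pt} (h : U' ⊆ U) (h' : U ⊆ U') :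
    Function.Bijective (restrictSect (X := X) h) := by
  refine Function.bijective_iff_has_inverse.mpr ⟨restrictSect h', fun s => ?_, fun s => ?_⟩ <;>
  · apply Subtype.ext; funext q; rfl

theorem resH_zero_bijective {U' : Set X.pt} {R' : Type u} [CommRing R'] {φ' : Coef X U' R'}
    (sub : Coef.Sub φ φ') (h' : U ⊆ U') : Function.Bijective (resH X.str sub 0) := by
  have hcomm : ∀ m, h0ToSect φ' (resH X.str sub 0 m) = restrictSect sub.le (h0ToSect φ m) :=
    h0ToSect_resH φ sub
  have hb := (restrictSect_bijective (X := X) sub.le h').comp (h0ToSect_bijective φ)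
  have : (fun m => h0ToSect φ' (resH X.str sub 0 m)) = (restrictSect sub.le) ∘ (h0ToSect φ) :=
    funext hcomm
  have hb' : Function.Bijective ((h0ToSect φ') ∘ (resH X.str sub 0)) := by
    show Function.Bijective (fun m => h0ToSect φ' (resH X.str sub 0 m))
    rw [this]; exact hb
  exact (Function.Bijective.of_comp_iff' (h0ToSect_bijective φ') _).mp hb'

end Sch

end Groth.Agent.Helper9.SchFinBC
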