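import Mathlib

set_option autoImplicit false
universe u

namespace Groth.Agent.Helper9.SmallExt

open IsLocalRing

variable {K : Type u} [Field K]
    {R' : Type u} [CommRing R'] [Algebra K R'] [IsLocalRing R']

theorem fwd
    (t : R') (ht : t ∈ maximalIdeal R')
    (htm : ∀ a ∈ maximalIdeal R', a * t = 0)
    (s : (R' ⧸ Ideal.span {t}) →ₐ[K] R')
    (hs : ∀ x, Ideal.Quotient.mk (Ideal.span {t}) (s x) = x)
    (h2 : t ∈ maximalIdeal R' ^ 2) : t = 0 := by
  set ρ : R' → R' := fun x => s (Ideal.Quotient.mk (Ideal.span {t}) x) with hρ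
  have hρadd : ∀ x y, ρ (x + y) = ρ x + ρ y := fun x y => by simp [hρ]
  have hρmul : ∀ x y, ρ (x * y) = ρ x * ρ y := fun x y => by simp [hρ]
  have hρ0 : ρ 0 = 0 := by simp [hρ]
  have hdiff : ∀ x, ∃ c, x = ρ x + c * t := by
    intro x
    have : Ideal.Quotient.mk (Ideal.span {t}) (x - ρ x) = 0 := by
      rw [map_sub, hs, sub_self]
    rw [Ideal.Quotient.eq_zero_iff_mem, Ideal.mem_span_singleton'] at this
    obtain ⟨c, hc⟩ := this
    exact ⟨c, by rw [hc]; ring⟩
  have htt : t * t = 0 := htm t ht
  have hρm : ∀ x ∈ maximalIdeal R', ρ x ∈ maximalIdeal R' := by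
    intro x hx
    obtain ⟨c, hc⟩ := hdiff x
    have : ρ x = x - c * t := by rw [hc]; ring_nf; rw [← hc]
    rw [this]
    exact Ideal.sub_mem _ hx (Ideal.mul_mem_left _ _ ht)
  have hprod : ∀ x ∈ maximalIdeal R', ∀ y ∈ maximalIdeal R', ρ (x * y) = x * y := by
    intro x hx y hy
    obtain ⟨c, hc⟩ := hdiff x
    obtain ⟨d, hd⟩ := hdiff y
    rw [hρmul]
    conv_rhs => rw [hc, hd]
    have h1 := htm _ (hρm x hx)
    have h2 := htm _ (hρm y hy)
    linear_combination (-d) * h1 - c * h2 - c * d * htt
  have hfix : ∀ z ∈ maximalIdeal R' ^ 2, ρ z = z := by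
    intro z hz
    rw [pow_two] at hz
    refine Submodule.mul_induction_on hz (fun x hx y hy => hprod x hx y hy) ?_
    intro x y hx hy
    rw [hρadd, hx, hy]
  have := hfix t h2
  rw [← this]
  simp only [hρ]
  have : Ideal.Quotient.mk (Ideal.span {t}) t = 0 := by
    rw [Ideal.Quotient.eq_zero_iff_mem]; exact Ideal.mem_span_singleton_self t
  rw [this, map_zero]

theorem bwd
    (hres : ∀ a : R', ∃ c : K, a - algebraMap K R' c ∈ maximalIdeal R')
    (t : R') (ht : t ∈ maximalIdeal R')
    (htm : ∀ a ∈ maximalIdeal R', a * t = 0)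
    (h2 : t ∉ maximalIdeal R' ^ 2) :
    ∃ s : (R' ⧸ Ideal.span {t}) →ₐ[K] R', ∀ x, Ideal.Quotient.mk (Ideal.span {t}) (s x) = x := by
  classical
  -- the subspace K·1 + m'^2
  let W : Submodule K R' := Submodule.span K {(1 : R')} ⊔ ((maximalIdeal R') ^ 2).restrictScalars K
  have htW : t ∉ W := by
    intro h
    rw [Submodule.mem_sup] at h
    obtain ⟨a, ha, z, hz, haz⟩ := h
    rw [Submodule.mem_span_singleton] at ha
    obtain ⟨c, rfl⟩ := ha
    have hz' : z ∈ maximalIdeal R' ^ 2 := hz
    have hzm : z ∈ maximalIdeal R' := Ideal.pow_le_self two_ne_zero hz'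
    have hc : c • (1 : R') ∈ maximalIdeal R' := by
      have : c • (1 : R') = t - z := by rw [← haz]; ring
      rw [this]; exact Ideal.sub_mem _ ht hzm
    have hc0 : c = 0 := by
      by_contra hne
      have hu : IsUnit (c • (1 : R')) := by
        rw [Algebra.smul_def, mul_one]
        exact (IsUnit.mk0 c hne).map (algebraMap K R')
      exact (IsLocalRing.mem_maximalIdeal _).mp hc hu
    rw [hc0, zero_smul, zero_add] at haz
    exact h2 (haz ▸ hz')
  obtain ⟨f, hft, hWf⟩ := Submodule.exists_le_ker_of_notMem htW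
  let lam : R' →ₗ[K] K := (f t)⁻¹ • f
  have hlamt : lam t = 1 := by simp [lam, hft]
  have hlam1 : lam 1 = 0 := by
    have : (1 : R') ∈ W := Submodule.mem_sup_left (Submodule.mem_span_singleton_self _)
    have := hWf this
    rw [LinearMap.mem_ker] at this
    simp [lam, this]
  have hlam2 : ∀ z ∈ maximalIdeal R' ^ 2, lam z = 0 := by
    intro z hz
    have : z ∈ W := Submodule.mem_sup_right hz
    have := hWf this
    rw [LinearMap.mem_ker] at this
    simp [lam, this]
  have htt : t * t = 0 := htm t ht
  have hKt : ∀ x : R', ∀ c : K, x - algebraMap K R' c ∈ maximalIdeal R' → x * t = c • t := by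
    intro x c hx
    have := htm _ hx
    rw [Algebra.smul_def]
    linear_combination this
  have hlammul : ∀ x y : R', ∀ a b : K, x - algebraMap K R' a ∈ maximalIdeal R' →
      y - algebraMap K R' b ∈ maximalIdeal R' → lam (x * y) = a * lam y + b * lam x := by
    intro x y a b hx hy
    have e : x * y = (a * b) • (1 : R') + a • (y - algebraMap K R' b) + b • (x - algebraMap K R' a)
        + (x - algebraMap K R' a) * (y - algebraMap K R' b) := by
      simp only [Algebra.smul_def, map_mul]; ring
    have h3 : lam ((x - algebraMap K R' a) * (y - algebraMap K R' b)) = 0 :=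
      hlam2 _ (by rw [pow_two]; exact Ideal.mul_mem_mul hx hy)
    have hb : lam (algebraMap K R' b) = 0 := by
      rw [Algebra.algebraMap_eq_smul_one, map_smul, hlam1, smul_zero]
    have ha : lam (algebraMap K R' a) = 0 := by
      rw [Algebra.algebraMap_eq_smul_one, map_smul, hlam1, smul_zero]
    rw [e, map_add, map_add, map_add, h3, map_smul, map_smul, map_smul, hlam1, map_sub, map_sub,
      ha, hb]
    simp
  -- the retraction
  let ρ : R' →ₐ[K] R' :=
    { toFun := fun x => x - lam x • t
      map_one' := by simp [hlam1]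
      map_mul' := by
        intro x y
        obtain ⟨a, hx⟩ := hres x
        obtain ⟨b, hy⟩ := hres y
        rw [hlammul x y a b hx hy]
        have h1 := hKt x a hx
        have h2 := hKt y b hy
        simp only [Algebra.smul_def] at h1 h2 ⊢
        simp only [map_add, map_mul]
        linear_combination (algebraMap K R' (lam y)) * h1 + (algebraMap K R' (lam x)) * h2
          - (algebraMap K R' (lam x)) * (algebraMap K R' (lam y)) * htt
      map_zero' := by simp
      map_add' := by intro x y; simp only [map_add, add_smul]; ring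
      commutes' := by
        intro c
        have : lam (algebraMap K R' c) = 0 := by
          rw [Algebra.algebraMap_eq_smul_one, map_smul, hlam1, smul_zero]
        simp [this] }
  have hρt : ∀ a ∈ Ideal.span {t}, ρ a = 0 := by
    intro a ha
    rw [Ideal.mem_span_singleton'] at ha
    obtain ⟨c, rfl⟩ := ha
    rw [map_mul]
    have : ρ t = 0 := by
      change t - lam t • t = 0
      rw [hlamt, one_smul, sub_self]
    rw [this, mul_zero]
  refine ⟨Ideal.Quotient.liftₐ (Ideal.span {t}) ρ hρt, ?_⟩
  intro x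
  obtain ⟨x, rfl⟩ := Ideal.Quotient.mk_surjective x
  change Ideal.Quotient.mk _ (x - lam x • t) = _
  rw [map_sub]
  have : Ideal.Quotient.mk (Ideal.span {t}) (lam x • t) = 0 := by
    rw [Ideal.Quotient.eq_zero_iff_mem, Algebra.smul_def]
    exact Ideal.mul_mem_left _ _ (Ideal.mem_span_singleton_self t)
  rw [this, sub_zero]

end Groth.Agent.Helper9.SmallExt
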