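import Mathlib
import Groth.Prelude.Def_FSch3

set_option autoImplicit false
universe u

open CategoryTheory CategoryTheory.Limits AlgebraicGeometry

namespace Groth.Agent.Helper9.SpfAdic

section ringPushout
variable {R S T P : Type u} [CommRing R] [CommRing S] [CommRing T] [CommRing P]
  (f : R →+* S) (p : R →+* T) (q : S →+* P) (g : T →+* P)

lemma isPushout_of_ker_eq (hp : Function.Surjective p) (hq : Function.Surjective q)
    (hcomm : q.comp f = g.comp p) (hker : (RingHom.ker p).map f = RingHom.ker q) :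
    IsPushout (CommRingCat.ofHom f) (CommRingCat.ofHom p) (CommRingCat.ofHom q)
      (CommRingCat.ofHom g) := by
  refine ⟨⟨by rw [← CommRingCat.ofHom_comp, ← CommRingCat.ofHom_comp, hcomm]⟩, ⟨?_⟩⟩
  have hkill : ∀ (s : PushoutCocone (CommRingCat.ofHom f) (CommRingCat.ofHom p)),
      RingHom.ker q ≤ RingHom.ker s.inl.hom := by
    intro s
    rw [← hker, Ideal.map_le_iff_le_comap]
    intro x hx
    rw [Ideal.mem_comap, RingHom.mem_ker]
    have h1 := congrArg (fun m => m.hom x) s.condition
    simp only [CommRingCat.hom_comp, CommRingCat.hom_ofHom, RingHom.comp_apply] at h1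
    rw [h1, (RingHom.mem_ker).1 hx, map_zero]
  have hlift : ∀ (s : PushoutCocone (CommRingCat.ofHom f) (CommRingCat.ofHom p)) (x : S),
      (RingHom.liftOfSurjective q hq ⟨s.inl.hom, hkill s⟩) (q x) = s.inl.hom x :=
    fun s x => RingHom.liftOfRightInverse_comp_apply _ _ _ _ x
  refine PushoutCocone.IsColimit.mk _
    (fun s => CommRingCat.ofHom (RingHom.liftOfSurjective q hq ⟨s.inl.hom, hkill s⟩)) ?_ ?_ ?_
  · intro s
    ext x
    simp only [CommRingCat.hom_comp, CommRingCat.hom_ofHom, RingHom.comp_apply]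
    exact hlift s x
  · intro s
    ext t
    obtain ⟨r, rfl⟩ := hp t
    simp only [CommRingCat.hom_comp, CommRingCat.hom_ofHom, RingHom.comp_apply]
    have h0 : g (p r) = q (f r) := (RingHom.congr_fun hcomm r).symm
    rw [h0]
    have h1 := congrArg (fun m => m.hom r) s.condition
    simp only [CommRingCat.hom_comp, CommRingCat.hom_ofHom, RingHom.comp_apply] at h1
    rw [← h1]
    exact hlift s (f r)
  · intro s m hm _
    ext y
    obtain ⟨x, rfl⟩ := hq y
    have h1 := congrArg (fun m => m.hom x) hm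
    simp only [CommRingCat.hom_comp, CommRingCat.hom_ofHom, RingHom.comp_apply] at h1
    simp only [CommRingCat.hom_ofHom]
    rw [h1]
    exact (hlift s x).symm


lemma ker_le_of_isPushout (hp : Function.Surjective p)
    (h : IsPushout (CommRingCat.ofHom f) (CommRingCat.ofHom p) (CommRingCat.ofHom q)
      (CommRingCat.ofHom g)) :
    RingHom.ker q ≤ (RingHom.ker p).map f := by
  set 𝔠 := (RingHom.ker p).map f with h𝔠
  let a : S →+* S ⧸ 𝔠 := Ideal.Quotient.mk 𝔠
  have hkill : RingHom.ker p ≤ RingHom.ker (a.comp f) := by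
    intro x hx
    rw [RingHom.mem_ker, RingHom.comp_apply, Ideal.Quotient.eq_zero_iff_mem]
    exact Ideal.mem_map_of_mem f hx
  let b : T →+* S ⧸ 𝔠 := RingHom.liftOfSurjective p hp ⟨a.comp f, hkill⟩
  have hb : ∀ x, b (p x) = a (f x) := fun x => RingHom.liftOfRightInverse_comp_apply _ _ _ _ x
  have hab : (CommRingCat.ofHom f) ≫ (CommRingCat.ofHom a) =
      CommRingCat.ofHom p ≫ CommRingCat.ofHom b := by
    ext x
    simp only [CommRingCat.hom_comp, CommRingCat.hom_ofHom, RingHom.comp_apply]
    exact (hb x).symm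
  intro x hx
  have h1 := h.inl_desc (CommRingCat.ofHom a) (CommRingCat.ofHom b) hab
  have h2 := congrArg (fun m => m.hom x) h1
  simp only [CommRingCat.hom_comp, CommRingCat.hom_ofHom, RingHom.comp_apply] at h2
  rw [RingHom.mem_ker.1 hx, map_zero] at h2
  exact Ideal.Quotient.eq_zero_iff_mem.1 h2.symm

lemma isPullback_Spec_iff (hp : Function.Surjective p) (hq : Function.Surjective q)
    (hcomm : q.comp f = g.comp p) :
    IsPullback (Spec.map (CommRingCat.ofHom q)) (Spec.map (CommRingCat.ofHom g))
      (Spec.map (CommRingCat.ofHom f)) (Spec.map (CommRingCat.ofHom p)) ↔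
      (RingHom.ker p).map f = RingHom.ker q := by
  constructor
  · intro h
    have hw : (CommRingCat.ofHom q).op ≫ (CommRingCat.ofHom f).op =
        (CommRingCat.ofHom g).op ≫ (CommRingCat.ofHom p).op := by
      rw [← op_comp, ← op_comp, ← CommRingCat.ofHom_comp, ← CommRingCat.ofHom_comp, hcomm]
    have h1 : IsPullback (CommRingCat.ofHom q).op (CommRingCat.ofHom g).op
        (CommRingCat.ofHom f).op (CommRingCat.ofHom p).op :=
      IsPullback.of_map Scheme.Spec hw h
    have h2 := h1.unop.flip
    apply le_antisymm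
    · rw [Ideal.map_le_iff_le_comap]
      intro x hx
      rw [Ideal.mem_comap, RingHom.mem_ker]
      have := RingHom.congr_fun hcomm x
      simp only [RingHom.comp_apply] at this
      rw [this, RingHom.mem_ker.1 hx, map_zero]
    · exact ker_le_of_isPushout f p q g hp h2
  · intro h
    exact isPullback_SpecMap_of_isPushout _ _ _ _ (isPushout_of_ker_eq f p q g hp hq hcomm h)

end ringPushout


section main
variable (A B : Type u) [CommRing A] [CommRing B]
    (I : Ideal A) (K : Ideal B) (φ : B →+* A) (h : K ≤ I.comap φ)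

lemma cond_iff (n : ℕ) :
    IsPullback ((FSch.spf A I).ι n) ((FSch.spfMap I K φ h : FSch.Hom _ _).app n)
      ((FSch.spfMap I K φ h : FSch.Hom _ _).app (n + 1)) ((FSch.spf B K).ι n) ↔
    ((K.map φ) ^ (n + 1)).map (Ideal.Quotient.mk (I ^ (n + 2))) =
      (I ^ (n + 1)).map (Ideal.Quotient.mk (I ^ (n + 2))) := by
  have hA : I ^ (n + 2) ≤ I ^ (n + 1) := Ideal.pow_le_pow_right (Nat.le_succ (n + 1))
  have hB : K ^ (n + 2) ≤ K ^ (n + 1) := Ideal.pow_le_pow_right (Nat.le_succ (n + 1))
  have key := isPullback_Spec_iff (FSch.quotPowMap I K φ h (n + 1)) (Ideal.Quotient.factor hB)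
    (Ideal.Quotient.factor hA) (FSch.quotPowMap I K φ h n)
    (Ideal.Quotient.factor_surjective hB) (Ideal.Quotient.factor_surjective hA)
    (by
      apply Ideal.Quotient.ringHom_ext
      ext b
      rfl)
  have e1 : (RingHom.ker (Ideal.Quotient.factor hB)).map (FSch.quotPowMap I K φ h (n + 1)) =
      ((K.map φ) ^ (n + 1)).map (Ideal.Quotient.mk (I ^ (n + 2))) := by
    rw [Ideal.Quotient.factor_ker hB, Ideal.map_map, ← Ideal.map_pow, Ideal.map_map]
    congr 1
  have e2 : RingHom.ker (Ideal.Quotient.factor hA) =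
      (I ^ (n + 1)).map (Ideal.Quotient.mk (I ^ (n + 2))) := Ideal.Quotient.factor_ker hA
  rw [← e1, ← e2]
  exact key

variable [IsNoetherianRing A] [IsAdicComplete I A]

theorem main : FSch.IsAdicHom (FSch.spfMap I K φ h) ↔ K.map φ = I := by
  have hle : K.map φ ≤ I := Ideal.map_le_iff_le_comap.2 h
  constructor
  · intro hadic
    have h0 := (cond_iff A B I K φ h 0).1 (hadic 0)
    apply le_antisymm hle
    have h1 : I ≤ K.map φ ⊔ I ^ 2 := by
      have h2 := congrArg (Ideal.comap (Ideal.Quotient.mk (I ^ (0 + 2)))) h0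
      rw [Ideal.comap_map_of_surjective _ Ideal.Quotient.mk_surjective,
        Ideal.comap_map_of_surjective _ Ideal.Quotient.mk_surjective] at h2
      have h3 : Ideal.comap (Ideal.Quotient.mk (I ^ (0 + 2))) ⊥ = I ^ 2 := by
        rw [← RingHom.ker_eq_comap_bot, Ideal.mk_ker]
      rw [h3, zero_add, pow_one, pow_one] at h2
      rw [h2]
      exact le_sup_left
    refine Submodule.le_of_le_smul_of_le_jacobson_bot (IsNoetherian.noetherian I)
      (IsAdicComplete.le_jacobson_bot I) ?_
    rw [smul_eq_mul, ← pow_two]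
    exact h1
  · intro hKI n
    rw [cond_iff, hKI]

end main

end Groth.Agent.Helper9.SpfAdic
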