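import Mathlib
import Groth.Prelude.Def_FSch3

set_option autoImplicit false
universe u

open CategoryTheory CategoryTheory.Limits AlgebraicGeometry

namespace Groth.Agent.Helper9.SpfForm

/-- ideal sheaf on `Spec R` attached to an ideal of `R` (through `ΓSpecIso`) -/
noncomputable def theta (R : CommRingCat.{u}) (𝔞 : Ideal R) : (Spec R).IdealSheafData :=
  Scheme.IdealSheafData.equivOfIsAffine.symm (𝔞.map (Scheme.ΓSpecIso R).inv.hom)

lemma theta_pow (R : CommRingCat.{u}) (𝔞 : Ideal R) (k : ℕ) :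
    theta R (𝔞 ^ k) = theta R 𝔞 ^ k := by
  unfold theta
  rw [Ideal.map_pow, map_pow]

lemma ker_Spec_map {R S : CommRingCat.{u}} (ψ : R ⟶ S) :
    (Spec.map ψ).ker = theta R (RingHom.ker ψ.hom) := by
  rw [Scheme.ker_of_isAffine, theta, Scheme.IdealSheafData.equivOfIsAffine_symm_apply]
  congr 1
  have h1 : (Scheme.ΓSpecIso R).inv ≫ (Spec.map ψ).appTop = ψ ≫ (Scheme.ΓSpecIso S).inv :=
    (Scheme.ΓSpecIso_inv_naturality ψ).symm
  have hbij : Function.Bijective (Scheme.ΓSpecIso R).inv.hom :=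
    ConcreteCategory.bijective_of_isIso (Scheme.ΓSpecIso R).inv
  have hinjS : Function.Injective (Scheme.ΓSpecIso S).inv.hom :=
    (ConcreteCategory.bijective_of_isIso (Scheme.ΓSpecIso S).inv).1
  ext x
  obtain ⟨r, rfl⟩ := hbij.2 x
  have h2 : (Spec.map ψ).appTop.hom ((Scheme.ΓSpecIso R).inv.hom r) =
      (Scheme.ΓSpecIso S).inv.hom (ψ.hom r) := by
    have := congrArg (fun m => m.hom r) h1
    simp only [CommRingCat.hom_comp, RingHom.comp_apply] at this
    exact this
  rw [RingHom.mem_ker, h2, Ideal.mem_map_iff_of_surjective _ hbij.2]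
  constructor
  · intro h
    refine ⟨r, ?_, rfl⟩
    rw [RingHom.mem_ker]
    apply hinjS
    rw [h, map_zero]
  · rintro ⟨r', hr', hrr'⟩
    have := hbij.1 hrr'
    subst this
    rw [RingHom.mem_ker.1 hr', map_zero]


section spf
variable (A : Type u) [CommRing A] (I : Ideal A)

lemma le0 (n : ℕ) : I ^ (n + 1) ≤ I ^ (0 + 1) := Ideal.pow_le_pow_right (Nat.le_add_left 1 n)

lemma toX_spf (n : ℕ) : (FSch.spf A I).toX n =
    Spec.map (CommRingCat.ofHom (Ideal.Quotient.factor (le0 A I n))) := by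
  induction n with
  | zero =>
    change 𝟙 _ = _
    have : Ideal.Quotient.factor (le0 A I 0) = RingHom.id _ := Ideal.Quotient.factor_eq
    rw [this]
    exact (Spec.map_id _).symm
  | succ n ih =>
    change (FSch.spf A I).toX n ≫ (FSch.spf A I).ι n = _
    rw [ih]
    change Spec.map _ ≫ Spec.map _ = _
    rw [← Spec.map_comp, ← CommRingCat.ofHom_comp, Ideal.Quotient.factor_comp]

lemma comap_factor_surjective (n : ℕ) (hle : I ^ (n + 2) ≤ I ^ (n + 1)) :
    Function.Surjective (PrimeSpectrum.comap (Ideal.Quotient.factor hle)) := by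
  intro y
  have hy : y ∈ Set.range (PrimeSpectrum.comap (Ideal.Quotient.factor hle)) := by
    rw [range_comap_of_surjective _ _ (Ideal.Quotient.factor_surjective hle),
      PrimeSpectrum.mem_zeroLocus, Ideal.Quotient.factor_ker hle]
    intro x hx
    have hx' : x ∈ (I ^ (n + 1)).map (Ideal.Quotient.mk (I ^ (n + 2))) := hx
    have h2 : x ^ 2 = 0 := by
      have h3 : x ^ 2 ∈ ((I ^ (n + 1)).map (Ideal.Quotient.mk (I ^ (n + 2)))) ^ 2 :=
        Ideal.pow_mem_pow hx' 2
      rw [← Ideal.map_pow, ← pow_mul] at h3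
      have h4 : (I ^ ((n + 1) * 2)).map (Ideal.Quotient.mk (I ^ (n + 2))) = ⊥ := by
        rw [Ideal.map_eq_bot_iff_le_ker, Ideal.mk_ker]
        exact Ideal.pow_le_pow_right (by omega)
      rw [h4] at h3
      exact h3
    have h5 : x ^ 2 ∈ y.asIdeal := by rw [h2]; exact zero_mem _
    exact y.isPrime.mem_of_pow_mem 2 h5
  exact hy

lemma isFormal_spf : (FSch.spf A I).IsFormal := by
  intro n
  have hle : I ^ (n + 2) ≤ I ^ (n + 1) := Ideal.pow_le_pow_right (Nat.le_succ (n + 1))
  refine ⟨IsClosedImmersion.spec_of_surjective _ (Ideal.Quotient.factor_surjective hle), ?_⟩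
  intro y
  obtain ⟨z, hz⟩ := comap_factor_surjective A I n hle y
  exact ⟨z, hz⟩

lemma isAdic_spf : (FSch.spf A I).IsAdic := by
  intro n
  have hle : I ^ (n + 2) ≤ I ^ (n + 1) := Ideal.pow_le_pow_right (Nat.le_succ (n + 1))
  rw [toX_spf]
  change (Spec.map (CommRingCat.ofHom (Ideal.Quotient.factor hle))).ker =
    (Spec.map (CommRingCat.ofHom (Ideal.Quotient.factor (le0 A I (n + 1))))).ker ^ (n + 1)
  rw [ker_Spec_map, ker_Spec_map, ← theta_pow]
  congr 1
  change RingHom.ker (Ideal.Quotient.factor hle) =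
    RingHom.ker (Ideal.Quotient.factor (le0 A I (n + 1))) ^ (n + 1)
  rw [Ideal.Quotient.factor_ker, Ideal.Quotient.factor_ker, ← Ideal.map_pow, zero_add, pow_one]

theorem main [IsNoetherianRing A] : (FSch.spf A I).IsLocNoethFormal := by
  refine ⟨isFormal_spf A I, isAdic_spf A I, fun n => ?_⟩
  change IsLocallyNoetherian (Spec (CommRingCat.of (A ⧸ I ^ (n + 1))))
  infer_instance

end spf

end Groth.Agent.Helper9.SpfForm
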