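import Mathlib
import Groth.Prelude.Def_FSch3

set_option autoImplicit false
universe u
open CategoryTheory AlgebraicGeometry

namespace Groth.Agent.Helper9.SpfMapLib

variable (A B : Type u) [CommRing A] [CommRing B] (I : Ideal A) (K : Ideal B)

lemma quotPowMap_mk (φ : B →+* A) (h : K ≤ I.comap φ) (n : ℕ) (b : B) :
    FSch.quotPowMap I K φ h n (Ideal.Quotient.mk _ b) = Ideal.Quotient.mk _ (φ b) := rfl

lemma ofHom_injective {R S : Type u} [CommRing R] [CommRing S] {f g : R →+* S}
    (h : CommRingCat.ofHom f = CommRingCat.ofHom g) : f = g := by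
  have := congrArg CommRingCat.Hom.hom h
  simpa using this

theorem inj [IsAdicComplete I A] : Function.Injective
    (fun φ : {φ : B →+* A // K ≤ I.comap φ} ↦ FSch.spfMap I K φ.1 φ.2) := by
  rintro ⟨φ₁, h₁⟩ ⟨φ₂, h₂⟩ h
  apply Subtype.ext
  have key : ∀ n, FSch.quotPowMap I K φ₁ h₁ n = FSch.quotPowMap I K φ₂ h₂ n := by
    intro n
    have h3 : (FSch.spfMap I K φ₁ h₁ : FSch.Hom _ _).app n =
        (FSch.spfMap I K φ₂ h₂ : FSch.Hom _ _).app n := by
      have : FSch.spfMap I K φ₁ h₁ = FSch.spfMap I K φ₂ h₂ := h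
      rw [this]
    rw [FSch.spfMap_app, FSch.spfMap_app] at h3
    exact ofHom_injective (Spec.map_injective h3)
  ext b
  have hb : ∀ n, φ₁ b - φ₂ b ∈ I ^ (n + 1) := by
    intro n
    have := congrArg (fun f => f (Ideal.Quotient.mk _ b)) (key n)
    simp only [quotPowMap_mk] at this
    exact Ideal.Quotient.eq.1 this
  have h0 : φ₁ b - φ₂ b = 0 := by
    apply IsHausdorff.haus (I := I) (M := A) inferInstance
    intro n
    rw [SModEq.zero, smul_eq_mul, Ideal.mul_top]
    exact Ideal.pow_le_pow_right (Nat.le_succ n) (hb n)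
  exact sub_eq_zero.1 h0

section surj
variable {A B I K}
variable (F : FSch.spf A I ⟶ FSch.spf B K)

/-- level-`n` component, with its type unfolded -/
noncomputable def appS (n : ℕ) :
    Spec (CommRingCat.of (A ⧸ I ^ (n + 1))) ⟶ Spec (CommRingCat.of (B ⧸ K ^ (n + 1))) :=
  (F : FSch.Hom _ _).app n

/-- the level-`n` ring map of a morphism of formal spectra -/
noncomputable def psi (n : ℕ) : B ⧸ K ^ (n + 1) →+* A ⧸ I ^ (n + 1) :=
  (Spec.preimage (appS F n)).hom

lemma app_eq (n : ℕ) :
    (F : FSch.Hom _ _).app n = Spec.map (CommRingCat.ofHom (psi F n)) := by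
  change appS F n = _
  rw [psi, CommRingCat.ofHom_hom, Spec.map_preimage]

lemma psi_comm (n : ℕ) :
    (psi F n).comp (Ideal.Quotient.factor (Ideal.pow_le_pow_right (Nat.le_succ (n + 1)))) =
      (Ideal.Quotient.factor (Ideal.pow_le_pow_right (Nat.le_succ (n + 1)))).comp
        (psi F (n + 1)) := by
  have h := (F : FSch.Hom _ _).comm n
  rw [app_eq, app_eq] at h
  change Spec.map _ ≫ Spec.map _ = Spec.map _ ≫ Spec.map _ at h
  rw [← Spec.map_comp, ← Spec.map_comp, ← CommRingCat.ofHom_comp, ← CommRingCat.ofHom_comp] at h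
  exact ofHom_injective (Spec.map_injective h)

/-- the compatible family `B → A/I^(n+1)` -/
noncomputable def fam (n : ℕ) : B →+* A ⧸ I ^ (n + 1) :=
  (psi F n).comp (Ideal.Quotient.mk (K ^ (n + 1)))

lemma fam_compat (m : ℕ) :
    (Ideal.Quotient.factorPow I (Nat.le_succ (m + 1))).comp (fam F (m + 1)) = fam F m := by
  have h := psi_comm F m
  ext b
  have h2 := congrArg (fun f => f (Ideal.Quotient.mk _ b)) h
  simp only [RingHom.comp_apply] at h2
  simp only [fam, RingHom.comp_apply]
  rw [← h2]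
  rfl

variable [IsAdicComplete I A]

/-- the ring map `B → A` attached to a morphism of formal spectra -/
noncomputable def phiOf : B →+* A :=
  IsAdicComplete.StrictMono.liftRingHom I (a := fun n => n + 1)
    (fun _ _ h => Nat.add_lt_add_right h 1) (fam F) (fun {m} => fam_compat F m)

lemma mk_phiOf (n : ℕ) (b : B) :
    Ideal.Quotient.mk (I ^ (n + 1)) (phiOf F b) = fam F n b :=
  IsAdicComplete.StrictMono.mk_liftRingHom I (a := fun n => n + 1)
    (fun _ _ h => Nat.add_lt_add_right h 1) (fam F) (fun {m} => fam_compat F m) b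

lemma phiOf_le : K ≤ I.comap (phiOf F) := by
  intro k hk
  rw [Ideal.mem_comap]
  have h := mk_phiOf F 0 k
  have hk' : Ideal.Quotient.mk (K ^ (0 + 1)) k = 0 := by
    rw [Ideal.Quotient.eq_zero_iff_mem, zero_add, pow_one]; exact hk
  rw [fam, RingHom.comp_apply, hk', map_zero, Ideal.Quotient.eq_zero_iff_mem, zero_add,
    pow_one] at h
  exact h

lemma spfMap_phiOf : FSch.spfMap I K (phiOf F) (phiOf_le F) = F := by
  apply FSch.Hom.ext
  funext n
  rw [FSch.spfMap_app, app_eq]
  congr 2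
  apply Ideal.Quotient.ringHom_ext
  ext b
  rw [RingHom.comp_apply, RingHom.comp_apply, quotPowMap_mk, mk_phiOf]
  rfl

end surj

theorem bij [IsAdicComplete I A] : Function.Bijective
    (fun φ : {φ : B →+* A // K ≤ I.comap φ} ↦ FSch.spfMap I K φ.1 φ.2) :=
  ⟨inj A B I K, fun F => ⟨⟨phiOf F, phiOf_le F⟩, spfMap_phiOf F⟩⟩

end Groth.Agent.Helper9.SpfMapLib
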