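import Mathlib
import Groth.Prelude.Def_FSch3

set_option autoImplicit false
universe u

open CategoryTheory CategoryTheory.Limits AlgebraicGeometry

namespace Groth.Agent.Helper9.SysPullback

lemma hom_app_congr {𝔛 𝔜 : FSch.Sys.{u}} {a b : 𝔛 ⟶ 𝔜} (h : a = b) (n : ℕ) :
    (a : FSch.Hom 𝔛 𝔜).app n = (b : FSch.Hom 𝔛 𝔜).app n := by rw [h]

section
variable {𝔛 𝔜 𝔖 : FSch.Sys.{u}} (f : 𝔛 ⟶ 𝔖) (g : 𝔜 ⟶ 𝔖)

lemma lvl_hom_ext {Z : Scheme.{u}} (n : ℕ) (a b : Z ⟶ (FSch.pullbackSys f g).X n)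
    (h1 : a ≫ (FSch.pullbackFst f g : FSch.Hom _ _).app n =
      b ≫ (FSch.pullbackFst f g : FSch.Hom _ _).app n)
    (h2 : a ≫ (FSch.pullbackSnd f g : FSch.Hom _ _).app n =
      b ≫ (FSch.pullbackSnd f g : FSch.Hom _ _).app n) : a = b :=
  pullback.hom_ext h1 h2

lemma hcond (s : PullbackCone f g) (n : ℕ) :
    (s.fst : FSch.Hom _ _).app n ≫ (f : FSch.Hom _ _).app n =
      (s.snd : FSch.Hom _ _).app n ≫ (g : FSch.Hom _ _).app n :=
  hom_app_congr s.condition n

/-- levelwise lift -/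
noncomputable def liftApp (s : PullbackCone f g) (n : ℕ) :
    s.pt.X n ⟶ (FSch.pullbackSys f g).X n :=
  pullback.lift ((s.fst : FSch.Hom _ _).app n) ((s.snd : FSch.Hom _ _).app n) (hcond f g s n)

lemma liftApp_fst (s : PullbackCone f g) (n : ℕ) :
    liftApp f g s n ≫ (FSch.pullbackFst f g : FSch.Hom _ _).app n =
      (s.fst : FSch.Hom _ _).app n :=
  pullback.lift_fst _ _ _

lemma liftApp_snd (s : PullbackCone f g) (n : ℕ) :
    liftApp f g s n ≫ (FSch.pullbackSnd f g : FSch.Hom _ _).app n =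
      (s.snd : FSch.Hom _ _).app n :=
  pullback.lift_snd _ _ _

lemma liftApp_comm (s : PullbackCone f g) (n : ℕ) :
    liftApp f g s n ≫ (FSch.pullbackSys f g).ι n = s.pt.ι n ≫ liftApp f g s (n + 1) := by
  apply lvl_hom_ext
  · rw [Category.assoc, Category.assoc, ← (FSch.pullbackFst f g : FSch.Hom _ _).comm n,
      liftApp_fst, ← Category.assoc, liftApp_fst]
    exact (s.fst : FSch.Hom _ _).comm n
  · rw [Category.assoc, Category.assoc, ← (FSch.pullbackSnd f g : FSch.Hom _ _).comm n,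
      liftApp_snd, ← Category.assoc, liftApp_snd]
    exact (s.snd : FSch.Hom _ _).comm n

theorem isPullback_pullbackSys :
    IsPullback (FSch.pullbackFst f g) (FSch.pullbackSnd f g) f g := by
  have hw : FSch.pullbackFst f g ≫ f = FSch.pullbackSnd f g ≫ g := by
    apply FSch.Hom.ext
    funext n
    exact pullback.condition
  refine ⟨⟨hw⟩, ⟨PullbackCone.IsLimit.mk _
    (fun s => (⟨fun n => liftApp f g s n, fun n => liftApp_comm f g s n⟩ : FSch.Hom _ _))
    ?_ ?_ ?_⟩⟩
  · intro s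
    apply FSch.Hom.ext
    funext n
    exact liftApp_fst f g s n
  · intro s
    apply FSch.Hom.ext
    funext n
    exact liftApp_snd f g s n
  · intro s m hm1 hm2
    apply FSch.Hom.ext
    funext n
    apply lvl_hom_ext
    · rw [liftApp_fst]
      exact hom_app_congr hm1 n
    · rw [liftApp_snd]
      exact hom_app_congr hm2 n

end

end Groth.Agent.Helper9.SysPullback
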