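import Mathlib
import Groth.Prelude.Def_ArtFun2
import Groth.Agent.Lib.Helper9.PsNil
import Groth.Agent.Lib.Helper3.SchlG
import Groth.Agent.Lib.Helper3.SchlN
import Groth.Agent.Lib.Helper3.SchlO
import Groth.Agent.Lib.Helper3.SchlQ

universe u
open CategoryTheory IsLocalRing MvPowerSeries

namespace H9T1Smooth

open Groth.Agent.Helper3.ArtFunLib

section Nil
variable {A : Type u} [CommRing A] (M : Type u) [AddCommGroup M] [Module A M] [Module Aᵐᵒᵖ M]
  [IsCentralScalar A M]

/-- the ideal of elements with first component in a given ideal -/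
def nilI (𝔪 : Ideal A) : Ideal (TrivSqZeroExt A M) :=
  𝔪.comap (TrivSqZeroExt.fstHom A A M : TrivSqZeroExt A M →+* A)

lemma mem_nilI {𝔪 : Ideal A} {x : TrivSqZeroExt A M} : x ∈ nilI M 𝔪 ↔ x.fst ∈ 𝔪 := Iff.rfl

lemma nilI_pow (𝔪 : Ideal A) (N : ℕ) (hN : 𝔪 ^ N = ⊥) : nilI M 𝔪 ^ (N + N) = ⊥ := by
  have h1 : nilI M 𝔪 ^ N ≤ RingHom.ker (TrivSqZeroExt.fstHom A A M : TrivSqZeroExt A M →+* A) := by
    refine (Ideal.le_comap_pow _ N).trans ?_
    rw [hN]
    exact le_of_eq rfl
  rw [pow_add, eq_bot_iff]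
  refine (Ideal.mul_mono h1 h1).trans ?_
  rw [Ideal.mul_le]
  intro x hx y hy
  rw [Ideal.mem_bot]
  have hx' : x.fst = 0 := hx
  have hy' : y.fst = 0 := hy
  apply TrivSqZeroExt.ext
  · rw [TrivSqZeroExt.fst_mul, hx', zero_mul, TrivSqZeroExt.fst_zero]
  · rw [TrivSqZeroExt.snd_mul, hx', hy', zero_smul, MulOpposite.op_zero, zero_smul, add_zero,
      TrivSqZeroExt.snd_zero]

end Nil

section Fwd

variable {k : Type u} [Field k] (R : ArtFun.CRing k k) {n : ℕ}
  (e : R.carrier ≃ₐ[k] MvPowerSeries (Fin n) k)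

lemma esymm_X_mem (i : Fin n) : e.symm (X i) ∈ maximalIdeal R.carrier := by
  rw [IsLocalRing.mem_maximalIdeal, mem_nonunits_iff]
  intro hu
  have hu' : IsUnit (e (e.symm (X i))) := hu.map e
  rw [AlgEquiv.apply_symm_apply, MvPowerSeries.isUnit_iff_constantCoeff,
    MvPowerSeries.constantCoeff_X] at hu'
  exact not_isUnit_zero hu'

variable (A : ArtFun.Art k k) (M M' : Type u) [AddCommGroup M] [Module (↥A) M] [Module (↥A)ᵐᵒᵖ M]
  [IsCentralScalar (↥A) M] [Module k M] [IsScalarTower k (↥A) M] [IsScalarTower k (↥A)ᵐᵒᵖ M]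
  [AddCommGroup M'] [Module (↥A) M'] [Module (↥A)ᵐᵒᵖ M'] [IsCentralScalar (↥A) M'] [Module k M']
  [IsScalarTower k (↥A) M'] [IsScalarTower k (↥A)ᵐᵒᵖ M']

lemma phi_mem (φ : R.carrier →ₐ[k] TrivSqZeroExt (↥A) M) (r : R.carrier)
    (hr : r ∈ maximalIdeal R.carrier) : φ r ∈ nilI M (maximalIdeal A) := by
  rw [mem_nilI, ArtFun.Art.mem_maximalIdeal_iff]
  let χ : R.carrier →ₐ[k] k := A.res.comp ((TrivSqZeroExt.fstHom k (↥A) M).comp φ)
  have hsurj : Function.Surjective χ := fun c => ⟨algebraMap k _ c, by simp⟩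
  have hmax : (RingHom.ker (χ : R.carrier →+* k)).IsMaximal :=
    RingHom.ker_isMaximal_of_surjective _ hsurj
  rw [← IsLocalRing.eq_maximalIdeal hmax] at hr
  exact hr

include e in
theorem fwd (f : M' →ₗ[↥A] M) (hf : Function.Surjective f)
    (φ : R.carrier →ₐ[k] TrivSqZeroExt (↥A) M) :
    ∃ ψ : R.carrier →ₐ[k] TrivSqZeroExt (↥A) M',
      ∀ r : R.carrier, (ψ r).fst = (φ r).fst ∧ f (ψ r).snd = (φ r).snd := by
  obtain ⟨N, hN⟩ : ∃ N, maximalIdeal A ^ N = ⊥ := by
    have := IsArtinianRing.isNilpotent_jacobson_bot (R := A)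
    rw [IsLocalRing.jacobson_eq_maximalIdeal ⊥ bot_ne_top] at this
    exact this
  let y : Fin n → TrivSqZeroExt (↥A) M := fun i => φ (e.symm (X i))
  have hy : ∀ i, y i ∈ nilI M (maximalIdeal A) := fun i => phi_mem R A M φ _ (esymm_X_mem R e i)
  choose z hz using fun i => hf (y i).snd
  let y' : Fin n → TrivSqZeroExt (↥A) M' := fun i => ((y i).fst, z i)
  have hy' : ∀ i, y' i ∈ nilI M' (maximalIdeal A) := fun i => hy i
  obtain ⟨ψ₀, hψ₀⟩ := H9PsNil.exists_ps_eval_nil_X (Λ := k) (nilI M' (maximalIdeal A)) (N + N)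
    (nilI_pow M' _ N hN) y' hy'
  let Tf : TrivSqZeroExt (↥A) M' →ₐ[k] TrivSqZeroExt (↥A) M :=
    (TrivSqZeroExt.map f).restrictScalars k
  have hTf : ∀ x, Tf x = (x.fst, f x.snd) := fun x =>
    TrivSqZeroExt.ext (TrivSqZeroExt.fst_map f x) (TrivSqZeroExt.snd_map f x)
  have key : Tf.comp ψ₀ = φ.comp e.symm.toAlgHom := by
    apply H9PsNil.ps_algHom_ext_nil (nilI M (maximalIdeal A)) (N + N) (nilI_pow M _ N hN)
    · intro i
      change Tf (ψ₀ (X i)) ∈ _
      rw [hψ₀, hTf]
      exact hy i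
    · intro i
      change Tf (ψ₀ (X i)) = φ (e.symm (X i))
      rw [hψ₀, hTf]
      exact TrivSqZeroExt.ext rfl (hz i)
  refine ⟨ψ₀.comp e.toAlgHom, fun r => ?_⟩
  have h1 : Tf (ψ₀ (e r)) = φ r := by
    have := congrArg (fun g => g (e r)) key
    change Tf (ψ₀ (e r)) = φ (e.symm (e r)) at this
    rw [this, AlgEquiv.symm_apply_apply]
  rw [hTf] at h1
  exact ⟨congrArg TrivSqZeroExt.fst h1, congrArg TrivSqZeroExt.snd h1⟩

end Fwd

section DHom

variable {k : Type u} [Field k] {r : ℕ} {A : Type u} [CommRing A] [Algebra k A]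
  (π : MvPowerSeries (Fin r) k →ₐ[k] A) (v : Fin r → (Fin r → A))

/-- the second component -/
noncomputable def dSnd (p : MvPowerSeries (Fin r) k) : Fin r → A :=
  ∑ i, π (pderiv k i p) • v i

lemma dSnd_add (p q : MvPowerSeries (Fin r) k) : dSnd π v (p + q) = dSnd π v p + dSnd π v q := by
  simp only [dSnd, map_add, add_smul, Finset.sum_add_distrib]

lemma dSnd_mul (p q : MvPowerSeries (Fin r) k) :
    dSnd π v (p * q) = π p • dSnd π v q + π q • dSnd π v p := by
  simp only [dSnd, Derivation.leibniz, map_add, smul_eq_mul, map_mul, add_smul,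
    Finset.sum_add_distrib, Finset.smul_sum, mul_smul]

lemma dSnd_C (c : k) : dSnd π v (C c) = 0 := by
  simp [dSnd]

/-- the algebra map `p ↦ (π p, ∑ π(∂ᵢ p) vᵢ)` -/
noncomputable def dHom : MvPowerSeries (Fin r) k →ₐ[k] TrivSqZeroExt A (Fin r → A) where
  toFun p := (π p, dSnd π v p)
  map_one' := TrivSqZeroExt.ext (map_one π) (by
    change dSnd π v 1 = 0
    have := dSnd_C π v (1 : k)
    rwa [map_one] at this)
  map_mul' p q := TrivSqZeroExt.ext (map_mul π p q) (by
    change dSnd π v (p * q) = π p • dSnd π v q + MulOpposite.op (π q) • dSnd π v p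
    rw [dSnd_mul, op_smul_eq_smul])
  map_zero' := TrivSqZeroExt.ext (map_zero π) (by
    change dSnd π v 0 = 0
    have := dSnd_C π v (0 : k)
    rwa [map_zero] at this)
  map_add' p q := TrivSqZeroExt.ext (map_add π p q) (dSnd_add π v p q)
  commutes' c := by
    rw [TrivSqZeroExt.algebraMap_eq_inl']
    apply TrivSqZeroExt.ext
    · change π (algebraMap k _ c) = algebraMap k A c
      exact π.commutes c
    · change dSnd π v (algebraMap k _ c) = 0
      have : algebraMap k (MvPowerSeries (Fin r) k) c = C c := by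
        rw [MvPowerSeries.algebraMap_apply]; rfl
      rw [this, dSnd_C]

lemma dHom_fst (p : MvPowerSeries (Fin r) k) : (dHom π v p).fst = π p := rfl
lemma dHom_snd (p : MvPowerSeries (Fin r) k) : (dHom π v p).snd = dSnd π v p := rfl

lemma dSnd_X (j : Fin r) : dSnd π v (X j) = v j := by
  classical
  simp only [dSnd, pderiv_X, Pi.single_apply]
  rw [Finset.sum_eq_single j]
  · simp
  · intro i _ hij
    simp [hij.symm]
  · simp

end DHom

section Step

variable {k : Type u} [Field k] {r : ℕ}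

lemma pderiv_mem_max (i : Fin r) (f : MvPowerSeries (Fin r) k)
    (hf : f ∈ maximalIdeal (MvPowerSeries (Fin r) k) ^ 2) :
    pderiv k i f ∈ maximalIdeal (MvPowerSeries (Fin r) k) := by
  rw [pow_two] at hf
  refine Submodule.mul_induction_on hf ?_ ?_
  · intro a ha b hb
    rw [Derivation.leibniz]
    exact Ideal.add_mem _ (Ideal.mul_mem_right _ _ ha) (Ideal.mul_mem_right _ _ hb)
  · intro x y hx hy
    rw [map_add]
    exact Ideal.add_mem _ hx hy


/-- the gradient of a power series, reduced along `π` -/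
noncomputable def grad {A : Type u} [CommRing A] [Algebra k A]
    (π : MvPowerSeries (Fin r) k →ₐ[k] A) (p : MvPowerSeries (Fin r) k) : Fin r → A :=
  fun i => π (pderiv k i p)

lemma dSnd_single {A : Type u} [CommRing A] [Algebra k A]
    (π : MvPowerSeries (Fin r) k →ₐ[k] A) (p : MvPowerSeries (Fin r) k) :
    dSnd π (fun i => Pi.single i (1 : A)) p = grad π p := by
  classical
  funext j
  simp only [dSnd, grad, Finset.sum_apply, Pi.smul_apply, Pi.single_apply, smul_eq_mul,
    mul_ite, mul_one, mul_zero]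
  rw [Finset.sum_eq_single j]
  · simp
  · intro i _ hij
    simp [hij.symm]
  · simp

lemma grad_X {A : Type u} [CommRing A] [Algebra k A]
    (π : MvPowerSeries (Fin r) k →ₐ[k] A) (j : Fin r) :
    grad π (X j) = Pi.single j (1 : A) := by
  classical
  funext i
  simp only [grad, pderiv_X, Pi.single_apply]
  by_cases h : i = j
  · subst h; simp
  · have h' : j ≠ i := fun e => h e.symm
    simp [h, h']

variable (R : ArtFun.CRing k k) (g : MvPowerSeries (Fin r) k →ₐ[k] R.carrier)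
  (hgs : Function.Surjective g)
  (hker : RingHom.ker g ≤ maximalIdeal (MvPowerSeries (Fin r) k) ^ 2)
  (H : ∀ (A : ArtFun.Art k k) (Rel : Submodule A (Fin r → A))
      (φ : R.carrier →ₐ[k] TrivSqZeroExt A ((Fin r → A) ⧸ Rel)),
      ∃ ψ : R.carrier →ₐ[k] TrivSqZeroExt A (Fin r → A),
        ∀ x, (ψ x).fst = (φ x).fst ∧ Rel.mkQ (ψ x).snd = (φ x).snd)

include hgs hker H in
theorem step (N : ℕ) (f : MvPowerSeries (Fin r) k) (hf : f ∈ RingHom.ker g) (i : Fin r) :
    pderiv k i f ∈ RingHom.ker g ⊔ maximalIdeal (MvPowerSeries (Fin r) k) ^ (N + 1) := by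
  classical
  let PC := psCRing k r
  let J : Ideal PC.carrier := RingHom.ker g ⊔ maximalIdeal (MvPowerSeries (Fin r) k) ^ (N + 1)
  have hadm : Adm PC J :=
    ⟨sup_le (hker.trans (Ideal.pow_le_self two_ne_zero)) (Ideal.pow_le_self (Nat.succ_ne_zero N)),
      N + 1, le_sup_right⟩
  let A : ArtFun.Art k k := quoArt J hadm
  let π : MvPowerSeries (Fin r) k →ₐ[k] A := (quoPt J hadm).1
  have hπ0 : ∀ p, π p = 0 ↔ p ∈ J := fun p => by
    rw [← RingHom.mem_ker]
    change p ∈ RingHom.ker (quoPt J hadm).1 ↔ _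
    rw [ker_quoPt]
  have hπmax : ∀ p, p ∈ maximalIdeal (MvPowerSeries (Fin r) k) → π p ∈ maximalIdeal A := by
    intro p hp
    rw [ArtFun.Art.mem_maximalIdeal_iff]
    have h1 := congrArg (fun h : PC.carrier →ₐ[k] k => h p) (quoPt J hadm).2
    change A.res (π p) = PC.res p at h1
    rw [h1]
    exact (ArtFun.CRing.mem_maximalIdeal_iff PC p).1 hp
  let e : Fin r → (Fin r → A) := fun i => Pi.single i (1 : A)
  let Rel : Submodule A (Fin r → A) :=
    Submodule.span A (grad π '' (RingHom.ker g : Set (MvPowerSeries (Fin r) k)))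
  let Tq : TrivSqZeroExt A (Fin r → A) →ₐ[k] TrivSqZeroExt A ((Fin r → A) ⧸ Rel) :=
    (TrivSqZeroExt.map Rel.mkQ).restrictScalars k
  have hTq : ∀ x, Tq x = (x.fst, Rel.mkQ x.snd) := fun x =>
    TrivSqZeroExt.ext (TrivSqZeroExt.fst_map _ x) (TrivSqZeroExt.snd_map _ x)
  let φ₀ : MvPowerSeries (Fin r) k →ₐ[k] TrivSqZeroExt A ((Fin r → A) ⧸ Rel) :=
    Tq.comp (dHom π e)
  have hφ₀ : ∀ p, φ₀ p = (π p, Rel.mkQ (grad π p)) := by
    intro p
    change Tq (dHom π e p) = _
    rw [hTq, dHom_fst, dHom_snd, dSnd_single]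
  have hφ₀kill : ∀ p ∈ RingHom.ker g, φ₀ p = 0 := by
    intro p hp
    rw [hφ₀]
    apply TrivSqZeroExt.ext
    · change π p = 0
      rw [hπ0]
      exact le_sup_left (a := RingHom.ker g) hp
    · change Rel.mkQ (grad π p) = 0
      rw [Submodule.mkQ_apply, Submodule.Quotient.mk_eq_zero]
      exact Submodule.subset_span ⟨p, hp, rfl⟩
  let φ : R.carrier →ₐ[k] TrivSqZeroExt A ((Fin r → A) ⧸ Rel) :=
    (Ideal.Quotient.liftₐ (RingHom.ker g) φ₀ hφ₀kill).comp
      (Ideal.quotientKerAlgEquivOfSurjective hgs).symm.toAlgHom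
  have hφg : ∀ p, φ (g p) = φ₀ p := by
    intro p
    have h1 : (Ideal.quotientKerAlgEquivOfSurjective hgs).symm (g p) = Ideal.Quotient.mk _ p := by
      rw [AlgEquiv.symm_apply_eq]
      rfl
    change Ideal.Quotient.liftₐ (RingHom.ker g) φ₀ hφ₀kill
      ((Ideal.quotientKerAlgEquivOfSurjective hgs).symm (g p)) = _
    rw [h1]
    rfl
  obtain ⟨ψ, hψ⟩ := H A Rel φ
  let Ψ : MvPowerSeries (Fin r) k →ₐ[k] TrivSqZeroExt A (Fin r → A) := ψ.comp g
  have hΨfst : ∀ p, (Ψ p).fst = π p := by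
    intro p
    have := (hψ (g p)).1
    rw [hφg, hφ₀] at this
    exact this
  have hΨsnd : ∀ p, (Ψ p).snd - grad π p ∈ Rel := by
    intro p
    have := (hψ (g p)).2
    rw [hφg, hφ₀] at this
    rw [← Submodule.Quotient.mk_eq_zero, Submodule.Quotient.mk_sub, sub_eq_zero]
    exact this
  have hΨker : ∀ p ∈ RingHom.ker g, Ψ p = 0 := by
    intro p hp
    change ψ (g p) = 0
    rw [RingHom.mem_ker.1 hp, map_zero]
  let v : Fin r → (Fin r → A) := fun j => (Ψ (X j)).snd
  obtain ⟨N', hN'⟩ : ∃ N', maximalIdeal A ^ N' = ⊥ := by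
    have := IsArtinianRing.isNilpotent_jacobson_bot (R := A)
    rw [IsLocalRing.jacobson_eq_maximalIdeal ⊥ bot_ne_top] at this
    exact this
  have hXmax : ∀ j : Fin r, (X j : MvPowerSeries (Fin r) k) ∈
      maximalIdeal (MvPowerSeries (Fin r) k) := by
    intro j
    rw [maximalIdeal_ps]
    exact Ideal.subset_span ⟨j, rfl⟩
  have hchain : Ψ = dHom π v := by
    apply H9PsNil.ps_algHom_ext_nil (nilI (Fin r → A) (maximalIdeal A)) (N' + N')
      (nilI_pow _ _ N' hN')
    · intro j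
      rw [mem_nilI, hΨfst]
      exact hπmax _ (hXmax j)
    · intro j
      apply TrivSqZeroExt.ext
      · rw [hΨfst, dHom_fst]
      · rw [dHom_snd, dSnd_X]
  -- the relations are contained in `m • Rel`
  have hρ : ∀ j, v j - e j ∈ Rel := by
    intro j
    have := hΨsnd (X j)
    rwa [grad_X] at this
  have hgradm : ∀ p ∈ RingHom.ker g, grad π p ∈ maximalIdeal A • Rel := by
    intro p hp
    have h1 : dSnd π v p = 0 := by
      have := congrArg TrivSqZeroExt.snd (hΨker p hp)
      rw [hchain, dHom_snd] at this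
      exact this
    have h2 : grad π p = -∑ j, π (pderiv k j p) • (v j - e j) := by
      rw [← dSnd_single, eq_neg_iff_add_eq_zero, ← h1]
      simp only [dSnd, ← Finset.sum_add_distrib, ← smul_add]
      refine Finset.sum_congr rfl fun j _ => ?_
      congr 1
      change Pi.single j (1 : A) + (v j - Pi.single j (1 : A)) = v j
      abel
    rw [h2]
    apply Submodule.neg_mem
    apply Submodule.sum_mem
    intro j _
    exact Submodule.smul_mem_smul (hπmax _ (pderiv_mem_max j p (hker hp))) (hρ j)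
  have hRelle : Rel ≤ maximalIdeal A • Rel := by
    rw [Submodule.span_le]
    rintro _ ⟨p, hp, rfl⟩
    exact hgradm p hp
  have hRel : Rel = ⊥ :=
    Submodule.eq_bot_of_le_smul_of_le_jacobson_bot (maximalIdeal A) Rel
      (IsNoetherian.noetherian Rel) hRelle
      (le_of_eq (IsLocalRing.jacobson_eq_maximalIdeal ⊥ bot_ne_top).symm)
  have hgf : grad π f ∈ Rel := Submodule.subset_span ⟨f, hf, rfl⟩
  rw [hRel, Submodule.mem_bot] at hgf
  have := congrFun hgf i
  change π (pderiv k i f) = 0 at this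
  exact (hπ0 _).1 this

end Step

section Krull

lemma mem_of_forall_mem_sup_pow {P : Type u} [CommRing P] [IsLocalRing P] [IsNoetherianRing P]
    (I : Ideal P) (hI : I ≤ maximalIdeal P) (x : P)
    (hx : ∀ N : ℕ, x ∈ I ⊔ maximalIdeal P ^ (N + 1)) : x ∈ I := by
  have hne : I ≠ ⊤ := fun h => (IsLocalRing.maximalIdeal.isMaximal P).ne_top (top_le_iff.1 (h ▸ hI))
  haveI : Nontrivial (P ⧸ I) := Ideal.Quotient.nontrivial_iff.2 hne
  haveI : IsLocalRing (P ⧸ I) :=
    IsLocalRing.of_surjective' (Ideal.Quotient.mk I) Ideal.Quotient.mk_surjective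
  let 𝔪 : Ideal (P ⧸ I) := (maximalIdeal P).map (Ideal.Quotient.mk I)
  have h𝔪 : 𝔪 ≠ ⊤ := by
    intro h
    have h1 : (1 : P ⧸ I) ∈ 𝔪 := by rw [h]; trivial
    obtain ⟨a, ha, ha1⟩ := (Ideal.mem_map_iff_of_surjective _ Ideal.Quotient.mk_surjective).1 h1
    have h2 : a - 1 ∈ I := by
      rw [← Ideal.Quotient.eq, ha1, map_one]
    have h3 : (1 : P) ∈ maximalIdeal P := by
      have : (1 : P) = a - (a - 1) := by ring
      rw [this]
      exact Ideal.sub_mem _ ha (hI h2)
    exact (IsLocalRing.maximalIdeal.isMaximal P).ne_top ((Ideal.eq_top_iff_one _).2 h3)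
  have hmem : ∀ N : ℕ, Ideal.Quotient.mk I x ∈ 𝔪 ^ N := by
    intro N
    cases N with
    | zero => rw [pow_zero, Ideal.one_eq_top]; trivial
    | succ N =>
      obtain ⟨a, ha, b, hb, hab⟩ := Submodule.mem_sup.1 (hx N)
      rw [← hab, map_add, Ideal.Quotient.eq_zero_iff_mem.2 ha, zero_add, ← Ideal.map_pow]
      exact Ideal.mem_map_of_mem _ hb
  have h0 : Ideal.Quotient.mk I x ∈ (⨅ N : ℕ, 𝔪 ^ N) := by
    rw [Ideal.mem_iInf]; exact hmem
  rw [Ideal.iInf_pow_eq_bot_of_isLocalRing 𝔪 h𝔪, Ideal.mem_bot] at h0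
  exact Ideal.Quotient.eq_zero_iff_mem.1 h0

end Krull

section Coeff

variable {k : Type u} [Field k] [CharZero k] {r : ℕ}

lemma eq_bot_of_pderiv_closed (I : Ideal (MvPowerSeries (Fin r) k))
    (hI : I ≤ maximalIdeal (MvPowerSeries (Fin r) k))
    (hd : ∀ f ∈ I, ∀ i, pderiv k i f ∈ I) : I = ⊥ := by
  classical
  have key : ∀ (e : ℕ) (f : MvPowerSeries (Fin r) k), f ∈ I → ∀ d : Fin r →₀ ℕ,
      d.degree = e → coeff d f = 0 := by
    intro e
    induction e with
    | zero =>
      intro f hf d hd0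
      have hd' : d = 0 := (Finsupp.degree_eq_zero_iff d).1 hd0
      subst hd'
      have hfm := hI hf
      rw [IsLocalRing.mem_maximalIdeal, mem_nonunits_iff, MvPowerSeries.isUnit_iff_constantCoeff] at hfm
      by_contra h
      exact hfm (IsUnit.mk0 _ h)
    | succ e ih =>
      intro f hf d hde
      have hne : d ≠ 0 := by
        intro h
        rw [h] at hde
        simp at hde
      obtain ⟨i, hi⟩ : ∃ i, d i ≠ 0 := by
        by_contra h
        push_neg at h
        exact hne (Finsupp.ext h)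
      let d' : Fin r →₀ ℕ := d - Finsupp.single i 1
      have hdd : d' + Finsupp.single i 1 = d := by
        apply tsub_add_cancel_of_le
        rw [Finsupp.single_le_iff]
        omega
      have hdeg : d'.degree = e := by
        have : (d' + Finsupp.single i 1).degree = e + 1 := by rw [hdd, hde]
        rw [map_add, Finsupp.degree_single] at this
        omega
      have h1 := ih (pderiv k i f) (hd f hf i) d' hdeg
      rw [coeff_pderiv, hdd] at h1
      rcases mul_eq_zero.1 h1 with h2 | h2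
      · exact h2
      · exfalso
        exact Nat.cast_add_one_ne_zero (d' i) h2
  rw [eq_bot_iff]
  intro f hf
  rw [Ideal.mem_bot]
  ext d
  rw [key d.degree f hf d rfl]
  rfl

end Coeff

section Final

variable {k : Type u} [Field k] [CharZero k]

theorem bwd_exists (R : ArtFun.CRing k k)
    (H : ∀ (r : ℕ) (A : ArtFun.Art k k) (Rel : Submodule A (Fin r → A))
      (φ : R.carrier →ₐ[k] TrivSqZeroExt A ((Fin r → A) ⧸ Rel)),
      ∃ ψ : R.carrier →ₐ[k] TrivSqZeroExt A (Fin r → A),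
        ∀ x, (ψ x).fst = (φ x).fst ∧ Rel.mkQ (ψ x).snd = (φ x).snd) :
    ∃ r : ℕ, Nonempty (R.carrier ≃ₐ[k] MvPowerSeries (Fin r) k) := by
  have hk : Function.Surjective (algebraMap k k) := Function.surjective_id
  have hbot : ∀ (S : Type u) [CommRing S] [Algebra k S],
      (maximalIdeal k).map (algebraMap k S) = ⊥ := by
    intro S _ _
    rw [IsLocalRing.maximalIdeal_eq_bot, Ideal.map_bot]
  obtain ⟨r, x, hxm, hx, hmin⟩ := exists_min_gens (IsLocalRing.maximalIdeal R.carrier ^ 2 ⊔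
          (IsLocalRing.maximalIdeal k).map (algebraMap k R.carrier))
  have hfd : IsLocalRing.maximalIdeal (psCRing k r).carrier ≤
      Ideal.span (Set.range (psFreeData k r).gen) ⊔
        (IsLocalRing.maximalIdeal k).map (algebraMap k (psCRing k r).carrier) := by
    refine le_trans (le_of_eq ?_) le_sup_left
    exact maximalIdeal_ps k r
  obtain ⟨g, hg, hgs, -, hgmin⟩ := minimal_presentation_of_gens hk (psFreeData k r) hfd R x hxm hx hmin
  have hkm : RingHom.ker g ≤ maximalIdeal (MvPowerSeries (Fin r) k) := by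
    intro p hp
    have h1 : p ∈ IsLocalRing.maximalIdeal (psCRing k r).carrier := by
      rw [← cring_hom_mem_maximalIdeal_iff g hg, RingHom.mem_ker.1 hp]
      exact Ideal.zero_mem _
    exact h1
  have hker : RingHom.ker g ≤ maximalIdeal (MvPowerSeries (Fin r) k) ^ 2 := by
    intro p hp
    have h2 := hgmin p (hkm hp) (by rw [RingHom.mem_ker.1 hp]; exact Ideal.zero_mem _)
    rw [hbot, sup_bot_eq] at h2
    exact h2
  haveI : IsNoetherianRing (MvPowerSeries (Fin r) k) := (psCRing k r).isNoetherianRing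
  have hclosed : ∀ f ∈ RingHom.ker g, ∀ i, pderiv k i f ∈ RingHom.ker g := by
    intro f hf i
    exact mem_of_forall_mem_sup_pow (RingHom.ker g) hkm _
      (fun N => step R g hgs hker (H r) N f hf i)
  have hbotker := eq_bot_of_pderiv_closed (RingHom.ker g) hkm hclosed
  have hinj : Function.Injective g := (RingHom.injective_iff_ker_eq_bot _).2 hbotker
  exact ⟨r, ⟨(AlgEquiv.ofBijective g ⟨hinj, hgs⟩).symm⟩⟩

omit [CharZero k] in
lemma finrank_cotangent_eq (R : ArtFun.CRing k k) (r : ℕ)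
    (e : R.carrier ≃ₐ[k] MvPowerSeries (Fin r) k) :
    Module.finrank (ResidueField R.carrier) (CotangentSpace R.carrier) = r := by
  rw [← IsLocalRing.spanFinrank_maximalIdeal_eq_finrank_cotangentSpace]
  have h1 : (maximalIdeal R.carrier).map (e.toRingEquiv : R.carrier →+* MvPowerSeries (Fin r) k) =
      maximalIdeal (MvPowerSeries (Fin r) k) :=
    IsLocalRing.map_maximalIdeal_of_surjective _ e.surjective
  have h2 := Ideal.spanFinrank_map_eq_of_ringEquiv e.toRingEquiv (maximalIdeal R.carrier)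
  have h3 : (maximalIdeal (MvPowerSeries (Fin r) k)).spanFinrank = r := by
    apply le_antisymm (spanFinrank_maximalIdeal_ps_le k r)
    have h4 := (ringKrullDim_le_spanFinrank_maximalIdeal (R := MvPowerSeries (Fin r) k))
    haveI : IsNoetherianRing (MvPowerSeries (Fin r) k) := (psCRing k r).isNoetherianRing
    have h5 := ringKrullDim_le_spanFinrank_maximalIdeal (R := MvPowerSeries (Fin r) k)
    rw [ringKrullDim_ps] at h5
    exact_mod_cast h5
  rw [← h2]
  change (Ideal.map (e.toRingEquiv : R.carrier →+* MvPowerSeries (Fin r) k)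
    (maximalIdeal R.carrier)).spanFinrank = r
  rw [h1, h3]

theorem main (R : ArtFun.CRing k k) :
    Nonempty (R.carrier ≃ₐ[k] MvPowerSeries
        (Fin (Module.finrank (IsLocalRing.ResidueField R.carrier) (IsLocalRing.CotangentSpace R.carrier))) k) ↔
      ∀ (A : ArtFun.Art k k) (M M' : Type u) [AddCommGroup M] [Module (↥A) M] [Module (↥A)ᵐᵒᵖ M]
        [IsCentralScalar (↥A) M] [Module k M] [IsScalarTower k (↥A) M] [IsScalarTower k (↥A)ᵐᵒᵖ M]
        [AddCommGroup M'] [Module (↥A) M'] [Module (↥A)ᵐᵒᵖ M'] [IsCentralScalar (↥A) M'] [Module k M']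
        [IsScalarTower k (↥A) M'] [IsScalarTower k (↥A)ᵐᵒᵖ M'] (f : M' →ₗ[↥A] M),
        Function.Surjective f →
          ∀ φ : R.carrier →ₐ[k] TrivSqZeroExt (↥A) M,
            ∃ ψ : R.carrier →ₐ[k] TrivSqZeroExt (↥A) M',
              ∀ r : R.carrier, (ψ r).fst = (φ r).fst ∧ f (ψ r).snd = (φ r).snd := by
  constructor
  · rintro ⟨e⟩ A M M' _ _ _ _ _ _ _ _ _ _ _ _ _ _ f hf φ
    exact fwd R e A M M' f hf φ
  · intro H
    obtain ⟨r, ⟨e⟩⟩ := bwd_exists R (fun r A Rel φ =>
      H A ((Fin r → A) ⧸ Rel) (Fin r → A) Rel.mkQ (Submodule.mkQ_surjective Rel) φ)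
    have hr := finrank_cotangent_eq R r e
    rw [hr]
    exact ⟨e⟩

end Final

end H9T1Smooth
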