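import Mathlib
import Groth.Prelude.Def_ArtFun2
import Groth.Agent.Lib.Helper9.TanStr
import Groth.Agent.Lib.Helper3.ArtFunA

/-! `Hε` implies bijectivity of the comparison map for fibre products with `k ⊕ V` (helper9). -/

set_option autoImplicit false

universe u v

open CategoryTheory

namespace Groth.Agent.Lib.Helper9.TanStr

open ArtFun ArtFun.Art Groth.Agent.Helper3.ArtFunLib

variable {Λ : Type u} {k : Type u} [CommRing Λ] [Field k] [Algebra Λ k]

section Models

variable (Λ k)

/-- the model `k ⊕ kⁿ` -/
abbrev T (n : ℕ) : Art Λ k := tobj Λ k (Fin n → k)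

/-- forget the first coordinate -/
def rT (n : ℕ) : T Λ k (n + 1) ⟶ T Λ k n :=
  tmap (LinearMap.funLeft k k (Fin.succ : Fin n → Fin (n + 1)))

/-- the first coordinate -/
def sT (n : ℕ) : T Λ k (n + 1) ⟶ dual Λ k :=
  (tmap (LinearMap.proj (0 : Fin (n + 1))) : tobj Λ k (Fin (n + 1) → k) ⟶ tobj Λ k k)

variable {Λ k}

theorem isFibreProd_T (n : ℕ) :
    IsFibreProd (rT Λ k n) (sT Λ k n) (toBase (T Λ k n)) (toBase (dual Λ k)) where
  w := by rw [eq_toBase (_ ≫ toBase _), eq_toBase (sT Λ k n ≫ toBase _)]
  inj b₁ b₂ h₁ h₂ := by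
    have e₁ : b₁.fst = b₂.fst := by have e := congrArg TrivSqZeroExt.fst h₁; exact e
    have e₂ : (fun i : Fin n => b₁.snd i.succ) = fun i : Fin n => b₂.snd i.succ := by
      have e := congrArg TrivSqZeroExt.snd h₁; exact e
    have e₃ : b₁.snd 0 = b₂.snd 0 := by have e := congrArg TrivSqZeroExt.snd h₂; exact e
    refine TrivSqZeroExt.ext e₁ ?_
    funext i
    refine Fin.cases e₃ (fun j => ?_) i
    exact congrFun e₂ j
  surj a' a'' h := by
    have h' : a'.fst = a''.fst := h
    refine ⟨(a'.fst, (Fin.cons a''.snd a'.snd : Fin (n + 1) → k)), TrivSqZeroExt.ext rfl ?_,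
      TrivSqZeroExt.ext h' ?_⟩
    · funext i
      change (Fin.cons a''.snd a'.snd : Fin (n + 1) → k) i.succ = a'.snd i
      rw [Fin.cons_succ]
    · change (Fin.cons a''.snd a'.snd : Fin (n + 1) → k) 0 = a''.snd
      rw [Fin.cons_zero]

lemma bijective_toBase_T0 : Function.Bijective (toBase (T Λ k 0)) := by
  constructor
  · intro x y h
    have h' : x.fst = y.fst := h
    exact TrivSqZeroExt.ext h' (Subsingleton.elim _ _)
  · intro a
    exact ⟨TrivSqZeroExt.inl a, rfl⟩

end Models

section Main

variable [Module.Finite Λ k] {F : Art Λ k ⥤ Type v} (hF : Heps F)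

include hF in
theorem bijective_cmp_T (n : ℕ) : ∀ ⦃B A : Art Λ k⦄ (p' : B ⟶ A) (p'' : B ⟶ T Λ k n)
    (h : IsFibreProd p' p'' (toBase A) (toBase (T Λ k n))), Function.Bijective (cmp F h) := by
  induction n with
  | zero =>
    intro B A p' p'' h
    have hbij : Function.Bijective p' := by
      constructor
      · intro b₁ b₂ hb
        apply h.inj _ _ hb
        apply bijective_toBase_T0.1
        rw [← h.w_apply, ← h.w_apply, hb]
      · intro a
        obtain ⟨e, he⟩ := bijective_toBase_T0.2 (toBase A a)
        obtain ⟨b, hb, -⟩ := h.surj a e he.symm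
        exact ⟨b, hb⟩
    haveI : IsIso p' := isIso_of_bijective p' hbij
    haveI : IsIso (toBase (T Λ k 0)) := isIso_of_bijective _ bijective_toBase_T0
    constructor
    · intro z₁ z₂ hz
      have h1 : F.map p' z₁ = F.map p' z₂ := congrArg (fun t => t.1.1) hz
      have := congrArg (F.map (inv p')) h1
      rwa [map_comp_app, map_comp_app, IsIso.hom_inv_id, map_id_app, map_id_app] at this
    · rintro ⟨⟨x, y⟩, hxy⟩
      refine ⟨F.map (inv p') x, ?_⟩
      have hx : F.map p' (F.map (inv p') x) = x := by
        rw [map_comp_app, IsIso.inv_hom_id, map_id_app]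
      apply FibProd.ext
      · exact hx
      · change F.map p'' (F.map (inv p') x) = y
        have hy : F.map (toBase (T Λ k 0)) (F.map p'' (F.map (inv p') x)) =
            F.map (toBase (T Λ k 0)) y := by
          rw [map_comp_app, ← h.w, ← map_comp_app, hx]
          exact hxy
        have := congrArg (F.map (inv (toBase (T Λ k 0)))) hy
        rwa [map_comp_app, map_comp_app (F := F) (toBase (T Λ k 0)), IsIso.hom_inv_id,
          map_id_app, map_id_app] at this
  | succ n ih =>
    intro B A p' p'' h
    -- the intermediate fibre product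
    have hsurj : Function.Surjective (toBase (T Λ k n)) := (T Λ k n).res_surjective
    set B' := fibreProd (toBase A) (toBase (T Λ k n)) hsurj with hB'
    set q' : B' ⟶ A := fibreProdFst _ _ hsurj with hq'
    set q'' : B' ⟶ T Λ k n := fibreProdSnd _ _ hsurj with hq''
    have hB : IsFibreProd q' q'' (toBase A) (toBase (T Λ k n)) := isFibreProd_fibreProd _ _ hsurj
    obtain ⟨t, ht1, ht2⟩ := Groth.Agent.Helper3.ArtFunLib.IsFibreProd.exists_lift hB p' (p'' ≫ rT Λ k n) (by
      rw [Category.assoc, eq_toBase (rT Λ k n ≫ _)]; exact h.w)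
    have hT := isFibreProd_T (Λ := Λ) (k := k) n
    have ht1' : ∀ b, q' (t b) = p' b := fun b => by
      rw [← ht1]; rfl
    have ht2' : ∀ b, q'' (t b) = rT Λ k n (p'' b) := fun b => by
      change q'' (t b) = (p'' ≫ rT Λ k n) b
      rw [← ht2]; rfl
    have hsq : IsFibreProd t (p'' ≫ sT Λ k n) (toBase B') (toBase (dual Λ k)) := by
      refine ⟨by rw [eq_toBase (t ≫ _), eq_toBase ((p'' ≫ sT Λ k n) ≫ _)], ?_, ?_⟩
      · intro b₁ b₂ h1 h2
        apply h.inj
        · rw [← ht1', ← ht1', h1]
        · apply hT.inj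
          · rw [← ht2', ← ht2', h1]
          · exact h2
      · intro b' d hbd
        have hres : (T Λ k n).res (q'' b') = (dual Λ k).res d := by
          have : B'.res b' = (dual Λ k).res d := hbd
          rw [← this, Art.res_app]
        obtain ⟨e, he1, he2⟩ := hT.surj (q'' b') d hres
        have hae : toBase A (q' b') = toBase (T Λ k (n + 1)) e := by
          change A.res (q' b') = (T Λ k (n + 1)).res e
          rw [Art.res_app, ← Art.res_app (rT Λ k n) e, he1, Art.res_app]
        obtain ⟨b, hb1, hb2⟩ := h.surj (q' b') e hae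
        refine ⟨b, ?_, ?_⟩
        · apply hB.inj
          · rw [ht1', hb1]
          · rw [ht2', hb2, he1]
        · change sT Λ k n (p'' b) = d
          rw [hb2, he2]
    have H1 := hF t (p'' ≫ sT Λ k n) hsq
    have H2 := ih q' q'' hB
    have H3 := hF (rT Λ k n) (sT Λ k n) hT
    constructor
    · intro z₁ z₂ hz
      have h1 : F.map p' z₁ = F.map p' z₂ := congrArg (fun t => t.1.1) hz
      have h2 : F.map p'' z₁ = F.map p'' z₂ := congrArg (fun t => t.1.2) hz
      apply H1.1
      apply FibProd.ext
      · change F.map t z₁ = F.map t z₂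
        apply H2.1
        apply FibProd.ext
        · change F.map q' (F.map t z₁) = F.map q' (F.map t z₂)
          rw [map_comp_app, map_comp_app, ht1, h1]
        · change F.map q'' (F.map t z₁) = F.map q'' (F.map t z₂)
          rw [map_comp_app, map_comp_app, ht2, ← map_comp_app, ← map_comp_app, h2]
      · change F.map (p'' ≫ sT Λ k n) z₁ = F.map (p'' ≫ sT Λ k n) z₂
        rw [← map_comp_app, ← map_comp_app, h2]
    · rintro ⟨⟨x, y⟩, hxy⟩
      have hxy' : F.map (toBase A) x = F.map (toBase (T Λ k (n + 1))) y := hxy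
      obtain ⟨w', hw'⟩ := H2.2 ⟨(x, F.map (rT Λ k n) y), by
        change F.map (toBase A) x = F.map (toBase (T Λ k n)) (F.map (rT Λ k n) y)
        rw [map_comp_app, eq_toBase (rT Λ k n ≫ _)]
        exact hxy'⟩
      have hw1 : F.map q' w' = x := congrArg (fun t => t.1.1) hw'
      have hw2 : F.map q'' w' = F.map (rT Λ k n) y := congrArg (fun t => t.1.2) hw'
      obtain ⟨z, hz⟩ := H1.2 ⟨(w', F.map (sT Λ k n) y), by
        change F.map (toBase B') w' = F.map (toBase (dual Λ k)) (F.map (sT Λ k n) y)
        rw [map_comp_app, eq_toBase (sT Λ k n ≫ _), ← hxy', ← hw1, map_comp_app,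
          eq_toBase (q' ≫ _)]⟩
      have hz1 : F.map t z = w' := congrArg (fun t => t.1.1) hz
      have hz2 : F.map (p'' ≫ sT Λ k n) z = F.map (sT Λ k n) y := congrArg (fun t => t.1.2) hz
      refine ⟨z, ?_⟩
      apply FibProd.ext
      · change F.map p' z = x
        rw [← ht1, ← map_comp_app, hz1, hw1]
      · change F.map p'' z = y
        apply H3.1
        apply FibProd.ext
        · change F.map (rT Λ k n) (F.map p'' z) = F.map (rT Λ k n) y
          rw [map_comp_app, ← ht2, ← map_comp_app, hz1, hw2]
        · change F.map (sT Λ k n) (F.map p'' z) = F.map (sT Λ k n) y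
          rw [map_comp_app, hz2]

end Main

end Groth.Agent.Lib.Helper9.TanStr
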