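import Mathlib
import Groth.Prelude.Def_ArtFun2
import Groth.Agent.Lib.Helper9.TanStr
import Groth.Agent.Lib.Helper9.TanStr2
import Groth.Agent.Lib.Helper3.ArtFunA

/-! Split square-zero objects are isomorphic to the models `k ⊕ kⁿ`; `Hε` for such objects (helper9). -/

set_option autoImplicit false

universe u v

open CategoryTheory

namespace Groth.Agent.Lib.Helper9.TanStr

open ArtFun ArtFun.Art Groth.Agent.Helper3.ArtFunLib

variable {Λ : Type u} {k : Type u} [CommRing Λ] [Field k] [Algebra Λ k]

section Iso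

variable {E : Art Λ k} (σ : base Λ k ⟶ E) (hE : IsLocalRing.maximalIdeal E ^ 2 = ⊥)

lemma res_sigma (a : k) : E.res (σ a) = a := Art.res_app σ a

lemma sub_sigma_mem (x : E) : x - σ (E.res x) ∈ IsLocalRing.maximalIdeal E := by
  rw [Art.mem_maximalIdeal_iff, map_sub, res_sigma, sub_self]

include hE in
lemma mul_eq_zero_of_mem {x y : E} (hx : x ∈ IsLocalRing.maximalIdeal E)
    (hy : y ∈ IsLocalRing.maximalIdeal E) : x * y = 0 := by
  have : x * y ∈ IsLocalRing.maximalIdeal E ^ 2 := by
    rw [pow_two]; exact Ideal.mul_mem_mul hx hy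
  rwa [hE] at this

include σ hE in
/-- a bijective morphism from a model `k ⊕ kⁿ` -/
theorem exists_model : ∃ (n : ℕ) (θ : T Λ k n ⟶ E), Function.Bijective θ := by
  let σk : k →ₐ[Λ] E := σ.toAlgHom
  letI : Algebra k E := σk.toRingHom.toAlgebra
  have halg : ∀ a : k, algebraMap k E a = σk a := fun a => rfl
  have hσk : ∀ a : k, E.res (σk a) = a := fun a => res_sigma σ a
  haveI : IsScalarTower Λ k E := IsScalarTower.of_algebraMap_eq fun r => by
    rw [halg]
    exact (σk.commutes r).symm
  set m : Submodule k E := (IsLocalRing.maximalIdeal E).restrictScalars k with hm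
  have hmem : ∀ x : E, x ∈ m ↔ x ∈ IsLocalRing.maximalIdeal E := fun x => Iff.rfl
  -- finite generation over `k`
  haveI : IsNoetherianRing E := inferInstance
  obtain ⟨S, hS⟩ := (isNoetherianRing_iff_ideal_fg E).1 inferInstance (IsLocalRing.maximalIdeal E)
  have hSm : ∀ s ∈ S, s ∈ IsLocalRing.maximalIdeal E := fun s hs => hS ▸ Ideal.subset_span hs
  have hspan : Submodule.span k (S : Set E) = m := by
    apply le_antisymm
    · rw [Submodule.span_le]
      intro s hs
      exact hSm s hs
    · intro x hx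
      have hx' : x ∈ Ideal.span (S : Set E) := by rw [hS]; exact hx
      have key : ∀ y ∈ Ideal.span (S : Set E), y ∈ Submodule.span k (S : Set E) := by
        intro y hy
        induction hy using Submodule.span_induction with
        | mem y hy => exact Submodule.subset_span hy
        | zero => exact Submodule.zero_mem _
        | add y z _ _ ihy ihz => exact Submodule.add_mem _ ihy ihz
        | smul a y hy ihy =>
          have hym : y ∈ IsLocalRing.maximalIdeal E := by rw [← hS]; exact hy
          have h1 : a • y = (E.res a) • y := by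
            rw [Algebra.smul_def (E.res a) y, halg, smul_eq_mul]
            have := mul_eq_zero_of_mem hE (sub_sigma_mem σ a) hym
            rw [sub_mul, sub_eq_zero] at this
            exact this
          rw [h1]
          exact Submodule.smul_mem _ _ ihy
      exact key x hx'
  haveI : Module.Finite k m := by
    rw [Module.Finite.iff_fg, ← hspan]
    exact Submodule.fg_span S.finite_toSet
  let n := Module.finrank k m
  let b : Module.Basis (Fin n) k m := Module.finBasis k m
  let g : (Fin n → k) →ₗ[k] E := m.subtype ∘ₗ b.equivFun.symm.toLinearMap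
  have hgm : ∀ v, g v ∈ IsLocalRing.maximalIdeal E := fun v => (b.equivFun.symm v).2
  have hginj : Function.Injective g := by
    intro v w hvw
    exact b.equivFun.symm.injective (Subtype.ext hvw)
  have hgsurj : ∀ x ∈ IsLocalRing.maximalIdeal E, ∃ v, g v = x := by
    intro x hx
    refine ⟨b.equivFun ⟨x, hx⟩, ?_⟩
    change ((b.equivFun.symm (b.equivFun ⟨x, hx⟩) : m) : E) = x
    rw [LinearEquiv.symm_apply_apply]
  let θa : TrivSqZeroExt k (Fin n → k) →ₐ[Λ] E :=
    TrivSqZeroExt.lift σk (g.restrictScalars Λ)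
      (fun x y => mul_eq_zero_of_mem hE (hgm x) (hgm y))
      (fun r x => by
        change g (r • x) = σk r * g x
        rw [map_smul, Algebra.smul_def, halg])
      (fun r x => by
        change g (MulOpposite.op r • x) = g x * σk r
        rw [op_smul_eq_smul, map_smul, Algebra.smul_def, halg, mul_comm])
  have hθ : ∀ x : TrivSqZeroExt k (Fin n → k), θa x = σk x.fst + g x.snd := fun x => rfl
  have hres : ∀ x : TrivSqZeroExt k (Fin n → k), E.res (θa x) = x.fst := by
    intro x
    rw [hθ, map_add, hσk, (Art.mem_maximalIdeal_iff E _).1 (hgm _), add_zero]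
  have hinj : Function.Injective θa := by
    intro x y hxy
    have h1 : x.fst = y.fst := by rw [← hres, ← hres, hxy]
    rw [hθ, hθ, h1] at hxy
    exact TrivSqZeroExt.ext h1 (hginj (add_left_cancel hxy))
  have hsurj : Function.Surjective θa := by
    intro x
    obtain ⟨v, hv⟩ := hgsurj _ (sub_sigma_mem σ x)
    refine ⟨TrivSqZeroExt.inl (E.res x) + TrivSqZeroExt.inr v, ?_⟩
    rw [hθ]
    simp only [TrivSqZeroExt.fst_add, TrivSqZeroExt.fst_inl, TrivSqZeroExt.fst_inr, add_zero,
      TrivSqZeroExt.snd_add, TrivSqZeroExt.snd_inl, TrivSqZeroExt.snd_inr, zero_add]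
    rw [hv]
    exact add_sub_cancel _ _
  exact ⟨n, ⟨θa, AlgHom.ext hres⟩, hinj, hsurj⟩

end Iso

section Final

variable [Module.Finite Λ k] {F : Art Λ k ⥤ Type v} (hF : Heps F)

include hF in
theorem bijective_cmp_sqZero {E : Art Λ k} (hσ : Nonempty (base Λ k ⟶ E))
    (hE : IsLocalRing.maximalIdeal E ^ 2 = ⊥) ⦃B A : Art Λ k⦄ (p' : B ⟶ A) (p'' : B ⟶ E)
    (h : IsFibreProd p' p'' (toBase A) (toBase E)) : Function.Bijective (cmp F h) := by
  obtain ⟨σ⟩ := hσ
  obtain ⟨n, θ, hθ⟩ := exists_model σ hE
  haveI : IsIso θ := isIso_of_bijective θ hθ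
  have hθinv : ∀ x : E, θ (inv θ x) = x := fun x => by
    change (inv θ ≫ θ) x = x
    rw [IsIso.inv_hom_id]; rfl
  have hinvθ : ∀ t : T Λ k n, inv θ (θ t) = t := fun t => by
    change (θ ≫ inv θ) t = t
    rw [IsIso.hom_inv_id]; rfl
  have h' : IsFibreProd p' (p'' ≫ inv θ) (toBase A) (toBase (T Λ k n)) := by
    refine ⟨by rw [eq_toBase (p' ≫ _), eq_toBase ((p'' ≫ inv θ) ≫ _)], ?_, ?_⟩
    · intro b₁ b₂ h1 h2
      apply h.inj _ _ h1
      have h2' : inv θ (p'' b₁) = inv θ (p'' b₂) := h2
      rw [← hθinv (p'' b₁), ← hθinv (p'' b₂), h2']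
    · intro a t hat
      have : toBase A a = toBase E (θ t) := by
        change A.res a = E.res (θ t)
        rw [Art.res_app]
        exact hat
      obtain ⟨b, hb1, hb2⟩ := h.surj a (θ t) this
      refine ⟨b, hb1, ?_⟩
      change inv θ (p'' b) = t
      rw [hb2, hinvθ]
  have H := bijective_cmp_T hF n p' (p'' ≫ inv θ) h'
  constructor
  · intro z₁ z₂ hz
    have h1 : F.map p' z₁ = F.map p' z₂ := congrArg (fun t => t.1.1) hz
    have h2 : F.map p'' z₁ = F.map p'' z₂ := congrArg (fun t => t.1.2) hz
    apply H.1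
    apply FibProd.ext
    · exact h1
    · change F.map (p'' ≫ inv θ) z₁ = F.map (p'' ≫ inv θ) z₂
      rw [← map_comp_app, ← map_comp_app, h2]
  · rintro ⟨⟨x, y⟩, hxy⟩
    have hxy' : F.map (toBase A) x = F.map (toBase E) y := hxy
    obtain ⟨z, hz⟩ := H.2 ⟨(x, F.map (inv θ) y), by
      change F.map (toBase A) x = F.map (toBase (T Λ k n)) (F.map (inv θ) y)
      rw [map_comp_app, eq_toBase (inv θ ≫ _)]
      exact hxy'⟩
    have hz1 : F.map p' z = x := congrArg (fun t => t.1.1) hz
    have hz2 : F.map (p'' ≫ inv θ) z = F.map (inv θ) y := congrArg (fun t => t.1.2) hz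
    refine ⟨z, ?_⟩
    apply FibProd.ext
    · exact hz1
    · change F.map p'' z = y
      have := congrArg (F.map θ) hz2
      rwa [map_comp_app, map_comp_app, Category.assoc, IsIso.inv_hom_id, Category.comp_id,
        map_id_app] at this

end Final

end Groth.Agent.Lib.Helper9.TanStr
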