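import Mathlib
import Groth.Prelude.Def_TopMod
import Groth.Prelude.Def_LinTop

set_option autoImplicit false
set_option linter.style.haveILetI false
set_option linter.unusedSectionVars false
universe u v w

open Filter Topology

namespace Groth.Agent.Helper9.TopModLib

section projlift
variable {A : Type*} [CommRing A] (J : Ideal A)

/-- lifting property of a module projective over `A ⧸ J` against surjections of `J`-torsion
`A`-modules. -/
lemma proj_lift {X : Type*} [AddCommGroup X] [Module A X] [Module (A ⧸ J) X]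
    [IsScalarTower A (A ⧸ J) X] [Module.Projective (A ⧸ J) X]
    {P Q : Type*} [AddCommGroup P] [Module A P] [AddCommGroup Q] [Module A Q]
    (hP : Module.IsTorsionBySet A P J) (hQ : Module.IsTorsionBySet A Q J)
    (f : P →ₗ[A] Q) (hf : Function.Surjective f) (g : X →ₗ[A] Q) :
    ∃ h : X →ₗ[A] P, f ∘ₗ h = g := by
  letI : Module (A ⧸ J) P := hP.module
  letI : Module (A ⧸ J) Q := hQ.module
  haveI : IsScalarTower A (A ⧸ J) P := hP.isScalarTower
  haveI : IsScalarTower A (A ⧸ J) Q := hQ.isScalarTower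
  have hs : Function.Surjective (algebraMap A (A ⧸ J)) := Ideal.Quotient.mk_surjective
  obtain ⟨h', hh'⟩ := Module.projective_lifting_property
    (f.extendScalarsOfSurjective hs) (g.extendScalarsOfSurjective hs) hf
  refine ⟨h'.restrictScalars A, ?_⟩
  ext x
  have := LinearMap.congr_fun hh' x
  exact this

end projlift

section core
variable {A : Type u} {M : Type v} {N : Type w}
    [CommRing A] [TopologicalSpace A] [AddCommGroup M] [Module A M]
    [AddCommGroup N] [Module A N]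
    (𝔍 : ℕ → Ideal A)

/-- the discrete quotients of `M` -/
abbrev Mq (M : Type v) [AddCommGroup M] [Module A M] (n : ℕ) : Type v :=
  M ⧸ (𝔍 n • ⊤ : Submodule A M)

/-- projection to the quotient -/
def pr (M : Type v) [AddCommGroup M] [Module A M] (n : ℕ) : M →ₗ[A] Mq 𝔍 M n :=
  Submodule.mkQ _

lemma pr_surjective (n : ℕ) : Function.Surjective (pr 𝔍 M n) := Submodule.mkQ_surjective _

lemma pr_eq_zero_iff (n : ℕ) (x : M) : pr 𝔍 M n x = 0 ↔ x ∈ (𝔍 n • ⊤ : Submodule A M) :=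
  Submodule.Quotient.mk_eq_zero _

variable (h𝔍anti : Antitone 𝔍)

include h𝔍anti in
lemma smul_top_anti (n : ℕ) :
    (𝔍 (n + 1) • ⊤ : Submodule A M) ≤ (𝔍 n • ⊤ : Submodule A M) :=
  Submodule.smul_mono (h𝔍anti (Nat.le_succ n)) le_rfl

/-- transition maps -/
def red (M : Type v) [AddCommGroup M] [Module A M] (n : ℕ) : Mq 𝔍 M (n + 1) →ₗ[A] Mq 𝔍 M n :=
  Submodule.mapQ _ _ LinearMap.id (by
    rw [Submodule.comap_id]; exact smul_top_anti 𝔍 h𝔍anti n)

lemma red_pr (n : ℕ) (x : M) : red 𝔍 h𝔍anti M n (pr 𝔍 M (n + 1) x) = pr 𝔍 M n x := rfl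

lemma red_surjective (n : ℕ) : Function.Surjective (red 𝔍 h𝔍anti M n) := by
  intro y
  obtain ⟨x, rfl⟩ := pr_surjective 𝔍 n y
  exact ⟨pr 𝔍 M (n + 1) x, rfl⟩

end core

section top
variable {A : Type u} {M : Type v}
    [CommRing A] [TopologicalSpace A] [AddCommGroup M] [Module A M] [UniformSpace M]
    [IsUniformAddGroup M] [CompleteSpace M] [T2Space M]
    (𝔍 : ℕ → Ideal A) (h𝔍open : ∀ n, IsOpen (𝔍 n : Set A)) (h𝔍anti : Antitone 𝔍)
    (h𝔍basis : (nhds (0 : A)).HasBasis (fun _ : ℕ => True) (fun n => (𝔍 n : Set A)))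
    (hM : TopMod.IsDeduced A M)

include h𝔍open h𝔍basis hM in
omit [CompleteSpace M] [T2Space M] [IsUniformAddGroup M] in
lemma basis_M : (nhds (0 : M)).HasBasis (fun _ : ℕ => True)
    (fun n => ((𝔍 n • ⊤ : Submodule A M) : Set M)) := by
  refine ⟨fun s => ⟨fun hs => ?_, fun ⟨n, _, hn⟩ => ?_⟩⟩
  · obtain ⟨J, hJ, hJs⟩ := hM.2.mem_iff.1 hs
    obtain ⟨n, _, hn⟩ := h𝔍basis.mem_iff.1 (hJ.mem_nhds J.zero_mem)
    refine ⟨n, trivial, subset_trans ?_ hJs⟩
    exact Submodule.smul_mono (fun a ha => hn ha) le_rfl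
  · exact Filter.mem_of_superset (hM.2.mem_of_mem (h𝔍open n)) hn

include h𝔍open h𝔍basis hM in
lemma lim_unique (x : M) (hx : ∀ n, pr 𝔍 M n x = 0) : x = 0 := by
  by_contra hne
  have h1 : ({x}ᶜ : Set M) ∈ nhds (0 : M) :=
    isOpen_compl_singleton.mem_nhds (by simpa using Ne.symm hne)
  obtain ⟨n, _, hn⟩ := (basis_M 𝔍 h𝔍open h𝔍basis hM).mem_iff.1 h1
  have h2 : x ∈ (𝔍 n • ⊤ : Submodule A M) := (pr_eq_zero_iff 𝔍 n x).1 (hx n)
  exact hn h2 rfl

include h𝔍open h𝔍anti h𝔍basis hM in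
lemma lim_exists (y : ∀ n, Mq 𝔍 M n) (hy : ∀ n, red 𝔍 h𝔍anti M n (y (n + 1)) = y n) :
    ∃ x : M, ∀ n, pr 𝔍 M n x = y n := by
  choose x hx using fun n => pr_surjective 𝔍 n (y n)
  have hanti : ∀ n d, (𝔍 (n + d) • ⊤ : Submodule A M) ≤ (𝔍 n • ⊤ : Submodule A M) :=
    fun n d => Submodule.smul_mono (h𝔍anti (Nat.le_add_right n d)) le_rfl
  have hstep : ∀ n, x (n + 1) - x n ∈ (𝔍 n • ⊤ : Submodule A M) := by
    intro n
    rw [← pr_eq_zero_iff, map_sub, hx n, ← hy n, ← hx (n + 1), red_pr, sub_self]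
  have hdiff : ∀ n d, x (n + d) - x n ∈ (𝔍 n • ⊤ : Submodule A M) := by
    intro n d
    induction d with
    | zero => simp
    | succ d ih =>
      have h1 : x (n + (d + 1)) - x n = (x (n + d + 1) - x (n + d)) + (x (n + d) - x n) := by
        rw [← add_assoc]; abel
      rw [h1]
      exact add_mem (hanti n d (hstep (n + d))) ih
  have hbasis := basis_M 𝔍 h𝔍open h𝔍basis hM
  have hcauchy : CauchySeq x := by
    rw [hbasis.uniformity_of_nhds_zero.cauchySeq_iff]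
    intro n _
    refine ⟨n, fun m hm k hk => ?_⟩
    obtain ⟨d, rfl⟩ := Nat.exists_eq_add_of_le hm
    obtain ⟨e, rfl⟩ := Nat.exists_eq_add_of_le hk
    change x (n + e) - x (n + d) ∈ (𝔍 n • ⊤ : Submodule A M)
    have : x (n + e) - x (n + d) = (x (n + e) - x n) - (x (n + d) - x n) := by abel
    rw [this]
    exact sub_mem (hdiff n e) (hdiff n d)
  obtain ⟨a, ha⟩ := cauchySeq_tendsto_of_complete hcauchy
  refine ⟨a, fun n => ?_⟩
  have hopen : IsOpen (((𝔍 n • ⊤ : Submodule A M).toAddSubgroup : AddSubgroup M) : Set M) :=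
    AddSubgroup.isOpen_of_mem_nhds _ (hbasis.mem_of_mem (i := n) trivial)
  have hclosed : IsClosed (((𝔍 n • ⊤ : Submodule A M).toAddSubgroup : AddSubgroup M) : Set M) :=
    AddSubgroup.isClosed_of_isOpen _ hopen
  have hclosed' : IsClosed {z : M | z - x n ∈ (𝔍 n • ⊤ : Submodule A M)} :=
    hclosed.preimage (continuous_id.sub continuous_const)
  have hmem : a - x n ∈ (𝔍 n • ⊤ : Submodule A M) := by
    refine hclosed'.mem_of_tendsto ha ?_
    filter_upwards [Filter.eventually_ge_atTop n] with k hk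
    obtain ⟨d, rfl⟩ := Nat.exists_eq_add_of_le hk
    exact hdiff n d
  rw [← hx n, ← sub_eq_zero, ← map_sub, pr_eq_zero_iff]
  exact hmem

end top


section assemble
variable {A : Type u} {M : Type v} {N : Type w}
    [CommRing A] [TopologicalSpace A] [AddCommGroup M] [Module A M] [UniformSpace M]
    [IsUniformAddGroup M] [CompleteSpace M] [T2Space M] [AddCommGroup N] [Module A N]
    (𝔍 : ℕ → Ideal A) (h𝔍open : ∀ n, IsOpen (𝔍 n : Set A)) (h𝔍anti : Antitone 𝔍)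
    (h𝔍basis : (nhds (0 : A)).HasBasis (fun _ : ℕ => True) (fun n => (𝔍 n : Set A)))
    (hM : TopMod.IsDeduced A M) (u : M →ₗ[A] N)

include h𝔍open h𝔍anti h𝔍basis hM in
lemma assemble (wn : ∀ n, N →ₗ[A] Mq 𝔍 M n)
    (hcompat : ∀ n y, red 𝔍 h𝔍anti M n (wn (n + 1) y) = wn n y)
    (hleft : ∀ n x, wn n (u x) = pr 𝔍 M n x) :
    ∃ W : N →ₗ[A] M, ∀ x, W (u x) = x := by
  choose W hW using fun y : N =>
    lim_exists 𝔍 h𝔍open h𝔍anti h𝔍basis hM (fun n => wn n y) (fun n => hcompat n y)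
  have huniq : ∀ a b : M, (∀ n, pr 𝔍 M n a = pr 𝔍 M n b) → a = b := by
    intro a b hab
    have := lim_unique 𝔍 h𝔍open h𝔍basis hM (a - b) (fun n => by rw [map_sub, hab n, sub_self])
    exact sub_eq_zero.1 this
  refine ⟨{ toFun := W, map_add' := fun y y' => ?_, map_smul' := fun a y => ?_ }, fun x => ?_⟩
  · apply huniq
    intro n
    rw [map_add, hW, hW, hW, map_add]
  · apply huniq
    intro n
    rw [RingHom.id_apply, map_smul, hW, hW, map_smul]
  · apply huniq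
    intro n
    change pr 𝔍 M n (W (u x)) = _
    rw [hW, hleft]

/-- lifting hypothesis at level `n` -/
def LiftHyp (n : ℕ) : Prop :=
  ∀ δ : N →ₗ[A] Mq 𝔍 M n, (∀ x, δ (u x) = 0) →
    ∃ δ' : N →ₗ[A] Mq 𝔍 M (n + 1), (∀ x, δ' (u x) = 0) ∧ ∀ y, red 𝔍 h𝔍anti M n (δ' y) = δ y

/-- level `n` left inverses -/
def LeftInv (n : ℕ) : Type _ := {wn : N →ₗ[A] Mq 𝔍 M n // ∀ x, wn (u x) = pr 𝔍 M n x}

lemma step_leftInv (n : ℕ) (hL : Nonempty (LeftInv 𝔍 u (n + 1))) (hH : LiftHyp 𝔍 h𝔍anti u n)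
    (wn : LeftInv 𝔍 u n) :
    ∃ wn' : LeftInv 𝔍 u (n + 1), ∀ y, red 𝔍 h𝔍anti M n (wn'.1 y) = wn.1 y := by
  obtain ⟨w', hw'⟩ := hL
  obtain ⟨δ', hδ'u, hδ'⟩ := hH ((red 𝔍 h𝔍anti M n) ∘ₗ w' - wn.1) (fun x => by
    rw [LinearMap.sub_apply, LinearMap.comp_apply, hw', wn.2, red_pr, sub_self])
  refine ⟨⟨w' - δ', fun x => ?_⟩, fun y => ?_⟩
  · rw [LinearMap.sub_apply, hw', hδ'u, sub_zero]
  · change red 𝔍 h𝔍anti M n ((w' - δ') y) = _
    rw [LinearMap.sub_apply, map_sub, hδ', LinearMap.sub_apply, LinearMap.comp_apply]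
    abel

/-- the compatible sequence of left inverses -/
noncomputable def seqLeftInv (hL : ∀ n, Nonempty (LeftInv 𝔍 u n))
    (hH : ∀ n, LiftHyp 𝔍 h𝔍anti u n) : ∀ n, LeftInv 𝔍 u n
  | 0 => (hL 0).some
  | n + 1 => Classical.choose (step_leftInv 𝔍 h𝔍anti u n (hL (n + 1)) (hH n) (seqLeftInv hL hH n))

lemma seqLeftInv_spec (hL : ∀ n, Nonempty (LeftInv 𝔍 u n))
    (hH : ∀ n, LiftHyp 𝔍 h𝔍anti u n) (n : ℕ) (y : N) :
    red 𝔍 h𝔍anti M n ((seqLeftInv 𝔍 h𝔍anti u hL hH (n + 1)).1 y) =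
      (seqLeftInv 𝔍 h𝔍anti u hL hH n).1 y :=
  Classical.choose_spec
    (step_leftInv 𝔍 h𝔍anti u n (hL (n + 1)) (hH n) (seqLeftInv 𝔍 h𝔍anti u hL hH n)) y

include h𝔍open h𝔍basis hM in
theorem core_main (hL : ∀ n, Nonempty (LeftInv 𝔍 u n))
    (hH : ∀ n, LiftHyp 𝔍 h𝔍anti u n) : ∃ W : N →ₗ[A] M, ∀ x, W (u x) = x :=
  assemble 𝔍 h𝔍open h𝔍anti h𝔍basis hM u (fun n => (seqLeftInv 𝔍 h𝔍anti u hL hH n).1)
    (seqLeftInv_spec 𝔍 h𝔍anti u hL hH) (fun n => (seqLeftInv 𝔍 h𝔍anti u hL hH n).2)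

end assemble


section s5838
variable {A : Type u} {M : Type v} {N : Type w}
    [CommRing A] [TopologicalSpace A] [AddCommGroup M] [Module A M] [UniformSpace M]
    [IsUniformAddGroup M] [CompleteSpace M] [T2Space M] [AddCommGroup N] [Module A N]
    [TopologicalSpace N]
    (𝔍 : ℕ → Ideal A) (h𝔍open : ∀ n, IsOpen (𝔍 n : Set A)) (h𝔍anti : Antitone 𝔍)
    (h𝔍basis : (nhds (0 : A)).HasBasis (fun _ : ℕ => True) (fun n => (𝔍 n : Set A)))
    (hM : TopMod.IsDeduced A M) (hN : TopMod.IsDeduced A N) (u : M →L[A] N)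

lemma torsion_Mq (n : ℕ) : Module.IsTorsionBySet A (Mq 𝔍 M n) (𝔍 n) :=
  Module.isTorsionBySet_quotient_ideal_smul M (𝔍 n)

include h𝔍anti in
lemma torsion_Mq_succ (n : ℕ) : Module.IsTorsionBySet A (Mq 𝔍 M n) (𝔍 (n + 1)) := by
  intro x a
  exact torsion_Mq 𝔍 n (x := x) (a := ⟨a.1, h𝔍anti (Nat.le_succ n) a.2⟩)

include h𝔍open h𝔍basis hM in
lemma continuous_pr (n : ℕ) :
    @Continuous M (Mq 𝔍 M n) _ ⊥ (pr 𝔍 M n) := by
  letI : TopologicalSpace (Mq 𝔍 M n) := ⊥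
  haveI : DiscreteTopology (Mq 𝔍 M n) := ⟨rfl⟩
  rw [continuous_discrete_rng]
  intro b
  obtain ⟨x₀, rfl⟩ := pr_surjective 𝔍 n b
  have hbasis := basis_M 𝔍 h𝔍open h𝔍basis hM
  have hopen : IsOpen (((𝔍 n • ⊤ : Submodule A M).toAddSubgroup : AddSubgroup M) : Set M) :=
    AddSubgroup.isOpen_of_mem_nhds _ (hbasis.mem_of_mem (i := n) trivial)
  have : (pr 𝔍 M n) ⁻¹' {pr 𝔍 M n x₀} =
      (fun z : M => z - x₀) ⁻¹' (((𝔍 n • ⊤ : Submodule A M).toAddSubgroup : AddSubgroup M) : Set M) := by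
    ext z
    simp only [Set.mem_preimage, Set.mem_singleton_iff]
    rw [← sub_eq_zero, ← map_sub, pr_eq_zero_iff]
    rfl
  rw [this]
  exact hopen.preimage (continuous_id.sub continuous_const)

include h𝔍open h𝔍basis hM in
lemma leftInv_of_formally (h : TopMod.IsFormallyLeftInvertible u) (n : ℕ) :
    Nonempty (LeftInv 𝔍 u.toLinearMap n) := by
  letI : TopologicalSpace (Mq 𝔍 M n) := ⊥
  haveI : DiscreteTopology (Mq 𝔍 M n) := ⟨rfl⟩
  obtain ⟨w, hw⟩ := h (Mq 𝔍 M n) ⟨pr 𝔍 M n, continuous_pr 𝔍 h𝔍open h𝔍basis hM n⟩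
  exact ⟨⟨w.toLinearMap, fun x => hw x⟩⟩

include h𝔍anti in
lemma liftHyp_of_coker (n : ℕ)
    (hcoker : Module.Projective (A ⧸ 𝔍 (n + 1))
      ((N ⧸ LinearMap.range u.toLinearMap) ⧸
        (𝔍 (n + 1) • (⊤ : Submodule A (N ⧸ LinearMap.range u.toLinearMap))))) :
    LiftHyp 𝔍 h𝔍anti u.toLinearMap n := by
  intro δ hδ
  have h1 : LinearMap.range u.toLinearMap ≤ LinearMap.ker δ := by
    rintro _ ⟨x, rfl⟩
    exact hδ x
  let δ1 : (N ⧸ LinearMap.range u.toLinearMap) →ₗ[A] Mq 𝔍 M n :=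
    (LinearMap.range u.toLinearMap).liftQ δ h1
  have h2 : (𝔍 (n + 1) • (⊤ : Submodule A (N ⧸ LinearMap.range u.toLinearMap))) ≤
      LinearMap.ker δ1 := by
    rw [Submodule.smul_le]
    intro a ha c _
    rw [LinearMap.mem_ker, map_smul]
    exact torsion_Mq_succ 𝔍 h𝔍anti n (x := δ1 c) (a := ⟨a, ha⟩)
  let g := (𝔍 (n + 1) • (⊤ : Submodule A (N ⧸ LinearMap.range u.toLinearMap))).liftQ δ1 h2
  obtain ⟨hh, hhg⟩ := proj_lift (𝔍 (n + 1)) (torsion_Mq 𝔍 (n + 1)) (torsion_Mq_succ 𝔍 h𝔍anti n)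
    (red 𝔍 h𝔍anti M n) (red_surjective 𝔍 h𝔍anti n) g
  refine ⟨hh ∘ₗ (Submodule.mkQ _) ∘ₗ (Submodule.mkQ _), fun x => ?_, fun y => ?_⟩
  · simp only [LinearMap.comp_apply]
    have : (LinearMap.range u.toLinearMap).mkQ (u.toLinearMap x) = 0 := by
      rw [Submodule.mkQ_apply, Submodule.Quotient.mk_eq_zero]
      exact ⟨x, rfl⟩
    rw [this, map_zero, map_zero]
  · have := LinearMap.congr_fun hhg
      ((Submodule.mkQ _) ((LinearMap.range u.toLinearMap).mkQ y))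
    simp only [LinearMap.comp_apply] at this ⊢
    rw [this]
    rfl

include hM hN in
lemma formally_of_leftInv (W : N →ₗ[A] M) (hW : ∀ x, W (u x) = x) :
    TopMod.IsFormallyLeftInvertible u := by
  intro E _ _ _ _ v
  have hker : (LinearMap.ker v.toLinearMap : Set M) ∈ nhds (0 : M) := by
    have : (LinearMap.ker v.toLinearMap : Set M) = v ⁻¹' {0} := by
      ext x; simp
    rw [this]
    exact (v.continuous.isOpen_preimage _ (isOpen_discrete _)).mem_nhds (by simp)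
  obtain ⟨J, hJ, hJs⟩ := hM.2.mem_iff.1 hker
  haveI := hN.1
  have hcont : Continuous (v.toLinearMap ∘ₗ W) := by
    apply continuous_of_continuousAt_zero (v.toLinearMap ∘ₗ W).toAddMonoidHom
    rw [ContinuousAt]
    change Filter.Tendsto (v.toLinearMap ∘ₗ W) (nhds 0) (nhds ((v.toLinearMap ∘ₗ W) 0))
    rw [map_zero, nhds_discrete E, Filter.tendsto_pure]
    have hmem : ((J • ⊤ : Submodule A N) : Set N) ∈ nhds (0 : N) := hN.2.mem_of_mem hJ
    filter_upwards [hmem] with y hy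
    have h1 : W y ∈ (J • ⊤ : Submodule A M) := by
      have : W y ∈ (J • ⊤ : Submodule A N).map W := Submodule.mem_map_of_mem hy
      rw [Submodule.map_smul''] at this
      exact Submodule.smul_mono le_rfl le_top this
    have h2 := hJs h1
    exact h2
  exact ⟨⟨v.toLinearMap ∘ₗ W, hcont⟩, fun x => by
    change v (W (u x)) = v x
    rw [hW]⟩

include h𝔍open h𝔍anti h𝔍basis hM hN in
theorem main5838
    (hcoker : ∀ n, Module.Projective (A ⧸ 𝔍 n)
      ((N ⧸ LinearMap.range u.toLinearMap) ⧸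
        (𝔍 n • (⊤ : Submodule A (N ⧸ LinearMap.range u.toLinearMap))))) :
    TopMod.IsFormallyLeftInvertible u ↔ ∃ w : N →ₗ[A] M, ∀ x : M, w (u x) = x := by
  constructor
  · intro h
    exact core_main 𝔍 h𝔍open h𝔍anti h𝔍basis hM u.toLinearMap
      (leftInv_of_formally 𝔍 h𝔍open h𝔍basis hM u h)
      (fun n => liftHyp_of_coker 𝔍 h𝔍anti u n (hcoker (n + 1)))
  · rintro ⟨W, hW⟩
    exact formally_of_leftInv hM hN u W hW

end s5838

end Groth.Agent.Helper9.TopModLib
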