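import Mathlib
import Groth.Prelude.Def_TopMod
import Groth.Prelude.Def_LinTop
import Groth.Agent.Lib.Helper9.TopModLib

set_option autoImplicit false
set_option linter.style.haveILetI false
set_option linter.unusedSectionVars false
universe u v w

open Filter Topology

namespace Groth.Agent.Helper9.TopModLib

section levelJ
variable {A : Type u} {M : Type v} {N : Type w}
    [CommRing A] [AddCommGroup M] [Module A M] [AddCommGroup N] [Module A N]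

lemma torsion_quot (J : Ideal A) (M : Type v) [AddCommGroup M] [Module A M] :
    Module.IsTorsionBySet A (M ⧸ (J • ⊤ : Submodule A M)) J :=
  Module.isTorsionBySet_quotient_ideal_smul M J

lemma torsion_quot_of_le {J K : Ideal A} (h : J ≤ K) (M : Type v) [AddCommGroup M] [Module A M] :
    Module.IsTorsionBySet A (M ⧸ (K • ⊤ : Submodule A M)) J := by
  intro x a
  exact torsion_quot K M (x := x) (a := ⟨a.1, h a.2⟩)

lemma smul_top_quot_eq_bot (J : Ideal A) (M : Type v) [AddCommGroup M] [Module A M] :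
    (J • ⊤ : Submodule A (M ⧸ (J • ⊤ : Submodule A M))) = ⊥ := by
  rw [eq_bot_iff, Submodule.smul_le]
  intro a ha q _
  rw [Submodule.mem_bot]
  exact torsion_quot J M (x := q) (a := ⟨a, ha⟩)

/-- the factor map `M/JM → M/KM` for `J ≤ K` -/
def fac {J K : Ideal A} (h : J ≤ K) (M : Type v) [AddCommGroup M] [Module A M] :
    (M ⧸ (J • ⊤ : Submodule A M)) →ₗ[A] (M ⧸ (K • ⊤ : Submodule A M)) :=
  Submodule.mapQ _ _ LinearMap.id (by
    rw [Submodule.comap_id]; exact Submodule.smul_mono h le_rfl)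

lemma fac_mk {J K : Ideal A} (h : J ≤ K) (x : M) :
    fac h M (Submodule.Quotient.mk x) = Submodule.Quotient.mk x := rfl

lemma fac_surjective {J K : Ideal A} (h : J ≤ K) : Function.Surjective (fac h M) := by
  intro y
  obtain ⟨x, rfl⟩ := Submodule.Quotient.mk_surjective _ y
  exact ⟨Submodule.Quotient.mk x, rfl⟩

lemma ker_fac_le {J K : Ideal A} (h : J ≤ K) (q : M ⧸ (J • ⊤ : Submodule A M))
    (hq : fac h M q = 0) : q ∈ (K • ⊤ : Submodule A (M ⧸ (J • ⊤ : Submodule A M))) := by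
  obtain ⟨x, rfl⟩ := Submodule.Quotient.mk_surjective _ q
  rw [fac_mk, Submodule.Quotient.mk_eq_zero] at hq
  have h1 : (Submodule.mkQ (J • ⊤ : Submodule A M)) x ∈
      (K • ⊤ : Submodule A M).map (Submodule.mkQ (J • ⊤ : Submodule A M)) :=
    Submodule.mem_map_of_mem hq
  rw [Submodule.map_smul''] at h1
  exact Submodule.smul_mono le_rfl le_top h1

theorem levelJ_leftInv (J 𝔏 : Ideal A) (hJ𝔏 : J ≤ 𝔏) (k : ℕ) (hk : 𝔏 ^ k ≤ J) (u : M →ₗ[A] N)
    (hproj : Module.Projective (A ⧸ J) (N ⧸ (J • ⊤ : Submodule A N)))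
    (w₀ : N →ₗ[A] M ⧸ (𝔏 • ⊤ : Submodule A M))
    (hw₀ : ∀ x, w₀ (u x) = Submodule.Quotient.mk x) :
    ∃ wJ : N →ₗ[A] M ⧸ (J • ⊤ : Submodule A M), ∀ x, wJ (u x) = Submodule.Quotient.mk x := by
  -- factor w₀ through N/JN
  have h1 : (J • ⊤ : Submodule A N) ≤ LinearMap.ker w₀ := by
    rw [Submodule.smul_le]
    intro a ha y _
    rw [LinearMap.mem_ker, map_smul]
    exact torsion_quot_of_le hJ𝔏 M (x := w₀ y) (a := ⟨a, ha⟩)
  let g := (J • ⊤ : Submodule A N).liftQ w₀ h1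
  obtain ⟨hh, hhg⟩ := proj_lift J (torsion_quot J M) (torsion_quot_of_le hJ𝔏 M)
    (fac hJ𝔏 M) (fac_surjective hJ𝔏) g
  let w' : N →ₗ[A] M ⧸ (J • ⊤ : Submodule A M) := hh ∘ₗ Submodule.mkQ _
  have hw' : ∀ y, fac hJ𝔏 M (w' y) = w₀ y := by
    intro y
    have := LinearMap.congr_fun hhg (Submodule.mkQ _ y)
    simp only [LinearMap.comp_apply] at this
    exact this
  -- the endomorphism e
  have h2 : (J • ⊤ : Submodule A M) ≤ LinearMap.ker (w' ∘ₗ u) := by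
    rw [Submodule.smul_le]
    intro a ha x _
    rw [LinearMap.mem_ker, map_smul]
    exact torsion_quot J M (x := (w' ∘ₗ u) x) (a := ⟨a, ha⟩)
  let e : Module.End A (M ⧸ (J • ⊤ : Submodule A M)) := (J • ⊤ : Submodule A M).liftQ (w' ∘ₗ u) h2
  have he : ∀ x, e (Submodule.Quotient.mk x) = w' (u x) := fun x => rfl
  have hρe : ∀ q, fac hJ𝔏 M (e q) = fac hJ𝔏 M q := by
    intro q
    obtain ⟨x, rfl⟩ := Submodule.Quotient.mk_surjective _ q
    rw [he, hw', hw₀, fac_mk]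
  set ν : Module.End A (M ⧸ (J • ⊤ : Submodule A M)) := e - 1 with hν
  have hνmem : ∀ q, ν q ∈ (𝔏 • ⊤ : Submodule A (M ⧸ (J • ⊤ : Submodule A M))) := by
    intro q
    apply ker_fac_le hJ𝔏
    rw [hν, LinearMap.sub_apply, map_sub, hρe, Module.End.one_apply, sub_self]
  have hpow : ∀ i q, (ν ^ i) q ∈ (𝔏 ^ i • ⊤ : Submodule A (M ⧸ (J • ⊤ : Submodule A M))) := by
    intro i
    induction i with
    | zero => intro q; simp
    | succ i ih =>
      intro q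
      have hq : (ν ^ (i + 1)) q = ν ((ν ^ i) q) := by rw [pow_succ', Module.End.mul_apply]
      rw [hq]
      have h3 : ν ((ν ^ i) q) ∈
          (𝔏 ^ i • ⊤ : Submodule A (M ⧸ (J • ⊤ : Submodule A M))).map ν :=
        Submodule.mem_map_of_mem (ih q)
      rw [Submodule.map_smul''] at h3
      have h4 : (⊤ : Submodule A (M ⧸ (J • ⊤ : Submodule A M))).map ν ≤
          (𝔏 • ⊤ : Submodule A (M ⧸ (J • ⊤ : Submodule A M))) := by
        rintro _ ⟨q', _, rfl⟩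
        exact hνmem q'
      have h5 := Submodule.smul_mono (le_refl (𝔏 ^ i)) h4 h3
      rw [← Submodule.mul_smul, ← pow_succ] at h5
      exact h5
  have hnil : IsNilpotent ν := by
    refine ⟨k, LinearMap.ext fun q => ?_⟩
    have h6 := Submodule.smul_mono hk (le_refl ⊤) (hpow k q)
    rw [smul_top_quot_eq_bot, Submodule.mem_bot] at h6
    simpa using h6
  have hunit : IsUnit e := by
    have : e = 1 + ν := by rw [hν]; abel
    rw [this]
    exact hnil.isUnit_one_add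
  have h21 : (↑hunit.unit⁻¹ : Module.End A (M ⧸ (J • ⊤ : Submodule A M))) * e = 1 :=
    IsUnit.val_inv_mul hunit
  refine ⟨(↑hunit.unit⁻¹ : Module.End A (M ⧸ (J • ⊤ : Submodule A M))) ∘ₗ w', fun x => ?_⟩
  rw [LinearMap.comp_apply, ← he x, ← Module.End.mul_apply, h21, Module.End.one_apply]

end levelJ


section s5839
variable {A : Type u} {M : Type v} {N : Type w}
    [CommRing A] [TopologicalSpace A] [AddCommGroup M] [Module A M] [UniformSpace M]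
    [IsUniformAddGroup M] [CompleteSpace M] [T2Space M] [AddCommGroup N] [Module A N]
    (𝔍 : ℕ → Ideal A) (h𝔍open : ∀ n, IsOpen (𝔍 n : Set A)) (h𝔍anti : Antitone 𝔍)
    (h𝔍basis : (nhds (0 : A)).HasBasis (fun _ : ℕ => True) (fun n => (𝔍 n : Set A)))
    (hM : TopMod.IsDeduced A M) (u : M →ₗ[A] N)
    (𝔏 : Ideal A) (h𝔏 : LinTop.IsIdealOfDefinition A 𝔏)
    (hproj : ∀ J : Ideal A, IsOpen (J : Set A) →
      Module.Projective (A ⧸ J) (N ⧸ (J • (⊤ : Submodule A N))))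

include h𝔍open h𝔏 hproj in
lemma leftInv_of_w0 (w₀ : N →ₗ[A] M ⧸ (𝔏 • ⊤ : Submodule A M))
    (hw₀ : ∀ x, w₀ (u x) = Submodule.Quotient.mk x) (n : ℕ) :
    Nonempty (LeftInv 𝔍 u n) := by
  have hJopen : IsOpen ((𝔍 n ⊓ 𝔏 : Ideal A) : Set A) := (h𝔍open n).inter h𝔏.1
  obtain ⟨k, -, hk⟩ := h𝔏.2 _ (hJopen.mem_nhds (Ideal.zero_mem _))
  obtain ⟨wJ, hwJ⟩ := levelJ_leftInv (𝔍 n ⊓ 𝔏) 𝔏 inf_le_right k (fun a ha => hk ha) u
    (hproj _ hJopen) w₀ hw₀
  refine ⟨⟨fac (inf_le_left : 𝔍 n ⊓ 𝔏 ≤ 𝔍 n) M ∘ₗ wJ, fun x => ?_⟩⟩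
  rw [LinearMap.comp_apply, hwJ, fac_mk]
  rfl

include h𝔍open hproj in
lemma liftHyp_of_proj (n : ℕ) (hL : Nonempty (LeftInv 𝔍 u (n + 1))) :
    LiftHyp 𝔍 h𝔍anti u n := by
  intro δ hδ
  obtain ⟨w', hw'⟩ := hL
  have h1 : (𝔍 (n + 1) • ⊤ : Submodule A N) ≤ LinearMap.ker δ := by
    rw [Submodule.smul_le]
    intro a ha y _
    rw [LinearMap.mem_ker, map_smul]
    exact torsion_Mq_succ 𝔍 h𝔍anti n (x := δ y) (a := ⟨a, ha⟩)
  let g := (𝔍 (n + 1) • ⊤ : Submodule A N).liftQ δ h1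
  haveI := hproj _ (h𝔍open (n + 1))
  obtain ⟨hh, hhg⟩ := proj_lift (𝔍 (n + 1)) (torsion_Mq 𝔍 (n + 1)) (torsion_Mq_succ 𝔍 h𝔍anti n)
    (red 𝔍 h𝔍anti M n) (red_surjective 𝔍 h𝔍anti n) g
  let δ' : N →ₗ[A] Mq 𝔍 M (n + 1) := hh ∘ₗ Submodule.mkQ _
  have hδ' : ∀ y, red 𝔍 h𝔍anti M n (δ' y) = δ y := by
    intro y
    have := LinearMap.congr_fun hhg (Submodule.mkQ _ y)
    simp only [LinearMap.comp_apply] at this
    exact this
  have h2 : (𝔍 (n + 1) • ⊤ : Submodule A M) ≤ LinearMap.ker (δ' ∘ₗ u) := by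
    rw [Submodule.smul_le]
    intro a ha x _
    rw [LinearMap.mem_ker, map_smul]
    exact torsion_Mq 𝔍 (n + 1) (x := (δ' ∘ₗ u) x) (a := ⟨a, ha⟩)
  let ε : Mq 𝔍 M (n + 1) →ₗ[A] Mq 𝔍 M (n + 1) :=
    (𝔍 (n + 1) • ⊤ : Submodule A M).liftQ (δ' ∘ₗ u) h2
  have hε : ∀ x, ε (pr 𝔍 M (n + 1) x) = δ' (u x) := fun x => rfl
  have hredε : ∀ q, red 𝔍 h𝔍anti M n (ε q) = 0 := by
    intro q
    obtain ⟨x, rfl⟩ := pr_surjective 𝔍 (n + 1) q
    rw [hε, hδ', hδ]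
  refine ⟨δ' - ε ∘ₗ w', fun x => ?_, fun y => ?_⟩
  · change δ' (u x) - ε (w' (u x)) = 0
    rw [hw', hε, sub_self]
  · change red 𝔍 h𝔍anti M n (δ' y - ε (w' y)) = δ y
    rw [map_sub, hδ', hredε, sub_zero]

include h𝔍open h𝔍anti h𝔍basis hM h𝔏 hproj in
theorem main5839 :
    (∃ w : N →ₗ[A] M, ∀ x : M, w (u x) = x) ↔
      ∃ w₀ : N →ₗ[A] M ⧸ (𝔏 • ⊤ : Submodule A M), ∀ x : M, w₀ (u x) = Submodule.Quotient.mk x := by
  constructor
  · rintro ⟨w, hw⟩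
    exact ⟨Submodule.mkQ _ ∘ₗ w, fun x => by rw [LinearMap.comp_apply, hw]; rfl⟩
  · rintro ⟨w₀, hw₀⟩
    have hL := leftInv_of_w0 𝔍 h𝔍open u 𝔏 h𝔏 hproj w₀ hw₀
    exact core_main 𝔍 h𝔍open h𝔍anti h𝔍basis hM u hL
      (fun n => liftHyp_of_proj 𝔍 h𝔍open h𝔍anti u hproj n (hL (n + 1)))

end s5839

end Groth.Agent.Helper9.TopModLib
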