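import Mathlib
import Groth.Prelude.Def_TopMod
import Groth.Prelude.Def_LinTop
import Groth.Agent.Lib.Helper9.TopModLib2

set_option autoImplicit false
set_option linter.style.haveILetI false
set_option linter.unusedSectionVars false
universe u v w

open Filter Topology

namespace Groth.Agent.Helper9.TopModLib

section gen
variable {A : Type u} {M : Type v} {N : Type w}
    [CommRing A] [TopologicalSpace A] [AddCommGroup M] [Module A M] [TopologicalSpace M]
    [AddCommGroup N] [Module A N] [TopologicalSpace N]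
    (hM : TopMod.IsDeduced A M) (hN : TopMod.IsDeduced A N) (u : M →L[A] N)

/-- an additive map to a discrete group killing `J • ⊤` for an open ideal `J` is continuous -/
lemma continuous_of_kills {E : Type*} [AddCommGroup E] [TopologicalSpace E] [DiscreteTopology E]
    (hN : TopMod.IsDeduced A N) (f : N →+ E) (J : Ideal A) (hJ : IsOpen (J : Set A))
    (hf : ∀ y ∈ (J • ⊤ : Submodule A N), f y = 0) : Continuous f := by
  haveI := hN.1
  apply continuous_of_continuousAt_zero f
  rw [ContinuousAt, map_zero, nhds_discrete E, Filter.tendsto_pure]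
  have hmem : ((J • ⊤ : Submodule A N) : Set N) ∈ nhds (0 : N) := hN.2.mem_of_mem hJ
  filter_upwards [hmem] with y hy
  exact hf y hy

include hM in
lemma continuous_mkQ (J : Ideal A) (hJ : IsOpen (J : Set A)) :
    @Continuous M (M ⧸ (J • ⊤ : Submodule A M)) _ ⊥ (Submodule.mkQ (J • ⊤ : Submodule A M)) := by
  letI : TopologicalSpace (M ⧸ (J • ⊤ : Submodule A M)) := ⊥
  haveI : DiscreteTopology (M ⧸ (J • ⊤ : Submodule A M)) := ⟨rfl⟩
  refine continuous_of_kills hM (Submodule.mkQ (J • ⊤ : Submodule A M)).toAddMonoidHom J hJ ?_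
  intro y hy
  exact (Submodule.Quotient.mk_eq_zero _).2 hy

include hM hN in
theorem main5826 :
    TopMod.IsFormallyLeftInvertible u ↔
      ∀ J : Ideal A, IsOpen (J : Set A) →
        ∃ w : N →ₗ[A] M ⧸ (J • ⊤ : Submodule A M),
          ∀ x : M, w (u x) = Submodule.Quotient.mk x := by
  constructor
  · intro h J hJ
    letI : TopologicalSpace (M ⧸ (J • ⊤ : Submodule A M)) := ⊥
    haveI : DiscreteTopology (M ⧸ (J • ⊤ : Submodule A M)) := ⟨rfl⟩
    obtain ⟨w, hw⟩ := h (M ⧸ (J • ⊤ : Submodule A M)) ⟨Submodule.mkQ _, continuous_mkQ hM J hJ⟩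
    exact ⟨w.toLinearMap, fun x => hw x⟩
  · intro h E _ _ _ _ v
    have hker : (LinearMap.ker v.toLinearMap : Set M) ∈ nhds (0 : M) := by
      have : (LinearMap.ker v.toLinearMap : Set M) = v ⁻¹' {0} := by
        ext x; simp
      rw [this]
      exact (v.continuous.isOpen_preimage _ (isOpen_discrete _)).mem_nhds (by simp)
    obtain ⟨J, hJ, hJs⟩ := hM.2.mem_iff.1 hker
    obtain ⟨wJ, hwJ⟩ := h J hJ
    have hle : (J • ⊤ : Submodule A M) ≤ LinearMap.ker v.toLinearMap := fun x hx => hJs hx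
    let vbar : (M ⧸ (J • ⊤ : Submodule A M)) →ₗ[A] E :=
      (J • ⊤ : Submodule A M).liftQ v.toLinearMap hle
    have hcont : Continuous (vbar ∘ₗ wJ) := by
      refine continuous_of_kills hN (vbar ∘ₗ wJ).toAddMonoidHom J hJ ?_
      intro y hy
      have h1 : wJ y ∈ (J • ⊤ : Submodule A (M ⧸ (J • ⊤ : Submodule A M))) := by
        have : wJ y ∈ (J • ⊤ : Submodule A N).map wJ := Submodule.mem_map_of_mem hy
        rw [Submodule.map_smul''] at this
        exact Submodule.smul_mono le_rfl le_top this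
      rw [smul_top_quot_eq_bot, Submodule.mem_bot] at h1
      change vbar (wJ y) = 0
      rw [h1, map_zero]
    refine ⟨⟨vbar ∘ₗ wJ, hcont⟩, fun x => ?_⟩
    change vbar (wJ (u x)) = v x
    rw [hwJ]
    rfl

include hM hN in
theorem main5827 (𝔏 : Ideal A) (h𝔏 : LinTop.IsIdealOfDefinition A 𝔏)
    (hproj : ∀ J : Ideal A, IsOpen (J : Set A) →
      Module.Projective (A ⧸ J) (N ⧸ (J • (⊤ : Submodule A N)))) :
    TopMod.IsFormallyLeftInvertible u ↔
      ∃ w : N →ₗ[A] M ⧸ (𝔏 • ⊤ : Submodule A M),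
        ∀ x : M, w (u x) = Submodule.Quotient.mk x := by
  rw [main5826 hM hN u]
  constructor
  · intro h
    exact h 𝔏 h𝔏.1
  · rintro ⟨w₀, hw₀⟩ J hJ
    have hJopen : IsOpen ((J ⊓ 𝔏 : Ideal A) : Set A) := hJ.inter h𝔏.1
    obtain ⟨k, -, hk⟩ := h𝔏.2 _ (hJopen.mem_nhds (Ideal.zero_mem _))
    obtain ⟨wJ, hwJ⟩ := levelJ_leftInv (J ⊓ 𝔏) 𝔏 inf_le_right k (fun a ha => hk ha)
      u.toLinearMap (hproj _ hJopen) w₀ hw₀
    refine ⟨fac (inf_le_left : J ⊓ 𝔏 ≤ J) M ∘ₗ wJ, fun x => ?_⟩
    rw [LinearMap.comp_apply]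
    have := hwJ x
    change wJ (u x) = _ at this
    rw [this, fac_mk]

end gen

section der
variable {A : Type u} {B : Type v} {L : Type w} [CommRing A] [CommRing B]
    [Algebra A B] [AddCommGroup L] [Module A L] [Module B L] [IsScalarTower A B L] [TopologicalSpace B]
    [IsTopologicalRing B] [TopologicalSpace L] [DiscreteTopology L] [ContinuousAdd L]
    [ContinuousConstSMul B L]

theorem main5829
    (hsq : ∀ I : Ideal B, IsOpen (I : Set B) → IsOpen ((I ^ 2 : Ideal B) : Set B))
    (K : Ideal B) (hK : IsOpen (K : Set B)) (hKL : ∀ x ∈ K, ∀ z : L, x • z = 0) :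
    TopMod.DerCont A B L = ⊤ := by
  rw [eq_top_iff]
  intro D _
  change Continuous D
  have hkill : ∀ b ∈ (K ^ 2 : Ideal B), D b = 0 := by
    intro b hb
    rw [pow_two] at hb
    refine Submodule.mul_induction_on hb ?_ ?_
    · intro x hx y hy
      rw [Derivation.leibniz, hKL x hx, hKL y hy, add_zero]
    · intro x y hx hy
      rw [map_add, hx, hy, add_zero]
  have hopen := hsq K hK
  have h0 : Continuous (D : B →+ L) := by
    apply continuous_of_continuousAt_zero (D : B →+ L)
    rw [ContinuousAt, map_zero, nhds_discrete L, Filter.tendsto_pure]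
    have hmem : ((K ^ 2 : Ideal B) : Set B) ∈ nhds (0 : B) := hopen.mem_nhds (Ideal.zero_mem _)
    filter_upwards [hmem] with y hy
    exact hkill y hy
  exact h0

end der

end Groth.Agent.Helper9.TopModLib
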