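import Mathlib
import Groth.Prelude.Def_TopMod

set_option autoImplicit false
set_option linter.style.haveILetI false
set_option linter.unusedSectionVars false
universe u v w

open Filter Topology

namespace Groth.Agent.Helper9.TopModLib

section dense
variable {A : Type u} {M : Type v} {N : Type w}
    [CommRing A] [TopologicalSpace A] [AddCommGroup M] [Module A M] [TopologicalSpace M]
    [AddCommGroup N] [Module A N] [TopologicalSpace N]
    (hM : TopMod.IsDeduced A M) (hN : TopMod.IsDeduced A N) (u : M →L[A] N)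

include hN in
lemma approx_of_dense (hu : DenseRange u) (J : Ideal A) (hJ : IsOpen (J : Set A)) (y : N) :
    ∃ x : M, y - u x ∈ (J • ⊤ : Submodule A N) := by
  haveI := hN.1
  have hopen : IsOpen (((J • ⊤ : Submodule A N).toAddSubgroup : AddSubgroup N) : Set N) :=
    AddSubgroup.isOpen_of_mem_nhds _ (hN.2.mem_of_mem hJ)
  have hopen' : IsOpen {z : N | y - z ∈ (J • ⊤ : Submodule A N)} :=
    hopen.preimage (continuous_const.sub continuous_id)
  obtain ⟨x, hx⟩ := hu.exists_mem_open hopen' ⟨y, by simp⟩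
  exact ⟨x, hx⟩

include hM hN in
theorem main5825 (hu : DenseRange u) :
    IsDenseInducing u ↔
      ∀ J : Ideal A, IsOpen (J : Set A) →
        (∀ x : M, u x ∈ (J • ⊤ : Submodule A N) → x ∈ (J • ⊤ : Submodule A M)) ∧
          ∀ y : N, ∃ x : M, y - u x ∈ (J • ⊤ : Submodule A N) := by
  haveI := hM.1
  haveI := hN.1
  constructor
  · intro h J hJ
    refine ⟨fun x hx => ?_, approx_of_dense hN u hu J hJ⟩
    have hI : IsInducing u := h.toIsInducing
    have h0 := (IsTopologicalAddGroup.isInducing_iff_nhds_zero (f := u)).1 hI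
    have h1 : ((J • ⊤ : Submodule A M) : Set M) ∈ nhds (0 : M) := hM.2.mem_of_mem hJ
    rw [h0, Filter.mem_comap] at h1
    obtain ⟨t, ht, htJ⟩ := h1
    obtain ⟨J', hJ', hJ't⟩ := hN.2.mem_iff.1 ht
    have hJ'' : IsOpen ((J' ⊓ J : Ideal A) : Set A) := hJ'.inter hJ
    have key : ∀ z ∈ (J • ⊤ : Submodule A N), ∃ m ∈ (J • ⊤ : Submodule A M),
        z - u m ∈ ((J' ⊓ J) • ⊤ : Submodule A N) := by
      intro z hz
      refine Submodule.smul_induction_on hz ?_ ?_
      · intro a ha n _
        obtain ⟨m₀, hm₀⟩ := approx_of_dense hN u hu (J' ⊓ J) hJ'' n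
        refine ⟨a • m₀, Submodule.smul_mem_smul ha Submodule.mem_top, ?_⟩
        rw [map_smul, ← smul_sub]
        exact Submodule.smul_mem _ a hm₀
      · rintro z₁ z₂ ⟨m₁, hm₁, h₁⟩ ⟨m₂, hm₂, h₂⟩
        refine ⟨m₁ + m₂, add_mem hm₁ hm₂, ?_⟩
        have : z₁ + z₂ - u (m₁ + m₂) = (z₁ - u m₁) + (z₂ - u m₂) := by
          rw [map_add]; abel
        rw [this]
        exact add_mem h₁ h₂
    obtain ⟨m, hm, hzm⟩ := key (u x) hx
    have h2 : u (x - m) ∈ t := by
      rw [map_sub]
      apply hJ't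
      exact Submodule.smul_mono inf_le_left le_rfl hzm
    have h3 : x - m ∈ (J • ⊤ : Submodule A M) := htJ h2
    have : x = (x - m) + m := by abel
    rw [this]
    exact add_mem h3 hm
  · intro h
    refine ⟨?_, hu⟩
    rw [IsTopologicalAddGroup.isInducing_iff_nhds_zero (f := u)]
    apply le_antisymm
    · have := u.continuous.tendsto 0
      rw [map_zero] at this
      exact Filter.map_le_iff_le_comap.1 this
    · intro s hs
      obtain ⟨J, hJ, hJs⟩ := hM.2.mem_iff.1 hs
      rw [Filter.mem_comap]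
      refine ⟨((J • ⊤ : Submodule A N) : Set N), hN.2.mem_of_mem hJ, ?_⟩
      intro x hx
      exact hJs ((h J hJ).1 x hx)

end dense

end Groth.Agent.Helper9.TopModLib
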