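import Mathlib

set_option autoImplicit false
universe u v

namespace Groth.Agent.Lib.Helper9.TorsCoker

section
variable {R : Type u} {M : Type v} [CommRing R] [IsDomain R] [AddCommGroup M] [Module R M]
  [Module.IsTorsionFree R M]
  (f E : Module.End R M) (hE : E * E = E) (hEf : E * f = 0) (hfE : f * E = 0)
  (π : R) (hπ : π ≠ 0)
  (H1 : ∀ m ∈ LinearMap.ker E, π • m ∈ LinearMap.range f)

include hEf hπ H1 in
lemma torsion_eq :
    Submodule.torsion R (M ⧸ LinearMap.range f) =
      (LinearMap.ker E).map (LinearMap.range f).mkQ := by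
  ext x
  obtain ⟨m, rfl⟩ := Submodule.mkQ_surjective _ x
  constructor
  · intro hx
    rw [Submodule.mem_torsion_iff] at hx
    obtain ⟨a, ha⟩ := hx
    have ha0 : (a : R) ≠ 0 := nonZeroDivisors.coe_ne_zero a
    have h1 : (a : R) • m ∈ LinearMap.range f := by
      have : (LinearMap.range f).mkQ ((a : R) • m) = 0 := by
        rw [map_smul]; exact ha
      rwa [Submodule.mkQ_apply, Submodule.Quotient.mk_eq_zero] at this
    obtain ⟨m', hm'⟩ := h1
    have h2 : E ((a : R) • m) = 0 := by
      rw [← hm']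
      exact LinearMap.congr_fun hEf m'
    rw [map_smul, smul_eq_zero] at h2
    rcases h2 with h2 | h2
    · exact absurd h2 ha0
    · exact Submodule.mem_map_of_mem (LinearMap.mem_ker.mpr h2)
  · rintro ⟨n, hn, hnm⟩
    rw [← hnm, Submodule.mem_torsion_iff]
    refine ⟨⟨π, mem_nonZeroDivisors_of_ne_zero hπ⟩, ?_⟩
    show π • (LinearMap.range f).mkQ n = 0
    rw [← map_smul, Submodule.mkQ_apply, Submodule.Quotient.mk_eq_zero]
    exact H1 n hn

include hEf hπ H1 in
lemma smul_torsion_eq_zero (x : M ⧸ LinearMap.range f)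
    (hx : x ∈ Submodule.torsion R (M ⧸ LinearMap.range f)) : π • x = 0 := by
  rw [torsion_eq f E hEf π hπ H1] at hx
  obtain ⟨n, hn, rfl⟩ := hx
  rw [← map_smul, Submodule.mkQ_apply, Submodule.Quotient.mk_eq_zero]
  exact H1 n hn

include hEf in
lemma map_mem_ker (x : M) (_hx : x ∈ LinearMap.ker E) : f x ∈ LinearMap.ker E :=
  LinearMap.mem_ker.mpr (LinearMap.congr_fun hEf x)

/-- the restriction of `f` to `ker E` -/
noncomputable def phi : Module.End R (LinearMap.ker E) :=
  f.restrict (map_mem_ker f E hEf)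

lemma phi_coe (x : LinearMap.ker E) : ((phi f E hEf x : LinearMap.ker E) : M) = f x := rfl

/-- the map from `ker E` to the cokernel -/
noncomputable def gmap : LinearMap.ker E →ₗ[R] (M ⧸ LinearMap.range f) :=
  (LinearMap.range f).mkQ ∘ₗ (LinearMap.ker E).subtype

include hE hfE in
lemma ker_gmap : LinearMap.ker (gmap f E) = LinearMap.range (phi f E hEf) := by
  ext n
  rw [LinearMap.mem_ker]
  show (LinearMap.range f).mkQ (n : M) = 0 ↔ _
  rw [Submodule.mkQ_apply, Submodule.Quotient.mk_eq_zero]
  constructor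
  · rintro ⟨m, hm⟩
    have hEE : E (E m) = E m := LinearMap.congr_fun hE m
    have hmem : m - E m ∈ LinearMap.ker E := by
      rw [LinearMap.mem_ker, map_sub, hEE, sub_self]
    refine ⟨⟨m - E m, hmem⟩, ?_⟩
    apply Subtype.ext
    rw [phi_coe]
    show f (m - E m) = n
    have : f (E m) = 0 := LinearMap.congr_fun hfE m
    rw [map_sub, this, sub_zero, hm]
  · rintro ⟨n', rfl⟩
    rw [phi_coe]
    exact ⟨n', rfl⟩

lemma range_gmap : LinearMap.range (gmap f E) = (LinearMap.ker E).map (LinearMap.range f).mkQ := by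
  rw [gmap, LinearMap.range_comp, Submodule.range_subtype]

include hE hEf hfE hπ H1 in
theorem card_torsion :
    Nat.card (Submodule.torsion R (M ⧸ LinearMap.range f)) =
      Nat.card (LinearMap.ker E ⧸ LinearMap.range (phi f E hEf)) := by
  rw [torsion_eq f E hEf π hπ H1, ← range_gmap, ← ker_gmap f E hE hEf hfE]
  exact Nat.card_congr (LinearMap.quotKerEquivRange (gmap f E)).symm.toEquiv

end

end Groth.Agent.Lib.Helper9.TorsCoker
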