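import Mathlib
import Groth.Agent.Lib.Helper9.GroupLikeBasis
import Groth.Agent.Lib.Helper9.OrbitLib

/-!
Coactions of a group algebra `k[Λ]` (a diagonalizable group) on a commutative algebra:
weight components, and the projection to the invariants, which is multiplicative when the
grading is positive.
-/

set_option autoImplicit false

namespace Groth.Agent.Helper9.TorusGrade

open TensorProduct Groth.Agent.Helper9

universe u v w

section
variable {k : Type u} [Field k] {Λ : Type v} [AddCommGroup Λ]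
  {R : Type w} [CommRing R] [Algebra k R]
  [HopfRep.Comod k (AddMonoidAlgebra k Λ) R] [GLin.IsCoactAlg k (AddMonoidAlgebra k Λ) R]

variable (k Λ) in
/-- the basis of group-like elements -/
noncomputable abbrev bas : Module.Basis Λ k (AddMonoidAlgebra k Λ) := AddMonoidAlgebra.basis Λ k

omit [AddCommGroup Λ] in
lemma bas_groupLike [AddMonoid Λ] (a : Λ) :
    IsGroupLikeElem k (AddMonoidAlgebra.basis Λ k a) :=
  AddMonoidAlgebra.isGroupLikeElem_single_one a

/-- the weight component -/
noncomputable def comp (a : Λ) : R →ₗ[k] R :=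
  (Finsupp.lapply a) ∘ₗ wcomp (bas k Λ)

lemma comp_apply (a : Λ) (f : R) : comp (k := k) a f = wcomp (bas k Λ) f a := rfl

lemma comp_mem (a : Λ) (f : R) :
    comp (k := k) a f ∈ HopfRep.eigenspace k (AddMonoidAlgebra k Λ) R (AddMonoidAlgebra.single a 1) :=
  coact_wcomp (bas k Λ) bas_groupLike f a

open Classical in
lemma comp_of_mem (a a' : Λ) (f : R)
    (h : f ∈ HopfRep.eigenspace k (AddMonoidAlgebra k Λ) R (AddMonoidAlgebra.single a 1)) :
    comp (k := k) a' f = if a = a' then f else 0 := by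
  rw [comp_apply, wcomp_of_eigen (bas k Λ) f a h, Finsupp.single_apply]

lemma sum_comp (f : R) :
    ∑ a ∈ (wcomp (bas k Λ) f).support, comp (k := k) a f = f :=
  sum_wcomp (bas k Λ) bas_groupLike f

lemma mul_mem (a a' : Λ) (f g : R)
    (hf : f ∈ HopfRep.eigenspace k (AddMonoidAlgebra k Λ) R (AddMonoidAlgebra.single a 1))
    (hg : g ∈ HopfRep.eigenspace k (AddMonoidAlgebra k Λ) R (AddMonoidAlgebra.single a' 1)) :
    f * g ∈ HopfRep.eigenspace k (AddMonoidAlgebra k Λ) R (AddMonoidAlgebra.single (a + a') 1) := by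
  have hf' : HopfRep.Comod.coact (k := k) (A := AddMonoidAlgebra k Λ) f = f ⊗ₜ[k] _ := hf
  have hg' : HopfRep.Comod.coact (k := k) (A := AddMonoidAlgebra k Λ) g = g ⊗ₜ[k] _ := hg
  show HopfRep.Comod.coact (k := k) (A := AddMonoidAlgebra k Λ) (f * g) = _
  rw [GLin.IsCoactAlg.coact_mul, hf', hg', Algebra.TensorProduct.tmul_mul_tmul,
    AddMonoidAlgebra.single_mul_single, mul_one]

lemma one_mem :
    (1 : R) ∈ HopfRep.eigenspace k (AddMonoidAlgebra k Λ) R (AddMonoidAlgebra.single (0 : Λ) 1) := by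
  show HopfRep.Comod.coact (k := k) (A := AddMonoidAlgebra k Λ) (1 : R) = _
  rw [GLin.IsCoactAlg.coact_one (k := k) (A := AddMonoidAlgebra k Λ) (R := R),
    Algebra.TensorProduct.one_def]
  rfl

lemma mem_invariants_iff_mem_zero (f : R) :
    f ∈ GLin.invariants k (AddMonoidAlgebra k Λ) R ↔
      f ∈ HopfRep.eigenspace k (AddMonoidAlgebra k Λ) R (AddMonoidAlgebra.single (0 : Λ) 1) :=
  Iff.rfl

/-- positivity of the grading -/
def Pos (k : Type u) [Field k] (Λ : Type v) [AddCommGroup Λ] (R : Type w) [CommRing R] [Algebra k R]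
    [HopfRep.Comod k (AddMonoidAlgebra k Λ) R] : Prop :=
  ∀ w : Λ, HopfRep.eigenspace k (AddMonoidAlgebra k Λ) R (AddMonoidAlgebra.single w 1) ≠ ⊥ →
      HopfRep.eigenspace k (AddMonoidAlgebra k Λ) R (AddMonoidAlgebra.single (-w) 1) ≠ ⊥ → w = 0

omit [GLin.IsCoactAlg k (AddMonoidAlgebra k Λ) R] in
lemma mul_eq_zero_of_pos (hpos : Pos k Λ R) (a : Λ) (ha : a ≠ 0) (f g : R)
    (hf : f ∈ HopfRep.eigenspace k (AddMonoidAlgebra k Λ) R (AddMonoidAlgebra.single a 1))
    (hg : g ∈ HopfRep.eigenspace k (AddMonoidAlgebra k Λ) R (AddMonoidAlgebra.single (-a) 1)) :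
    f * g = 0 := by
  by_contra hne
  have hf0 : f ≠ 0 := fun h => hne (by rw [h, zero_mul])
  have hg0 : g ≠ 0 := fun h => hne (by rw [h, mul_zero])
  apply ha
  apply hpos a
  · intro hbot
    rw [hbot] at hf
    exact hf0 ((Submodule.mem_bot k).mp hf)
  · intro hbot
    rw [hbot] at hg
    exact hg0 ((Submodule.mem_bot k).mp hg)

/-- the projection onto the invariants is multiplicative when the grading is positive -/
theorem comp_zero_mul (hpos : Pos k Λ R) (f g : R) :
    comp (k := k) (0 : Λ) (f * g) = comp (k := k) (0 : Λ) f * comp (k := k) (0 : Λ) g := by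
  classical
  -- eigen × eigen
  have h1 : ∀ (a a' : Λ) (f g : R),
      f ∈ HopfRep.eigenspace k (AddMonoidAlgebra k Λ) R (AddMonoidAlgebra.single a 1) →
      g ∈ HopfRep.eigenspace k (AddMonoidAlgebra k Λ) R (AddMonoidAlgebra.single a' 1) →
      comp (k := k) (0 : Λ) (f * g) = comp (k := k) (0 : Λ) f * comp (k := k) (0 : Λ) g := by
    intro a a' f g hf hg
    rw [comp_of_mem _ _ _ (mul_mem a a' f g hf hg), comp_of_mem _ _ _ hf, comp_of_mem _ _ _ hg]
    by_cases h0 : a = 0
    · subst h0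
      rw [zero_add, if_pos rfl]
      split_ifs with h
      · rfl
      · rw [mul_zero]
    · rw [if_neg h0, zero_mul]
      split_ifs with h
      · have : a' = -a := by
          rw [eq_neg_iff_add_eq_zero, add_comm]; exact h
        subst this
        exact mul_eq_zero_of_pos hpos a h0 f g hf hg
      · rfl
  -- eigen × general
  have h2 : ∀ (a : Λ) (f g : R),
      f ∈ HopfRep.eigenspace k (AddMonoidAlgebra k Λ) R (AddMonoidAlgebra.single a 1) →
      comp (k := k) (0 : Λ) (f * g) = comp (k := k) (0 : Λ) f * comp (k := k) (0 : Λ) g := by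
    intro a f g hf
    conv_lhs => rw [← sum_comp (k := k) (Λ := Λ) g, Finset.mul_sum, map_sum]
    conv_rhs => rw [← sum_comp (k := k) (Λ := Λ) g, map_sum, Finset.mul_sum]
    refine Finset.sum_congr rfl (fun a' _ => ?_)
    exact h1 a a' f _ hf (comp_mem a' g)
  conv_lhs => rw [← sum_comp (k := k) (Λ := Λ) f, Finset.sum_mul, map_sum]
  conv_rhs => rw [← sum_comp (k := k) (Λ := Λ) f, map_sum, Finset.sum_mul]
  refine Finset.sum_congr rfl (fun a _ => ?_)
  exact h2 a _ g (comp_mem a f)

/-- the projection onto the invariants, as an algebra endomorphism -/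
noncomputable def Ealg (hpos : Pos k Λ R) : R →ₐ[k] R :=
  AlgHom.ofLinearMap (comp (k := k) (0 : Λ))
    (by
      classical
      rw [comp_of_mem _ _ _ one_mem, if_pos rfl])
    (comp_zero_mul hpos)

lemma Ealg_apply (hpos : Pos k Λ R) (f : R) : Ealg hpos f = comp (k := k) (0 : Λ) f := rfl

lemma Ealg_mem (hpos : Pos k Λ R) (f : R) :
    Ealg hpos f ∈ GLin.invariants k (AddMonoidAlgebra k Λ) R :=
  comp_mem 0 f

lemma Ealg_of_mem (hpos : Pos k Λ R) (f : R)
    (hf : f ∈ GLin.invariants k (AddMonoidAlgebra k Λ) R) : Ealg hpos f = f := by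
  classical
  rw [Ealg_apply, comp_of_mem 0 0 f hf, if_pos rfl]

lemma Ealg_of_mem_eigenspace (hpos : Pos k Λ R) (a : Λ) (ha : a ≠ 0) (f : R)
    (hf : f ∈ HopfRep.eigenspace k (AddMonoidAlgebra k Λ) R (AddMonoidAlgebra.single a 1)) :
    Ealg hpos f = 0 := by
  classical
  rw [Ealg_apply, comp_of_mem a 0 f hf, if_neg ha]

/-- the coefficients of the orbit map are the values of the weight components -/
lemma coeff_orbitHom (x : R →ₐ[k] k) (f : R) (a : Λ) :
    (GLin.orbitHom k (AddMonoidAlgebra k Λ) x f).coeff a = x (comp (k := k) a f) := by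
  rw [comp_apply, wcomp_apply_eq_slice]
  show (Algebra.TensorProduct.lid k (AddMonoidAlgebra k Λ)
    (Algebra.TensorProduct.map x (AlgHom.id k (AddMonoidAlgebra k Λ))
      (HopfRep.Comod.coact (k := k) (A := AddMonoidAlgebra k Λ) f))).coeff a = _
  generalize HopfRep.Comod.coact (k := k) (A := AddMonoidAlgebra k Λ) f = t
  induction t using TensorProduct.induction_on with
  | zero => simp
  | tmul r y =>
    rw [Algebra.TensorProduct.map_tmul, Algebra.TensorProduct.lid_tmul, slice_tmul, map_smul,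
      AlgHom.id_apply]
    show (x r • y).coeff a = ((bas k Λ).repr y) a • x r
    rw [smul_eq_mul, mul_comm]
    rfl
  | add s t hs ht =>
    rw [map_add, map_add, map_add, map_add, ← hs, ← ht]
    rfl

lemma orbitHom_of_mem (x : R →ₐ[k] k) (a : Λ) (f : R)
    (hf : f ∈ HopfRep.eigenspace k (AddMonoidAlgebra k Λ) R (AddMonoidAlgebra.single a 1)) :
    GLin.orbitHom k (AddMonoidAlgebra k Λ) x f = x f • AddMonoidAlgebra.single a 1 := by
  have hf' : HopfRep.Comod.coact (k := k) (A := AddMonoidAlgebra k Λ) f = f ⊗ₜ[k] _ := hf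
  show Algebra.TensorProduct.lid k (AddMonoidAlgebra k Λ)
    (Algebra.TensorProduct.map x (AlgHom.id k (AddMonoidAlgebra k Λ))
      (HopfRep.Comod.coact (k := k) (A := AddMonoidAlgebra k Λ) f)) = _
  rw [hf', Algebra.TensorProduct.map_tmul, Algebra.TensorProduct.lid_tmul, AlgHom.id_apply]

end

end Groth.Agent.Helper9.TorusGrade
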