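import Mathlib

/-!
Topology generated by two-sided translates of a family of subgroups is a nonarchimedean
group topology.
-/

namespace Groth.Agent.Helper9

open Topology TopologicalSpace

/-- The subbasis of two-sided translates `{z | x * z * y ∈ H}` of a family of subgroups. -/
def translateSets (T : Type*) [Group T] (𝓗 : Set (Subgroup T)) : Set (Set T) :=
  {S | ∃ H ∈ 𝓗, ∃ x y : T, S = {z | x * z * y ∈ H}}

theorem nonarchimedeanGroup_generateFrom_translateSets (T : Type*) [Group T]
    (𝓗 : Set (Subgroup T)) :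
    @NonarchimedeanGroup T _ (generateFrom (translateSets T 𝓗)) := by
  letI τ : TopologicalSpace T := generateFrom (translateSets T 𝓗)
  have hopen : ∀ H ∈ 𝓗, ∀ x y : T, IsOpen {z : T | x * z * y ∈ H} := fun H hH x y =>
    isOpen_generateFrom_of_mem ⟨H, hH, x, y, rfl⟩
  have hinv : Continuous (fun a : T => a⁻¹) := by
    apply continuous_generateFrom_iff.mpr
    rintro S ⟨H, hH, x, y, rfl⟩
    have : (fun a : T => a⁻¹) ⁻¹' {z | x * z * y ∈ H} = {z | y⁻¹ * z * x⁻¹ ∈ H} := by
      ext z
      simp only [Set.mem_preimage, Set.mem_ofPred_eq]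
      rw [← H.inv_mem_iff]
      simp [mul_assoc]
    rw [this]
    exact hopen H hH _ _
  have hmul : Continuous (fun p : T × T => p.1 * p.2) := by
    apply continuous_generateFrom_iff.mpr
    rintro S ⟨H, hH, x, y, rfl⟩
    rw [isOpen_prod_iff]
    intro a b hab
    simp only [Set.mem_preimage, Set.mem_ofPred_eq] at hab
    refine ⟨{z | x * z * (b * y) ∈ H}, {w | (b * y)⁻¹ * w * y ∈ H}, hopen H hH _ _,
      hopen H hH _ _, ?_, ?_, ?_⟩
    · simpa [mul_assoc] using hab
    · simp
    · rintro ⟨z, w⟩ ⟨hz, hw⟩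
      simp only [Set.mem_ofPred_eq, Set.mem_preimage] at hz hw ⊢
      have := H.mul_mem hz hw
      convert this using 1
      group
  have htg : @IsTopologicalGroup T τ _ := @IsTopologicalGroup.mk T τ _ ⟨hmul⟩ ⟨hinv⟩
  refine @NonarchimedeanGroup.mk T _ τ htg ?_
  intro U hU
  let F : Filter T :=
    { sets := {U | ∃ V : OpenSubgroup T, (V : Set T) ⊆ U}
      univ_sets := ⟨⊤, Set.subset_univ _⟩
      sets_of_superset := fun ⟨V, hV⟩ hxy => ⟨V, hV.trans hxy⟩
      inter_sets := fun ⟨V, hV⟩ ⟨W, hW⟩ =>
        ⟨V ⊓ W, fun z hz => ⟨hV hz.1, hW hz.2⟩⟩ }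
  have hF : F ≤ 𝓝 (1 : T) := by
    rw [nhds_generateFrom]
    refine le_iInf₂ fun S hS => ?_
    obtain ⟨h1S, hSB⟩ := hS
    rw [Filter.le_principal_iff]
    obtain ⟨H, hH, x, y, rfl⟩ := hSB
    have hxy : x * y ∈ H := by simpa using h1S
    let V : Subgroup T := H.comap (MulAut.conj x).toMonoidHom
    have hV : (V : Set T) = {z | x * z * y ∈ H} := by
      ext z
      simp only [V, Subgroup.coe_comap, Set.mem_preimage, SetLike.mem_coe, Set.mem_ofPred_eq,
        MulEquiv.coe_toMonoidHom, MulAut.conj_apply]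
      constructor
      · intro h
        have := H.mul_mem h hxy
        convert this using 1
        group
      · intro h
        have := H.mul_mem h (H.inv_mem hxy)
        convert this using 1
        group
    exact ⟨⟨V, by change IsOpen (V : Set T); rw [hV]; exact hopen H hH x y⟩, hV.le⟩
  exact hF hU

end Groth.Agent.Helper9
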