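import Mathlib

set_option autoImplicit false
universe u

namespace Groth.Agent.Helper9.UFDDesc

open TensorProduct

section
variable {R S : Type u} [CommRing R] [CommRing S] [Algebra R S] [Module.Flat R S]

/-- kernel of `S → S ⊗ W` for flat `S` (copied from lead's S2138) -/
theorem mem_map_of_tmul_eq_zero {W : Type*} [AddCommGroup W] [Module R W] (ρ : R →ₗ[R] W)
    (u : S) (hu : u ⊗ₜ[R] (ρ 1) = 0) : u ∈ Ideal.map (algebraMap R S) (LinearMap.ker ρ : Ideal R) := by
  set Q : Ideal R := LinearMap.ker ρ with hQ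
  have hex : Function.Exact (Q.subtype : Q →ₗ[R] R) ρ := by
    intro x
    constructor
    · intro hx; exact ⟨⟨x, hx⟩, rfl⟩
    · rintro ⟨y, rfl⟩; exact y.2
  have hex' := Module.Flat.lTensor_exact S hex
  have h1 : (ρ.lTensor S) (u ⊗ₜ[R] (1 : R)) = 0 := by
    rw [LinearMap.lTensor_tmul]; exact hu
  obtain ⟨w, hw⟩ := (hex' _).1 h1
  have h2 : ∀ w : S ⊗[R] Q, TensorProduct.rid R S ((Q.subtype.lTensor S) w) ∈
      Q.map (algebraMap R S) := by
    intro w
    induction w using TensorProduct.induction_on with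
    | zero => simp
    | tmul s a =>
      rw [LinearMap.lTensor_tmul, TensorProduct.rid_tmul, Algebra.smul_def]
      exact Ideal.mul_mem_right _ _ (Ideal.mem_map_of_mem _ a.2)
    | add x y hx hy =>
      rw [map_add, map_add]; exact Ideal.add_mem _ hx hy
  have h3 := h2 w
  rw [hw, TensorProduct.rid_tmul, one_smul] at h3
  exact h3

end

variable {R R' : Type u} [CommRing R] [CommRing R'] [Algebra R R']

/-- the colon ideal `(p : a)` as a kernel -/
noncomputable def rho (p a : R) : R →ₗ[R] R ⧸ Ideal.span {p} :=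
  (Ideal.span {p}).mkQ ∘ₗ (LinearMap.mulRight R a)

lemma mem_ker_rho (p a r : R) : r ∈ LinearMap.ker (rho p a) ↔ p ∣ r * a := by
  rw [LinearMap.mem_ker]
  show Submodule.Quotient.mk (r * a) = 0 ↔ _
  rw [Submodule.Quotient.mk_eq_zero, Ideal.mem_span_singleton]

/-- descent of principal ideals along a faithfully flat map to a local domain -/
lemma principal_of_map_principal [IsDomain R'] [IsLocalRing R'] [Module.FaithfullyFlat R R']
    (I : Ideal R) (y : R') (h : I.map (algebraMap R R') = Ideal.span {y}) :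
    ∃ c, I = Ideal.span {c} := by
  by_cases hy : y = 0
  · refine ⟨0, ?_⟩
    have h1 : I.map (algebraMap R R') = (Ideal.span {(0 : R)}).map (algebraMap R R') := by
      rw [h, hy, Ideal.map_span]; simp
    rw [← Ideal.comap_map_eq_self_of_faithfullyFlat (B := R') I, h1,
      Ideal.comap_map_eq_self_of_faithfullyFlat]
  · by_contra hcon
    push Not at hcon
    have key : ∃ a ∈ I, ∃ c : R', IsUnit c ∧ algebraMap R R' a = c * y := by
      by_contra hno
      push Not at hno
      have hle : I.map (algebraMap R R') ≤ IsLocalRing.maximalIdeal R' * Ideal.span {y} := by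
        rw [Ideal.map_le_iff_le_comap]
        intro a ha
        rw [Ideal.mem_comap]
        have h1 : algebraMap R R' a ∈ Ideal.span {y} := by
          rw [← h]; exact Ideal.mem_map_of_mem _ ha
        obtain ⟨c, hc⟩ := Ideal.mem_span_singleton'.1 h1
        rw [← hc]
        refine Ideal.mul_mem_mul ?_ (Ideal.subset_span rfl)
        rw [IsLocalRing.mem_maximalIdeal, mem_nonunits_iff]
        intro hcu
        exact hno a ha c hcu hc.symm
      have h2 : y ∈ IsLocalRing.maximalIdeal R' * Ideal.span {y} :=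
        hle (h ▸ Ideal.subset_span rfl)
      obtain ⟨z, hz, hzy⟩ := Ideal.mem_mul_span_singleton.1 h2
      have h3 : (1 - z) * y = 0 := by rw [sub_mul, one_mul, hzy, sub_self]
      have h4 : IsUnit (1 - z) := by
        by_contra hnu
        have : (1 - z) ∈ IsLocalRing.maximalIdeal R' := by
          rwa [IsLocalRing.mem_maximalIdeal, mem_nonunits_iff]
        have h5 : (1 : R') ∈ IsLocalRing.maximalIdeal R' := by
          have := Ideal.add_mem _ this hz
          simp at this
        exact (Ideal.ne_top_iff_one _).1 (IsLocalRing.maximalIdeal.isMaximal R').ne_top h5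
      rcases mul_eq_zero.1 h3 with h6 | h6
      · rw [h6] at h4; exact not_isUnit_zero h4
      · exact hy h6
    obtain ⟨a, ha, c, hc, hac⟩ := key
    apply hcon a
    have h1 : I.map (algebraMap R R') = (Ideal.span {a}).map (algebraMap R R') := by
      rw [h, Ideal.map_span, Set.image_singleton, hac]
      exact (Ideal.span_singleton_mul_left_unit hc y).symm
    rw [← Ideal.comap_map_eq_self_of_faithfullyFlat (B := R') I, h1,
      Ideal.comap_map_eq_self_of_faithfullyFlat]

theorem main [IsDomain R] [IsDomain R'] [IsNoetherianRing R] [IsLocalRing R']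
    [Module.FaithfullyFlat R R'] [UniqueFactorizationMonoid R'] :
    UniqueFactorizationMonoid R := by
  let _ : GCDMonoid R' := UniqueFactorizationMonoid.toGCDMonoid R'
  have hinj : Function.Injective (algebraMap R R') := FaithfulSMul.algebraMap_injective R R'
  refine { toIsWellFounded := (IsNoetherianRing.wfDvdMonoid (R := R)),
           irreducible_iff_prime := ⟨fun hp => ?_, Prime.irreducible⟩ }
  rename_i p
  refine ⟨hp.ne_zero, hp.not_isUnit, fun a b hab => ?_⟩
  -- J = (p : a)
  set J : Ideal R := LinearMap.ker (rho p a) with hJ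
  set φ := algebraMap R R' with hφ
  have hp' : φ p ≠ 0 := fun h => hp.ne_zero (hinj (by rw [h, map_zero]))
  set g := gcd (φ p) (φ a) with hg
  have hg0 : g ≠ 0 := fun h => hp' ((gcd_eq_zero_iff _ _).1 h).1
  obtain ⟨p₁, hp₁⟩ : g ∣ φ p := gcd_dvd_left _ _
  obtain ⟨a₁, ha₁⟩ : g ∣ φ a := gcd_dvd_right _ _
  have hmap : J.map φ = Ideal.span {p₁} := by
    apply le_antisymm
    · rw [Ideal.map_le_iff_le_comap]
      intro r hr
      rw [Ideal.mem_comap, Ideal.mem_span_singleton]
      have h1 : p ∣ r * a := (mem_ker_rho p a r).1 hr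
      have h2 : φ p ∣ φ r * φ a := by rw [← map_mul]; exact map_dvd φ h1
      have h3 : φ p ∣ φ r * g := dvd_mul_gcd_of_dvd_mul h2
      rw [hp₁, mul_comm (φ r) g] at h3
      exact (mul_dvd_mul_iff_left hg0).1 h3
    · rw [Ideal.span_le, Set.singleton_subset_iff]
      apply mem_map_of_tmul_eq_zero (rho p a) p₁
      show p₁ ⊗ₜ[R] (Submodule.Quotient.mk (1 * a) : R ⧸ Ideal.span {p}) = 0
      rw [one_mul]
      have h1 : (Submodule.Quotient.mk a : R ⧸ Ideal.span {p}) =
          a • (Submodule.Quotient.mk 1 : R ⧸ Ideal.span {p}) := by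
        rw [← Submodule.Quotient.mk_smul, smul_eq_mul, mul_one]
      rw [h1, ← TensorProduct.smul_tmul, Algebra.smul_def, ← hφ, ha₁]
      have h2 : g * a₁ * p₁ = a₁ * φ p := by rw [hp₁]; ring
      rw [h2, mul_comm, hφ, ← Algebra.smul_def, TensorProduct.smul_tmul]
      have h3 : p • (Submodule.Quotient.mk 1 : R ⧸ Ideal.span {p}) = 0 := by
        rw [← Submodule.Quotient.mk_smul, Submodule.Quotient.mk_eq_zero, smul_eq_mul, mul_one]
        exact Ideal.subset_span rfl
      rw [h3, tmul_zero]
  obtain ⟨c, hc⟩ := principal_of_map_principal J p₁ hmap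
  have hpJ : p ∈ J := (mem_ker_rho p a p).2 (dvd_mul_right p a)
  have hbJ : b ∈ J := (mem_ker_rho p a b).2 (by rw [mul_comm]; exact hab)
  rw [hc, Ideal.mem_span_singleton] at hpJ
  obtain ⟨d, hd⟩ := hpJ
  rcases hp.isUnit_or_isUnit hd with hu | hu
  · left
    have h1 : (1 : R) ∈ J := by
      rw [hc, Ideal.mem_span_singleton]; exact hu.dvd
    have := (mem_ker_rho p a 1).1 h1
    rwa [one_mul] at this
  · right
    rw [hc, Ideal.mem_span_singleton] at hbJ
    have : p ∣ c := by
      rw [hd]
      exact (hu.mul_right_dvd).2 dvd_rfl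
    exact this.trans hbJ

end Groth.Agent.Helper9.UFDDesc
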