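import Mathlib
import Groth.Agent.S14892

/-!
# Dimension bounds for valuation rings with finitely generated fraction field
-/

universe u

namespace Groth.Agent.Lib.Helper9.ValDim

/-- trdeg of a finitely generated field over its prime field is finite -/
lemma exists_trdeg_eq_nat (L : Type u) [Field L] (T : Set L) (hT : T.Finite)
    (hgen : Subfield.closure T = ⊤) :
    ∃ d : ℕ, Algebra.trdeg (⊥ : Subfield L) L = d := by
  have halg : Algebra.IsAlgebraic (Algebra.adjoin (⊥ : Subfield L) T) L := by
    constructor
    intro x
    have hx : x ∈ Subfield.closure T := by rw [hgen]; trivial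
    rw [Subfield.mem_closure_iff] at hx
    obtain ⟨y, hy, z, hz, rfl⟩ := hx
    have hsub : ∀ w ∈ Subring.closure T, w ∈ Algebra.adjoin (⊥ : Subfield L) T := by
      intro w hw
      have : Subring.closure T ≤ (Algebra.adjoin (⊥ : Subfield L) T).toSubring :=
        Subring.closure_le.mpr Algebra.subset_adjoin
      exact this hw
    by_cases hz0 : z = 0
    · rw [hz0, div_zero]; exact isAlgebraic_zero
    · refine ⟨Polynomial.C (⟨z, hsub z hz⟩ : Algebra.adjoin (⊥ : Subfield L) T) * Polynomial.X
        - Polynomial.C ⟨y, hsub y hy⟩, ?_, ?_⟩
      · intro h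
        have := congrArg (fun p => Polynomial.coeff p 1) h
        simp at this
        exact hz0 (congrArg Subtype.val this)
      · simp only [map_sub, map_mul, Polynomial.aeval_C, Polynomial.aeval_X]
        change z * (y / z) - y = 0
        field_simp
        ring
  obtain ⟨u, -, hu, hbasis⟩ := exists_isTranscendenceBasis_between (R := (⊥ : Subfield L))
    (∅ : Set L) T (Set.empty_subset _) (by
      rw [AlgebraicIndepOn]
      exact algebraicIndependent_empty_type)
  have hufin : u.Finite := hT.subset hu
  have hcard := hbasis.cardinalMk_eq_trdeg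
  haveI := hufin.fintype
  refine ⟨Fintype.card u, ?_⟩
  rw [← hcard, Cardinal.mk_fintype]

/-- the subfield generated by a finite set has finite transcendence degree over its prime field -/
lemma exists_trdeg_closure_eq_nat (L : Type u) [Field L] (S : Set L) (hS : S.Finite) :
    ∃ d : ℕ, Algebra.trdeg (⊥ : Subfield ↥(Subfield.closure S)) ↥(Subfield.closure S) = d := by
  let g : S → ↥(Subfield.closure S) := fun r => ⟨r.1, Subfield.subset_closure r.2⟩
  haveI : Finite S := hS.to_subtype
  have hfin : (Set.range g).Finite := Set.finite_range g
  have hgen : Subfield.closure (Set.range g) = ⊤ := by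
    rw [eq_top_iff]
    rintro ⟨x, hx⟩ -
    refine Subfield.closure_induction (s := S)
      (p := fun k hk => (⟨k, hk⟩ : ↥(Subfield.closure S)) ∈ Subfield.closure (Set.range g))
      ?_ ?_ ?_ ?_ ?_ ?_ hx
    · intro k hk
      exact Subfield.subset_closure ⟨⟨k, hk⟩, rfl⟩
    · exact (Subfield.closure (Set.range g)).one_mem
    · intro a b ha hb h1 h2
      exact (Subfield.closure (Set.range g)).add_mem h1 h2
    · intro a ha h1
      exact (Subfield.closure (Set.range g)).neg_mem h1
    · intro a ha h1
      exact (Subfield.closure (Set.range g)).inv_mem h1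
    · intro a b ha hb h1 h2
      exact (Subfield.closure (Set.range g)).mul_mem h1 h2
  exact exists_trdeg_eq_nat _ (Set.range g) hfin hgen

/-- generalized form of S14892 for an abstract valuation ring -/
theorem ringKrullDim_le_of_valuationRing (B : Type u) [CommRing B] [IsDomain B] [ValuationRing B]
    (L : Type u) [Field L] [Algebra B L] [IsFractionRing B L] (d : ℕ)
    (hd : Algebra.trdeg (⊥ : Subfield L) L = d) :
    ringKrullDim B ≤ ((d + 1 : ℕ) : WithBot ℕ∞) := by
  have h := Groth.Agent.S14892.result L (ValuationRing.valuation B L).valuationSubring d hd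
  have e : B ≃+* (ValuationRing.valuation B L).valuationSubring :=
    ValuationRing.equivInteger B L
  rw [ringKrullDim_eq_of_ringEquiv e]
  exact h

/-- height bound for primes with valuation-ring localization -/
theorem height_le_of_valuationRing_localization (A : Type u) [CommRing A] [IsDomain A]
    (L : Type u) [Field L] [Algebra A L] [IsFractionRing A L] (d : ℕ)
    (hd : Algebra.trdeg (⊥ : Subfield L) L = d) (M : Ideal A) [M.IsPrime]
    [ValuationRing (Localization.AtPrime M)] :
    (M.height : WithBot ℕ∞) ≤ ((d + 1 : ℕ) : WithBot ℕ∞) := by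
  have hS : M.primeCompl ≤ nonZeroDivisors A := M.primeCompl_le_nonZeroDivisors
  let B := Localization.subalgebra.ofField L M.primeCompl hS
  haveI : IsLocalization.AtPrime B M := Localization.subalgebra.isLocalization_ofField L _ hS
  let f : Localization.AtPrime M ≃ₐ[A] B :=
    IsLocalization.algEquiv M.primeCompl (Localization.AtPrime M) B
  haveI : ValuationRing B :=
    Function.Surjective.valuationRing (f : Localization.AtPrime M →+* B) f.surjective
  have h1 := ringKrullDim_le_of_valuationRing B L d hd
  rw [IsLocalization.AtPrime.ringKrullDim_eq_height M B] at h1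
  exact h1

end Groth.Agent.Lib.Helper9.ValDim
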