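import Mathlib
import Groth.Agent.S15813

/-!
# Order-`p` automorphisms of `k[[X]]` with ramification break `m`

Shared lemmas (helper9): structure `σ X = X * ε`, divisibility of `σ g - g` by `X^(m+1)`,
the order of `σ g - g` when `p ∤ order g`, the norm of `X`.
-/

open PowerSeries

universe u

namespace Groth.Agent.Helper9.WildAut

open Groth.Agent.S15813.Aux

section
variable (p : ℕ) [Fact p.Prime] {k : Type u} [Field k] [CharP k p]
    (σ : PowerSeries k ≃ₐ[k] PowerSeries k) (hσp : σ ^ p = 1)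
    (m : ℕ) (hm : (σ PowerSeries.X - PowerSeries.X).order = ((m + 1 : ℕ) : ℕ∞))

include hσp hm in
/-- `σ X = X * ε` with `ε = 1 + X^m η`, `η` a unit, `ε(0) = 1`, and `X^(m+1) ∣ σ g - g`. -/
lemma setup : ∃ ε η : PowerSeries k, IsUnit η ∧ IsUnit ε ∧ σ X = X * ε ∧ ε = 1 + X ^ m * η ∧
    constantCoeff ε = 1 ∧ ∀ g : PowerSeries k, (X : PowerSeries k) ^ (m + 1) ∣ σ g - g := by
  have hne : σ X - X ≠ 0 := by
    intro h0
    rw [h0, order_zero] at hm
    exact (ENat.top_ne_natCast _) hm
  obtain ⟨e, η, hη, hση⟩ := exists_unit_mul _ hne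
  have he : e = m + 1 := by
    have := order_X_pow_mul_unit e η hη
    rw [← hση, hm] at this
    exact_mod_cast this.symm
  subst he
  set ε : PowerSeries k := 1 + X ^ m * η with hεdef
  have hσX : σ X = X * ε := by
    rw [hεdef]; linear_combination hση
  have hε0 : constantCoeff ε = 1 := by
    set c := constantCoeff ε with hc
    obtain ⟨ε', hε'⟩ : ∃ ε', ε = C c + X * ε' := by
      have : (X : PowerSeries k) ∣ ε - C c := by
        rw [X_dvd_iff, map_sub, constantCoeff_C, sub_self]
      obtain ⟨ε', h⟩ := this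
      exact ⟨ε', by linear_combination h⟩
    have key : ∀ i : ℕ, ∃ r : PowerSeries k, (σ ^ i) X = C (c ^ i) * X + X ^ 2 * r := by
      intro i
      induction i with
      | zero => exact ⟨0, by simp⟩
      | succ i ih =>
        obtain ⟨r, hr⟩ := ih
        refine ⟨C (c ^ i) * ε' + ε ^ 2 * σ r, ?_⟩
        have hC : σ (C (c ^ i)) = C (c ^ i) := by
          rw [← PowerSeries.algebraMap_eq (R := k)]
          exact σ.commutes _
        rw [pow_succ', AlgEquiv.mul_apply, hr, map_add, map_mul, hC, map_mul, map_pow σ, hσX,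
          pow_succ c i, map_mul (C : k →+* PowerSeries k)]
        linear_combination (C (c ^ i) * X) * hε'
    obtain ⟨r, hr⟩ := key p
    rw [hσp, AlgEquiv.one_apply] at hr
    have h1 := congrArg (coeff 1) hr
    rw [coeff_one_X, map_add, coeff_C_mul, coeff_one_X, mul_one] at h1
    have h2 : coeff 1 ((X : PowerSeries k) ^ 2 * r) = 0 := by
      rw [coeff_X_pow_mul', if_neg (by omega)]
    rw [h2, add_zero] at h1
    have h3 : frobenius k p c = frobenius k p 1 := by
      rw [frobenius_def, frobenius_def, one_pow, ← h1]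
    exact frobenius_inj k p h3
  have hεu : IsUnit ε := isUnit_of_cc (by rw [hε0]; exact one_ne_zero)
  refine ⟨ε, η, hη, hεu, hσX, rfl, hε0, ?_⟩
  intro g
  exact sigma_sub_dvd σ.toAlgHom (m + 1) ε hσX ⟨η, hση⟩ g

include hσp hm in
/-- If `p ∤ e` and `w` is a unit, then `σ (X^e w) - X^e w = X^(e+m) * unit`. -/
lemma order_lemma (e : ℕ) (he : ¬ p ∣ e) (w : PowerSeries k) (hw : IsUnit w) :
    ∃ w' : PowerSeries k, IsUnit w' ∧ σ (X ^ e * w) - X ^ e * w = X ^ (e + m) * w' := by
  obtain ⟨ε, η, hη, hεu, hσX, hεdef, hε0, hD⟩ := setup p σ hσp m hm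
  obtain ⟨r, hr⟩ := hD w
  have hek : (e : k) ≠ 0 := by
    rw [Ne, CharP.cast_eq_zero_iff k p e]; exact he
  set G := ∑ i ∈ Finset.range e, ε ^ i with hG
  have hGε : G * (ε - 1) = ε ^ e - 1 := geom_sum_mul ε e
  have hG0 : constantCoeff G = (e : k) := by
    rw [hG, map_sum]
    simp only [map_pow, hε0, one_pow, Finset.sum_const, Finset.card_range, nsmul_eq_mul, mul_one]
  have hε1 : ε - 1 = X ^ m * η := by rw [hεdef]; ring
  refine ⟨η * G * w + X * (ε ^ e * r), ?_, ?_⟩
  · apply isUnit_of_cc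
    simp only [map_add, map_mul, map_pow, constantCoeff_X, zero_mul, add_zero, hG0]
    exact mul_ne_zero (mul_ne_zero (cc_ne_zero_of_isUnit hη) hek) (cc_ne_zero_of_isUnit hw)
  · have hσw : σ w = w + X ^ (m + 1) * r := by linear_combination hr
    have e3 : ε ^ e = 1 + G * (X ^ m * η) := by rw [← hε1, hGε]; ring
    rw [map_mul, map_pow, hσX, hσw, mul_pow]
    have e4 : (X : PowerSeries k) ^ e * ε ^ e * (w + X ^ (m + 1) * r) - X ^ e * w =
        X ^ e * ((ε ^ e - 1) * w + X ^ (m + 1) * (ε ^ e * r)) := by ring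
    rw [e4, pow_add, pow_succ]
    linear_combination (X ^ e * w) * e3

include hσp hm in
/-- The norm `x = ∏ σ^i X` is invariant and equals `X^p * unit`. -/
lemma norm_spec : σ (∏ i ∈ Finset.range p, (σ ^ i) (X : PowerSeries k)) =
      ∏ i ∈ Finset.range p, (σ ^ i) (X : PowerSeries k) ∧
    ∃ E : PowerSeries k, IsUnit E ∧ ∏ i ∈ Finset.range p, (σ ^ i) (X : PowerSeries k) = X ^ p * E := by
  obtain ⟨ε, η, hη, hεu, hσX, hεdef, hε0, hD⟩ := setup p σ hσp m hm
  constructor
  · rw [map_prod]
    have h1 := Finset.prod_range_succ (fun i => (σ ^ i) (X : PowerSeries k)) p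
    have h2 := Finset.prod_range_succ' (fun i => (σ ^ i) (X : PowerSeries k)) p
    rw [h1] at h2
    simp only [hσp, pow_zero, AlgEquiv.one_apply] at h2
    have h3 := mul_right_cancel₀ PowerSeries.X_ne_zero h2
    rw [h3]
    apply Finset.prod_congr rfl
    intro i _
    rw [pow_succ', AlgEquiv.mul_apply]
  · have key : ∀ i : ℕ, ∃ w : PowerSeries k, IsUnit w ∧ (σ ^ i) X = X * w := by
      intro i
      induction i with
      | zero => exact ⟨1, isUnit_one, by simp⟩
      | succ i ih =>
        obtain ⟨w, hw, hw2⟩ := ih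
        refine ⟨ε * σ w, hεu.mul (hw.map σ), ?_⟩
        rw [pow_succ', AlgEquiv.mul_apply, hw2, map_mul, hσX]
        ring
    have key2 : ∀ j : ℕ, ∃ E : PowerSeries k, IsUnit E ∧
        ∏ i ∈ Finset.range j, (σ ^ i) (X : PowerSeries k) = X ^ j * E := by
      intro j
      induction j with
      | zero => exact ⟨1, isUnit_one, by simp⟩
      | succ j ih =>
        obtain ⟨E, hE, hE2⟩ := ih
        obtain ⟨w, hw, hw2⟩ := key j
        refine ⟨E * w, hE.mul hw, ?_⟩
        rw [Finset.prod_range_succ, hE2, hw2]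
        ring
    exact key2 p

end

end Groth.Agent.Helper9.WildAut
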