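import Mathlib

/-!
The `p`-th power map on the group algebra of `ℤ/p` in characteristic `p`.
-/

universe u

namespace Groth.Agent.Helper9

theorem monoidAlgebra_zmod_pow_char (p : ℕ) [Fact p.Prime] (R : Type u) [CommRing R] [CharP R p]
    (a : MonoidAlgebra R (Multiplicative (ZMod p))) :
    a ^ p = algebraMap R _ ((Coalgebra.counit (R := R) a) ^ p) := by
  have : CharP (MonoidAlgebra R (Multiplicative (ZMod p))) p := by
    apply charP_of_injective_algebraMap (R := R) _ p
    intro r s h
    have := congrArg (Coalgebra.counit (R := R)) h
    simpa [Bialgebra.counit_algebraMap] using this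
  induction a using MonoidAlgebra.induction_linear with
  | zero =>
    have hp : p ≠ 0 := (Fact.out : p.Prime).ne_zero
    simp [hp]
  | add f g hf hg =>
    rw [add_pow_char, hf, hg, map_add, add_pow_char, map_add]
  | single g c =>
    rw [MonoidAlgebra.single_pow, MonoidAlgebra.counit_single]
    have hg : g ^ p = 1 := by
      apply Multiplicative.toAdd.injective
      simp
    rw [hg]
    simp [MonoidAlgebra.coe_algebraMap]

end Groth.Agent.Helper9
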