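import Mathlib

/-!
# Quasi-compactness of the Zariski–Riemann space (combinatorial form)
-/

universe u

namespace Groth.Agent.Lib.Helper9.ZRCompact

variable {K : Type u} [Field K]

/-- indicator functions of valuation subrings containing `A0` -/
def VS (A0 : Set K) : Set (K → Bool) :=
  {s | (∀ a ∈ A0, s a = true) ∧ s 0 = true ∧ s 1 = true ∧
    (∀ x y, s x = true → s y = true → s (x + y) = true) ∧
    (∀ x, s x = true → s (-x) = true) ∧
    (∀ x y, s x = true → s y = true → s (x * y) = true) ∧
    (∀ x, s x = true ∨ s x⁻¹ = true)}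

lemma isClosed_VS (A0 : Set K) : IsClosed (VS A0) := by
  have h1 : ∀ x : K, Continuous (fun s : K → Bool => s x) := fun x => continuous_apply x
  have hc : ∀ (P : Bool → Bool → Bool → Prop) (x y z : K),
      IsClosed {s : K → Bool | P (s x) (s y) (s z)} := by
    intro P x y z
    have : Continuous (fun s : K → Bool => (s x, s y, s z)) :=
      (h1 x).prodMk ((h1 y).prodMk (h1 z))
    exact (isClosed_discrete {p : Bool × Bool × Bool | P p.1 p.2.1 p.2.2}).preimage this
  have : VS A0 = (⋂ a ∈ A0, {s : K → Bool | s a = true}) ∩ {s | s 0 = true} ∩ {s | s 1 = true} ∩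
      (⋂ x, ⋂ y, {s : K → Bool | s x = true → s y = true → s (x + y) = true}) ∩
      (⋂ x, {s : K → Bool | s x = true → s (-x) = true}) ∩
      (⋂ x, ⋂ y, {s : K → Bool | s x = true → s y = true → s (x * y) = true}) ∩
      (⋂ x, {s : K → Bool | s x = true ∨ s x⁻¹ = true}) := by
    ext s
    simp only [VS, Set.mem_setOf_eq, Set.mem_inter_iff, Set.mem_iInter]
    tauto
  rw [this]
  refine IsClosed.inter (IsClosed.inter (IsClosed.inter (IsClosed.inter (IsClosed.inter
    (IsClosed.inter ?_ ?_) ?_) ?_) ?_) ?_) ?_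
  · exact isClosed_biInter fun a _ => hc (fun p _ _ => p = true) a a a
  · exact hc (fun p _ _ => p = true) 0 0 0
  · exact hc (fun p _ _ => p = true) 1 1 1
  · exact isClosed_iInter fun x => isClosed_iInter fun y =>
      hc (fun p q r => p = true → q = true → r = true) x y (x + y)
  · exact isClosed_iInter fun x => hc (fun p q _ => p = true → q = true) x (-x) x
  · exact isClosed_iInter fun x => isClosed_iInter fun y =>
      hc (fun p q r => p = true → q = true → r = true) x y (x * y)
  · exact isClosed_iInter fun x => hc (fun p q _ => p = true ∨ q = true) x x⁻¹ x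

/-- the valuation subring of an indicator function -/
def toVS (A0 : Set K) (s : K → Bool) (hs : s ∈ VS A0) : ValuationSubring K where
  carrier := {x | s x = true}
  mul_mem' := fun {x y} hx hy => hs.2.2.2.2.2.1 x y hx hy
  one_mem' := hs.2.2.1
  add_mem' := fun {x y} hx hy => hs.2.2.2.1 x y hx hy
  zero_mem' := hs.2.1
  neg_mem' := fun {x} hx => hs.2.2.2.2.1 x hx
  mem_or_inv_mem' := hs.2.2.2.2.2.2

lemma mem_toVS (A0 : Set K) (s : K → Bool) (hs : s ∈ VS A0) (x : K) :
    x ∈ toVS A0 s hs ↔ s x = true := Iff.rfl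

open Classical in
/-- the indicator of a valuation subring -/
noncomputable def ofVS (R : ValuationSubring K) : K → Bool := fun x => decide (x ∈ R)

lemma ofVS_mem (A0 : Set K) (R : ValuationSubring K) (h : A0 ⊆ R) : ofVS R ∈ VS A0 := by
  classical
  simp only [VS, ofVS, Set.mem_setOf_eq, decide_eq_true_eq]
  refine ⟨fun a ha => h ha, R.zero_mem, R.one_mem, fun x y => R.add_mem x y, fun x => R.neg_mem x,
    fun x y => R.mul_mem x y, fun x => R.mem_or_inv_mem x⟩

/-- **Quasi-compactness of the Zariski–Riemann space.** -/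
theorem exists_finite_subfamily (A0 : Set K) {J : Type*} (T : J → Finset K)
    (h : ∀ R : ValuationSubring K, A0 ⊆ R → ∃ j, (T j : Set K) ⊆ R) :
    ∃ F : Finset J, ∀ R : ValuationSubring K, A0 ⊆ R → ∃ j ∈ F, (T j : Set K) ⊆ R := by
  classical
  have hcomp : IsCompact (VS A0) := (isClosed_VS A0).isCompact
  let O : J → Set (K → Bool) := fun j => ⋂ t ∈ T j, {s : K → Bool | s t = true}
  have hO : ∀ j, IsOpen (O j) := by
    intro j
    apply (T j).finite_toSet.isOpen_biInter
    intro t _
    have hcont : Continuous (fun s : K → Bool => s t) := continuous_apply t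
    exact (isOpen_discrete {b : Bool | b = true}).preimage hcont
  have hcover : VS A0 ⊆ ⋃ j, O j := by
    intro s hs
    obtain ⟨j, hj⟩ := h (toVS A0 s hs) (fun a ha => hs.1 a ha)
    refine Set.mem_iUnion.mpr ⟨j, ?_⟩
    simp only [O, Set.mem_iInter, Set.mem_setOf_eq]
    intro t ht
    exact hj ht
  obtain ⟨F, hF⟩ := hcomp.elim_finite_subcover O hO hcover
  refine ⟨F, fun R hR => ?_⟩
  have := hF (ofVS_mem A0 R hR)
  simp only [Set.mem_iUnion, O, Set.mem_iInter, Set.mem_setOf_eq] at this
  obtain ⟨j, hjF, hj⟩ := this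
  refine ⟨j, hjF, fun t ht => ?_⟩
  have := hj t ht
  simpa [ofVS] using this

end Groth.Agent.Lib.Helper9.ZRCompact
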